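import Groth.Agent.H16Derived.ProjFormula.DMap
import Groth.Agent.H16Derived.Dual.Symm

/-!
# `Lf^*(- ⊗^L k) ≅ Lf^*(-) ⊗^L Lf^* k`, naturally
-/

set_option autoImplicit false
set_option linter.style.haveILetI false

universe u

open CategoryTheory CategoryTheory.Limits CategoryTheory.Functor AlgebraicGeometry

attribute [local instance] HasDerivedCategory.standard

namespace Groth.Agent.LeadBrown

open Groth.Agent.H16Derived Groth.Agent.H16Derived.KFlat Groth.Agent.H16Derived.KFlat.Stalk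
open Groth.Agent.H16Derived.ProjFormula (pull pullCx push lam₀ isIso_lam₀ isIso_Qresψ)

variable {X Y : Scheme.{u}} (f : X ⟶ Y)

theorem ι_pullTotIso (K L : CochainComplex Y.Modules ℤ) (p q n : ℤ) (h : p + q = n) :
    (pull f).map (HomologicalComplex.ιMapBifunctor K L (DCoh.tensorBi (X := Y)) (ComplexShape.up ℤ) p q n h) ≫
        (pullTotIso f K L).hom.f n =
      (pullTensorLIso f (L.X q)).hom.app (K.X p) ≫
        HomologicalComplex.ιMapBifunctor ((pullCx f).obj K) ((pullCx f).obj L)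
          (DCoh.tensorBi (X := X)) (ComplexShape.up ℤ) p q n h := by
  haveI : ∀ J : Type, PreservesColimitsOfShape (Discrete J) (pull f) := fun J =>
    have := preservesColimitsOfSize_shrink.{0, u, 0, u} (pull f)
    inferInstance
  refine Eq.trans ?_ (TotCompare.map_ι_isoX (G₁ := pull f) (G₂ := 𝟭 X.Modules)
    (F₁ := DCoh.tensorBi (X := Y)) (F₂ := DCoh.tensorBi (X := X)) K L
    ((pullCx f).obj K) ((pullCx f).obj L)
    (fun p q => (pullTensorLIso f (L.X q)).app (K.X p)) p q n h)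
  exact congrArg (_ ≫ ·) (Category.comp_id _)

theorem pullTotIso_naturality (L : CochainComplex Y.Modules ℤ) {K K' : CochainComplex Y.Modules ℤ} (φ : K ⟶ K') :
    (pullCx f).map (((DCoh.tensorBi (X := Y)).map₂CochainComplex.map φ).app L) ≫ (pullTotIso f K' L).hom =
      (pullTotIso f K L).hom ≫
        ((DCoh.tensorBi (X := X)).map₂CochainComplex.map ((pullCx f).map φ)).app ((pullCx f).obj L) := by
  haveI : ∀ J : Type, PreservesColimitsOfShape (Discrete J) (pull f) := fun J =>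
    have := preservesColimitsOfSize_shrink.{0, u, 0, u} (pull f)
    inferInstance
  refine HomologicalComplex.hom_ext _ _ fun n =>
    TotCompare.hom_ext (DCoh.tensorBi (X := Y)) (pull f) K L fun p q h => ?_
  have a₁ : HomologicalComplex.ιMapBifunctor K L (DCoh.tensorBi (X := Y)) (ComplexShape.up ℤ) p q n h ≫
      (((DCoh.tensorBi (X := Y)).map₂CochainComplex.map φ).app L).f n =
      ((DCoh.tensorBi (X := Y)).map (φ.f p)).app (L.X q) ≫
        HomologicalComplex.ιMapBifunctor K' L (DCoh.tensorBi (X := Y)) (ComplexShape.up ℤ) p q n h := by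
    refine (HomologicalComplex.ι_mapBifunctorMap _ _ _ _ _ _ _ h).trans ?_
    dsimp
    erw [CategoryTheory.Functor.map_id, Category.id_comp]
  have a₂ : HomologicalComplex.ιMapBifunctor ((pullCx f).obj K) ((pullCx f).obj L) (DCoh.tensorBi (X := X))
        (ComplexShape.up ℤ) p q n h ≫
      (((DCoh.tensorBi (X := X)).map₂CochainComplex.map ((pullCx f).map φ)).app ((pullCx f).obj L)).f n =
      ((DCoh.tensorBi (X := X)).map ((pull f).map (φ.f p))).app ((pull f).obj (L.X q)) ≫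
        HomologicalComplex.ιMapBifunctor ((pullCx f).obj K') ((pullCx f).obj L) (DCoh.tensorBi (X := X))
          (ComplexShape.up ℤ) p q n h := by
    refine (HomologicalComplex.ι_mapBifunctorMap _ _ _ _ _ _ _ h).trans ?_
    dsimp
    erw [CategoryTheory.Functor.map_id, Category.id_comp]
    rfl
  have hn := (pullTensorLIso f (L.X q)).hom.naturality (φ.f p)
  refine ((Category.assoc _ _ _).symm.trans ((congrArg (· ≫ _) ((Functor.map_comp _ _ _).symm.trans
    ((congrArg (pull f).map a₁).trans (Functor.map_comp _ _ _)))).trans ((Category.assoc _ _ _).trans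
      (congrArg (_ ≫ ·) (ι_pullTotIso f K' L p q n h))))).trans ?_
  refine ((Category.assoc _ _ _).symm.trans ((congrArg (· ≫ _) hn).trans (Category.assoc _ _ _))).trans ?_
  refine (congrArg (_ ≫ ·) a₂).symm.trans ?_
  exact (Category.assoc _ _ _).symm.trans ((congrArg (· ≫ _) (ι_pullTotIso f K L p q n h).symm).trans
    (Category.assoc _ _ _))

/-- `f^*(- ⊗ L) ≅ f^*(-) ⊗ f^* L` on complexes, naturally. -/
noncomputable def pullTotNatIso (L : CochainComplex Y.Modules ℤ) :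
    (DCoh.tensorCx (X := Y)).flip.obj L ⋙ pullCx f ≅
      pullCx f ⋙ (DCoh.tensorCx (X := X)).flip.obj ((pullCx f).obj L) :=
  NatIso.ofComponents (fun C => pullTotIso f C L) fun φ => pullTotIso_naturality f L φ

variable [DCoh.HasLpull f]


theorem exists_lpull_T_nat (E : CochainComplex Y.Modules ℤ) (hE : IsKFlat (DCoh.tensorBi (X := Y)) E) :
    Nonempty ((Dual.T Y).flip.obj (DerivedCategory.Q.obj E) ⋙ DCoh.Lpull f ≅
      DCoh.Lpull f ⋙ (Dual.T X).flip.obj (DerivedCategory.Q.obj ((pullCx f).obj E))) := by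
  have hE₂ : IsKFlat (DCoh.tensorBi (X := X)) ((pullCx f).obj E) := isKFlat_pullback f hE
  let resY := (KFlat.Stalk.res (X := Y))
  haveI : ∀ C, IsIso (DerivedCategory.Q.map ((resψ (X := Y)).app C)) := fun C => isIso_Qresψ C
  let ρ : resY ⋙ DerivedCategory.Q ≅ DerivedCategory.Q :=
    NatIso.ofComponents (fun C => asIso (DerivedCategory.Q.map ((resψ (X := Y)).app C))) fun φ =>
      (DerivedCategory.Q.map_comp _ _).symm.trans
        ((congrArg DerivedCategory.Q.map ((resψ (X := Y)).naturality φ)).trans (DerivedCategory.Q.map_comp _ _))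
  haveI : ∀ C, IsIso ((Dual.εFst E).app C) := fun C => Dual.isIso_ε C E (Or.inr hE)
  haveI : ∀ C, IsIso ((Dual.εFst ((pullCx f).obj E)).app C) := fun C => Dual.isIso_ε C ((pullCx f).obj E) (Or.inr hE₂)
  haveI := NatIso.isIso_of_isIso_app (Dual.εFst E)
  haveI := NatIso.isIso_of_isIso_app (Dual.εFst ((pullCx f).obj E))
  let tE := (DCoh.tensorCx (X := Y)).flip.obj E
  let tE₂ := (DCoh.tensorCx (X := X)).flip.obj ((pullCx f).obj E)
  let F := (Dual.T Y).flip.obj (DerivedCategory.Q.obj E)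
  let F' := (Dual.T X).flip.obj (DerivedCategory.Q.obj ((pullCx f).obj E))
  haveI h1 : IsIso (whiskerLeft resY (lam₀ f)) := by
    haveI : ∀ C, IsIso ((whiskerLeft resY (lam₀ f)).app C) := fun C => isIso_lam₀ f _ (isKFlat_res C)
    exact NatIso.isIso_of_isIso_app _
  have hk : ∀ C, IsKFlat (DCoh.tensorBi (X := Y)) (((DCoh.tensorCx (X := Y)).obj (resY.obj C)).obj E) := fun C =>
    (isKFlat_iff' (((DCoh.tensorCx (X := Y)).obj (resY.obj C)).obj E)).1
      (isKFlat_tensorCx (X := Y) (K := resY.obj C) (L := E) ((isKFlat_iff' _).2 (isKFlat_res C)) ((isKFlat_iff' E).2 hE))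
  haveI h2 : IsIso (whiskerLeft (resY ⋙ tE) (lam₀ f)) := by
    haveI : ∀ C, IsIso ((whiskerLeft (resY ⋙ tE) (lam₀ f)).app C) := fun C =>
      isIso_lam₀ f (((DCoh.tensorCx (X := Y)).obj (resY.obj C)).obj E) (hk C)
    exact NatIso.isIso_of_isIso_app _
  let π : tE ⋙ pullCx f ≅ pullCx f ⋙ tE₂ :=
    pullTotNatIso f E
  let i₁ : DerivedCategory.Q ⋙ (F ⋙ DCoh.Lpull f) ≅ (resY ⋙ DerivedCategory.Q) ⋙ (F ⋙ DCoh.Lpull f) :=
    isoWhiskerRight ρ.symm _
  let i₂ : (resY ⋙ DerivedCategory.Q) ⋙ (F ⋙ DCoh.Lpull f) ≅ (resY ⋙ tE ⋙ DerivedCategory.Q) ⋙ DCoh.Lpull f :=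
    (Functor.associator _ _ _).symm ≪≫ isoWhiskerRight (Functor.associator _ _ _ ≪≫
      isoWhiskerLeft resY (asIso (Dual.εFst E))) (DCoh.Lpull f)
  let i₃ : (resY ⋙ tE ⋙ DerivedCategory.Q) ⋙ DCoh.Lpull f ≅ resY ⋙ (tE ⋙ pullCx f) ⋙ DerivedCategory.Q :=
    isoWhiskerRight (Functor.associator _ _ _).symm _ ≪≫ Functor.associator _ _ _ ≪≫
      asIso (whiskerLeft (resY ⋙ tE) (lam₀ f)) ≪≫ Functor.associator _ _ _ ≪≫
      isoWhiskerLeft resY (Functor.associator _ _ _).symm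
  let i₄ : resY ⋙ (tE ⋙ pullCx f) ⋙ DerivedCategory.Q ≅ (resY ⋙ pullCx f) ⋙ (DerivedCategory.Q ⋙ F') :=
    isoWhiskerLeft resY (isoWhiskerRight π _ ≪≫ Functor.associator _ _ _ ≪≫
      isoWhiskerLeft (pullCx f) (asIso (Dual.εFst ((pullCx f).obj E))).symm) ≪≫ (Functor.associator _ _ _).symm
  let i₅ : (resY ⋙ pullCx f) ⋙ (DerivedCategory.Q ⋙ F') ≅ (resY ⋙ DerivedCategory.Q) ⋙ (DCoh.Lpull f ⋙ F') :=
    (Functor.associator _ _ _).symm ≪≫ isoWhiskerRight (Functor.associator _ _ _ ≪≫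
      (asIso (whiskerLeft resY (lam₀ f))).symm ≪≫ (Functor.associator _ _ _).symm) F' ≪≫ Functor.associator _ _ _
  let Φ : DerivedCategory.Q ⋙ F ⋙ DCoh.Lpull f ≅ DerivedCategory.Q ⋙ DCoh.Lpull f ⋙ F' :=
    i₁ ≪≫ i₂ ≪≫ i₃ ≪≫ i₄ ≪≫ i₅ ≪≫ isoWhiskerRight ρ _
  exact ⟨Localization.liftNatIso DerivedCategory.Q (HomologicalComplex.quasiIso Y.Modules (ComplexShape.up ℤ))
    (DerivedCategory.Q ⋙ F ⋙ DCoh.Lpull f) (DerivedCategory.Q ⋙ DCoh.Lpull f ⋙ F') (F ⋙ DCoh.Lpull f)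
    (DCoh.Lpull f ⋙ F') Φ⟩

/-- `Lf^*(- ⊗^L k) ≅ Lf^*(-) ⊗^L Lf^* k`. -/
theorem nonempty_lpull_TFlip (k : DCoh.D Y) :
    Nonempty ((Dual.T Y).flip.obj k ⋙ DCoh.Lpull f ≅
      DCoh.Lpull f ⋙ (Dual.T X).flip.obj ((DCoh.Lpull f).obj k)) := by
  obtain ⟨P, hP, ⟨e⟩⟩ := exists_kflat_rep k
  obtain ⟨Φ⟩ := exists_lpull_T_nat f P hP
  exact ⟨isoWhiskerRight ((Dual.T Y).flip.mapIso e.symm) _ ≪≫ Φ ≪≫
    isoWhiskerLeft _ ((Dual.T X).flip.mapIso ((lpullObjIso f P hP).symm ≪≫ (DCoh.Lpull f).mapIso e))⟩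

end Groth.Agent.LeadBrown
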