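import Groth.Agent.LeadBrown.LpullTensor
import Groth.Agent.H16Derived.Dual.BiDual
import Groth.Agent.H16Derived.Dual.Main
import Groth.Agent.H16Derived.Dual.PerfQCoh
import Groth.Agent.H16Derived.QCohD.Tensor
import Groth.Agent.H16Derived.KFlat.LpullLocal
import Groth.Prelude.Def_DDual2
import Mathlib.CategoryTheory.Adjunction.Restrict

/-!
# Tensoring with a perfect object commutes with the right adjoint of `Rf_*`
-/

set_option autoImplicit false
set_option linter.style.haveILetI false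

universe u

open CategoryTheory CategoryTheory.Limits CategoryTheory.Functor AlgebraicGeometry

attribute [local instance] HasDerivedCategory.standard

namespace Groth.Agent.LeadBrown

open Groth.Agent.H16Derived Groth.Agent.H16Derived.KFlat Groth.Agent.H16Derived.KFlat.Stalk

variable {X Y : Scheme.{u}}

theorem dualθ_naturality (k : DCoh.D X) {m m' : DCoh.D X} (φ : m ⟶ m') :
    ((Dual.T X).map φ).app (Dual.ro k) ≫ Dual.θ k m' = Dual.θ k m ≫ (Dual.R k).map φ := by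
  unfold Dual.θ
  rw [← Adjunction.homEquiv_naturality_left, ← Adjunction.homEquiv_naturality_right]
  refine congrArg ((Dual.adjR k).homEquiv _ _) ?_
  show ((Dual.T X).map (((Dual.T X).map φ).app (Dual.ro k))).app k ≫ Dual.αc k m' = Dual.αc k m ≫ φ
  unfold Dual.αc
  rw [← Category.assoc, Dual.α_naturality_left, Category.assoc, ← NatTrans.naturality_assoc]
  have h := (Dual.rightUnit X).hom.naturality φ
  simp only [Functor.id_map] at h
  exact (congrArg (fun z => (Dual.α m (Dual.ro k) k).hom ≫ ((Dual.T X).obj m).map (Dual.ev k) ≫ z) h).trans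
    (by simp only [Category.assoc])

/-- `RHom(k, -) ≅ - ⊗^L k^∨` for perfect `k`. -/
theorem nonempty_R_iso {k : DCoh.D X} (hk : DCoh.IsPerfect k) :
    Nonempty ((Dual.T X).flip.obj (Dual.ro k) ≅ Dual.R k) :=
  ⟨NatIso.ofComponents (fun m => Dual.θIso hk m) fun φ => dualθ_naturality k φ⟩

theorem isQCohD_T {m k : DCoh.D X} (hm : DCoh.IsQCohD m) (hk : DCoh.IsQCohD k) :
    DCoh.IsQCohD (((Dual.T X).obj m).obj k) := by
  obtain ⟨M, -, -, ⟨eM⟩⟩ := Dual.exists_rep m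
  obtain ⟨P, hP, -, ⟨eP⟩⟩ := Dual.exists_rep k
  haveI := hasLTensorCx P
  exact QCohD.isQCohD_iso (((Dual.T X).mapIso eM.symm).app k ≪≫ ((Dual.T X).obj _).mapIso eP.symm ≪≫
      (Dual.ltensorCxIsoT P).app _).symm
    (QCohD.isQCohD_ltensorCx P (QCohD.isQCohD_iso eP.symm hk) (QCohD.isQCohD_iso eM.symm hm))

/-- `- ⊗^L k` on `D_QCoh`. -/
noncomputable def tensorQ (k : DCoh.D X) (hk : DCoh.IsQCohD k) : DCoh.DQCoh X ⥤ DCoh.DQCoh X :=
  ObjectProperty.lift _ (ObjectProperty.ι DCoh.IsQCohD ⋙ (Dual.T X).flip.obj k) fun K => isQCohD_T K.property hk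

/-- `- ⊗ k^∨ ⊣ - ⊗ k`. -/
theorem nonempty_tensorQ_adj {k : DCoh.D X} (hk : DCoh.IsPerfect k) :
    Nonempty (tensorQ (Dual.ro k) (Dual.isQCohD_of_isPerfect (Dual.isPerfect_ro hk)) ⊣
      tensorQ k (Dual.isQCohD_of_isPerfect hk)) := by
  obtain ⟨e⟩ := nonempty_R_iso (Dual.isPerfect_ro hk)
  haveI := Dual.isIso_w hk
  let adj : (Dual.T X).flip.obj (Dual.ro k) ⊣ (Dual.T X).flip.obj k :=
    ((Dual.adjR (Dual.ro k)).ofNatIsoRight e.symm).ofNatIsoRight ((Dual.T X).flip.mapIso (asIso (Dual.w k)).symm)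
  exact ⟨adj.restrictFullyFaithful (ObjectProperty.fullyFaithfulι DCoh.IsQCohD)
    (ObjectProperty.fullyFaithfulι DCoh.IsQCohD) (Iso.refl _) (Iso.refl _)⟩

/-- The projection formula for a perfect object. -/
theorem nonempty_rpush_tensor (f : X ⟶ Y) [DCoh.HasRpush f] [DCoh.HasLpull f] {P : DCoh.D Y}
    (hP : DCoh.IsPerfect P) :
    Nonempty (DCoh.Rpush f ⋙ (Dual.T Y).flip.obj (Dual.ro P) ≅
      (Dual.T X).flip.obj (Dual.ro ((DCoh.Lpull f).obj P)) ⋙ DCoh.Rpush f) := by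
  obtain ⟨Φ⟩ := nonempty_lpull_TFlip f P
  obtain ⟨e₁⟩ := nonempty_R_iso hP
  obtain ⟨e₂⟩ := nonempty_R_iso (isPerfect_lpull f hP)
  exact ⟨isoWhiskerLeft _ e₁ ≪≫
    ((((Dual.adjR P).comp (lpullRpushAdj f)).ofNatIsoLeft Φ).rightAdjointUniq
      ((lpullRpushAdj f).comp (Dual.adjR ((DCoh.Lpull f).obj P)))) ≪≫ isoWhiskerRight e₂.symm _⟩

/-- `a(L ⊗ P) ≅ a(L) ⊗ Lf^* P` for perfect `P`. -/
theorem nonempty_rightAdjoint_tensor (f : X ⟶ Y) [DCoh.HasRpush f] [DCoh.HasLpull f]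
    {hf : DCoh.RpushPreservesQCoh f} {a : DCoh.DQCoh Y ⥤ DCoh.DQCoh X} (adj : DCoh.RpushQ f hf ⊣ a)
    {P : DCoh.D Y} (hP : DCoh.IsPerfect P) :
    Nonempty (a ⋙ tensorQ ((DCoh.Lpull f).obj P) (Dual.isQCohD_of_isPerfect (isPerfect_lpull f hP)) ≅
      tensorQ P (Dual.isQCohD_of_isPerfect hP) ⋙ a) := by
  obtain ⟨Φ⟩ := nonempty_rpush_tensor f hP
  obtain ⟨aY⟩ := nonempty_tensorQ_adj hP
  obtain ⟨aX⟩ := nonempty_tensorQ_adj (isPerfect_lpull f hP)
  let SX := tensorQ (Dual.ro ((DCoh.Lpull f).obj P))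
    (Dual.isQCohD_of_isPerfect (Dual.isPerfect_ro (isPerfect_lpull f hP)))
  let SY := tensorQ (Dual.ro P) (Dual.isQCohD_of_isPerfect (Dual.isPerfect_ro hP))
  let Φ' : DCoh.RpushQ f hf ⋙ SY ≅ SX ⋙ DCoh.RpushQ f hf :=
    NatIso.ofComponents (fun M => ObjectProperty.isoMk _ (Φ.app M.obj))
      fun g => ObjectProperty.hom_ext _ (Φ.hom.naturality g.hom)
  exact ⟨((aX.comp adj).rightAdjointUniq ((adj.comp aY).ofNatIsoLeft Φ'))⟩

end Groth.Agent.LeadBrown
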