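import Groth.Agent.LeadBrown.Functor
import Groth.Agent.H16Derived.Thomason.Generator
import Groth.Agent.H16Derived.QCohD.RpushCoprod

/-!
# The right adjoint of `Rf_*` on `D_QCoh`
-/

set_option autoImplicit false
set_option linter.style.haveILetI false

universe u

open CategoryTheory CategoryTheory.Limits AlgebraicGeometry CategoryTheory.Pretriangulated

attribute [local instance] HasDerivedCategory.standard

namespace Groth.Agent.LeadBrown

open Groth.Agent.H16Derived Groth.Agent.H16Derived.Thomason Groth.Agent.H16Derived.KFlat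
  Groth.Agent.H16Derived.KFlat.Stalk
attribute [local instance] hasCoproducts_D small_hom

variable {X Y : Scheme.{u}} [CompactSpace X] [QuasiSeparatedSpace X] (f : X ⟶ Y)
  [QuasiCompact f] [QuasiSeparated f] [DCoh.HasRpush f]

/-- For every `K` in `D(O_Y)` the functor `Z ↦ Hom(Rf_* Z, K)` on `D_QCoh(O_X)` is representable. -/
theorem exists_universal_rpush (K : DCoh.D Y) :
    ∃ (F : DCoh.D X) (e : (DCoh.Rpush f).obj F ⟶ K), DCoh.IsQCohD F ∧
      ∀ Z : DCoh.D X, DCoh.IsQCohD Z →
        Function.Bijective fun g : Z ⟶ F => (DCoh.Rpush f).map g ≫ e := by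
  haveI := hasLpull f
  letI := rpushCommShift f
  haveI := rpush_isTriangulated f
  obtain ⟨G, hG, hgen⟩ := hasGen (X := X) Set.univ isClosed_univ (by simp)
  let σ : ULift.{u} ℤ → DCoh.D X := fun k => G⟦k.down⟧
  have hσ : ∀ k, PQ Set.univ (σ k) := fun k => (hG.shift isClosed_univ k.down).pq
  have hΦ : SumPres.{u} (DCoh.Rpush f) (PQ Set.univ) := fun κ W hW =>
    QCohD.isIso_rpush_sigma f W fun k => (hW k).1
  obtain ⟨F, e, hF, h⟩ := exists_universal (DCoh.Rpush f) σ (loc_pq isClosed_univ) hΦ hσ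
    (fun Z n h => h.shift isClosed_univ n)
    (fun k => holds_of_isPerfect (fun _ h => h.1) (hG.shift isClosed_univ k.down).1)
    (fun k n => ⟨⟨k.down + n⟩, ⟨(shiftFunctorAdd (DCoh.D X) k.down n).app G⟩⟩)
    (fun M hM h => hgen M hM fun n g => h ⟨n⟩ g) K
  exact ⟨F, e, hF.1, fun Z hZ => h Z ⟨hZ, suppIn_univ Z⟩⟩

/-- `Rf_* : D_QCoh(O_X) ⥤ D_QCoh(O_Y)` has a right adjoint. -/
theorem isLeftAdjoint_rpushQ (h : ∀ K : DCoh.D X, DCoh.IsQCohD K → DCoh.IsQCohD ((DCoh.Rpush f).obj K)) :
    (ObjectProperty.lift DCoh.IsQCohD (ObjectProperty.ι DCoh.IsQCohD ⋙ DCoh.Rpush f)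
      (fun K => h K.obj K.property)).IsLeftAdjoint := by
  apply Functor.isLeftAdjoint_of_rightAdjointObjIsDefined_eq_top
  ext K
  simp only [Pi.top_apply, Prop.top_eq_true, iff_true]
  rw [Functor.rightAdjointObjIsDefined_iff]
  obtain ⟨F, e, hF, hbij⟩ := exists_universal_rpush f K.obj
  exact Functor.RepresentableBy.isRepresentable (Y := ⟨F, hF⟩)
    { homEquiv := fun {Z} => Equiv.ofBijective
        (fun g => ObjectProperty.homMk ((DCoh.Rpush f).map g.hom ≫ e))
        ⟨fun g g' hg => ObjectProperty.hom_ext _ ((hbij Z.obj Z.property).1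
            (congrArg (fun t => t.hom) hg)),
          fun φ => by
            obtain ⟨g, hg⟩ := (hbij Z.obj Z.property).2 φ.hom
            exact ⟨ObjectProperty.homMk g, ObjectProperty.hom_ext _ hg⟩⟩
      homEquiv_comp := fun g g' => ObjectProperty.hom_ext _
        ((congrArg (· ≫ e) ((DCoh.Rpush f).map_comp g.hom g'.hom)).trans (Category.assoc _ _ _)) }

end Groth.Agent.LeadBrown
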