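import Groth.Agent.LeadBrown.LpullTensor

/-!
# `Lf^*(a ⊗^L b) ≅ Lf^*a ⊗^L Lf^*b` as bifunctors
-/

set_option autoImplicit false
set_option linter.style.haveILetI false

universe u

open CategoryTheory CategoryTheory.Limits CategoryTheory.Functor AlgebraicGeometry

attribute [local instance] HasDerivedCategory.standard

namespace Groth.Agent.LeadBrown

open Groth.Agent.H16Derived Groth.Agent.H16Derived.KFlat Groth.Agent.H16Derived.KFlat.Stalk
open Groth.Agent.H16Derived.ProjFormula (pull pullCx lam₀ isIso_lam₀ isIso_Qresψ)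

variable {X Y : Scheme.{u}} (f : X ⟶ Y)

theorem pullTotIso_naturality_right (K : CochainComplex Y.Modules ℤ) {L L' : CochainComplex Y.Modules ℤ} (φ : L ⟶ L') :
    (pullCx f).map (((DCoh.tensorBi (X := Y)).map₂CochainComplex.obj K).map φ) ≫ (pullTotIso f K L').hom =
      (pullTotIso f K L).hom ≫
        ((DCoh.tensorBi (X := X)).map₂CochainComplex.obj ((pullCx f).obj K)).map ((pullCx f).map φ) := by
  haveI : ∀ J : Type, PreservesColimitsOfShape (Discrete J) (pull f) := fun J =>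
    have := preservesColimitsOfSize_shrink.{0, u, 0, u} (pull f)
    inferInstance
  refine HomologicalComplex.hom_ext _ _ fun n =>
    TotCompare.hom_ext (DCoh.tensorBi (X := Y)) (pull f) K L fun p q h => ?_
  have a₁ := ι_tot_map (F := DCoh.tensorBi (X := Y)) K φ p q n h
  have a₂ := ι_tot_map (F := DCoh.tensorBi (X := X)) ((pullCx f).obj K) ((pullCx f).map φ) p q n h
  have hn := (pullTensorR f (K.X p)).naturality (φ.f q)
  refine ((Category.assoc _ _ _).symm.trans ((congrArg (· ≫ _) ((Functor.map_comp _ _ _).symm.trans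
    ((congrArg (pull f).map a₁).trans (Functor.map_comp _ _ _)))).trans ((Category.assoc _ _ _).trans
      (congrArg (_ ≫ ·) (ι_pullTotIso f K L' p q n h))))).trans ?_
  refine ((Category.assoc _ _ _).symm.trans ((congrArg (· ≫ _) hn).trans (Category.assoc _ _ _))).trans ?_
  refine (congrArg (_ ≫ ·) a₂).symm.trans ?_
  exact (Category.assoc _ _ _).symm.trans ((congrArg (· ≫ _) (ι_pullTotIso f K L p q n h).symm).trans
    (Category.assoc _ _ _))

/-- `f^*(- ⊗ -) ≅ f^*(-) ⊗ f^*(-)` on pairs of complexes. -/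
noncomputable def pullTot₂Iso :
    Functor.uncurry.obj (DCoh.tensorCx (X := Y)) ⋙ pullCx f ≅
      (pullCx f).prod (pullCx f) ⋙ Functor.uncurry.obj (DCoh.tensorCx (X := X)) :=
  NatIso.ofComponents (fun P => pullTotIso f P.1 P.2) fun {P P'} φ => by
    show (pullCx f).map (((DCoh.tensorCx (X := Y)).map φ.1).app P.2 ≫ ((DCoh.tensorCx (X := Y)).obj P'.1).map φ.2) ≫
        (pullTotIso f P'.1 P'.2).hom =
      (pullTotIso f P.1 P.2).hom ≫ (((DCoh.tensorCx (X := X)).map ((pullCx f).map φ.1)).app ((pullCx f).obj P.2) ≫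
        ((DCoh.tensorCx (X := X)).obj ((pullCx f).obj P'.1)).map ((pullCx f).map φ.2))
    refine (congrArg (· ≫ _) ((pullCx f).map_comp _ _)).trans ((Category.assoc _ _ _).trans ?_)
    refine (congrArg (_ ≫ ·) (pullTotIso_naturality_right f P'.1 φ.2)).trans ?_
    exact (Category.assoc _ _ _).symm.trans ((congrArg (· ≫ _) (pullTotIso_naturality f P.2 φ.1)).trans
      (Category.assoc _ _ _))

variable [DCoh.HasLpull f]

/-- `Lf^*` on resolved complexes. -/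
noncomputable def lamRes :
    KFlat.Stalk.res (X := Y) ⋙ pullCx f ⋙ DerivedCategory.Q ≅ DerivedCategory.Q ⋙ DCoh.Lpull f :=
  haveI : ∀ C, IsIso ((whiskerLeft (KFlat.Stalk.res (X := Y)) (lam₀ f)).app C) :=
    fun C => isIso_lam₀ f _ (isKFlat_res C)
  haveI := NatIso.isIso_of_isIso_app (whiskerLeft (KFlat.Stalk.res (X := Y)) (lam₀ f))
  haveI : ∀ C, IsIso ((whiskerRight (resψ (X := Y)) (DerivedCategory.Q ⋙ DCoh.Lpull f)).app C) := fun C => by
    haveI : IsIso (DerivedCategory.Q.map ((resψ (X := Y)).app C)) := isIso_Qresψ C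
    exact Functor.map_isIso (DCoh.Lpull f) _
  haveI := NatIso.isIso_of_isIso_app (whiskerRight (resψ (X := Y)) (DerivedCategory.Q ⋙ DCoh.Lpull f))
  (asIso (whiskerLeft (KFlat.Stalk.res (X := Y)) (lam₀ f))).symm ≪≫
    asIso (whiskerRight (resψ (X := Y)) (DerivedCategory.Q ⋙ DCoh.Lpull f)) ≪≫ Functor.leftUnitor _

/-- `Lf^*(a ⊗^L b) ≅ Lf^*a ⊗^L Lf^*b`. -/
noncomputable def lpullT₂ :
    Dual.T₂ Y ⋙ DCoh.Lpull f ≅ (DCoh.Lpull f).prod (DCoh.Lpull f) ⋙ Dual.T₂ X :=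
  let U := Functor.uncurry.obj (DCoh.tensorCx (X := Y))
  let p := (pullCx f).prod (pullCx f)
  haveI hk : ∀ P, IsKFlat (DCoh.tensorBi (X := Y)) ((Dual.res₂ Y ⋙ U).obj P) := fun P =>
    (isKFlat_iff' _).1 (isKFlat_tensorCx ((isKFlat_iff' _).2 (isKFlat_res P.1)) ((isKFlat_iff' _).2 (isKFlat_res P.2)))
  haveI : ∀ P, IsIso ((whiskerLeft (Dual.res₂ Y ⋙ U) (lam₀ f)).app P) :=
    fun P => isIso_lam₀ f ((Dual.res₂ Y ⋙ U).obj P) (hk P)
  haveI := NatIso.isIso_of_isIso_app (whiskerLeft (Dual.res₂ Y ⋙ U) (lam₀ f))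
  haveI : ∀ P, IsIso ((whiskerLeft (Dual.res₂ Y ⋙ p) (Dual.ε X)).app P) :=
    fun P => Dual.isIso_ε _ _ (Or.inr (isKFlat_pullback f (isKFlat_res P.2)))
  haveI := NatIso.isIso_of_isIso_app (whiskerLeft (Dual.res₂ Y ⋙ p) (Dual.ε X))
  let iL : Dual.QQ Y ⋙ (DCoh.Lpull f).prod (DCoh.Lpull f) ≅ Dual.res₂ Y ⋙ p ⋙ Dual.QQ X :=
    NatIso.ofComponents (fun P => Iso.prod ((lamRes f).app P.1).symm ((lamRes f).app P.2).symm)
      fun φ => Prod.ext ((lamRes f).inv.naturality φ.1) ((lamRes f).inv.naturality φ.2)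
  let j₁ : Dual.QQ Y ⋙ (Dual.T₂ Y ⋙ DCoh.Lpull f) ≅ (Dual.res₂ Y ⋙ U) ⋙ (DerivedCategory.Q ⋙ DCoh.Lpull f) :=
    (Functor.associator _ _ _).symm ≪≫ isoWhiskerRight Dual.isoRes _ ≪≫ Functor.associator _ _ _
  let j₂ : (Dual.res₂ Y ⋙ U) ⋙ (DerivedCategory.Q ⋙ DCoh.Lpull f) ≅ (Dual.res₂ Y ⋙ p) ⋙ Dual.tensor₂ X :=
    asIso (whiskerLeft (Dual.res₂ Y ⋙ U) (lam₀ f)) ≪≫ Functor.associator _ _ _ ≪≫
      isoWhiskerLeft (Dual.res₂ Y) ((Functor.associator _ _ _).symm ≪≫ isoWhiskerRight (pullTot₂Iso f) _ ≪≫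
        Functor.associator _ _ _) ≪≫ (Functor.associator _ _ _).symm
  let j₃ : (Dual.res₂ Y ⋙ p) ⋙ Dual.tensor₂ X ≅ Dual.QQ Y ⋙ ((DCoh.Lpull f).prod (DCoh.Lpull f) ⋙ Dual.T₂ X) :=
    (asIso (whiskerLeft (Dual.res₂ Y ⋙ p) (Dual.ε X))).symm ≪≫ (Functor.associator _ _ _).symm ≪≫
      isoWhiskerRight ((Functor.associator _ _ _) ≪≫ iL.symm) _ ≪≫ Functor.associator _ _ _
  Localization.liftNatIso (Dual.QQ Y) (Dual.qis₂ Y) _ _ _ _ (j₁ ≪≫ j₂ ≪≫ j₃)

end Groth.Agent.LeadBrown
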