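import Groth.Agent.LeadBrown.QCohTri
import Groth.Agent.LeadBrown.PerfTensor
import Groth.Agent.LeadBrown.LpullTensor2
import Groth.Agent.H16Derived.BaseChange.Square

/-!
# `a(K) ≅ Lf^*K ⊗^L a(O)` when `a` commutes with sums
-/

set_option autoImplicit false
set_option linter.style.haveILetI false
set_option linter.unusedSectionVars false

universe u

open CategoryTheory CategoryTheory.Limits AlgebraicGeometry CategoryTheory.Pretriangulated

attribute [local instance] HasDerivedCategory.standard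

namespace Groth.Agent.LeadBrown

open Groth.Agent.H16Derived Groth.Agent.H16Derived.Thomason Groth.Agent.H16Derived.KFlat
open Groth.Agent.H16Derived.KFlat.Stalk (rd rpushCommShift rpush_isTriangulated hasLpull lpullRpushAdj lpullCommShift
  lpull_isTriangulated preservesCoproducts_lpull)
open Groth.Agent.H16Derived.ProjFormula (PTri ptri_of_isTriangulated ptri_TObj)
open Groth.Agent.H16Derived.QCohD (isQCohD_iso freeShTopIso)
attribute [local instance] hasCoproducts_D small_hom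

variable {X Y : Scheme.{u}}

/-- The inclusion of `D_QCoh` commutes with sums. -/
theorem preservesCoproducts_qι (J : Type u) :
    PreservesColimitsOfShape (Discrete J) (DCoh.IsQCohD (X := X)).ι := by
  refine ⟨fun {K} => ?_⟩
  let Z : J → DCoh.DQCoh X := fun j => K.obj ⟨j⟩
  obtain ⟨c, ⟨hc⟩, -⟩ := exists_isColimit_cofan Z
  have h : PreservesColimit (Discrete.functor Z) (DCoh.IsQCohD (X := X)).ι := by
    let S : DCoh.DQCoh X := ⟨∐ fun k => (Z k).obj, S1040.result _ _ fun k => (Z k).property⟩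
    let d : Cofan Z := Cofan.mk S fun k => ObjectProperty.homMk (Sigma.ι (fun k => (Z k).obj) k)
    have hd : IsColimit d := Cofan.IsColimit.mk _ (fun s => ObjectProperty.homMk (Sigma.desc fun k => (s.inj k).hom))
      (fun s j => ObjectProperty.hom_ext _ (Sigma.ι_desc _ _))
      (fun s m hm => ObjectProperty.hom_ext _ (Sigma.hom_ext _ _ fun k =>
        (congrArg (fun t => t.hom) (hm k)).trans (Sigma.ι_desc (fun k => (s.inj k).hom) k).symm))
    exact preservesColimit_of_preserves_colimit_cocone hd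
      ((Cofan.isColimitMapCoconeEquiv (DCoh.IsQCohD (X := X)).ι _ _).symm
        (coproductIsCoproduct fun k => (Z k).obj))
  haveI : PreservesColimit (Discrete.functor (K.obj ∘ Discrete.mk)) (DCoh.IsQCohD (X := X)).ι := h
  exact preservesColimit_of_iso_diagram _ Discrete.natIsoFunctor.symm

attribute [local instance] preservesCoproducts_qι

theorem preservesCoproducts_of_isLeftAdjoint {C D : Type*} [Category C] [Category D] (F : C ⥤ D) [F.IsLeftAdjoint]
    (J : Type u) : PreservesColimitsOfShape (Discrete J) F :=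
  haveI : PreservesColimitsOfSize.{u, u} F := (Adjunction.ofIsLeftAdjoint F).leftAdjoint_preservesColimits
  inferInstance

/-- Composing with `Rf_*` a functor with quasi-coherent values which commutes with sums. -/
theorem preservesCoproducts_rpush {C : Type*} [Category C] (f : X ⟶ Y) [QuasiCompact f] [QuasiSeparated f]
    [DCoh.HasRpush f] (H : C ⥤ DCoh.D X) (hH : ∀ c, DCoh.IsQCohD (H.obj c)) (J : Type u)
    [PreservesColimitsOfShape (Discrete J) H] : PreservesColimitsOfShape (Discrete J) (H ⋙ DCoh.Rpush f) := by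
  refine ⟨fun {K} => ?_⟩
  let Z : J → DCoh.D X := fun j => H.obj (K.obj ⟨j⟩)
  haveI : IsIso (sigmaComparison (DCoh.Rpush f) Z) := QCohD.isIso_rpush_sigma f Z fun j => hH _
  haveI : PreservesColimit (Discrete.functor Z) (DCoh.Rpush f) := PreservesCoproduct.of_iso_comparison _ _
  haveI : PreservesColimit (K ⋙ H) (DCoh.Rpush f) :=
    haveI : PreservesColimit (Discrete.functor ((K ⋙ H).obj ∘ Discrete.mk)) (DCoh.Rpush f) :=
      ‹PreservesColimit (Discrete.functor Z) (DCoh.Rpush f)›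
    preservesColimit_of_iso_diagram _ (Discrete.natIsoFunctor (F := K ⋙ H)).symm
  infer_instance

/-- `T(m, -)` kills what is killed on an open. -/
theorem isZero_rd_TObj (m : DCoh.D X) (U : X.Opens) {L : DCoh.D X} (h : IsZero ((rd U.ι).obj L)) :
    IsZero ((rd U.ι).obj (((Dual.T X).obj m).obj L)) := by
  obtain ⟨Z, hZ⟩ : ∃ Z : DCoh.D X, IsZero Z := HasZeroObject.zero
  have h1 : Dual.IsoOn U (0 : L ⟶ Z) :=
    ⟨0, h.eq_of_src _ _, ((rd U.ι).map_isZero hZ).eq_of_src _ _⟩
  have h2 : IsIso ((rd U.ι).map (((Dual.T X).obj m).map (0 : L ⟶ Z))) := Dual.isoOn_TObj m h1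
  haveI : ((Dual.T X).obj m).PreservesZeroMorphisms := Functor.preservesZeroMorphisms_of_isLeftAdjoint _
  exact ((rd U.ι).map_isZero (((Dual.T X).obj m).map_isZero hZ)).of_iso (asIso ((rd U.ι).map
    (((Dual.T X).obj m).map (0 : L ⟶ Z))))

/-- Supports and restrictions. -/
theorem isZero_rd_of_suppIn (V : Y.Opens) {L : DCoh.D Y} (h : SuppIn (V : Set Y)ᶜ L) :
    IsZero ((rd V.ι).obj L) := (isZero_rd_iff V.ι L).2 (by rwa [Scheme.Opens.range_ι])

/-- `Lf^*` kills what is killed on an open. -/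
theorem isZero_rd_lpull (f : X ⟶ Y) [DCoh.HasLpull f] (V : Y.Opens) {L : DCoh.D Y}
    (h : IsZero ((rd V.ι).obj L)) : IsZero ((rd (f ⁻¹ᵁ V).ι).obj ((DCoh.Lpull f).obj L)) := by
  haveI := QCohD.hasRpush (f ∣_ V)
  haveI := hasLpull (f ∣_ V)
  obtain ⟨e⟩ := ProjFormula.nonempty_rd_lpull f V L
  haveI := (lpullRpushAdj (f ∣_ V)).isLeftAdjoint
  haveI : (DCoh.Lpull (f ∣_ V)).PreservesZeroMorphisms := Functor.preservesZeroMorphisms_of_isLeftAdjoint _
  exact ((DCoh.Lpull (f ∣_ V)).map_isZero h).of_iso e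

/-- A morphism invertible over the members of an affine cover is invertible. -/
theorem isIso_of_isIso_rd {A B : DCoh.D X} (φ : A ⟶ B)
    (h : ∀ x : X, ∃ U : X.Opens, x ∈ U ∧ IsIso ((rd U.ι).map φ)) : IsIso φ := by
  obtain ⟨C, g, δ, hT⟩ := distinguished_cocone_triangle φ
  refine (Triangle.isZero₃_iff_isIso₁ _ hT).1 (BaseChange.isZero_of_cover fun x => ?_)
  obtain ⟨U, hx, hU⟩ := h x
  exact ⟨U, hx, (Triangle.isZero₃_iff_isIso₁ _ ((rd U.ι).map_distinguished _ hT)).2 hU⟩

/-- `O[-n]` is invertible. -/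
theorem exists_inverse_single (n : ℤ) {c : DCoh.D X}
    (e : c ≅ (DerivedCategory.singleFunctor X.Modules n).obj (Coh.structureModule X)) :
    ∃ c' : DCoh.D X, DCoh.IsQCohD c' ∧ ((Dual.T X).flip.obj c).IsEquivalence ∧
      ∀ B, Nonempty (((Dual.T X).flip.obj c).obj (((Dual.T X).flip.obj c').obj B) ≅ B) := by
  have ho : ∀ m k : ℤ, m + k = 0 → Nonempty
      ((DerivedCategory.singleFunctor X.Modules m).obj (Coh.structureModule X) ≅ Dual.o X k) := fun m k h =>
    ⟨(((DerivedCategory.singleFunctors X.Modules).shiftIso k m 0 (by omega)).app _).symm ≪≫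
      (shiftFunctor (DCoh.D X) k).mapIso Dual.oneIso ≪≫ ((DerivedCategory.Q.commShiftIso k).app _).symm⟩
  obtain ⟨e₁⟩ := ho n (-n) (by omega)
  obtain ⟨e₂⟩ := ho (-n) n (by omega)
  refine ⟨Dual.o X n, isQCohD_iso e₂ (ProjFormula.isQCohD_single_structure X (-n)), ?_, fun B => ?_⟩
  · exact Functor.isEquivalence_of_iso ((Dual.T X).flip.mapIso (e ≪≫ e₁)).symm
  · obtain ⟨e₃⟩ := Dual.nonempty_o_tensor_o X n (-n) (by omega)
    exact ⟨((Dual.T X).flip.mapIso (e ≪≫ e₁)).app _ ≪≫ (Dual.flipAssoc (Dual.o X n) (Dual.o X (-n))).app B ≪≫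
      ((Dual.T X).flip.mapIso e₃).app B ≪≫ (Dual.rightUnit X).app B⟩

/-- An inverse with its witness. -/
noncomputable def inv' {C : Type*} [Category C] {A B : C} {φ : A ⟶ B} (_ : IsIso φ) : B ⟶ A := inv φ

/-- Isomorphisms between quasi-coherent objects are detected by quasi-coherent objects. -/
theorem isIso_of_isIso_qcohD {A B : DCoh.D X} (hA : DCoh.IsQCohD A) (hB : DCoh.IsQCohD B) (φ : A ⟶ B)
    (h : ∀ W, DCoh.IsQCohD W → Function.Bijective fun x : W ⟶ A => x ≫ φ) : IsIso φ := by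
  obtain ⟨g, hg⟩ := (h B hB).2 (𝟙 B)
  exact ⟨g, (h A hA).1 (by simp [hg]), hg⟩

section Projection

variable (f : X ⟶ Y) [DCoh.HasRpush f] [DCoh.HasLpull f]

/-- `Lf^*(A ⊗ K) ≅ Lf^*A ⊗ Lf^*K`, on objects. -/
noncomputable def cT (A K : DCoh.D Y) : (DCoh.Lpull f).obj (((Dual.T Y).obj A).obj K) ≅
    ((Dual.T X).obj ((DCoh.Lpull f).obj A)).obj ((DCoh.Lpull f).obj K) :=
  (lpullT₂ f).app (A, K)

/-- The projection map `Rf_*M ⊗ K ⟶ Rf_*(M ⊗ Lf^*K)`. -/
noncomputable def prj (M : DCoh.D X) (K : DCoh.D Y) :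
    ((Dual.T Y).obj ((DCoh.Rpush f).obj M)).obj K ⟶
      (DCoh.Rpush f).obj (((Dual.T X).obj M).obj ((DCoh.Lpull f).obj K)) :=
  (lpullRpushAdj f).homEquiv _ _ ((cT f ((DCoh.Rpush f).obj M) K).hom ≫
    ((Dual.T X).map ((lpullRpushAdj f).counit.app M)).app ((DCoh.Lpull f).obj K))

theorem cT_naturality_left {A A' : DCoh.D Y} (g : A ⟶ A') (K : DCoh.D Y) :
    (DCoh.Lpull f).map (((Dual.T Y).map g).app K) ≫ (cT f A' K).hom =
      (cT f A K).hom ≫ ((Dual.T X).map ((DCoh.Lpull f).map g)).app ((DCoh.Lpull f).obj K) := by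
  refine ((lpullT₂ f).hom.naturality (X := (A, K)) (Y := (A', K)) (Prod.mkHom g (𝟙 K))).trans ?_
  refine congrArg (_ ≫ ·) ?_
  show (Dual.T₂ X).map (Prod.mkHom ((DCoh.Lpull f).map g) ((DCoh.Lpull f).map (𝟙 K))) = _
  rw [CategoryTheory.Functor.map_id]
  rfl

theorem cT_naturality_right (A : DCoh.D Y) {K K' : DCoh.D Y} (g : K ⟶ K') :
    (DCoh.Lpull f).map (((Dual.T Y).obj A).map g) ≫ (cT f A K').hom =
      (cT f A K).hom ≫ ((Dual.T X).obj ((DCoh.Lpull f).obj A)).map ((DCoh.Lpull f).map g) := by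
  refine ((lpullT₂ f).hom.naturality (X := (A, K)) (Y := (A, K')) (Prod.mkHom (𝟙 A) g)).trans ?_
  refine congrArg (_ ≫ ·) ?_
  show (Dual.T₂ X).map (Prod.mkHom ((DCoh.Lpull f).map (𝟙 A)) ((DCoh.Lpull f).map g)) = _
  rw [CategoryTheory.Functor.map_id]
  rfl

/-- The projection map, natural in `K`. -/
noncomputable def prjNat (M : DCoh.D X) :
    (Dual.T Y).obj ((DCoh.Rpush f).obj M) ⟶ DCoh.Lpull f ⋙ (Dual.T X).obj M ⋙ DCoh.Rpush f where
  app := prj f M
  naturality K K' g := by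
    show _ ≫ prj f M K' = prj f M K ≫ (DCoh.Rpush f).map _
    unfold prj
    rw [← Adjunction.homEquiv_naturality_left, ← Adjunction.homEquiv_naturality_right]
    refine congrArg ((lpullRpushAdj f).homEquiv _ _) ?_
    rw [← Category.assoc, cT_naturality_right, Category.assoc, Category.assoc, NatTrans.naturality]
    rfl

theorem prj_naturality_left {M M' : DCoh.D X} (x : M ⟶ M') (K : DCoh.D Y) :
    ((Dual.T Y).map ((DCoh.Rpush f).map x)).app K ≫ prj f M' K =
      prj f M K ≫ (DCoh.Rpush f).map (((Dual.T X).map x).app ((DCoh.Lpull f).obj K)) := by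
  unfold prj
  rw [← Adjunction.homEquiv_naturality_left, ← Adjunction.homEquiv_naturality_right]
  refine congrArg ((lpullRpushAdj f).homEquiv _ _) ?_
  rw [← Category.assoc, cT_naturality_left, Category.assoc, Category.assoc, ← NatTrans.comp_app,
    ← NatTrans.comp_app, ← Functor.map_comp, ← Functor.map_comp]
  exact congrArg (fun t => (cT f _ K).hom ≫ ((Dual.T X).map t).app _)
    ((lpullRpushAdj f).counit.naturality x)

/-- The projection formula for invertible `k`. -/
theorem isIso_prj_of_isEquivalence (k : DCoh.D Y) [((Dual.T Y).flip.obj k).IsEquivalence]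
    [((Dual.T X).flip.obj ((DCoh.Lpull f).obj k)).IsEquivalence] (M : DCoh.D X) : IsIso (prj f M k) := by
  let F₁ := (Dual.T Y).flip.obj k
  let F₂ := (Dual.T X).flip.obj ((DCoh.Lpull f).obj k)
  let E := (lpullRpushAdj f).homEquiv
  have hx : ∀ (V : DCoh.D Y) (x : V ⟶ (DCoh.Rpush f).obj M), F₁.map x ≫ prj f M k =
      E _ _ ((cT f V k).hom ≫ F₂.map ((E _ _).symm x)) := fun V x => by
    show ((Dual.T Y).map x).app k ≫ prj f M k = _
    unfold prj
    rw [← Adjunction.homEquiv_naturality_left]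
    refine congrArg (E _ _) ?_
    rw [← Category.assoc, cT_naturality_left, Category.assoc, ← NatTrans.comp_app, ← Functor.map_comp]
    simp only [E, Adjunction.homEquiv_counit]
    rfl
  refine isIso_of_yoneda_map_bijective _ fun W => ?_
  obtain ⟨V, ⟨e⟩⟩ : ∃ V, Nonempty (F₁.obj V ≅ W) := ⟨F₁.objPreimage W, ⟨F₁.objObjPreimageIso W⟩⟩
  have hb : Function.Bijective fun x : V ⟶ (DCoh.Rpush f).obj M => F₁.map x ≫ prj f M k := by
    simp only [hx]
    refine (E _ _).bijective.comp (Function.Bijective.comp ?_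
      ((Functor.FullyFaithful.ofFullyFaithful F₂).map_bijective _ _ |>.comp (E _ _).symm.bijective))
    exact ⟨fun s t h => (cancel_epi _).1 h, fun s => ⟨(cT f V k).inv ≫ s, by simp⟩⟩
  constructor
  · intro s t h
    obtain ⟨x, hx'⟩ := F₁.map_surjective (e.hom ≫ s)
    obtain ⟨y, hy'⟩ := F₁.map_surjective (e.hom ≫ t)
    refine (cancel_epi e.hom).1 ?_
    refine hx'.symm.trans ((congrArg F₁.map (hb.1 ?_)).trans hy')
    show F₁.map x ≫ prj f M k = F₁.map y ≫ prj f M k
    rw [hx', hy', Category.assoc, Category.assoc]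
    exact congrArg (e.hom ≫ ·) h
  · intro s
    obtain ⟨x, hx'⟩ := hb.2 (e.hom ≫ s)
    refine ⟨e.inv ≫ F₁.map x, ?_⟩
    show (e.inv ≫ F₁.map x) ≫ prj f M k = s
    rw [Category.assoc]
    exact (congrArg (e.inv ≫ ·) hx').trans (e.inv_hom_id_assoc s)

/-- `Lf^*O[n] ≅ O[n]`. -/
theorem nonempty_lpull_single (n : ℤ) :
    Nonempty ((DCoh.Lpull f).obj ((DerivedCategory.singleFunctor Y.Modules n).obj (Coh.structureModule Y)) ≅
      (DerivedCategory.singleFunctor X.Modules n).obj (Coh.structureModule X)) := by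
  obtain ⟨e⟩ := QCohD.nonempty_lpull_freeSh f (⊤ : Y.Opens) n
  exact ⟨(DCoh.Lpull f).mapIso ((DerivedCategory.singleFunctor _ n).mapIso freeShTopIso.symm) ≪≫ e ≪≫
    (DerivedCategory.singleFunctor _ n).mapIso freeShTopIso⟩

theorem isIso_prj_single (M : DCoh.D X) (n : ℤ) {k : DCoh.D Y}
    (e : k ≅ (DerivedCategory.singleFunctor Y.Modules n).obj (Coh.structureModule Y)) : IsIso (prj f M k) := by
  obtain ⟨e'⟩ := nonempty_lpull_single f n
  obtain ⟨-, -, h₁, -⟩ := exists_inverse_single n e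
  obtain ⟨-, -, h₂, -⟩ := exists_inverse_single n ((DCoh.Lpull f).mapIso e ≪≫ e')
  exact isIso_prj_of_isEquivalence f k M

variable [CompactSpace X] [QuasiSeparatedSpace X] [CompactSpace Y] [QuasiSeparatedSpace Y]

/-- The projection formula. -/
theorem isIso_prj {M : DCoh.D X} (hM : DCoh.IsQCohD M) {K : DCoh.D Y} (hK : DCoh.IsQCohD K) :
    IsIso (prj f M K) := by
  haveI : QuasiCompact f := (quasiCompact_iff_compactSpace f).2 inferInstance
  haveI : QuasiSeparated f := (quasiSeparated_iff_quasiSeparatedSpace f).2 inferInstance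
  refine isIso_of_isIso_rd _ fun x => ?_
  obtain ⟨_, ⟨(V : Y.Opens), hV, rfl⟩, hx, -⟩ := Y.isBasis_affineOpens.exists_subset_of_mem_open (Set.mem_univ x) isOpen_univ
  refine ⟨V, hx, ?_⟩
  haveI := quasiCompact_ι V hV.isCompact
  haveI := quasiCompact_ι (f ⁻¹ᵁ V) (QuasiCompact.isCompact_preimage (f := f) _ V.isOpen hV.isCompact)
  haveI := QCohD.hasRpush V.ι
  haveI := QCohD.hasRpush (f ⁻¹ᵁ V).ι
  haveI := QCohD.hasRpush (f ∣_ V)
  letI := lpullCommShift f
  haveI := lpull_isTriangulated f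
  letI := rpushCommShift f
  haveI := rpush_isTriangulated f
  let F := (DCoh.IsQCohD (X := Y)).ι ⋙ (Dual.T Y).obj ((DCoh.Rpush f).obj M) ⋙ rd V.ι
  let H := (DCoh.IsQCohD (X := Y)).ι ⋙ DCoh.Lpull f ⋙ (Dual.T X).obj M
  let G := (H ⋙ DCoh.Rpush f) ⋙ rd V.ι
  let τ : F ⟶ G := Functor.whiskerLeft (DCoh.IsQCohD (X := Y)).ι (Functor.whiskerRight (prjNat f M) (rd V.ι))
  have hF : PTri F := (ptri_of_isTriangulated _).comp ((ptri_TObj _).comp (ptri_of_isTriangulated _))
  have hG : PTri G := (((ptri_of_isTriangulated _).comp ((ptri_of_isTriangulated _).comp (ptri_TObj _))).comp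
    (ptri_of_isTriangulated _)).comp (ptri_of_isTriangulated _)
  haveI : (rd V.ι).IsLeftAdjoint := (restrictRpushAdj V.ι).isLeftAdjoint
  haveI := fun J => preservesCoproducts_of_isLeftAdjoint (rd V.ι) J
  haveI := fun J => preservesCoproducts_lpull f J
  haveI := fun J => preservesCoproducts_of_isLeftAdjoint ((Dual.T X).obj M) J
  haveI := fun J => preservesCoproducts_of_isLeftAdjoint ((Dual.T Y).obj ((DCoh.Rpush f).obj M)) J
  haveI : ∀ J : Type u, PreservesColimitsOfShape (Discrete J) (H ⋙ DCoh.Rpush f) := fun J =>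
    preservesCoproducts_rpush f H (fun L => isQCohD_T hM (QCohD.isQCohD_lpull _ L.property)) J
  refine isIso_app_of_affine τ hF hG V hV (fun L _ hs => ?_) (fun n L ⟨e⟩ => ?_) ⟨K, hK⟩
  · have hz := isZero_rd_of_suppIn V hs
    exact ⟨isZero_rd_TObj _ V hz, isZero_rd_rpush V.ι (f ⁻¹ᵁ V).ι (by simp [Scheme.Opens.range_ι])
      (isZero_rd_TObj M (f ⁻¹ᵁ V) (isZero_rd_lpull f V hz))⟩
  · haveI := isIso_prj_single f M n e
    exact Functor.map_isIso (rd V.ι) (prj f M L.obj)

end Projection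

section Compare

variable {f : X ⟶ Y} [DCoh.HasRpush f] [DCoh.HasLpull f] {hf : DCoh.RpushPreservesQCoh f}
  {a : DCoh.DQCoh Y ⥤ DCoh.DQCoh X} (adj : DCoh.RpushQ f hf ⊣ a)
  [CompactSpace X] [QuasiSeparatedSpace X] [CompactSpace Y] [QuasiSeparatedSpace Y]
  (O : DCoh.DQCoh Y) (eO : O.obj ≅ Dual.one Y)

/-- `O ⊗ - ≅ 𝟭`. -/
noncomputable def lamO : (Dual.T Y).obj O.obj ≅ 𝟭 (DCoh.D Y) :=
  (Dual.T Y).mapIso eO ≪≫
    (NatIso.ofComponents (fun b => Dual.σ (Dual.one Y) b) (fun g => Dual.σ_naturality_right _ g) :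
      (Dual.T Y).obj (Dual.one Y) ≅ (Dual.T Y).flip.obj (Dual.one Y)) ≪≫ Dual.rightUnit Y

/-- The trace at `O`. -/
noncomputable def trO : (DCoh.Rpush f).obj (a.obj O).obj ⟶ O.obj :=
  homEquivD adj (a.obj O).obj (a.obj O).property O (𝟙 _)

theorem homEquivD_eq_map_trO {B : DCoh.D X} (hB : DCoh.IsQCohD B) (x : B ⟶ (a.obj O).obj) :
    homEquivD adj B hB O x = (DCoh.Rpush f).map x ≫ trO adj O := by
  rw [trO, ← homEquivD_comp adj (a.obj O).property hB, Category.comp_id]

/-- The adjoint of the comparison map at `K`. -/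
noncomputable def hMap (K : DCoh.DQCoh Y) :
    (DCoh.Rpush f).obj (((Dual.T X).obj (a.obj O).obj).obj ((DCoh.Lpull f).obj K.obj)) ⟶ K.obj :=
  haveI := isIso_prj f (a.obj O).property K.property
  inv (prj f (a.obj O).obj K.obj) ≫ ((Dual.T Y).map (trO adj O)).app K.obj ≫ (lamO O eO).hom.app K.obj

theorem hMap_naturality {K K' : DCoh.DQCoh Y} (g : K ⟶ K') :
    (DCoh.Rpush f).map (((Dual.T X).obj (a.obj O).obj).map ((DCoh.Lpull f).map g.hom)) ≫ hMap adj O eO K' =
      hMap adj O eO K ≫ g.hom := by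
  haveI := isIso_prj f (a.obj O).property K.property
  haveI := isIso_prj f (a.obj O).property K'.property
  have h := (prjNat f (a.obj O).obj).naturality g.hom
  change ((Dual.T Y).obj _).map g.hom ≫ prj f _ K'.obj =
    prj f _ K.obj ≫ (DCoh.Rpush f).map (((Dual.T X).obj (a.obj O).obj).map ((DCoh.Lpull f).map g.hom)) at h
  have h1 := ((Dual.T Y).map (trO adj O)).naturality g.hom
  have h2 := (lamO O eO).hom.naturality g.hom
  change _ ≫ (lamO O eO).hom.app K'.obj = (lamO O eO).hom.app K.obj ≫ g.hom at h2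
  unfold hMap
  rw [← cancel_epi (prj f (a.obj O).obj K.obj), ← Category.assoc, ← h]
  simp only [Category.assoc, IsIso.hom_inv_id_assoc]
  rw [← Category.assoc, h1, Category.assoc, h2]

theorem isQCohD_src (K : DCoh.DQCoh Y) :
    DCoh.IsQCohD (((Dual.T X).obj (a.obj O).obj).obj ((DCoh.Lpull f).obj K.obj)) :=
  isQCohD_T (a.obj O).property (QCohD.isQCohD_lpull _ K.property)

/-- The comparison map `a(O) ⊗ Lf^*K ⟶ a(K)`. -/
noncomputable def cmp :
    (DCoh.IsQCohD (X := Y)).ι ⋙ DCoh.Lpull f ⋙ (Dual.T X).obj (a.obj O).obj ⟶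
      a ⋙ (DCoh.IsQCohD (X := X)).ι where
  app K := (homEquivD adj _ (isQCohD_src O K) K).symm (hMap adj O eO K)
  naturality K K' g := by
    apply (homEquivD adj _ (isQCohD_src O K) K').injective
    show homEquivD adj _ (isQCohD_src O K) K'
        (((Dual.T X).obj (a.obj O).obj).map ((DCoh.Lpull f).map g.hom) ≫ _) =
      homEquivD adj _ (isQCohD_src O K) K' (_ ≫ (a.map g).hom)
    rw [homEquivD_comp adj (isQCohD_src O K') (isQCohD_src O K), homEquivD_map]
    refine (congrArg (_ ≫ ·) ((homEquivD adj _ _ K').apply_symm_apply _)).trans ?_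
    exact (hMap_naturality adj O eO g).trans
      (congrArg (· ≫ g.hom) ((homEquivD adj _ _ K).apply_symm_apply _).symm)

/-- The comparison map at `O[n]`. -/
theorem isIso_cmp_single (n : ℤ) (K : DCoh.DQCoh Y)
    (e : K.obj ≅ (DerivedCategory.singleFunctor Y.Modules n).obj (Coh.structureModule Y)) :
    IsIso ((cmp adj O eO).app K) := by
  let M := (a.obj O).obj
  let c := (DCoh.Lpull f).obj K.obj
  obtain ⟨e'⟩ := nonempty_lpull_single f n
  obtain ⟨c', hc', h₂, hinv⟩ := exists_inverse_single n ((DCoh.Lpull f).mapIso e ≪≫ e')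
  obtain ⟨-, -, h₁, -⟩ := exists_inverse_single n e
  let F₁ := (Dual.T Y).flip.obj K.obj
  let F₂ := (Dual.T X).flip.obj c
  have hh : ∀ (B' : DCoh.D X) (hB' : DCoh.IsQCohD B') (x : B' ⟶ M),
      homEquivD adj (F₂.obj B') (isQCohD_T hB' (QCohD.isQCohD_lpull _ K.property)) K
        (F₂.map x ≫ (cmp adj O eO).app K) =
      inv' (isIso_prj f hB' K.property) ≫ F₁.map (homEquivD adj B' hB' O x) ≫ (lamO O eO).hom.app K.obj := by
    intro B' hB' x
    haveI := isIso_prj f hB' K.property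
    haveI := isIso_prj f (a.obj O).property K.property
    refine (homEquivD_comp adj (isQCohD_src O K) _ _ K _).trans ?_
    refine (congrArg (_ ≫ ·) ((homEquivD adj _ _ K).apply_symm_apply _)).trans ?_
    rw [homEquivD_eq_map_trO adj O hB', Functor.map_comp, Category.assoc]
    unfold hMap inv'
    rw [← Category.assoc, ← Category.assoc (inv (prj f B' K.obj))]
    refine congrArg (· ≫ _) ?_
    rw [IsIso.eq_inv_comp, ← Category.assoc, IsIso.comp_inv_eq]
    exact (prj_naturality_left f x K.obj).symm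
  refine isIso_of_isIso_qcohD (isQCohD_src O K) (a.obj K).property _ fun B hB => ?_
  obtain ⟨eB⟩ := hinv B
  let B' := ((Dual.T X).flip.obj c').obj B
  have hB' : DCoh.IsQCohD B' := isQCohD_T hB hc'
  have hq : DCoh.IsQCohD (F₂.obj B') := isQCohD_T hB' (QCohD.isQCohD_lpull _ K.property)
  have hb : Function.Bijective fun x : B' ⟶ M => F₂.map x ≫ (cmp adj O eO).app K := by
    haveI := isIso_prj f hB' K.property
    refine (Function.Bijective.of_comp_iff' (homEquivD adj (F₂.obj B') hq K).bijective _).1 ?_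
    have heq : (homEquivD adj (F₂.obj B') hq K) ∘ (fun x : B' ⟶ M => F₂.map x ≫ (cmp adj O eO).app K) =
        (fun y => inv (prj f B' K.obj) ≫ y ≫ (lamO O eO).hom.app K.obj) ∘
          (fun y => F₁.map y) ∘ (homEquivD adj B' hB' O) := funext fun x => hh B' hB' x
    rw [heq]
    refine Function.Bijective.comp ?_
      (((Functor.FullyFaithful.ofFullyFaithful F₁).map_bijective _ _).comp (homEquivD adj B' hB' O).bijective)
    exact ⟨fun s t h => (cancel_mono ((lamO O eO).hom.app K.obj)).1 ((cancel_epi _).1 h),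
      fun s => ⟨prj f B' K.obj ≫ s ≫ (lamO O eO).inv.app K.obj, by simp⟩⟩
  constructor
  · intro s t h
    obtain ⟨x, hx⟩ := F₂.map_surjective (eB.hom ≫ s)
    obtain ⟨y, hy⟩ := F₂.map_surjective (eB.hom ≫ t)
    refine (cancel_epi eB.hom).1 (hx.symm.trans ((congrArg F₂.map (hb.1 ?_)).trans hy))
    show F₂.map x ≫ (cmp adj O eO).app K = F₂.map y ≫ (cmp adj O eO).app K
    rw [hx, hy]
    exact (Category.assoc _ _ _).trans ((congrArg (eB.hom ≫ ·) h).trans (Category.assoc _ _ _).symm)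
  · intro s
    obtain ⟨x, hx⟩ := hb.2 (eB.hom ≫ s)
    refine ⟨eB.inv ≫ F₂.map x, ?_⟩
    refine (Category.assoc _ _ _).trans ?_
    exact (congrArg (eB.inv ≫ ·) hx).trans (eB.inv_hom_id_assoc s)

variable [∀ J : Type u, PreservesColimitsOfShape (Discrete J) a]

/-- `a(K) ≅ a(O) ⊗ Lf^*K`. -/
theorem isIso_cmp (K : DCoh.DQCoh Y) : IsIso ((cmp adj O eO).app K) := by
  haveI : QuasiCompact f := (quasiCompact_iff_compactSpace f).2 inferInstance
  refine isIso_of_isIso_rd _ fun x => ?_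
  obtain ⟨_, ⟨(V : Y.Opens), hV, rfl⟩, hx, -⟩ :=
    Y.isBasis_affineOpens.exists_subset_of_mem_open (Set.mem_univ (f.base x)) isOpen_univ
  let U := f ⁻¹ᵁ V
  refine ⟨U, hx, ?_⟩
  haveI := quasiCompact_ι U (QuasiCompact.isCompact_preimage (f := f) _ V.isOpen hV.isCompact)
  haveI := QCohD.hasRpush U.ι
  letI := lpullCommShift f
  haveI := lpull_isTriangulated f
  let F := ((DCoh.IsQCohD (X := Y)).ι ⋙ DCoh.Lpull f ⋙ (Dual.T X).obj (a.obj O).obj) ⋙ rd U.ι
  let G := (a ⋙ (DCoh.IsQCohD (X := X)).ι) ⋙ rd U.ι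
  let τ : F ⟶ G := Functor.whiskerRight (cmp adj O eO) (rd U.ι)
  have hF : PTri F := ((ptri_of_isTriangulated _).comp ((ptri_of_isTriangulated _).comp (ptri_TObj _))).comp
    (ptri_of_isTriangulated _)
  have hG : PTri G := (ptri_rightAdjoint adj).comp (ptri_of_isTriangulated _)
  haveI : (rd U.ι).IsLeftAdjoint := (restrictRpushAdj U.ι).isLeftAdjoint
  haveI := fun J => preservesCoproducts_of_isLeftAdjoint (rd U.ι) J
  haveI := fun J => preservesCoproducts_lpull f J
  haveI := fun J => preservesCoproducts_of_isLeftAdjoint ((Dual.T X).obj (a.obj O).obj) J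
  refine isIso_app_of_affine τ hF hG V hV (fun L hL hs => ?_) (fun n L ⟨e⟩ => ?_) K
  · have h1 : IsZero (F.obj L) := isZero_rd_TObj _ U (isZero_rd_lpull f V (isZero_rd_of_suppIn V hs))
    obtain ⟨Φ⟩ := nonempty_rightAdjoint_tensor f adj hL
    refine ⟨h1, h1.of_iso ((rd U.ι).mapIso ?_)⟩
    exact (ObjectProperty.ι _).mapIso (a.mapIso (ObjectProperty.isoMk _ (X := L) (Y := (tensorQ L.obj (Dual.isQCohD_of_isPerfect hL)).obj O)
      ((lamO O eO).app L.obj).symm)) ≪≫
      (ObjectProperty.ι _).mapIso (Φ.app O).symm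
  · haveI := isIso_cmp_single adj O eO n L e
    exact Functor.map_isIso (rd U.ι) ((cmp adj O eO).app L)

include adj eO in
/-- The natural isomorphism. -/
theorem nonempty_rightAdjoint_iso_lpull_tensor (E : CochainComplex X.Modules ℤ) [DCoh.HasLTensorCx E]
    (eE : DerivedCategory.Q.obj E ≅ (a.obj O).obj) :
    Nonempty (a ⋙ (DCoh.IsQCohD (X := X)).ι ≅
      (DCoh.IsQCohD (X := Y)).ι ⋙ DCoh.Lpull f ⋙ DCoh.LTensorCx E) := by
  haveI : ∀ K, IsIso ((cmp adj O eO).app K) := isIso_cmp adj O eO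
  haveI := NatIso.isIso_of_isIso_app (cmp adj O eO)
  let e : (Dual.T X).obj (a.obj O).obj ≅ DCoh.LTensorCx E :=
    (NatIso.ofComponents (fun b => Dual.σ (a.obj O).obj b) (fun g => Dual.σ_naturality_right _ g) :
      (Dual.T X).obj (a.obj O).obj ≅ (Dual.T X).flip.obj (a.obj O).obj) ≪≫
      (Dual.T X).flip.mapIso eE.symm ≪≫ Dual.ltensorCxIsoT E
  exact ⟨(asIso (cmp adj O eO)).symm ≪≫ Functor.isoWhiskerLeft _ (Functor.isoWhiskerLeft _ e)⟩

end Compare

end Groth.Agent.LeadBrown
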