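import Groth.Agent.LeadBrown.BCCore
import Groth.Agent.H25Dual3.Compat

/-!
# Base change for the right adjoint of `Rf_*` on `D_QCoh`
-/

set_option autoImplicit false
set_option linter.style.haveILetI false
set_option linter.unusedSectionVars false

universe u v₁ v₂ v₃ v₄ u₁ u₂ u₃ u₄

open CategoryTheory CategoryTheory.Limits AlgebraicGeometry

attribute [local instance] HasDerivedCategory.standard

namespace Groth.Agent.LeadBrown

section Formal

variable {X : Type u₁} [Category.{v₁} X] {X' : Type u₂} [Category.{v₂} X']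
  {Y : Type u₃} [Category.{v₃} Y] {Y' : Type u₄} [Category.{v₄} Y']
  {F : X ⥤ Y} {F' : X' ⥤ Y'} {G : Y' ⥤ Y} {G' : X' ⥤ X} {a : Y ⥤ X} {a' : Y' ⥤ X'}
  {L : Y ⥤ Y'} {L' : X ⥤ X'}
  (adj : F ⊣ a) (adj' : F' ⊣ a') (adjg : L ⊣ G) (adjg' : L' ⊣ G') (e : G' ⋙ F ≅ F' ⋙ G)

open Groth.Agent.H25Dual3.Compat (ξ bp)

/-- `ξ` is invertible when the base change maps of `F` are. -/
theorem isIso_ξ (hbp : ∀ M, IsIso (bp adjg adjg' e M)) (M : Y') : IsIso (ξ adj adj' e M) := by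
  refine isIso_of_yoneda_map_bijective _ fun W => ?_
  haveI := hbp W
  have h : (fun x : W ⟶ G'.obj (a'.obj M) => x ≫ ξ adj adj' e M) =
      (adj.homEquiv _ _) ∘ (adjg.homEquiv _ _) ∘ (fun z => bp adjg adjg' e W ≫ z) ∘
        (adj'.homEquiv _ _).symm ∘ (adjg'.homEquiv _ _).symm := by
    funext x
    obtain ⟨h, rfl⟩ := (adjg'.homEquiv _ _).surjective x
    apply (adj.homEquiv _ _).symm.injective
    simp only [Function.comp_apply, Equiv.symm_apply_apply, ξ, bp]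
    rw [Adjunction.homEquiv_naturality_left_symm, Equiv.symm_apply_apply,
      Adjunction.homEquiv_naturality_right, Equiv.apply_symm_apply, adjg'.homEquiv_unit,
      adj'.homEquiv_counit, F.map_comp, G.map_comp]
    have hn := e.hom.naturality h
    simp only [Functor.comp_map] at hn
    simp only [Category.assoc]
    rw [reassoc_of% hn]
  rw [h]
  exact (adj.homEquiv _ _).bijective.comp ((adjg.homEquiv _ _).bijective.comp
    (Function.Bijective.comp (g := fun z : F'.obj (L'.obj W) ⟶ M => bp adjg adjg' e W ≫ z)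
      ⟨fun z z' hz => (cancel_epi _).1 hz, fun w => ⟨inv (bp adjg adjg' e W) ≫ w, by simp⟩⟩
      ((adj'.homEquiv _ _).symm.bijective.comp (adjg'.homEquiv _ _).symm.bijective)))

end Formal

open Groth.Agent.H16Derived Groth.Agent.H16Derived.BaseChange
open Groth.Agent.H16Derived.KFlat.Stalk (lpullRpushAdj hasLpull)

variable {X Y X' Y' : Scheme.{u}}

/-- `Lf^* ⊣ Rf_*` on `D_QCoh`. -/
noncomputable def adjQ (f : X ⟶ Y) [DCoh.HasRpush f] [DCoh.HasLpull f] (hL : Dual3.LpullPreservesQCoh f)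
    (hf : DCoh.RpushPreservesQCoh f) : Dual3.LpullQ f hL ⊣ DCoh.RpushQ f hf :=
  Adjunction.mkOfHomEquiv
    { homEquiv := fun K M =>
        { toFun := fun z => ObjectProperty.homMk ((lpullRpushAdj f).homEquiv K.obj M.obj z.hom)
          invFun := fun y => ObjectProperty.homMk (((lpullRpushAdj f).homEquiv K.obj M.obj).symm y.hom)
          left_inv := fun x => ObjectProperty.hom_ext _ (Equiv.symm_apply_apply _ _)
          right_inv := fun y => ObjectProperty.hom_ext _ (Equiv.apply_symm_apply _ _) }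
      homEquiv_naturality_left_symm := fun _ _ =>
        ObjectProperty.hom_ext _ (Adjunction.homEquiv_naturality_left_symm _ _ _)
      homEquiv_naturality_right := fun _ _ =>
        ObjectProperty.hom_ext _ (Adjunction.homEquiv_naturality_right _ _ _) }

/-- A trace is universal among quasi-coherent objects. -/
theorem universal_trace {f : X ⟶ Y} [DCoh.HasRpush f] {hf : DCoh.RpushPreservesQCoh f}
    {a : DCoh.DQCoh Y ⥤ DCoh.DQCoh X} (adj : DCoh.RpushQ f hf ⊣ a) (K : DCoh.DQCoh Y) (V : DCoh.D X)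
    (hV : DCoh.IsQCohD V) :
    Function.Bijective fun x : V ⟶ (a.obj K).obj => (DCoh.Rpush f).map x ≫ (adj.counit.app K).hom := by
  let Vq : DCoh.DQCoh X := ⟨V, hV⟩
  refine ⟨fun x x' h => ?_, fun z => ?_⟩
  · have := (adj.homEquiv Vq K).symm.injective
      (a₁ := ObjectProperty.homMk x) (a₂ := ObjectProperty.homMk x') (ObjectProperty.hom_ext _ (by
        rw [Adjunction.homEquiv_counit, Adjunction.homEquiv_counit]; exact h))
    exact congrArg (fun t => t.hom) this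
  · obtain ⟨x, hx⟩ := (adj.homEquiv Vq K).symm.surjective (ObjectProperty.homMk z)
    rw [Adjunction.homEquiv_counit] at hx
    exact ⟨x.hom, congrArg (fun t => t.hom) hx⟩

section Square

variable {f : X ⟶ Y} {f' : X' ⟶ Y'} {g : Y' ⟶ Y} {g' : X' ⟶ X}
  [DCoh.HasRpush f] [DCoh.HasLpull f] [DCoh.HasRpush f'] [DCoh.HasLpull f']
  [DCoh.HasRpush g] [DCoh.HasLpull g] [DCoh.HasRpush g'] [DCoh.HasLpull g']
  {hLf : Dual3.LpullPreservesQCoh f} {hLf' : Dual3.LpullPreservesQCoh f'}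
  {hLg : Dual3.LpullPreservesQCoh g} {hLg' : Dual3.LpullPreservesQCoh g'}
  (χ : DCoh.Lpull g ⋙ DCoh.Lpull f' ≅ DCoh.Lpull f ⋙ DCoh.Lpull g')

/-- A square of inverse images on `D_QCoh`. -/
noncomputable def chiQ : Dual3.LpullQ g hLg ⋙ Dual3.LpullQ f' hLf' ≅ Dual3.LpullQ f hLf ⋙ Dual3.LpullQ g' hLg' :=
  NatIso.ofComponents (fun K => ObjectProperty.isoMk _ (χ.app K.obj))
    fun x => ObjectProperty.hom_ext _ (χ.hom.naturality x.hom)

variable {hf : DCoh.RpushPreservesQCoh f} {hf' : DCoh.RpushPreservesQCoh f'}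
  {hg : DCoh.RpushPreservesQCoh g} {hg' : DCoh.RpushPreservesQCoh g'}
  (adjg : Dual3.LpullQ g hLg ⊣ DCoh.RpushQ g hg) (adjg' : Dual3.LpullQ g' hLg' ⊣ DCoh.RpushQ g' hg')

/-- The identification of the composed direct images attached to `χ`. -/
noncomputable def eQ : DCoh.RpushQ g' hg' ⋙ DCoh.RpushQ f hf ≅ DCoh.RpushQ f' hf' ⋙ DCoh.RpushQ g hg :=
  conjugateIsoEquiv ((adjQ f hLf hf).comp adjg') (adjg.comp (adjQ f' hLf' hf'))
    (chiQ (hLf := hLf) (hLf' := hLf') (hLg := hLg) (hLg' := hLg') χ)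

theorem bcPush_eQ_hom (K : DCoh.DQCoh X) :
    (Dual3.bcPush (eQ (hLf := hLf) (hLf' := hLf') (hf := hf) (hf' := hf') χ adjg adjg') adjg adjg' K).hom =
      bcD χ K.obj := by
  have h : Dual3.bcPush (eQ (hLf := hLf) (hLf' := hLf') (hf := hf) (hf' := hf') χ adjg adjg') adjg adjg' K =
      bcApp (adjQ f hLf hf) (adjQ f' hLf' hf') (chiQ χ).hom K :=
    (Equiv.symm_apply_eq _).2 (bcApp_eq_transpose _ _ adjg adjg' (chiQ χ) K).symm
  have h1 : ((adjQ f hLf hf).counit.app K).hom = (lpullRpushAdj f).counit.app K.obj := by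
    show ((lpullRpushAdj f).homEquiv _ _).symm (𝟙 ((DCoh.Rpush f).obj K.obj)) = _
    rw [Adjunction.homEquiv_counit, CategoryTheory.Functor.map_id, Category.id_comp]
  rw [h]
  show ((adjQ f' hLf' hf').homEquiv _ _ _).hom = _
  simp only [adjQ, Adjunction.mkOfHomEquiv_homEquiv]
  show (lpullRpushAdj f').homEquiv _ _ _ = _
  refine congrArg _ ?_
  show χ.hom.app _ ≫ (DCoh.Lpull g').map ((adjQ f hLf hf).counit.app K).hom = _
  rw [h1]
  rfl

theorem isIso_bcPush_eQ (hbc : ∀ E : DCoh.D X, DCoh.IsQCohD E → IsIso (bcD χ E)) (K : DCoh.DQCoh X) :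
    IsIso (Dual3.bcPush (eQ (hLf := hLf) (hLf' := hLf') (hf := hf) (hf' := hf') χ adjg adjg') adjg adjg' K) := by
  haveI := hbc K.obj K.property
  haveI : IsIso ((ObjectProperty.ι DCoh.IsQCohD).map
      (Dual3.bcPush (eQ (hLf := hLf) (hLf' := hLf') (hf := hf) (hf' := hf') χ adjg adjg') adjg adjg' K)) := by
    show IsIso (Dual3.bcPush _ adjg adjg' K).hom
    rw [bcPush_eQ_hom]
    infer_instance
  exact isIso_of_fully_faithful (ObjectProperty.ι DCoh.IsQCohD) _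

variable [CompactSpace X] [QuasiSeparatedSpace X] [CompactSpace X'] [QuasiSeparatedSpace X']
  [CompactSpace Y] [QuasiSeparatedSpace Y] [CompactSpace Y'] [QuasiSeparatedSpace Y']
  {a : DCoh.DQCoh Y ⥤ DCoh.DQCoh X} {a' : DCoh.DQCoh Y' ⥤ DCoh.DQCoh X'}
  (adj : DCoh.RpushQ f hf ⊣ a) (adj' : DCoh.RpushQ f' hf' ⊣ a')

/-- Any map compatible with the traces is invertible. -/
theorem isIso_of_trace (h : IsPullback g' f' f g) (hχ : IsMonoidalSq χ)
    (hbc : ∀ E : DCoh.D X, DCoh.IsQCohD E → IsIso (bcD χ E)) (K : DCoh.DQCoh Y)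
    (hw : ∀ Q : DCoh.D X, DCoh.IsPerfect Q → IsIso (wR g ((DCoh.Rpush f).obj Q) K.obj) ∧
      DCoh.IsQCohD ((Dual.R ((DCoh.Rpush f).obj Q)).obj K.obj))
    (β : (Dual3.LpullQ g' hLg').obj (a.obj K) ⟶ a'.obj ((Dual3.LpullQ g hLg).obj K))
    (hβ : Dual3.bcPush (eQ (hLf := hLf) (hLf' := hLf') (hf := hf) (hf' := hf') χ adjg adjg') adjg adjg' (a.obj K) ≫
        (DCoh.RpushQ f' hf').map β ≫ adj'.counit.app _ = (Dual3.LpullQ g hLg).map (adj.counit.app K)) :
    IsIso β := by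
  have e := congrArg (fun t => t.hom) hβ
  simp only [ObjectProperty.FullSubcategory.comp_hom] at e
  rw [bcPush_eQ_hom] at e
  haveI : IsIso ((ObjectProperty.ι DCoh.IsQCohD).map β) :=
    isIso_beta h hχ hbc (a.obj K).property (adj.counit.app K).hom (universal_trace adj K)
      (a'.obj ((Dual3.LpullQ g hLg).obj K)).property (adj'.counit.app ((Dual3.LpullQ g hLg).obj K)).hom
      (universal_trace adj' ((Dual3.LpullQ g hLg).obj K)) hw β.hom e
  exact isIso_of_fully_faithful (ObjectProperty.ι DCoh.IsQCohD) _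

end Square

/-- Base change in the case where `ξ`, the push forward base change, and the base change map are all invertible. -/
theorem exists_bcAdjoint [CompactSpace X] [QuasiSeparatedSpace X] [CompactSpace X'] [QuasiSeparatedSpace X']
    [CompactSpace Y] [QuasiSeparatedSpace Y] [CompactSpace Y'] [QuasiSeparatedSpace Y']
    {f : X ⟶ Y} {f' : X' ⟶ Y'} {g : Y' ⟶ Y} {g' : X' ⟶ X} (h : IsPullback g' f' f g) (hTI : TI f g)
    [DCoh.HasRpush f] [DCoh.HasRpush f'] [DCoh.HasRpush g] [DCoh.HasRpush g']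
    (hf : DCoh.RpushPreservesQCoh f) (hf' : DCoh.RpushPreservesQCoh f')
    {hg : DCoh.RpushPreservesQCoh g} {hg' : DCoh.RpushPreservesQCoh g'}
    {a : DCoh.DQCoh Y ⥤ DCoh.DQCoh X} {a' : DCoh.DQCoh Y' ⥤ DCoh.DQCoh X'}
    (adj : DCoh.RpushQ f hf ⊣ a) (adj' : DCoh.RpushQ f' hf' ⊣ a') [DCoh.HasLpull g] [DCoh.HasLpull g']
    {hLg : Dual3.LpullPreservesQCoh g} {hLg' : Dual3.LpullPreservesQCoh g'}
    (adjg : Dual3.LpullQ g hLg ⊣ DCoh.RpushQ g hg) (adjg' : Dual3.LpullQ g' hLg' ⊣ DCoh.RpushQ g' hg') :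
    ∃ e : DCoh.RpushQ g' hg' ⋙ DCoh.RpushQ f hf ≅ DCoh.RpushQ f' hf' ⋙ DCoh.RpushQ g hg,
      (∀ K, IsIso (Dual3.bcPush e adjg adjg' K)) ∧ (∀ M, IsIso (Dual3.xi adj adj' e M)) ∧
      ∀ K : DCoh.DQCoh Y, (∀ Q : DCoh.D X, DCoh.IsPerfect Q →
          IsIso (wR g ((DCoh.Rpush f).obj Q) K.obj) ∧
            DCoh.IsQCohD ((Dual.R ((DCoh.Rpush f).obj Q)).obj K.obj)) →
        ∀ β : (Dual3.LpullQ g' hLg').obj (a.obj K) ⟶ a'.obj ((Dual3.LpullQ g hLg).obj K),
          Dual3.bcPush e adjg adjg' (a.obj K) ≫ (DCoh.RpushQ f' hf').map β ≫ adj'.counit.app _ =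
            (Dual3.LpullQ g hLg).map (adj.counit.app K) → IsIso β := by
  haveI : QuasiCompact f := (quasiCompact_iff_compactSpace f).2 inferInstance
  haveI : QuasiSeparated f := (quasiSeparated_iff_quasiSeparatedSpace f).2 inferInstance
  haveI := hasLpull f
  haveI := hasLpull f'
  have hLf : Dual3.LpullPreservesQCoh f := fun _ hK => QCohD.isQCohD_lpull f hK
  have hLf' : Dual3.LpullPreservesQCoh f' := fun _ hK => QCohD.isQCohD_lpull f' hK
  obtain ⟨χ, hχ⟩ := exists_monoidalSq (f := f) (f' := f') (g := g) (g' := g') h.w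
  have hbc : ∀ E : DCoh.D X, DCoh.IsQCohD E → IsIso (bcD χ E) := fun E hE =>
    bc_main h hTI _ _ _ _ _ _ _ _ (isLp_self f) (isLp_self f') (isLp_self g) (isLp_self g') χ E hE
  exact ⟨eQ (hLf := hLf) (hLf' := hLf') χ adjg adjg', isIso_bcPush_eQ χ adjg adjg' hbc,
    isIso_ξ adj adj' adjg adjg' _ (isIso_bcPush_eQ χ adjg adjg' hbc),
    fun K hw β hβ => isIso_of_trace χ adjg adjg' adj adj' h hχ hbc K hw β hβ⟩

/-- The base change map for a perfect push forward. -/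
theorem hw_of_perfect {f : X ⟶ Y} [DCoh.HasRpush f] {g : Y' ⟶ Y} [DCoh.HasRpush g] [DCoh.HasLpull g]
    (hp : ∀ Q : DCoh.D X, DCoh.IsPerfect Q → DCoh.IsPerfect ((DCoh.Rpush f).obj Q))
    {K : DCoh.D Y} (hK : DCoh.IsQCohD K) (Q : DCoh.D X) (hQ : DCoh.IsPerfect Q) :
    IsIso (wR g ((DCoh.Rpush f).obj Q) K) ∧ DCoh.IsQCohD ((Dual.R ((DCoh.Rpush f).obj Q)).obj K) :=
  ⟨isIso_wR g (hp Q hQ) K, isQCohD_R_perfect (hp Q hQ) hK⟩

end Groth.Agent.LeadBrown
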