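import Groth.Agent.LeadBrown.LaxPush
import Groth.Agent.H16Derived.Thomason.Lift
import Groth.Agent.H16Derived.Thomason.Generator
import Groth.Agent.H16Derived.QCohD.AffineReflect

/-!
# The base change map for the right adjoint of `Rf_*` is invertible
-/

set_option autoImplicit false
set_option linter.style.haveILetI false
set_option linter.unusedSectionVars false

universe u

open CategoryTheory CategoryTheory.Limits AlgebraicGeometry CategoryTheory.Pretriangulated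

attribute [local instance] HasDerivedCategory.standard

namespace Groth.Agent.LeadBrown

open Groth.Agent.H16Derived Groth.Agent.H16Derived.QCohD Groth.Agent.H16Derived.BaseChange
open Groth.Agent.H16Derived.KFlat.Stalk (rd rdComp lpullRpushAdj hasLpull rpushCommShift rpush_isTriangulated
  lpullCommShift lpull_isTriangulated exists_kflat_rep lpullObjIso isPerfect_lpull nonempty_restrictD_rpush_iso)
open Groth.Agent.H16Derived.ProjFormula (PTri ptri_TObj)
open Groth.Agent.H16Derived.Dual (T R adjR Rmap o isPerfect_ro isQCohD_of_isPerfect θIso)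

variable {X Y X' Y' : Scheme.{u}}

theorem isIso_Rmap {k' k : DCoh.D X} (φ : k' ⟶ k) [IsIso φ] (L : DCoh.D X) : IsIso (Rmap φ L) :=
  ⟨Rmap (inv φ) L, by rw [← Rmap_comp, IsIso.inv_hom_id, Rmap_id],
    by rw [← Rmap_comp, IsIso.hom_inv_id, Rmap_id]⟩

/-- `RHom(Q, L)` is quasi-coherent for perfect `Q`. -/
theorem isQCohD_R_perfect {Q : DCoh.D X} (hQ : DCoh.IsPerfect Q) {L : DCoh.D X} (hL : DCoh.IsQCohD L) :
    DCoh.IsQCohD ((R Q).obj L) :=
  QCohD.isQCohD_iso (θIso hQ L) (isQCohD_T hL (isQCohD_of_isPerfect (isPerfect_ro hQ)))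

theorem lax_naturality_right (f : X ⟶ Y) [DCoh.HasRpush f] [DCoh.HasLpull f] (Q : DCoh.D X) {N N' : DCoh.D X}
    (y : N ⟶ N') :
    ((T Y).obj ((DCoh.Rpush f).obj Q)).map ((DCoh.Rpush f).map y) ≫ lax f Q N' =
      lax f Q N ≫ (DCoh.Rpush f).map (((T X).obj Q).map y) := by
  apply ((lpullRpushAdj f).homEquiv _ _).symm.injective
  rw [Adjunction.homEquiv_naturality_left_symm, Adjunction.homEquiv_naturality_right_symm, lax, lax,
    Equiv.symm_apply_apply, Equiv.symm_apply_apply, map_eq_tm, map_eq_tm, cT_tm_assoc, Category.assoc,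
    tm_comp, tm_comp, CategoryTheory.Functor.map_id, Category.id_comp]
  erw [Category.comp_id]
  exact congrArg (fun t => (cT f _ _).hom ≫ tm ((lpullRpushAdj f).counit.app Q) t)
    ((lpullRpushAdj f).counit.naturality y)

theorem adjS_symm_map (k : DCoh.D X) {G L L' : DCoh.D X} (x : G ⟶ (R k).obj L) (β : L ⟶ L') :
    ((adjS k).homEquiv G L').symm (x ≫ (R k).map β) = ((adjS k).homEquiv G L).symm x ≫ β :=
  Adjunction.homEquiv_naturality_right_symm _ _ _

section Square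

variable {f : X ⟶ Y} {f' : X' ⟶ Y'} {g : Y' ⟶ Y} {g' : X' ⟶ X}
  [DCoh.HasRpush f] [DCoh.HasLpull f] [DCoh.HasRpush f'] [DCoh.HasLpull f']
  [DCoh.HasRpush g] [DCoh.HasLpull g] [DCoh.HasRpush g'] [DCoh.HasLpull g']
  {χ : DCoh.Lpull g ⋙ DCoh.Lpull f' ≅ DCoh.Lpull f ⋙ DCoh.Lpull g'}

/-- Base change maps and the duality maps form a commutative square. -/
theorem alphaR_baseChange (hχ : IsMonoidalSq χ) (Q : DCoh.D X) {L : DCoh.D X} {K : DCoh.D Y}
    (t : (DCoh.Rpush f).obj L ⟶ K) {L' : DCoh.D X'}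
    (t' : (DCoh.Rpush f').obj L' ⟶ (DCoh.Lpull g).obj K) (β : (DCoh.Lpull g').obj L ⟶ L')
    (hβ : bcD χ L ≫ (DCoh.Rpush f').map β ≫ t' = (DCoh.Lpull g).map t) :
    bcD χ ((R Q).obj L) ≫ (DCoh.Rpush f').map (wR g' Q L) ≫
      (DCoh.Rpush f').map ((R ((DCoh.Lpull g').obj Q)).map β) ≫
        alphaR f' ((DCoh.Lpull g').obj Q) t' ≫ Rmap (bcD χ Q) ((DCoh.Lpull g).obj K) =
      (DCoh.Lpull g).map (alphaR f Q t) ≫ wR g ((DCoh.Rpush f).obj Q) K := by
  apply ((adjS _).homEquiv _ _).symm.injective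
  rw [adjS_symm_wR, ← Category.assoc, ← Category.assoc, ← Category.assoc, comp_Rmap_S, adjS_symm_eq,
    Functor.map_comp, Category.assoc, alphaR_evS]
  -- the right hand side
  have hr := cT_naturality_right g ((DCoh.Rpush f).obj Q) (alphaR f Q t)
  rw [← cancel_epi (cT g ((DCoh.Rpush f).obj Q) ((DCoh.Rpush f).obj ((R Q).obj L))).hom,
    ← reassoc_of% hr, Iso.hom_inv_id_assoc, ← Functor.map_comp, alphaR_evS]
  -- the left hand side
  simp only [Category.assoc, ← Functor.map_comp (DCoh.Rpush f'), Functor.map_comp ((T Y').obj _)]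
  rw [reassoc_of% lax_naturality_right f', ← Functor.map_comp_assoc]
  have he : ((T X').obj ((DCoh.Lpull g').obj Q)).map (wR g' Q L ≫ (R ((DCoh.Lpull g').obj Q)).map β) ≫
      evS ((DCoh.Lpull g').obj Q) L' = (cT g' Q _).inv ≫ (DCoh.Lpull g').map (evS Q L) ≫ β := by
    rw [Functor.map_comp, Category.assoc]
    erw [(adjS ((DCoh.Lpull g').obj Q)).counit_naturality β]
    rw [← reassoc_of% wR_evS g' Q L]
    rfl
  rw [he, map_eq_tm, app_eq_tm, tm_comp_assoc, Category.comp_id, Category.id_comp,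
    reassoc_of% bcD_lax χ hχ Q ((R Q).obj L), Iso.hom_inv_id_assoc, ← Functor.map_comp_assoc (DCoh.Rpush f'),
    Iso.hom_inv_id_assoc, Functor.map_comp (DCoh.Rpush f'), Category.assoc]
  rw [← reassoc_of% bcApp_naturality (lpullRpushAdj f) (lpullRpushAdj f') χ.hom (evS Q L)]
  simp only [Functor.map_comp, Category.assoc]
  exact congrArg (fun z => _ ≫ _ ≫ z) hβ

end Square

section Shift

theorem PTri.nonempty_shift_iso {C D : Type*} [Category C] [Category D] [Preadditive C] [Preadditive D]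
    [HasZeroObject C] [HasZeroObject D] [HasShift C ℤ] [HasShift D ℤ]
    [∀ n : ℤ, (shiftFunctor C n).Additive] [∀ n : ℤ, (shiftFunctor D n).Additive]
    [Pretriangulated C] [Pretriangulated D] {A : C ⥤ D} [A.Additive] (hA : PTri A) (K : C) :
    Nonempty ((A.obj K)⟦(1 : ℤ)⟧ ≅ A.obj (K⟦(1 : ℤ)⟧)) := by
  obtain ⟨T', hT', e₁, e₂, e₃, -, -⟩ := hA _ (rot_of_distTriang _ (contractible_distinguished K))
  have hz : IsZero T'.obj₂ := (A.map_isZero (isZero_zero C)).of_iso e₂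
  haveI : IsIso T'.mor₃ := (Triangle.isZero₂_iff_isIso₃ _ hT').1 hz
  exact ⟨(shiftFunctor D (1 : ℤ)).mapIso e₁.symm ≪≫ (asIso T'.mor₃).symm ≪≫ e₃⟩

end Shift

theorem nonempty_rd_iso_lpull {U : Scheme.{u}} (j : U ⟶ X) [IsOpenImmersion j] [DCoh.HasLpull j]
    (E : DCoh.D X) : Nonempty ((rd j).obj E ≅ (DCoh.Lpull j).obj E) := by
  obtain ⟨P, hP, ⟨e⟩⟩ := exists_kflat_rep E
  exact ⟨(rd j).mapIso e.symm ≪≫ (Scheme.Modules.restrictFunctor j).mapDerivedCategoryFactors.app P ≪≫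
    DerivedCategory.Q.mapIso
      ((NatIso.mapHomologicalComplex (Scheme.Modules.restrictFunctorIsoPullback j) _).app P) ≪≫
    (lpullObjIso j P hP).symm ≪≫ (DCoh.Lpull j).mapIso e⟩

/-- Pullbacks of perfect objects detect objects over an open with affine preimage. -/
theorem isZero_of_hom_lpull_perfect [CompactSpace X] [QuasiSeparatedSpace X] {g' : X' ⟶ X}
    [DCoh.HasLpull g'] (U : X.Opens) (hU : IsCompact (U : Set X)) (U' : X'.Opens) (gU : (U' : Scheme.{u}) ⟶ U)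
    (w : gU ≫ U.ι = U'.ι ≫ g') [IsAffineHom gU] {C : DCoh.D (U' : Scheme.{u})} (hC : DCoh.IsQCohD C)
    (h : ∀ Q : DCoh.D X, DCoh.IsPerfect Q → ∀ (n : ℤ)
      (x : ((rd U'.ι).obj ((DCoh.Lpull g').obj Q))⟦n⟧ ⟶ C), x = 0) : IsZero C := by
  haveI : CompactSpace (U : Scheme.{u}) := isCompact_iff_compactSpace.1 hU
  haveI := Thomason.qss_opens U
  haveI : QuasiCompact gU := inferInstance
  haveI := QCohD.hasRpush gU
  haveI := hasLpull gU
  haveI := hasLpull U.ι
  haveI := hasLpull U'.ι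
  letI := lpullCommShift gU
  letI := rpushCommShift gU
  haveI := rpush_isTriangulated gU
  haveI : (DCoh.Rpush gU).PreservesZeroMorphisms := inferInstance
  refine QCohD.AffineUnit.isZero_of_rpush gU C hC ?_
  obtain ⟨P₀, ⟨hP₀, -⟩, hgen⟩ := Thomason.hasGen (X := (U : Scheme.{u})) Set.univ isClosed_univ
    (by simp)
  refine hgen _ ⟨QCohD.isQCohD_rpush gU hC, fun i => Set.subset_univ _⟩ fun n x => ?_
  obtain ⟨Q, i, p, ⟨hQ, -⟩, hip⟩ := Thomason.exists_summand U hU (T := Set.univ) isClosed_univ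
    (Thomason.hasGen Set.univ isClosed_univ (by simp)) hP₀ fun i => Set.subset_univ _
  obtain ⟨a₁⟩ := nonempty_rd_iso_lpull U.ι Q
  obtain ⟨a₂⟩ := nonempty_rd_iso_lpull U'.ι ((DCoh.Lpull g').obj Q)
  obtain ⟨a₃⟩ := nonempty_sq w (isLp_self U.ι) (isLp_self U'.ι) (isLp_self g') (isLp_self gU)
  let b : (DCoh.Lpull gU).obj (((rd U.ι).obj Q)⟦n⟧) ≅ ((rd U'.ι).obj ((DCoh.Lpull g').obj Q))⟦n⟧ :=
    ((DCoh.Lpull gU).commShiftIso n).app _ ≪≫ (shiftFunctor _ n).mapIso
      ((DCoh.Lpull gU).mapIso a₁ ≪≫ (a₃.app Q).symm ≪≫ a₂.symm)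
  have h0 : ∀ y : ((rd U.ι).obj Q)⟦n⟧ ⟶ (DCoh.Rpush gU).obj C, y = 0 := fun y => by
    have h1 : ((lpullRpushAdj gU).homEquiv _ _).symm y = 0 := by
      rw [← cancel_epi b.inv, comp_zero]
      exact h Q hQ n _
    rw [← ((lpullRpushAdj gU).homEquiv _ _).apply_symm_apply y, h1, Adjunction.homEquiv_unit,
      Functor.map_zero, comp_zero]
  rw [← Category.id_comp x, ← (shiftFunctor _ n).map_id, ← hip, Functor.map_comp, Category.assoc, h0 (p⟦n⟧' ≫ x),
    comp_zero]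

/-- Objects right orthogonal to `Lg'^*Q ⊗ Lf'^*G` vanish. -/
theorem isZero_of_hom_perfect [CompactSpace X] [QuasiSeparatedSpace X] [CompactSpace X'] [QuasiSeparatedSpace X']
    [CompactSpace Y] [QuasiSeparatedSpace Y] [CompactSpace Y'] [QuasiSeparatedSpace Y']
    {f : X ⟶ Y} {f' : X' ⟶ Y'} {g : Y' ⟶ Y} {g' : X' ⟶ X} (h : IsPullback g' f' f g)
    [DCoh.HasRpush f'] [DCoh.HasLpull f'] [DCoh.HasLpull g'] {C : DCoh.D X'} (hC : DCoh.IsQCohD C)
    (hS : ∀ Q : DCoh.D X, DCoh.IsPerfect Q → ∀ (G : DCoh.D Y')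
      (x : ((T X').obj ((DCoh.Lpull g').obj Q)).obj ((DCoh.Lpull f').obj G) ⟶ C), x = 0) : IsZero C := by
  haveI : QuasiCompact f := (quasiCompact_iff_compactSpace f).2 inferInstance
  haveI : QuasiCompact f' := (quasiCompact_iff_compactSpace f').2 inferInstance
  have hR0 : ∀ Q : DCoh.D X, DCoh.IsPerfect Q →
      IsZero ((DCoh.Rpush f').obj ((R ((DCoh.Lpull g').obj Q)).obj C)) := fun Q hQ => by
    rw [IsZero.iff_id_eq_zero]
    apply ((lpullRpushAdj f').homEquiv _ _).symm.injective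
    apply ((adjS _).homEquiv _ _).symm.injective
    exact (hS Q hQ _ _).trans (hS Q hQ _ _).symm
  refine MVPush.isZero_of_hd C fun i => H17.FPExt.isZero_of_stalk _ fun x' => ?_
  -- an affine neighbourhood of the image over an affine of `Y`
  obtain ⟨_, ⟨(V : Y.Opens), hV, rfl⟩, hxV, -⟩ :=
    Y.isBasis_affineOpens.exists_subset_of_mem_open (Set.mem_univ (g.base (f'.base x'))) isOpen_univ
  obtain ⟨_, ⟨(V' : Y'.Opens), hV', rfl⟩, hxV', hle⟩ :=
    Y'.isBasis_affineOpens.exists_subset_of_mem_open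
      (show f'.base x' ∈ (g ⁻¹ᵁ V : Set Y') from hxV) (g ⁻¹ᵁ V).isOpen
  let U := f ⁻¹ᵁ V
  let U' := f' ⁻¹ᵁ V'
  let gV : (V' : Scheme.{u}) ⟶ V := g.resLE V V' hle
  have hU'U : U' ≤ g' ⁻¹ᵁ U := fun z hz => by
    show f.base (g'.base z) ∈ V
    rw [← Scheme.Hom.comp_apply, h.w, Scheme.Hom.comp_apply]
    exact hle hz
  let gU : (U' : Scheme.{u}) ⟶ U := g'.resLE U U' hU'U
  have hsq : IsPullback gU (f' ∣_ V') (f ∣_ V) gV := by
    have h1 : IsPullback U.ι (f ∣_ V) f V.ι := (isPullback_morphismRestrict f V).flip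
    have h2 : IsPullback U'.ι (f' ∣_ V') f' V'.ι := (isPullback_morphismRestrict f' V').flip
    refine IsPullback.of_right ?_ ?_ h1
    · simp only [gU, gV, Scheme.Hom.resLE_comp_ι]
      exact h2.paste_horiz h
    · rw [← cancel_mono V.ι]
      simp only [Category.assoc, gU, gV, h1.w.symm, Scheme.Hom.resLE_comp_ι, Scheme.Hom.resLE_comp_ι_assoc,
        morphismRestrict_ι_assoc, h.w]
      rfl
  haveI : IsAffine (V : Scheme.{u}) := hV
  haveI : IsAffine (V' : Scheme.{u}) := hV'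
  haveI : IsAffineHom gV := inferInstance
  haveI : IsAffineHom gU := MorphismProperty.of_isPullback hsq.flip ‹IsAffineHom gV›
  haveI := Thomason.quasiCompact_ι U' (QuasiCompact.isCompact_preimage (f := f') _ V'.isOpen hV'.isCompact)
  haveI := QCohD.hasRpush U'.ι
  haveI := QCohD.hasRpush (f' ∣_ V')
  haveI := hasLpull (f' ∣_ V')
  haveI := hasLpull U'.ι
  have hz : IsZero ((rd U'.ι).obj C) := by
    refine isZero_of_hom_lpull_perfect U (QuasiCompact.isCompact_preimage (f := f) _ V.isOpen hV.isCompact) U' gU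
      (Scheme.Hom.resLE_comp_ι _ _) (QCohD.isQCohD_rd _ hC) fun Q hQ n x => ?_
    let Q' := (DCoh.Lpull g').obj Q
    have hQ' : DCoh.IsPerfect Q' := isPerfect_lpull g' hQ
    obtain ⟨e₁⟩ := nonempty_restrictD_rpush_iso f' V'
    have hz1 : IsZero ((DCoh.Rpush (f' ∣_ V')).obj ((rd U'.ι).obj ((R Q').obj C))) :=
      ((rd V'.ι).map_isZero (hR0 Q hQ)).of_iso (e₁.app _).symm
    obtain ⟨e₂⟩ := nonempty_lpull_o (f' ∣_ V') n
    haveI := isIso_wR U'.ι hQ' C
    obtain ⟨a₁⟩ := nonempty_rd_iso_lpull U'.ι ((R Q').obj C)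
    obtain ⟨a₂⟩ := nonempty_rd_iso_lpull U'.ι C
    obtain ⟨a₃⟩ := nonempty_rd_iso_lpull U'.ι Q'
    obtain ⟨a₄⟩ := Dual.nonempty_TObj_o ((DCoh.Lpull U'.ι).obj Q') n
    let b : (rd U'.ι).obj ((R Q').obj C) ≅
        (R ((DCoh.Lpull U'.ι).obj Q')).obj ((DCoh.Lpull U'.ι).obj C) :=
      a₁ ≪≫ @asIso _ _ _ _ (wR U'.ι Q' C) inferInstance
    have h0 : ∀ y : o (U' : Scheme.{u}) n ⟶ (rd U'.ι).obj ((R Q').obj C), y = 0 := fun y => by
      refine (cancel_epi e₂.hom).1 (Eq.trans ?_ comp_zero.symm)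
      apply ((lpullRpushAdj (f' ∣_ V')).homEquiv _ _).injective
      exact hz1.eq_of_tgt _ _
    have h1 : ∀ z : ((DCoh.Lpull U'.ι).obj Q')⟦n⟧ ⟶ (DCoh.Lpull U'.ι).obj C, z = 0 := fun z => by
      have h2 := h0 ((adjS _).homEquiv _ _ (a₄.hom ≫ z) ≫ b.inv)
      have h3 : (adjS _).homEquiv _ _ (a₄.hom ≫ z) = 0 := by
        rw [← cancel_mono b.inv, zero_comp]; exact h2
      have h4 : a₄.hom ≫ z = 0 := ((adjS _).homEquiv _ _).injective (by
        rw [h3, Adjunction.homEquiv_unit, Functor.map_zero, comp_zero])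
      exact (cancel_epi a₄.hom).1 (h4.trans comp_zero.symm)
    refine (cancel_epi (a₃.inv⟦n⟧')).1 (Eq.trans ?_ comp_zero.symm)
    exact (cancel_mono a₂.hom).1 ((h1 _).trans zero_comp.symm)
  by_contra hne
  exact Set.eq_empty_iff_forall_notMem.1
    (Thomason.support_eq_empty_of_isZero (M := DCoh.HD ((rd U'.ι).obj C) i)
      ((DerivedCategory.homologyFunctor _ i).map_isZero hz)) ⟨x', hxV'⟩
    ((Thomason.mem_support_rd U'.ι C i _).2 hne)

/-- The base change map is an isomorphism. -/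
theorem isIso_beta [CompactSpace X] [QuasiSeparatedSpace X] [CompactSpace X'] [QuasiSeparatedSpace X']
    [CompactSpace Y] [QuasiSeparatedSpace Y] [CompactSpace Y'] [QuasiSeparatedSpace Y']
    {f : X ⟶ Y} {f' : X' ⟶ Y'} {g : Y' ⟶ Y} {g' : X' ⟶ X} (h : IsPullback g' f' f g)
    [DCoh.HasRpush f] [DCoh.HasLpull f] [DCoh.HasRpush f'] [DCoh.HasLpull f']
    [DCoh.HasRpush g] [DCoh.HasLpull g] [DCoh.HasRpush g'] [DCoh.HasLpull g']
    {χ : DCoh.Lpull g ⋙ DCoh.Lpull f' ≅ DCoh.Lpull f ⋙ DCoh.Lpull g'} (hχ : IsMonoidalSq χ)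
    (hbc : ∀ E : DCoh.D X, DCoh.IsQCohD E → IsIso (bcD χ E))
    {L : DCoh.D X} (hL : DCoh.IsQCohD L) {K : DCoh.D Y} (t : (DCoh.Rpush f).obj L ⟶ K)
    (ht : ∀ V : DCoh.D X, DCoh.IsQCohD V →
      Function.Bijective fun x : V ⟶ L => (DCoh.Rpush f).map x ≫ t)
    {L' : DCoh.D X'} (hL' : DCoh.IsQCohD L') (t' : (DCoh.Rpush f').obj L' ⟶ (DCoh.Lpull g).obj K)
    (ht' : ∀ V : DCoh.D X', DCoh.IsQCohD V →
      Function.Bijective fun x : V ⟶ L' => (DCoh.Rpush f').map x ≫ t')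
    (hw : ∀ Q : DCoh.D X, DCoh.IsPerfect Q → IsIso (wR g ((DCoh.Rpush f).obj Q) K) ∧
      DCoh.IsQCohD ((R ((DCoh.Rpush f).obj Q)).obj K))
    (β : (DCoh.Lpull g').obj L ⟶ L')
    (hβ : bcD χ L ≫ (DCoh.Rpush f').map β ≫ t' = (DCoh.Lpull g).map t) : IsIso β := by
  haveI : QuasiCompact f := (quasiCompact_iff_compactSpace f).2 inferInstance
  haveI : QuasiSeparated f := (quasiSeparated_iff_quasiSeparatedSpace f).2 inferInstance
  haveI : QuasiCompact f' := (quasiCompact_iff_compactSpace f').2 inferInstance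
  haveI : QuasiSeparated f' := (quasiSeparated_iff_quasiSeparatedSpace f').2 inferInstance
  have key : ∀ Q : DCoh.D X, DCoh.IsPerfect Q → ∀ G : DCoh.D Y', Function.Bijective
      fun x : ((T X').obj ((DCoh.Lpull g').obj Q)).obj ((DCoh.Lpull f').obj G) ⟶ (DCoh.Lpull g').obj L =>
        x ≫ β := fun Q hQ G => by
    let Q' := (DCoh.Lpull g').obj Q
    have hQ' : DCoh.IsPerfect Q' := isPerfect_lpull g' hQ
    obtain ⟨hw₁, hw₂⟩ := hw Q hQ
    haveI := hw₁
    haveI := isIso_wR g' hQ L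
    have hqN := isQCohD_R_perfect hQ hL
    haveI := hbc _ hqN
    haveI := hbc Q (isQCohD_of_isPerfect hQ)
    haveI := isIso_Rmap (bcD χ Q) ((DCoh.Lpull g).obj K)
    haveI := isIso_alphaR f (isQCohD_of_isPerfect hQ) t ht (QCohD.isQCohD_rpush f hqN) hw₂
    have hq' : DCoh.IsQCohD ((R ((DCoh.Rpush f').obj Q')).obj ((DCoh.Lpull g).obj K)) :=
      QCohD.isQCohD_iso ((asIso (wR g ((DCoh.Rpush f).obj Q) K)) ≪≫
        (asIso (Rmap (bcD χ Q) ((DCoh.Lpull g).obj K))).symm) (QCohD.isQCohD_lpull g hw₂)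
    haveI := isIso_alphaR f' (isQCohD_of_isPerfect hQ') t' ht'
      (QCohD.isQCohD_rpush f' (isQCohD_R_perfect hQ' hL')) hq'
    haveI : IsIso ((DCoh.Rpush f').map ((R Q').map β)) := by
      have e := alphaR_baseChange hχ Q t t' β hβ
      haveI h1 : IsIso (bcD χ ((R Q).obj L) ≫ (DCoh.Rpush f').map (wR g' Q L) ≫
          (DCoh.Rpush f').map ((R Q').map β) ≫
            alphaR f' Q' t' ≫ Rmap (bcD χ Q) ((DCoh.Lpull g).obj K)) := e ▸ inferInstance
      haveI h2 := IsIso.of_isIso_comp_left (bcD χ ((R Q).obj L)) ((DCoh.Rpush f').map (wR g' Q L) ≫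
        (DCoh.Rpush f').map ((R Q').map β) ≫ alphaR f' Q' t' ≫ Rmap (bcD χ Q) ((DCoh.Lpull g).obj K))
      haveI h3 := IsIso.of_isIso_comp_left ((DCoh.Rpush f').map (wR g' Q L))
        ((DCoh.Rpush f').map ((R Q').map β) ≫ alphaR f' Q' t' ≫ Rmap (bcD χ Q) ((DCoh.Lpull g).obj K))
      exact IsIso.of_isIso_comp_right ((DCoh.Rpush f').map ((R Q').map β))
        (alphaR f' Q' t' ≫ Rmap (bcD χ Q) ((DCoh.Lpull g).obj K))
    let E := (adjS Q').comp (Adjunction.id (C := DCoh.D X'))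
    let e₀ : ∀ M, (((T X').obj Q').obj ((DCoh.Lpull f').obj G) ⟶ M) ≃
        (G ⟶ (DCoh.Rpush f').obj ((R Q').obj M)) :=
      fun M => ((adjS Q').homEquiv _ M).trans ((lpullRpushAdj f').homEquiv _ _)
    have e : (fun x : ((T X').obj Q').obj ((DCoh.Lpull f').obj G) ⟶ (DCoh.Lpull g').obj L => x ≫ β) =
        (e₀ L').symm ∘ (fun y => y ≫ (DCoh.Rpush f').map ((R Q').map β)) ∘ e₀ _ := by
      funext x
      apply (e₀ L').injective
      simp only [Function.comp_apply, Equiv.apply_symm_apply]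
      simp only [e₀, Equiv.trans_apply, Adjunction.homEquiv_naturality_right]
    rw [e]
    exact (e₀ L').symm.bijective.comp (Function.Bijective.comp
      ((Iso.refl G).homCongr (asIso ((DCoh.Rpush f').map ((R Q').map β))) |>.bijective |> fun hb => by
        convert hb using 1
        funext y
        simp) (e₀ _).bijective)
  obtain ⟨C, p, δ, hT⟩ := distinguished_cocone_triangle β
  have hC : IsZero C := by
    refine isZero_of_hom_perfect h (QCohD.AffineUnit.isQCohD_obj₃ hT (QCohD.isQCohD_lpull g' hL) hL') fun Q hQ G y => ?_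
    let Q' := (DCoh.Lpull g').obj Q
    letI := lpullCommShift f'
    obtain ⟨s₀⟩ := PTri.nonempty_shift_iso (ptri_TObj Q') ((DCoh.Lpull f').obj (G⟦(-1 : ℤ)⟧))
    let s : (((T X').obj Q').obj ((DCoh.Lpull f').obj (G⟦(-1 : ℤ)⟧)))⟦(1 : ℤ)⟧ ≅
        ((T X').obj Q').obj ((DCoh.Lpull f').obj G) :=
      s₀ ≪≫ ((T X').obj Q').mapIso ((((DCoh.Lpull f').commShiftIso (1 : ℤ)).app _).symm ≪≫
        (DCoh.Lpull f').mapIso ((shiftFunctorCompIsoId (DCoh.D Y') (-1 : ℤ) 1 (by omega)).app G))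
    have h1 : (y ≫ δ) ≫ β⟦(1 : ℤ)⟧' = 0 := by
      have := comp_distTriang_mor_zero₃₁ _ hT
      simp only [Triangle.mk_mor₁, Triangle.mk_mor₃] at this
      exact (Category.assoc _ _ _).trans ((congrArg (y ≫ ·) this).trans comp_zero)
    have h2 : y ≫ δ = 0 := by
      obtain ⟨z, hz⟩ := (shiftFunctor (DCoh.D X') (1 : ℤ)).map_surjective (s.hom ≫ y ≫ δ)
      have h3 : z ≫ β = 0 := (shiftFunctor (DCoh.D X') (1 : ℤ)).map_injective (by
        rw [Functor.map_comp, hz, Category.assoc, h1, comp_zero, Functor.map_zero])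
      have h4 : z = 0 := (key Q hQ _).1 (by simpa using h3)
      rw [h4, Functor.map_zero] at hz
      exact (cancel_epi s.hom).1 (hz.symm.trans comp_zero.symm)
    obtain ⟨z, hz⟩ := Triangle.coyoneda_exact₃ _ hT y h2
    obtain ⟨x, hx⟩ := (key Q hQ G).2 z
    rw [hz, ← hx]
    exact (Category.assoc _ _ _).trans ((congrArg (x ≫ ·) (comp_distTriang_mor_zero₁₂ _ hT)).trans comp_zero)
  exact (Triangle.isZero₃_iff_isIso₁ _ hT).1 hC

end Groth.Agent.LeadBrown
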