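import Groth.Agent.H4RepDual.PointScheme
import Groth.Agent.H4RepDual.FieldVan

/-!
# Being dualizing is local
-/

set_option autoImplicit false
set_option linter.style.haveILetI false
set_option linter.unusedSectionVars false
set_option backward.isDefEq.respectTransparency false

universe u

open CategoryTheory CategoryTheory.Limits AlgebraicGeometry
open DerivedCategory.TStructure
open Groth.Agent.H4DR.Dualizing (Loc loc)

attribute [local instance] HasDerivedCategory.standard

namespace Groth.Agent.LeadBrown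

open Groth.Agent.H16Derived Groth.Agent.H16Derived.KFlat.Stalk

variable {X : Scheme.{u}} [IsLocallyNoetherian X] [∀ (R : CommRingCat.{u}), PreservesFiniteLimits (tilde.functor R)]
  (K : DCoh.D X)
  (h : ∀ x : X, ∃ (A : Type u) (_ : CommRing A) (j : Spec (CommRingCat.of A) ⟶ X) (_ : IsOpenImmersion j),
    x ∈ Set.range j.base ∧ ∃ ω : Dual.D A, Dual.IsDualizing A ω ∧
      Nonempty ((rd j).obj K ≅ (DCoh.tildeD (CommRingCat.of A)).obj ω))

include h in
/-- Coherence from a cover by charts with dualizing complexes. -/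
theorem isCohD_of_dualizing_cover : DCoh.IsCohD K := by
  choose A iA j hj hx ω hω he using h
  refine H4RepDual.isCohD_of_charts (fun i => KFlat.Stalk.isQCoh_of_local _ fun x => ?_) fun x => ?_
  · obtain ⟨e⟩ := he x
    let k := (j x).isoOpensRange.inv
    have h0 : DCoh.IsQCohD ((rd (j x).opensRange.ι).obj K) :=
      QCohD.isQCohD_iso (rdComp k (j x) _ (j x).isoOpensRange_inv_comp K).symm
        (QCohD.isQCohD_rd k (QCohD.isQCohD_iso e.symm (QCohD.isQCohD_tildeD (CommRingCat.of (A x)) (ω x))))
    exact ⟨(j x).opensRange, hx x, QCohD.isQCoh_iso (homologyRdIso _ K i) (h0 i)⟩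
  · obtain ⟨e⟩ := he x
    haveI := (hω x).isNoetherianRing
    refine ⟨A x, iA x, j x, hj x, hx x, fun i => ?_⟩
    haveI := (hω x).finite_cohomology i
    exact H10Coh.isCoh_of_iso
      ((show tilde (R := CommRingCat.of (A x)) _ ≅ _ from (hdTilde (ω x) i).symm) ≪≫
        (DerivedCategory.homologyFunctor _ i).mapIso e.symm ≪≫ homologyRdIso (j x) K i)
      (@H10Coh.isCoh_tilde (CommRingCat.of (A x))
        ((DerivedCategory.homologyFunctor (ModuleCat.{u} (A x)) i).obj (ω x)) ‹_›)

include h in
/-- **Dualizing on a cover by affine opens is dualizing.** -/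
theorem isDualizingSch_of_cover
    [∀ (U : Scheme.{u}) (j : U ⟶ X) [IsOpenImmersion j], PreservesFiniteLimits (Scheme.Modules.restrictFunctor j)] :
    Dual2.IsDualizingSch X K := by
  classical
  have hcoh := isCohD_of_dualizing_cover K h
  choose A iA j hj hx ω hω he using h
  intro B _ l _
  haveI : IsNoetherianRing B := isLocallyNoetherian_Spec.1 (isLocallyNoetherian_of_isOpenImmersion l)
  let S := Spec (CommRingCat.of B)
  let E : DCoh.D S := (rd l).obj K
  obtain ⟨T, hT⟩ := CompactSpace.elim_nhds_subcover (fun y : S => l.base ⁻¹' Set.range (j (l.base y)).base)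
    (fun y => ((j _).isOpenEmbedding.isOpen_range.preimage l.continuous).mem_nhds (hx _))
  choose lo hi hlo using fun x => H4DR.Dualizing.exists_bounds (hω x)
  obtain ⟨c, hc⟩ := (T.finite_toSet.image fun y => lo (l.base y)).bddBelow
  have hcov : ∀ y : S, ∃ z, z ∈ T ∧ l.base y ∈ Set.range (j (l.base z)).base := fun y => by
    obtain ⟨z, hz, hy⟩ := Set.mem_iUnion₂.1 (hT.ge (Set.mem_univ y))
    exact ⟨z, hz, hy⟩
  have hE : E.IsGE c := (DerivedCategory.isGE_iff _ _).2 fun i hi' => by
    refine (Thomason.isZero_hd_iff _ i).2 (Set.eq_empty_iff_forall_notMem.2 fun y hy => ?_)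
    obtain ⟨z, hz, w, hw⟩ := hcov y
    obtain ⟨e⟩ := he (l.base z)
    have h1 := (Thomason.mem_support_rd (j (l.base z)) K i w).2 (hw.symm ▸ (Thomason.mem_support_rd l K i y).1 hy)
    have h2 : IsZero (DCoh.HD ((DCoh.tildeD (CommRingCat.of (A (l.base z)))).obj (ω (l.base z))) i) := by
      haveI := hlo (l.base z) i (Or.inl (lt_of_lt_of_le hi' (hc (Set.mem_image_of_mem _ hz))))
      exact ((tf (A (l.base z))).map_isZero (ModuleCat.isZero_of_subsingleton
        ((DerivedCategory.homologyFunctor (ModuleCat.{u} (A (l.base z))) i).obj (ω (l.base z))))).of_iso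
          (hdTilde (ω (l.base z)) i)
    rw [Thomason.support_eq_empty_of_isZero
      (h2.of_iso ((DerivedCategory.homologyFunctor _ i).mapIso e))] at h1
    exact h1
  have hdim : ringKrullDim B < ⊤ := by
    have hX : topologicalKrullDim S ≤ T.sup fun z => topologicalKrullDim
        (l ⁻¹ᵁ (j (l.base z)).opensRange : S.Opens) :=
      S1416.dim_le_of_cover _ fun y => by
        obtain ⟨z, hz, hy⟩ := hcov y
        exact ⟨_, (l ⁻¹ᵁ (j (l.base z)).opensRange).isOpen, hy,
          Finset.le_sup (f := fun z => topologicalKrullDim (l ⁻¹ᵁ (j (l.base z)).opensRange : S.Opens)) hz⟩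
    rw [← PrimeSpectrum.topologicalKrullDim_eq_ringKrullDim]
    refine hX.trans_lt ((Finset.sup_lt_iff bot_lt_top).2 fun z _ => ?_)
    let V := l ⁻¹ᵁ (j (l.base z)).opensRange
    let v : (V : Scheme.{u}) ⟶ Spec (CommRingCat.of (A (l.base z))) :=
      IsOpenImmersion.lift (j (l.base z)) (V.ι ≫ l) (by rintro _ ⟨y, rfl⟩; exact y.2)
    haveI : IsOpenImmersion (v ≫ j (l.base z)) := by rw [IsOpenImmersion.lift_fac]; infer_instance
    haveI : IsOpenImmersion v := IsOpenImmersion.of_comp v (j (l.base z))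
    refine (v.isOpenEmbedding.isInducing.topologicalKrullDim_le).trans_lt ?_
    show topologicalKrullDim (PrimeSpectrum (A (l.base z))) < ⊤
    rw [PrimeSpectrum.topologicalKrullDim_eq_ringKrullDim]
    haveI := (hω (l.base z)).isNoetherianRing
    exact H4DR.Dualizing.ringKrullDim_lt_top (hω (l.base z))
  obtain ⟨ωB, ⟨eB⟩, hfin, hlow⟩ := H4RepDual.exists_chart_model (𝟙 S) E
    (Exchange.isCohD_rd l hcoh) c hE
  let eB' : (DCoh.tildeD (CommRingCat.of B)).obj ωB ≅ E := eB ≪≫ (H4RepDual.nonempty_rd_id E).some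
  refine ⟨ωB, H4DR.Dualizing.isDualizing_of_pointwise hdim ωB hfin ⟨c, hlow⟩ fun p => ?_, ⟨eB'.symm⟩⟩
  obtain ⟨q, hq⟩ := hx (l.base p)
  obtain ⟨e⟩ := he (l.base p)
  haveI := (hω (l.base p)).isNoetherianRing
  refine H4RepDual.isDualizing_loc_chart K l (j (l.base p)) ωB (ω (l.base p)) eB' e.symm p q hq.symm ?_
  haveI : Module.Flat (A (l.base p)) (Loc (show PrimeSpectrum (A (l.base p)) from q)) := IsLocalization.flat _ (show PrimeSpectrum (A (l.base p)) from q).asIdeal.primeCompl
  haveI : IsNoetherianRing (Loc (show PrimeSpectrum (A (l.base p)) from q)) :=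
    IsLocalization.isNoetherianRing (show PrimeSpectrum (A (l.base p)) from q).asIdeal.primeCompl _ ‹_›
  exact H4DR.FlatBC.isDualizing_localization (show PrimeSpectrum (A (l.base p)) from q).asIdeal.primeCompl (hω (l.base p))

end Groth.Agent.LeadBrown
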