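import Groth.Agent.LeadBrown.Independent

/-!
# Base change of the right adjoint to an open, as an isomorphism of functors
-/

set_option autoImplicit false
set_option linter.style.haveILetI false
set_option linter.unusedSectionVars false

universe u

open CategoryTheory CategoryTheory.Limits AlgebraicGeometry CategoryTheory.Pretriangulated

attribute [local instance] HasDerivedCategory.standard

namespace Groth.Agent.LeadBrown

open Groth.Agent.H16Derived Groth.Agent.H16Derived.Thomason Groth.Agent.H16Derived.KFlat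
open Groth.Agent.H16Derived.KFlat.Stalk (rd)
attribute [local instance] hasCoproducts_D small_hom

variable {Z W V ZV : Scheme.{u}} [IsNoetherian W] {p : Z ⟶ W} [IsProper p] [DCoh.HasRpush p]
  {hp : DCoh.RpushPreservesQCoh p} {a : DCoh.DQCoh W ⥤ DCoh.DQCoh Z} (adj : DCoh.RpushQ p hp ⊣ a)
  (j : V ⟶ W) [IsOpenImmersion j] (j' : ZV ⟶ Z) [IsOpenImmersion j'] [QuasiCompact j] [QuasiCompact j']
  {q : ZV ⟶ V} [DCoh.HasRpush q] {hq : DCoh.RpushPreservesQCoh q}
  {b : DCoh.DQCoh V ⥤ DCoh.DQCoh ZV} (adjq : DCoh.RpushQ q hq ⊣ b)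
  (w : j' ≫ p = q ≫ j) (hrange : Set.range j'.base = p.base ⁻¹' Set.range j.base)

include adj adjq w hrange in
/-- `(a L)|_{Z_V} ≅ b (L|_V)` for bounded below `L`. -/
theorem exists_bc (T : DCoh.DQCoh W → DCoh.DQCoh V) (hT : ∀ L, (T L).obj = (rd j).obj L.obj) :
    ∃ (θ : ∀ L : DCoh.DQCoh W, (rd j').obj (a.obj L).obj ⟶ (b.obj (T L)).obj),
      (∀ (L L' : DCoh.DQCoh W) (k : L ⟶ L') (k' : T L ⟶ T L'),
        k'.hom ≫ eqToHom (hT L') = eqToHom (hT L) ≫ (rd j).map k.hom →
        (rd j').map (a.map k).hom ≫ θ L' = θ L ≫ (b.map k').hom) ∧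
      ∀ (L : DCoh.DQCoh W) (c : ℤ), L.obj.IsGE c → IsIso (θ L) := by
  haveI : CompactSpace Z := QuasiCompact.compactSpace_of_compactSpace p
  haveI : QuasiSeparatedSpace Z := quasiSeparatedSpace_of_quasiSeparated p
  haveI := QCohD.hasRpush j
  haveI := QCohD.hasRpush j'
  haveI : QuasiSeparated j := inferInstance
  let S := fun L : DCoh.DQCoh W => trV adj j j' q w hrange L ≫ eqToHom (hT L).symm
  have hB : ∀ L, DCoh.IsQCohD ((rd j').obj (a.obj L).obj) := fun L => QCohD.isQCohD_rd _ (a.obj L).property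
  let θ : ∀ L : DCoh.DQCoh W, (rd j').obj (a.obj L).obj ⟶ (b.obj (T L)).obj := fun L =>
    (homEquivD adjq _ (hB L) (T L)).symm (S L)
  refine ⟨θ, fun L L' k k' hk => ?_, fun L c hc => ?_⟩
  · apply (homEquivD adjq _ (hB L) (T L')).injective
    rw [homEquivD_comp adjq (hB L') (hB L), homEquivD_map, Equiv.apply_symm_apply, Equiv.apply_symm_apply]
    simp only [S]
    rw [← Category.assoc, trV_naturality]
    simp only [Category.assoc]
    congr 1
    rw [eq_comm, eqToHom_comp_iff, ← Category.assoc, ← hk, Category.assoc, eqToHom_trans, eqToHom_refl,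
      Category.comp_id]
  · let B₀ : DCoh.DQCoh ZV := ⟨(rd j').obj (a.obj L).obj, hB L⟩
    let φ₀ : B₀ ⟶ b.obj (T L) := ObjectProperty.homMk (θ L)
    have hu := univ_of_isGE adj j j' q w hrange L c hc
    have hb : ∀ B : DCoh.DQCoh ZV, Function.Bijective fun g : B ⟶ B₀ => g ≫ φ₀ := fun B => by
      have key : ∀ g : B.obj ⟶ B₀.obj, homEquivD adjq B.obj B.property (T L) (g ≫ θ L) =
          ((DCoh.Rpush q).map g ≫ trV adj j j' q w hrange L) ≫ eqToHom (hT L).symm := fun g => by
        rw [homEquivD_comp adjq (hB L) B.property, Equiv.apply_symm_apply, Category.assoc]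
      constructor
      · intro g g' h
        refine ObjectProperty.hom_ext _ ((hu B.obj B.property).1 ?_)
        have h' := congrArg (homEquivD adjq B.obj B.property (T L)) (congrArg (fun z => z.hom) h)
        erw [key, key] at h'
        exact (cancel_mono (eqToHom (hT L).symm)).1 h'
      · intro h
        obtain ⟨g, hg⟩ := (hu B.obj B.property).2 (homEquivD adjq B.obj B.property (T L) h.hom ≫ eqToHom (hT L))
        refine ⟨ObjectProperty.homMk g, ObjectProperty.hom_ext _ ?_⟩
        apply (homEquivD adjq B.obj B.property (T L)).injective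
        show homEquivD adjq B.obj B.property (T L) (g ≫ θ L) = _
        rw [key, show (DCoh.Rpush q).map g ≫ trV adj j j' q w hrange L = _ from hg, Category.assoc,
          eqToHom_trans, eqToHom_refl, Category.comp_id]
    haveI : IsIso φ₀ := by
      obtain ⟨s, hs⟩ := (hb (b.obj (T L))).2 (𝟙 _)
      exact ⟨s, (hb B₀).1 (show (φ₀ ≫ s) ≫ φ₀ = 𝟙 B₀ ≫ φ₀ by
        rw [Category.assoc, show s ≫ φ₀ = 𝟙 _ from hs, Category.comp_id, Category.id_comp]), hs⟩
    exact inferInstanceAs (IsIso ((ObjectProperty.ι _).map φ₀))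

end Groth.Agent.LeadBrown
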