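import Groth.Agent.LeadBrown.Criterion
import Groth.Agent.LeadBrown.CompShriek
import Groth.Agent.H11Ample.ImmersionPn
import Groth.Agent.H11Ample.RelQuasiAffine
import Groth.Agent.H11Ample.Converse
import Groth.Agent.H27Weil.Geometry

/-!
# Coherence of the right adjoint of a proper direct image
-/

set_option autoImplicit false
set_option linter.style.haveILetI false
set_option linter.unusedSectionVars false
set_option backward.isDefEq.respectTransparency false

universe u

open CategoryTheory CategoryTheory.Limits AlgebraicGeometry CategoryTheory.Pretriangulated Opposite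

attribute [local instance] HasDerivedCategory.standard

namespace Groth.Agent.LeadBrown

open Groth.Agent.H16Derived Groth.Agent.H16Derived.Thomason Groth.Agent.H16Derived.KFlat
open Groth.Agent.H16Derived.KFlat.Stalk (rd)
open Groth.Agent.H16Derived.GenAmple (tw ns exact_tw val_res)
open Groth.Agent.H11Ample (pullTop)
open CohB1
attribute [local instance] hasCoproducts_D small_hom

variable {X Y Z : Scheme.{u}}

/-- Coherence is local. -/
theorem isCohD_of_local {E : DCoh.D X} (hq : DCoh.IsQCohD E)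
    (h : ∀ x : X, ∃ U : X.Opens, x ∈ U ∧ DCoh.IsCohD ((rd U.ι).obj E)) : DCoh.IsCohD E := by
  intro m
  choose U hxU hU using h
  choose W hW hxW hle using fun x => exists_isAffineOpen_mem_and_subset (x := x) (U := U x) (hxU x)
  refine ⟨hq m, (@H10Coh.isFT_isFP_of_affineCover _ _ (hq m) X W ?_ hW fun x => ?_).1⟩
  · exact TopologicalSpace.IsOpenCover.mk (top_unique fun x _ => TopologicalSpace.Opens.mem_iSup.2 ⟨x, hxW x⟩)
  · obtain ⟨k⟩ := MVPush.nonempty_hd_restrict_iso (U x) E m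
    have hc : Coh.IsCoh ((Scheme.Modules.restrictFunctor (U x).ι).obj (DCoh.HD E m)) :=
      H10Coh.isCoh_of_iso k (hU x m)
    have hle' : W x ≤ U x := hle x
    have himg : (U x).ι ''ᵁ ((U x).ι ⁻¹ᵁ W x) = W x := by
      rw [Scheme.Hom.image_preimage_eq_opensRange_inf, Scheme.Opens.opensRange_ι, inf_eq_right.2 hle']
    have haff : IsAffineOpen ((U x).ι ⁻¹ᵁ W x) :=
      ((U x).ι.isAffineOpen_iff_of_isOpenImmersion).1 (by rw [himg]; exact hW x)
    exact H10Coh.finite_of_eq (DCoh.HD E m) himg ((H10Coh.finite_restrict_iff (U x).ι (DCoh.HD E m) _).1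
      (((H10Coh.isCoh_iff_finite_sections _).1 hc).2 _ haff))

/-- The projective case. -/
theorem isCohD_of_sections [IsAffine Y] [IsNoetherian Y] (g : Z ⟶ Y) [IsProper g] [DCoh.HasRpush g]
    {hg : DCoh.RpushPreservesQCoh g} {a : DCoh.DQCoh Y ⥤ DCoh.DQCoh Z} (adj : DCoh.RpushQ g hg ⊣ a)
    {L : Z.Modules} (hL : PicF.IsInvertible L) {τ : Type} [Finite τ] (t : τ → (Coh.structureModule Z ⟶ L))
    (hcov : ∀ z : Z, ∃ i, z ∈ ns (t i)) (haff : ∀ i, IsAffineOpen (ns (t i)))
    (K : DCoh.DQCoh Y) (c : ℤ) (hKc : K.obj.IsGE c) (hK : DCoh.IsCohD K.obj) :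
    DCoh.IsCohD (a.obj K).obj := by
  obtain ⟨_, _⟩ := exact_tw (L := L) hL
  haveI : CompactSpace Z := QuasiCompact.compactSpace_of_compactSpace g
  haveI : QuasiSeparatedSpace Z := quasiSeparatedSpace_of_quasiSeparated g
  haveI : IsLocallyNoetherian Z := LocallyOfFiniteType.isLocallyNoetherian g
  haveI : IsNoetherianRing Γ(Y, ⊤) := IsLocallyNoetherian.component_noetherian ⟨⊤, isAffineOpen_top Y⟩
  haveI := hKc
  refine isCohD_of_allFin (ρ := (g.appTop.hom).comp (RingHom.id Γ(Y, ⊤))) hL t hcov haff (a.obj K).property ?_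
  intro P hP
  obtain ⟨hc, ⟨p, hp⟩, b, hb⟩ := hP
  haveI : P.IsGE p := hp
  haveI : P.IsLE b := hb
  obtain ⟨hRc, c', hc'⟩ := Exchange.isCohD_rpush_proper g P p b hc
  exact Fin'.of_adj adj (RingHom.id Γ(Y, ⊤)) (fun i => (hc i).1) K (fin_affine K.obj hK c c' _ hRc hc')

/-- Closed subschemes of projective space over an affine base. -/
theorem exists_sections [IsAffine Y] {n : ℕ} (i : Z ⟶ CohB1.ProjSpaceOver n Y) [IsAffineHom i] :
    ∃ (L : Z.Modules) (t : Fin (n + 1) → (Coh.structureModule Z ⟶ L)), PicF.IsInvertible L ∧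
      (∀ z : Z, ∃ k, z ∈ ns (t k)) ∧ ∀ k, IsAffineOpen (ns (t k)) := by
  let t₀ := specULiftZIsTerminal.from Y
  let p₁ : CohB1.ProjSpaceOver n Y ⟶ ProjSpace n (ULift.{u} ℤ) :=
    pullback.fst (ProjSpace.toSpec n (ULift.{u} ℤ)) t₀
  haveI : IsAffineHom t₀ := inferInstance
  haveI : IsAffineHom p₁ := MorphismProperty.pullback_fst (P := @IsAffineHom) _ _ inferInstance
  let h := i ≫ p₁
  haveI : IsAffineHom h := inferInstanceAs (IsAffineHom (i ≫ p₁))
  let T := Twist.twistProjSpace n (ULift.{u} ℤ) 1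
  let L := (Scheme.Modules.pullback h).obj T
  let v : Fin (n + 1) → Γ(L, ⊤) := fun k => pullTop h (L := T) (ProjUP.coord n (ULift.{u} ℤ) k)
  let t := fun k => H11Tilde.homOfGlobal L (v k)
  have hns : ∀ k, ns (t k) = h ⁻¹ᵁ H11Ample.gen T (ProjUP.coord n (ULift.{u} ℤ) k) := fun k => by
    have hv : SecTwist.val (t k) ⊤ = v k := by
      show (H11Tilde.homOfGlobal L (v k)).app ⊤ (1 : Γ(Z, ⊤)) = v k
      rw [H11Tilde.homOfGlobal_app, H10Coh.mres_self]
      exact one_smul _ _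
    show H11Ample.gen L (SecTwist.val (t k) ⊤) = _
    rw [hv, ← H11Ample.gen_smul_pullSect h H11Ample.isInvertible_twist _ (isUnit_one (M := Γ(Z, ⊤))), one_smul]
  refine ⟨L, t, H11Ample.isInvertible_pullback h H11Ample.isInvertible_twist, fun z => ?_, fun k => ?_⟩
  · obtain ⟨k, hk⟩ := H11Ample.exists_mem_basicOpen_X (h z)
    exact ⟨k, by rw [hns, H11Ample.gen_coord]; exact hk⟩
  · rw [hns]
    exact (H11Ample.isAffineOpen_gen_coord k).preimage h

/-- The case of an affine base. -/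
theorem isCohD_of_isAffine [IsAffine Y] [IsNoetherian Y] (f : X ⟶ Y) [IsProper f] [DCoh.HasRpush f]
    {hf : DCoh.RpushPreservesQCoh f} {a : DCoh.DQCoh Y ⥤ DCoh.DQCoh X} (adj : DCoh.RpushQ f hf ⊣ a)
    (K : DCoh.DQCoh Y) (c : ℤ) (hKc : K.obj.IsGE c) (hK : DCoh.IsCohD K.obj) :
    DCoh.IsCohD (a.obj K).obj := by
  haveI : CompactSpace X := QuasiCompact.compactSpace_of_compactSpace f
  haveI : IsLocallyNoetherian X := LocallyOfFiniteType.isLocallyNoetherian f
  refine isCohD_of_local (a.obj K).property fun x => ?_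
  obtain ⟨U, hU, hxU, -⟩ := exists_isAffineOpen_mem_and_subset (x := x) (U := (⊤ : X.Opens)) trivial
  refine ⟨U, hxU, ?_⟩
  haveI : IsAffine (U : Scheme.{u}) := hU
  haveI : IsNoetherian (U : Scheme.{u}) := { }
  have hA : CohB1.IsAmple (Coh.structureModule (U : Scheme.{u})) :=
    H11Ample.isQuasiAffine_iff_isAmple.1 inferInstance
  obtain ⟨n, i, hi, hiq⟩ := H11Ample.exists_immersion_projSpaceOver (U.ι ≫ f) hA
  haveI := hi
  haveI : IsProper (CohB1.ProjSpaceOver.toBase n Y) := H27Weil.isProper_toBase n Y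
  haveI : QuasiSeparatedSpace (CohB1.ProjSpaceOver n Y) :=
    quasiSeparatedSpace_of_quasiSeparated (CohB1.ProjSpaceOver.toBase n Y)
  haveI : QuasiCompact i := quasiCompact_of_compactSpace i
  let g := i.imageι ≫ CohB1.ProjSpaceOver.toBase n Y
  haveI : IsProper g := inferInstanceAs (IsProper (i.imageι ≫ _))
  haveI := QCohD.hasRpush g
  haveI : CompactSpace i.image := QuasiCompact.compactSpace_of_compactSpace g
  haveI : QuasiSeparatedSpace i.image := quasiSeparatedSpace_of_quasiSeparated g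
  have hg : DCoh.RpushPreservesQCoh g := fun K hK => QCohD.isQCohD_rpush g hK
  haveI := isLeftAdjoint_rpushQ g hg
  have adjZ : DCoh.RpushQ g hg ⊣ (DCoh.RpushQ g hg).rightAdjoint := Adjunction.ofIsLeftAdjoint _
  obtain ⟨L, t, hL, hcov, haff⟩ := exists_sections i.imageι
  have hZ := isCohD_of_sections g adjZ hL t hcov haff K c hKc hK
  let c₁ : DEt.Compactification (U.ι ≫ f) :=
    { Xbar := X, j := U.ι, fbar := f, isOpenImmersion := inferInstance, isProper := inferInstance, fac := rfl }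
  let c₂ : DEt.Compactification (U.ι ≫ f) :=
    { Xbar := i.image, j := i.toImage, fbar := g, isOpenImmersion := inferInstance, isProper := inferInstance
      fac := by rw [← Category.assoc, Scheme.Hom.toImage_imageι]; exact hiq }
  haveI : DCoh.HasRpush c₁.fbar := ‹DCoh.HasRpush f›
  haveI : DCoh.HasRpush c₂.fbar := ‹DCoh.HasRpush g›
  obtain ⟨e⟩ := nonempty_shriekC_independent c₁ c₂ (h₁ := hf) (h₂ := hg) adj adjZ
  exact Dual.isCohD_iso (e.app ⟨K, c, hKc⟩).symm
    (fun m => H10Coh.isCoh_of_iso (Stalk.homologyRdIso i.toImage _ m).symm (H10Coh.isCoh_restrict i.toImage _ (hZ m)))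

/-- **Coherence of `a(K)` for a proper morphism.** -/
theorem isCohD_rightAdjoint [IsNoetherian Y] (f : X ⟶ Y) [IsProper f] [DCoh.HasRpush f]
    {hf : DCoh.RpushPreservesQCoh f} {a : DCoh.DQCoh Y ⥤ DCoh.DQCoh X} (adj : DCoh.RpushQ f hf ⊣ a)
    (K : DCoh.DQCoh Y) (c : ℤ) (hKc : K.obj.IsGE c) (hK : DCoh.IsCohD K.obj) :
    DCoh.IsCohD (a.obj K).obj := by
  haveI : CompactSpace X := QuasiCompact.compactSpace_of_compactSpace f
  haveI : IsLocallyNoetherian X := LocallyOfFiniteType.isLocallyNoetherian f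
  refine isCohD_of_local (a.obj K).property fun x => ?_
  obtain ⟨V, hV, hxV, -⟩ := exists_isAffineOpen_mem_and_subset (x := f x) (U := (⊤ : Y.Opens)) trivial
  refine ⟨f ⁻¹ᵁ V, hxV, ?_⟩
  haveI : IsAffine (V : Scheme.{u}) := hV
  haveI : IsNoetherian (V : Scheme.{u}) := { }
  let q := f ∣_ V
  haveI : IsProper q := inferInstance
  haveI : CompactSpace (f ⁻¹ᵁ V : Scheme.{u}) := QuasiCompact.compactSpace_of_compactSpace q
  haveI : QuasiSeparatedSpace (f ⁻¹ᵁ V : Scheme.{u}) := quasiSeparatedSpace_of_quasiSeparated q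
  haveI := QCohD.hasRpush q
  have hq : DCoh.RpushPreservesQCoh q := fun K hK => QCohD.isQCohD_rpush q hK
  haveI := isLeftAdjoint_rpushQ q hq
  have adjq : DCoh.RpushQ q hq ⊣ (DCoh.RpushQ q hq).rightAdjoint := Adjunction.ofIsLeftAdjoint _
  haveI : QuasiCompact V.ι := quasiCompact_ι V hV.isCompact
  haveI : QuasiSeparatedSpace X := quasiSeparatedSpace_of_quasiSeparated f
  haveI : QuasiCompact (f ⁻¹ᵁ V).ι := quasiCompact_ι _ (f.isCompact_preimage hV.isCompact)
  obtain ⟨θ, -, hθ⟩ := exists_bc (a := a) adj V.ι (f ⁻¹ᵁ V).ι adjq (morphismRestrict_ι f V).symm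
    (by rw [Scheme.Opens.range_ι, Scheme.Opens.range_ι]; rfl)
    (fun L => ⟨(rd V.ι).obj L.obj, QCohD.isQCohD_rd V.ι L.property⟩) fun L => rfl
  haveI := hθ K c hKc
  refine Dual.isCohD_iso (asIso (θ K)).symm ?_
  exact isCohD_of_isAffine q adjq ⟨(rd V.ι).obj K.obj, QCohD.isQCohD_rd V.ι K.property⟩ c
    (isGE_rd' V.ι K.obj c hKc) (Dual.isCohD_rd V hK)

end Groth.Agent.LeadBrown
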