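import Groth.Agent.LeadBrown.Scalar
import Groth.Agent.H16Derived.PnD.Unit
import Groth.Agent.H16Derived.QCohD.HomVanish

/-!
# Morphisms out of the structure sheaf of an affine scheme
-/

set_option autoImplicit false
set_option linter.style.haveILetI false
set_option linter.unusedSectionVars false
set_option backward.isDefEq.respectTransparency false

universe u

open CategoryTheory CategoryTheory.Limits CategoryTheory.Pretriangulated AlgebraicGeometry

attribute [local instance] HasDerivedCategory.standard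

namespace Groth.Agent.LeadBrown

open Groth.Agent.H16Derived Groth.Agent.H11Tilde Groth.Agent.H11Ample Groth.Agent.H10Coh
open Groth.Agent.H16Derived.QCohD
open Groth.Agent.H17.ExtRegVanish

variable {X : Scheme.{u}}

/-- The structure sheaf in degree `0`. -/
noncomputable abbrev oX (X : Scheme.{u}) : DCoh.D X := DCoh.inD X (Coh.structureModule X)

/-- `O[m]` as a single complex on the free module of rank one. -/
noncomputable def oXShiftIso (X : Scheme.{u}) (m : ℤ) :
    (oX X)⟦m⟧ ≅ (DerivedCategory.singleFunctor X.Modules (-m)).obj (freeSh (⊤ : X.Opens)) :=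
  (shiftFunctor _ m).mapIso ((DerivedCategory.singleFunctor X.Modules 0).mapIso freeShTopIso.symm) ≪≫
    ((DerivedCategory.singleFunctors X.Modules).shiftIso m (-m) 0 (by omega)).app _

theorem hom_oX_eq_zero_of_hd [IsAffine X] {K : DCoh.D X} (hK : DCoh.IsQCohD K) (m : ℤ)
    (h : IsZero (DCoh.HD K (-m))) (φ : (oX X)⟦m⟧ ⟶ K) : φ = 0 := by
  rw [← cancel_epi (oXShiftIso X m).inv, comp_zero]
  exact (bijective_θ_affine hK (isAffineOpen_top X) (-m)).1 (h.eq_of_tgt _ _)

theorem isQCohD_oX (X : Scheme.{u}) : DCoh.IsQCohD (oX X) :=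
  ProjFormula.isQCohD_single_structure X 0

/-- `Hom(O[m], O[n]) = 0` for `m ≠ n` on an affine scheme. -/
theorem hom_oX_oX_eq_zero [IsAffine X] {m n : ℤ} (h : m ≠ n) (φ : (oX X)⟦m⟧ ⟶ (oX X)⟦n⟧) : φ = 0 := by
  refine hom_oX_eq_zero_of_hd (HomVanish.isQCohD_shift (isQCohD_oX X) n) m ?_ φ
  exact ((KFlat.Stalk.isZero_hdInD (Coh.structureModule X) (-m + n) (by omega)).of_iso
    (((DerivedCategory.homologyFunctor X.Modules 0).shiftIso n (-m) (-m + n) (by omega)).app _))

/-- Multiplication on a single complex. -/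
theorem muC_single (r : Γ(X, ⊤)) (M : X.Modules) :
    muC r ((CochainComplex.singleFunctor X.Modules 0).obj M) =
      (CochainComplex.singleFunctor X.Modules 0).map (mulEnd r M) := by
  refine HomologicalComplex.from_single_hom_ext ?_
  erw [HomologicalComplex.single_map_f_self]
  refine (cancel_epi (HomologicalComplex.singleObjXSelf (ComplexShape.up ℤ) 0 M).inv).1 ?_
  rw [Iso.inv_hom_id_assoc]
  exact mulEnd_natural r (HomologicalComplex.singleObjXSelf (ComplexShape.up ℤ) 0 M).inv

theorem mu_inD (r : Γ(X, ⊤)) (M : X.Modules) :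
    (mu r).app (DCoh.inD X M) = (DerivedCategory.singleFunctor X.Modules 0).map (mulEnd r M) := by
  let e := (DerivedCategory.singleFunctorIsoCompQ X.Modules 0).app M
  rw [← cancel_mono e.hom]
  refine (mu_naturality r e.hom).symm.trans ?_
  refine Eq.trans ?_ ((DerivedCategory.singleFunctorIsoCompQ X.Modules 0).hom.naturality _).symm
  refine congrArg (e.hom ≫ ·) ?_
  exact (mu_Q r _).trans (congrArg DerivedCategory.Q.map (muC_single r M))

theorem mulEnd_one_apply (a : Γ(X, ⊤)) :
    (mulEnd a (Coh.structureModule X)).app ⊤ (H11Ample.one ⊤) = a := by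
  rw [mulEnd_app]
  show res ⊤ a * (1 : Γ(X, ⊤)) = a
  rw [mul_one]
  show X.presheaf.map (homOfLE le_top).op a = a
  simp

/-- Every endomorphism of the structure sheaf is a multiplication. -/
theorem exists_mulEnd (g : Coh.structureModule X ⟶ Coh.structureModule X) :
    ∃ a : Γ(X, ⊤), g = mulEnd a _ := by
  refine ⟨g.app ⊤ (H11Ample.one ⊤), ?_⟩
  exact KFlat.Stalk.unit_hom_ext _ _ (mulEnd_one_apply _).symm

/-- `Γ(O) ⟶ End(O[0])` is bijective. -/
theorem mu_oX_bijective : Function.Bijective (fun a : Γ(X, ⊤) => (mu a).app (oX X)) := by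
  constructor
  · intro a b h
    simp only [mu_inD] at h
    have := congrArg (fun g => g.app ⊤ (H11Ample.one ⊤))
      ((DerivedCategory.singleFunctor X.Modules 0).map_injective h)
    simp only at this
    rwa [mulEnd_one_apply, mulEnd_one_apply] at this
  · intro φ
    obtain ⟨g, rfl⟩ := (DerivedCategory.singleFunctor X.Modules 0).map_surjective φ
    obtain ⟨a, rfl⟩ := exists_mulEnd g
    exact ⟨a, mu_inD a _⟩

theorem muC_shift (r : Γ(X, ⊤)) (C : CochainComplex X.Modules ℤ) (n : ℤ) :
    muC r (C⟦n⟧) = (muC r C)⟦n⟧' :=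
  HomologicalComplex.Hom.ext (funext fun _ => rfl)

/-- Multiplication commutes with shifts. -/
theorem mu_shift (r : Γ(X, ⊤)) (E : DCoh.D X) (n : ℤ) : (mu r).app (E⟦n⟧) = ((mu r).app E)⟦n⟧' := by
  obtain ⟨C, ⟨e⟩⟩ : ∃ C : CochainComplex X.Modules ℤ, Nonempty (DerivedCategory.Q.obj C ≅ E) :=
    ⟨_, ⟨DerivedCategory.Q.objObjPreimageIso E⟩⟩
  rw [← cancel_epi ((shiftFunctor (DCoh.D X) n).map e.hom), mu_naturality, ← Functor.map_comp, mu_naturality,
    Functor.map_comp]
  refine congrArg (· ≫ _) ?_
  let σ := (DerivedCategory.Q (C := X.Modules)).commShiftIso n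
  rw [mu_Q, ← cancel_epi (σ.hom.app C)]
  refine (mu_naturality r (σ.hom.app C)).trans ?_
  refine Eq.trans ?_ (σ.hom.naturality (muC r C))
  refine congrArg (· ≫ σ.hom.app C) ?_
  exact (mu_Q r _).trans (congrArg DerivedCategory.Q.map (muC_shift r C n))

end Groth.Agent.LeadBrown
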