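import Groth.Agent.LeadBrown.RHomPull
import Groth.Agent.LeadBrown.BCCore
import Groth.Agent.H16Derived.Dual.Main

/-!
# `Rf_* RHom(P, -)` for perfect `P` detects isomorphisms in `D_QCoh`
-/

set_option autoImplicit false
set_option linter.style.haveILetI false
set_option linter.unusedSectionVars false

universe u

open CategoryTheory CategoryTheory.Limits AlgebraicGeometry CategoryTheory.Pretriangulated

attribute [local instance] HasDerivedCategory.standard

namespace Groth.Agent.LeadBrown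

open Groth.Agent.H16Derived Groth.Agent.H16Derived.QCohD Groth.Agent.H16Derived.BaseChange
open Groth.Agent.H16Derived.KFlat.Stalk (rd rdComp lpullRpushAdj hasLpull rpushCommShift rpush_isTriangulated
  lpullCommShift lpull_isTriangulated)
open Groth.Agent.H16Derived.Dual (T R adjR one oneIso rightUnit ltensorCxIsoT rsheafHomIso)

variable {X S : Scheme.{u}}

theorem hasRSheafHom (E : CochainComplex X.Modules ℤ) [DCoh.HasLTensorCx E] : DCoh.HasRSheafHom E :=
  Functor.isLeftAdjoint_of_iso (ltensorCxIsoT E)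

/-- `Rf_* RHom(P, φ)` invertible makes `Hom(P, φ)` bijective. -/
theorem bijective_postcomp_of_isIso_rpush_R (f : X ⟶ S) [DCoh.HasRpush f] [DCoh.HasLpull f] {F G : DCoh.D X}
    (φ : F ⟶ G) (P : DCoh.D X) [IsIso ((DCoh.Rpush f).map ((R P).map φ))] :
    Function.Bijective fun x : P ⟶ F => x ≫ φ := by
  obtain ⟨e⟩ := nonempty_lpull_single f 0
  let u : ((T X).obj P).obj ((DCoh.Lpull f).obj (one S)) ≅ P :=
    ((T X).obj P).mapIso ((DCoh.Lpull f).mapIso oneIso.symm ≪≫ e ≪≫ oneIso) ≪≫ (rightUnit (X := X)).app P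
  let E : ∀ L : DCoh.D X, (P ⟶ L) ≃ (one S ⟶ (DCoh.Rpush f).obj ((R P).obj L)) := fun L =>
    (Iso.homCongr u.symm (Iso.refl L)).trans
      (((adjS P).homEquiv _ L).trans ((lpullRpushAdj f).homEquiv _ _))
  have hnat : ∀ x : P ⟶ F, E G (x ≫ φ) = E F x ≫ (DCoh.Rpush f).map ((R P).map φ) := fun x => by
    simp only [E, Equiv.trans_apply, Iso.homCongr_apply, Iso.refl_hom, Category.comp_id,
      ← Adjunction.homEquiv_naturality_right, Category.assoc]
  refine ⟨fun a b h => (E F).injective ((cancel_mono ((DCoh.Rpush f).map ((R P).map φ))).1 ?_),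
    fun y => ⟨(E F).symm (E G y ≫ inv ((DCoh.Rpush f).map ((R P).map φ))), (E G).injective ?_⟩⟩
  · rw [← hnat, ← hnat]
    exact congrArg (E G) h
  · rw [hnat, Equiv.apply_symm_apply, Category.assoc, IsIso.inv_hom_id, Category.comp_id]

/-- A map of quasi-coherent objects is invertible once it is so on maps out of perfect objects. -/
theorem isIso_of_bijective_postcomp [CompactSpace X] [QuasiSeparatedSpace X] {F G : DCoh.D X}
    (hF : DCoh.IsQCohD F) (hG : DCoh.IsQCohD G) (φ : F ⟶ G)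
    (h : ∀ P : DCoh.D X, DCoh.IsPerfect P → Function.Bijective fun x : P ⟶ F => x ≫ φ) : IsIso φ := by
  obtain ⟨C, a, b, hT⟩ := distinguished_cocone_triangle φ
  refine (Triangle.isZero₃_iff_isIso₁ _ hT).1 ?_
  obtain ⟨P₀, ⟨hP₀, -⟩, hgen⟩ := Thomason.hasGen (X := X) Set.univ isClosed_univ (by simp)
  have hC : DCoh.IsQCohD C := QCohD.AffineUnit.isQCohD_obj₃ hT hF hG
  refine hgen C ⟨hC, fun i => Set.subset_univ _⟩ fun n x => ?_
  have hP : DCoh.IsPerfect (P₀⟦n⟧) := KFlat.Stalk.isPerfect_shift hP₀ n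
  have hxb : x ≫ b = 0 := by
    have h1 : (shiftFunctor (DCoh.D X) (-1 : ℤ)).map (x ≫ b ≫ φ⟦(1 : ℤ)⟧') = 0 := by
      have h2 : b ≫ φ⟦(1 : ℤ)⟧' = 0 := comp_distTriang_mor_zero₃₁ _ hT
      rw [h2, comp_zero, Functor.map_zero]
    let c := shiftFunctorCompIsoId (DCoh.D X) (1 : ℤ) (-1) (by omega)
    have hP' : DCoh.IsPerfect ((P₀⟦n⟧)⟦(-1 : ℤ)⟧) := KFlat.Stalk.isPerfect_shift hP _
    have h3 : ((x ≫ b)⟦(-1 : ℤ)⟧' ≫ c.hom.app F) ≫ φ = 0 := by
      have h4 := c.hom.naturality φ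
      simp only [Functor.comp_map, Functor.id_map] at h4
      rw [Category.assoc, ← h4, ← Functor.map_comp_assoc, Category.assoc, h1, zero_comp]
    have h5 : (x ≫ b)⟦(-1 : ℤ)⟧' ≫ c.hom.app F = 0 :=
      (h _ hP').1 (by simpa using h3)
    exact (shiftFunctor _ (-1 : ℤ)).map_eq_zero_iff.1
      ((cancel_mono (c.hom.app F)).1 (h5.trans zero_comp.symm))
  obtain ⟨y, hy⟩ := Triangle.coyoneda_exact₃ _ hT x hxb
  obtain ⟨z, hz⟩ := (h _ hP).2 y
  have h6 := comp_distTriang_mor_zero₁₂ _ hT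
  refine hy.trans ((congrArg (· ≫ a) hz.symm).trans ((Category.assoc _ _ _).trans ?_))
  exact (congrArg (z ≫ ·) h6).trans comp_zero

/-- `Rf_* RHom(P, φ)` for perfect `P` detects isomorphisms. -/
theorem isIso_of_isIso_rpush_R_perfect [CompactSpace X] [QuasiSeparatedSpace X] (f : X ⟶ S) [DCoh.HasRpush f]
    {F G : DCoh.D X} (hF : DCoh.IsQCohD F) (hG : DCoh.IsQCohD G) (φ : F ⟶ G)
    (h : ∀ (E : CochainComplex X.Modules ℤ) [DCoh.HasLTensorCx E] [DCoh.HasRSheafHom E],
      DCoh.IsPerfect (DCoh.toD X E) → IsIso ((DCoh.Rpush f).map ((DCoh.RSheafHom E).map φ))) : IsIso φ := by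
  haveI := hasLpull f
  refine isIso_of_bijective_postcomp hF hG φ fun P hP => ?_
  obtain ⟨E, ⟨e⟩⟩ : ∃ E, Nonempty (DerivedCategory.Q.obj E ≅ P) :=
    ⟨_, ⟨DerivedCategory.Q.objObjPreimageIso P⟩⟩
  haveI := KFlat.Stalk.hasLTensorCx E
  haveI := hasRSheafHom E
  haveI := h E (KFlat.Stalk.isPerfect_of_iso e.symm hP)
  haveI : IsIso ((DCoh.Rpush f).map ((R (DerivedCategory.Q.obj E)).map φ)) :=
    (NatIso.isIso_map_iff (Functor.isoWhiskerRight (rsheafHomIso E) (DCoh.Rpush f)) φ).1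
      ‹IsIso ((DCoh.Rpush f).map ((DCoh.RSheafHom E).map φ))›
  have hb := bijective_postcomp_of_isIso_rpush_R f φ (DerivedCategory.Q.obj E)
  convert ((Iso.homCongr e (Iso.refl G)).bijective.comp hb).comp
    (Iso.homCongr e (Iso.refl F)).symm.bijective using 1
  funext x
  simp [Function.comp_def]

end Groth.Agent.LeadBrown
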