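import Groth.Agent.H25HomO.DerivedPlus
import Mathlib.CategoryTheory.Adjunction.Unique

/-!
# A right adjoint on derived categories restricts to the derived functor on `D^+`
-/

set_option autoImplicit false
set_option linter.style.haveILetI false
set_option linter.unusedSectionVars false

open CategoryTheory CategoryTheory.Limits CategoryTheory.Functor

namespace Groth.Agent.LeadBrown

universe w w' v u u'

open Groth.Agent.H25HomO

variable {A : Type u} [Category.{v} A] [Abelian A] [HasDerivedCategory.{w} A] [EnoughInjectives A]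
  {B : Type u'} [Category.{v} B] [Abelian B] [HasDerivedCategory.{w'} B] [EnoughInjectives B]
  {G : A ⥤ B} [G.Additive] [PreservesFiniteLimits G] [PreservesFiniteColimits G]
  {F : B ⥤ A} [F.Additive]

variable (G) in
/-- The derived functor of an exact functor on `D^+`. -/
theorem nonempty_rightDerivedFunctorPlus_ι :
    Nonempty (G.rightDerivedFunctorPlus ⋙ (DerivedCategory.Plus.ι : DerivedCategory.Plus B ⥤ DerivedCategory B) ≅
      (DerivedCategory.Plus.ι : DerivedCategory.Plus A ⥤ DerivedCategory A) ⋙ G.mapDerivedCategory) := by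
  let W := HomotopyCategory.Plus.quasiIso A
  let u := G.rightDerivedFunctorPlusUnit
  haveI : IsIso u := by
    refine @NatIso.isIso_of_isIso_app _ _ _ _ _ _ _ fun M => ?_
    obtain ⟨I, s, hs, hI⟩ := exists_local M
    haveI := isIso_map_of_quasiIso G s hs
    haveI : IsIso (DerivedCategory.Plus.Qh.map s) := Localization.inverts DerivedCategory.Plus.Qh W s hs
    haveI : IsIso (u.app I) :=
      Groth.Agent.H16Derived.RDerived.isIso_unit_app_of_bijective DerivedCategory.Plus.Qh W _ _ u _
        fun K => DerivedCategory.Plus.Qh_map_bijective_of_isKInjective K I hI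
    have h := u.naturality s
    haveI : IsIso (u.app M ≫ (DerivedCategory.Plus.Qh ⋙ G.rightDerivedFunctorPlus).map s) := by
      rw [← h]; infer_instance
    haveI : IsIso ((DerivedCategory.Plus.Qh ⋙ G.rightDerivedFunctorPlus).map s) := by
      dsimp only [Functor.comp_map]; infer_instance
    exact IsIso.of_isIso_comp_right (u.app M) ((DerivedCategory.Plus.Qh ⋙ G.rightDerivedFunctorPlus).map s)
  exact ⟨Localization.liftNatIso DerivedCategory.Plus.Qh W
    (DerivedCategory.Plus.Qh ⋙ G.rightDerivedFunctorPlus ⋙ DerivedCategory.Plus.ι)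
    (DerivedCategory.Plus.Qh ⋙ DerivedCategory.Plus.ι ⋙ G.mapDerivedCategory) _ _
    ((Functor.associator _ _ _).symm ≪≫ isoWhiskerRight (asIso u).symm DerivedCategory.Plus.ι ≪≫
      Functor.associator _ _ _ ≪≫ isoWhiskerLeft G.mapHomotopyCategoryPlus (DerivedCategory.Plus.QhCompιIsoιCompQh B) ≪≫
      isoWhiskerLeft (HomotopyCategory.plus A).ι G.mapDerivedCategoryFactorsh.symm ≪≫
      isoWhiskerRight (DerivedCategory.Plus.QhCompιIsoιCompQh A).symm G.mapDerivedCategory)⟩

/-- A right adjoint of `G` on derived categories agrees with the derived functor on `D^+`. -/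
theorem nonempty_plus_rightAdjoint (adj : G ⊣ F) {R : DerivedCategory B ⥤ DerivedCategory A}
    (adjR : G.mapDerivedCategory ⊣ R) :
    Nonempty ((DerivedCategory.Plus.ι : DerivedCategory.Plus B ⥤ DerivedCategory B) ⋙ R ≅
      F.rightDerivedFunctorPlus ⋙ (DerivedCategory.Plus.ι : DerivedCategory.Plus A ⥤ DerivedCategory A)) := by
  obtain ⟨c⟩ := nonempty_rightDerivedFunctorPlus_ι G
  obtain ⟨adj'⟩ := nonempty_derivedPlus_adjunction adj
  have hR : ∀ K : DerivedCategory.Plus B,
      DerivedCategory.TStructure.t.plus (R.obj (DerivedCategory.Plus.ι.obj K)) := fun K => by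
    obtain ⟨n, hn⟩ := K.property
    haveI : DerivedCategory.IsGE (DerivedCategory.Plus.ι.obj K) n := hn
    exact ⟨n, Groth.Agent.H15Site.FlatAdjD.isGE_rightAdjoint G adjR _ n⟩
  let R' : DerivedCategory.Plus B ⥤ DerivedCategory.Plus A := ObjectProperty.lift _ (DerivedCategory.Plus.ι ⋙ R) hR
  let cR : DerivedCategory.Plus.ι ⋙ R ≅ R' ⋙ DerivedCategory.Plus.ι := (ObjectProperty.liftCompιIso _ _ _).symm
  let adj'' : G.rightDerivedFunctorPlus ⊣ R' :=
    adjR.restrictFullyFaithful (DerivedCategory.TStructure.t.plus (C := DerivedCategory A)).fullyFaithfulι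
      (DerivedCategory.TStructure.t.plus (C := DerivedCategory B)).fullyFaithfulι c.symm cR
  exact ⟨cR ≪≫ isoWhiskerRight (adj''.rightAdjointUniq adj') _⟩

end Groth.Agent.LeadBrown
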