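import Groth.Agent.LeadBrown.BaseChange
import Groth.Agent.H16Derived.ProjFormula.DQc
import Mathlib.CategoryTheory.Triangulated.Subcategory
import Mathlib.CategoryTheory.Triangulated.Adjunction

/-!
# `D_QCoh` as a triangulated category and a comparison criterion for exact functors on it
-/

set_option autoImplicit false
set_option linter.style.haveILetI false
set_option linter.unusedSectionVars false

universe u

open CategoryTheory CategoryTheory.Limits AlgebraicGeometry CategoryTheory.Pretriangulated ZeroObject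

attribute [local instance] HasDerivedCategory.standard

namespace Groth.Agent.LeadBrown

open Groth.Agent.H16Derived Groth.Agent.H16Derived.Thomason Groth.Agent.H16Derived.KFlat
open Groth.Agent.H16Derived.KFlat.Stalk (rd rpushCommShift rpush_isTriangulated hasLpull)
open Groth.Agent.H16Derived.ProjFormula (PTri ptri_of_isTriangulated isQCohD_single_structure)
open Groth.Agent.H10Coh (freeSh freeShEquiv)
open Groth.Agent.H16Derived.QCohD (freeShTopIso isQCohD_iso)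
attribute [local instance] hasCoproducts_D small_hom

instance isTriangulated_qcohD (X : Scheme.{u}) : (DCoh.IsQCohD (X := X)).IsTriangulated where
  exists_zero := ⟨0, isZero_zero _, isQCohD_zero (isZero_zero _)⟩
  isStableUnderShiftBy n := ⟨fun _ h => QCohD.HomVanish.isQCohD_shift h n⟩
  ext₂' T hT h₁ h₃ := ObjectProperty.le_isoClosure _ _
    (QCohD.AffineUnit.isQCohD_obj₃ (inv_rot_of_distTriang _ hT) (QCohD.HomVanish.isQCohD_shift h₃ (-1)) h₁)

instance isClosedUnderIso_qcohD (X : Scheme.{u}) : (DCoh.IsQCohD (X := X)).IsClosedUnderIsomorphisms :=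
  ⟨fun e h => isQCohD_iso e h⟩

/-- The inclusion of `D_QCoh` commutes with shifts, on objects. -/
noncomputable def shiftObjIso {X : Scheme.{u}} (L : DCoh.DQCoh X) (n : ℤ) : (L⟦n⟧).obj ≅ L.obj⟦n⟧ :=
  ((DCoh.IsQCohD (X := X)).ι.commShiftIso n).app L

variable {X Y : Scheme.{u}} {f : X ⟶ Y} [DCoh.HasRpush f] {hf : DCoh.RpushPreservesQCoh f}
  {a : DCoh.DQCoh Y ⥤ DCoh.DQCoh X} (adj : DCoh.RpushQ f hf ⊣ a)

include adj in
/-- `a` sends triangles to triangles. -/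
theorem ptri_rightAdjoint : PTri (a ⋙ ObjectProperty.ι DCoh.IsQCohD) := by
  haveI := hasLpull f
  letI := rpushCommShift f
  haveI := rpush_isTriangulated f
  letI := adj.rightAdjointCommShift ℤ
  haveI : adj.CommShift ℤ := adj.commShift_of_leftAdjoint ℤ
  haveI : a.IsTriangulated := adj.isTriangulated_rightAdjoint
  exact (ptri_of_isTriangulated a).comp (ptri_of_isTriangulated _)

/-- A morphism of triangles between quasi-coherent objects lifts to `D_QCoh`. -/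
theorem exists_triangle_lift {T : Triangle (DCoh.D X)} (hT : T ∈ distTriang (DCoh.D X))
    (h₁ : DCoh.IsQCohD T.obj₁) (h₂ : DCoh.IsQCohD T.obj₂) (h₃ : DCoh.IsQCohD T.obj₃) :
    ∃ T' : Triangle (DCoh.DQCoh X), T' ∈ distTriang (DCoh.DQCoh X) ∧
      T'.obj₁ = ⟨T.obj₁, h₁⟩ ∧ T'.obj₂ = ⟨T.obj₂, h₂⟩ ∧ T'.obj₃ = ⟨T.obj₃, h₃⟩ := by
  let A : DCoh.DQCoh X := ⟨T.obj₁, h₁⟩
  let B : DCoh.DQCoh X := ⟨T.obj₂, h₂⟩
  let C : DCoh.DQCoh X := ⟨T.obj₃, h₃⟩
  refine ⟨Triangle.mk (X := A) (Y := B) (Z := C) (ObjectProperty.homMk T.mor₁) (ObjectProperty.homMk T.mor₂)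
    (ObjectProperty.homMk (T.mor₃ ≫ (shiftObjIso A 1).inv)), ?_, rfl, rfl, rfl⟩
  refine isomorphic_distinguished _ hT _ (Triangle.isoMk _ _ (Iso.refl _) (Iso.refl _) (Iso.refl _) ?_ ?_ ?_)
  · exact (Category.comp_id _).trans (Category.id_comp _).symm
  · exact (Category.comp_id _).trans (Category.id_comp _).symm
  · show ((T.mor₃ ≫ (shiftObjIso A 1).inv) ≫ (shiftObjIso A 1).hom) ≫ (𝟙 T.obj₁)⟦(1 : ℤ)⟧' = 𝟙 T.obj₃ ≫ T.mor₃
    rw [CategoryTheory.Functor.map_id, Category.comp_id, Category.id_comp, Category.assoc, Iso.inv_hom_id, Category.comp_id]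

/-- A colimit cofan in `D_QCoh`. -/
theorem exists_isColimit_cofan {κ : Type u} (Z : κ → DCoh.DQCoh X) :
    ∃ c : Cofan Z, Nonempty (IsColimit c) ∧ Nonempty (c.pt.obj ≅ ∐ fun k => (Z k).obj) := by
  let S : DCoh.DQCoh X := ⟨∐ fun k => (Z k).obj, S1040.result _ _ fun k => (Z k).property⟩
  exact ⟨Cofan.mk S fun k => ObjectProperty.homMk (Sigma.ι (fun k => (Z k).obj) k),
    ⟨mkCofanColimit _ (fun s => ObjectProperty.homMk (Sigma.desc fun k => (s.inj k).hom))
      (fun s j => ObjectProperty.hom_ext _ (Sigma.ι_desc _ _))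
      (fun s m hm => ObjectProperty.hom_ext _ (Sigma.hom_ext _ _ fun k =>
        (congrArg (fun t => t.hom) (hm k)).trans (Sigma.ι_desc (fun k => (s.inj k).hom) k).symm))⟩, ⟨Iso.refl _⟩⟩

section Criterion

variable {Z : Scheme.{u}} {F G : DCoh.DQCoh Y ⥤ DCoh.D Z} (τ : F ⟶ G) (hF : PTri F) (hG : PTri G)

/-- `τ` is invertible on all shifts of `L`. -/
def IsoShifts (L : DCoh.D Y) : Prop :=
  DCoh.IsQCohD L ∧ ∀ (n : ℤ) (L' : DCoh.DQCoh Y), Nonempty (L'.obj ≅ L⟦n⟧) → IsIso (τ.app L')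

theorem IsoShifts.shift {L : DCoh.D Y} (h : IsoShifts τ L) (m : ℤ) : IsoShifts τ (L⟦m⟧) :=
  ⟨QCohD.HomVanish.isQCohD_shift h.1 m, fun n L' ⟨e⟩ =>
    h.2 (m + n) L' ⟨e ≪≫ ((shiftFunctorAdd (DCoh.D Y) m n).app L).symm⟩⟩

theorem IsoShifts.of_iso {L L₁ : DCoh.D Y} (e : L ≅ L₁) (h : IsoShifts τ L) : IsoShifts τ L₁ :=
  ⟨isQCohD_iso e h.1, fun n L' ⟨e'⟩ => h.2 n L' ⟨e' ≪≫ (shiftFunctor _ n).mapIso e.symm⟩⟩

include hF hG in
theorem isoShifts_obj₃ {T : Triangle (DCoh.D Y)} (hT : T ∈ distTriang (DCoh.D Y)) (h₁ : IsoShifts τ T.obj₁)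
    (h₂ : IsoShifts τ T.obj₂) : IsoShifts τ T.obj₃ := by
  refine ⟨QCohD.AffineUnit.isQCohD_obj₃ hT h₁.1 h₂.1, fun n L' ⟨e⟩ => ?_⟩
  obtain ⟨T', hT', e₁, e₂, e₃⟩ := exists_triangle_lift (Triangle.shift_distinguished _ hT n)
    (h₁.shift τ n).1 (h₂.shift τ n).1 (isQCohD_iso e L'.property)
  have hi : ∀ (M : DCoh.D Y), IsoShifts τ M → ∀ A : DCoh.DQCoh Y, A.obj = M⟦n⟧ →
      IsIso (τ.app A) ∧ IsIso (τ.app (A⟦(1 : ℤ)⟧)) := fun M hM A hA =>
    ⟨hM.2 n A ⟨eqToIso hA⟩, hM.2 (n + 1) _ ⟨shiftObjIso A 1 ≪≫ (shiftFunctor _ (1 : ℤ)).mapIso (eqToIso hA) ≪≫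
      ((shiftFunctorAdd (DCoh.D Y) n 1).app M).symm⟩⟩
  obtain ⟨i₁, i₁'⟩ := hi _ h₁ T'.obj₁ (congrArg (fun A => A.obj) e₁)
  obtain ⟨i₂, i₂'⟩ := hi _ h₂ T'.obj₂ (congrArg (fun A => A.obj) e₂)
  have h3 : IsIso (τ.app T'.obj₃) := ProjFormula.isIso_app₃ hF hG τ hT'
  exact (NatTrans.isIso_app_iff_of_iso τ
    (eqToIso e₃ ≪≫ (ObjectProperty.isoMk _ e).symm)).1 h3

variable [∀ J : Type u, PreservesColimitsOfShape (Discrete J) F] [∀ J : Type u, PreservesColimitsOfShape (Discrete J) G]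

include hF hG in
theorem loc_isoShifts : Loc.{u} (IsoShifts τ) where
  of_iso e h := h.of_iso τ e
  cone T hT h₁ h₂ := isoShifts_obj₃ τ hF hG hT h₁ h₂
  sum κ A hA := ⟨S1040.result _ A fun k => (hA k).1, fun n L' ⟨e⟩ => by
    let B : κ → DCoh.DQCoh Y := fun k => ⟨(A k)⟦n⟧, QCohD.HomVanish.isQCohD_shift (hA k).1 n⟩
    obtain ⟨c, ⟨hc⟩, ⟨ec⟩⟩ := exists_isColimit_cofan B
    haveI : ∀ k, IsIso (τ.app (B k)) := fun k => (hA k).2 n _ ⟨Iso.refl _⟩
    let hFc := isColimitOfPreserves F hc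
    let hGc := isColimitOfPreserves G hc
    haveI : ∀ j : Discrete κ, IsIso (τ.app ((Discrete.functor B).obj j)) := fun j => ‹∀ k, IsIso (τ.app (B k))› j.as
    haveI : ∀ j : Discrete κ, IsIso ((Functor.whiskerLeft (Discrete.functor B) τ).app j) := fun j =>
      ‹∀ k, IsIso (τ.app (B k))› j.as
    haveI := NatIso.isIso_of_isIso_app (Functor.whiskerLeft (Discrete.functor B) τ)
    let w := asIso (Functor.whiskerLeft (Discrete.functor B) τ)
    have hτ : τ.app c.pt = (hFc.coconePointsIsoOfNatIso hGc w).hom := hFc.hom_ext fun j =>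
      (τ.naturality _).trans (IsColimit.comp_coconePointsIsoOfNatIso_hom hFc hGc w j).symm
    have h : IsIso (τ.app c.pt) := by rw [hτ]; infer_instance
    exact (NatTrans.isIso_app_iff_of_iso τ (ObjectProperty.isoMk _
      (ec ≪≫ (PreservesCoproduct.iso (shiftFunctor (DCoh.D Y) n) A).symm ≪≫ e.symm))).1 h⟩

variable [CompactSpace Y] [QuasiSeparatedSpace Y]

include hF hG in
/-- A transformation which is invertible on the shifts of `O` and between functors killing the perfect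
objects supported off an affine open is invertible. -/
theorem isIso_app_of_affine (V : Y.Opens) (hV : IsAffineOpen V)
    (hz : ∀ L : DCoh.DQCoh Y, DCoh.IsPerfect L.obj → SuppIn (V : Set Y)ᶜ L.obj →
      IsZero (F.obj L) ∧ IsZero (G.obj L))
    (hO : ∀ (n : ℤ) (L : DCoh.DQCoh Y),
      Nonempty (L.obj ≅ (DerivedCategory.singleFunctor Y.Modules n).obj (Coh.structureModule Y)) → IsIso (τ.app L))
    (L : DCoh.DQCoh Y) : IsIso (τ.app L) := by
  have hQ := loc_isoShifts τ hF hG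
  have hT : IsClosed (V : Set Y)ᶜ := V.isOpen.isClosed_compl
  have hTc : IsCompact ((V : Set Y)ᶜ)ᶜ := by rw [compl_compl]; exact hV.isCompact
  -- objects supported off `V`
  have h1 : ∀ C : DCoh.D Y, PQ (V : Set Y)ᶜ C → IsoShifts τ C := fun C hC => by
    obtain ⟨P, hP, hgen⟩ := hasGen (V : Set Y)ᶜ hT hTc
    refine Thomason.induction (fun n : ULift.{u} ℤ => P⟦n.down⟧) (PQ (V : Set Y)ᶜ) (loc_pq hT)
      (fun n => (hP.shift hT n.down).pq) (fun n => holds_of_isPerfect (fun _ h => h.1) (hP.shift hT n.down).1)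
      (fun n k => ⟨⟨n.down + k⟩, ⟨(shiftFunctorAdd (DCoh.D Y) n.down k).app P⟩⟩)
      (fun E hE h0 => hgen E hE fun n => h0 ⟨n⟩) hQ (fun n => ⟨(hP.shift hT n.down).pq.1, fun k L' ⟨e⟩ => ?_⟩) hC
    have hk := (hP.shift hT n.down).shift hT k
    obtain ⟨zF, zG⟩ := hz L' (Stalk.isPerfect_of_iso e.symm hk.1) (hk.2.of_iso e.symm)
    exact ⟨0, zF.eq_of_src _ _, zG.eq_of_src _ _⟩
  haveI : IsAffine (V : Scheme.{u}) := hV
  haveI := quasiCompact_ι V hV.isCompact
  haveI := QCohD.hasRpush V.ι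
  letI := rpushCommShift V.ι
  haveI := rpush_isTriangulated V.ι
  let adjV := restrictRpushAdj V.ι
  -- compare an object with the direct image of its restriction
  have h2 : ∀ A : DCoh.D Y, DCoh.IsQCohD A → ∃ (C : DCoh.D Y) (t : (DCoh.Rpush V.ι).obj ((rd V.ι).obj A) ⟶ C)
      (e : C ⟶ A⟦(1 : ℤ)⟧), Triangle.mk (adjV.unit.app A) t e ∈ distTriang (DCoh.D Y) ∧ IsoShifts τ C := fun A hA => by
    obtain ⟨C, t, e, he⟩ := distinguished_cocone_triangle (adjV.unit.app A)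
    refine ⟨C, t, e, he, h1 C ⟨QCohD.AffineUnit.isQCohD_obj₃ he hA (QCohD.isQCohD_rpush V.ι (QCohD.isQCohD_rd _ hA)), ?_⟩⟩
    have hz' : IsZero ((rd V.ι).obj C) :=
      (Triangle.isZero₃_iff_isIso₁ _ ((rd V.ι).map_distinguished _ he)).2 (isIso_rd_map_unit V.ι A)
    have h := (isZero_rd_iff V.ι C).1 hz'
    rwa [Scheme.Opens.range_ι] at h
  -- direct images from `V`
  let Q' : DCoh.D (V : Scheme.{u}) → Prop := fun M => DCoh.IsQCohD M ∧ IsoShifts τ ((DCoh.Rpush V.ι).obj M)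
  let σ : ULift.{u} ℤ → DCoh.D (V : Scheme.{u}) := fun m =>
    (DerivedCategory.singleFunctor _ m.down).obj (freeSh (⊤ : (V : Scheme.{u}).Opens))
  have hσq : ∀ m, DCoh.IsQCohD (σ m) := fun m =>
    isQCohD_iso ((DerivedCategory.singleFunctor _ m.down).mapIso freeShTopIso).symm
      (isQCohD_single_structure (V : Scheme.{u}) m.down)
  have hσ : ∀ m, Q' (σ m) := fun m => by
    refine ⟨hσq m, ?_⟩
    let A := (DerivedCategory.singleFunctor Y.Modules m.down).obj (Coh.structureModule Y)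
    let eA : (rd V.ι).obj A ≅ σ m :=
      ((Scheme.Modules.restrictFunctor V.ι).mapDerivedCategorySingleFunctor m.down).app _ ≪≫
        (DerivedCategory.singleFunctor _ m.down).mapIso
          ((Scheme.Modules.restrictFunctorIsoPullback V.ι).app _ ≪≫ Stalk.structurePullbackIso V.ι ≪≫ freeShTopIso.symm)
    have hA : IsoShifts τ A := ⟨isQCohD_single_structure Y m.down, fun k L' ⟨e⟩ => hO (m.down - k) L'
      ⟨e ≪≫ ((DerivedCategory.singleFunctors Y.Modules).shiftIso k (m.down - k) m.down (by omega)).app _⟩⟩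
    obtain ⟨C, t, e, he, hC⟩ := h2 A hA.1
    exact IsoShifts.of_iso τ ((DCoh.Rpush V.ι).mapIso eA)
      (hQ.cone _ (inv_rot_of_distTriang _ he) (hC.shift τ (-1)) hA)
  have hQ' : Loc.{u} Q' :=
    { of_iso := fun e h => ⟨isQCohD_iso e h.1, h.2.of_iso τ ((DCoh.Rpush V.ι).mapIso e)⟩
      sum := fun κ A hA => by
        refine ⟨S1040.result _ A fun k => (hA k).1, ?_⟩
        haveI := QCohD.isIso_rpush_sigma V.ι A fun k => (hA k).1
        exact (hQ.sum κ _ fun k => (hA k).2).of_iso τ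
          (asIso (Sigma.desc fun k => (DCoh.Rpush V.ι).map (Sigma.ι A k)))
      cone := fun T hT h₁ h₂ => ⟨QCohD.AffineUnit.isQCohD_obj₃ hT h₁.1 h₂.1,
        hQ.cone _ ((DCoh.Rpush V.ι).map_distinguished _ hT) h₁.2 h₂.2⟩ }
  have h3 : ∀ M : DCoh.D (V : Scheme.{u}), DCoh.IsQCohD M → Q' M := fun M hM =>
    Thomason.induction σ (fun L => DCoh.IsQCohD L)
    { of_iso := fun e h => isQCohD_iso e h
      sum := fun κ Z h => S1040.result _ Z h
      cone := fun T hT h₁ h₂ => QCohD.AffineUnit.isQCohD_obj₃ hT h₁ h₂ }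
    hσq (fun m => QCohD.holds_affine (isAffineOpen_top _) m.down)
    (fun m k => ⟨⟨m.down - k⟩,
      ⟨((((DerivedCategory.singleFunctors (V : Scheme.{u}).Modules).shiftIso k (m.down - k) m.down (by omega)).app _)).symm⟩⟩)
    (fun Z hZ h0 => MVPush.isZero_of_hd Z fun i => by
      haveI : Subsingleton Γ(DCoh.HD Z i, (⊤ : (V : Scheme.{u}).Opens)) := ⟨fun a b => by
        obtain ⟨g, hg⟩ := (QCohD.bijective_θ_affine hZ (isAffineOpen_top _) i).2 ((freeShEquiv ⊤ _).symm a)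
        obtain ⟨g', hg'⟩ := (QCohD.bijective_θ_affine hZ (isAffineOpen_top _) i).2 ((freeShEquiv ⊤ _).symm b)
        rw [h0 ⟨i⟩ g] at hg
        rw [h0 ⟨i⟩ g'] at hg'
        exact (freeShEquiv ⊤ _).symm.injective (hg.symm.trans hg')⟩
      exact H17.FPExt.isZero_of_stalk _ fun x =>
        QCohD.AffineUnit.subsingleton_stalk_of_sections (hZ i) (isAffineOpen_top _) (TopologicalSpace.Opens.mem_top x))
    hQ' hσ hM
  obtain ⟨C, t, e, he, hC⟩ := h2 L.obj L.property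
  have hL : IsoShifts τ L.obj :=
    hQ.cone _ (inv_rot_of_distTriang _ (inv_rot_of_distTriang _ he))
      ((h3 _ (QCohD.isQCohD_rd _ L.property)).2.shift τ (-1)) (hC.shift τ (-1))
  exact hL.2 0 L ⟨((shiftFunctorZero (DCoh.D Y) ℤ).app L.obj).symm⟩

end Criterion

end Groth.Agent.LeadBrown
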