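import Groth.Agent.H16Derived.Dual.PseudoQCoh
import Groth.Agent.H16Derived.Thomason.PushTest
import Groth.Agent.H16Derived.KFlat.PerfNoeth
import Groth.Agent.H16Derived.DTrunc

/-!
# `RHom(k, L)` for `m`-pseudo-coherent `k` in low degrees
-/

set_option autoImplicit false
set_option linter.style.haveILetI false

universe u

open CategoryTheory CategoryTheory.Limits CategoryTheory.Pretriangulated AlgebraicGeometry
open DerivedCategory.TStructure (t)

attribute [local instance] HasDerivedCategory.standard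

namespace Groth.Agent.LeadBrown

open Groth.Agent.H16Derived Groth.Agent.H16Derived.Dual Groth.Agent.H16Derived.KFlat Groth.Agent.H16Derived.KFlat.Stalk Groth.Agent.H16Derived.QCohD
open Groth.Agent.H16Derived.Thomason (isLE_ltensorCx exists_res_map isLE_iff_support)

variable {X : Scheme.{u}}

/-- Approximations of `k` over `A` compute low degrees of `RHom(k, L)` over `A`. -/
theorem isIso_hd_Rmap' (A : X.Opens) {T₀ : Triangle (DCoh.D X)} (hT : T₀ ∈ distTriang (DCoh.D X))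
    (L : DCoh.D X) (a μ c : ℤ) [L.IsGE a] (hC : DerivedCategory.IsLE ((rA A).obj T₀.obj₃) (μ - 1))
    (hc : c + μ ≤ a - 1) (i : ℤ) (hi : i ≤ c) :
    IsIso ((DerivedCategory.homologyFunctor _ i).map ((rA A).map (Rmap T₀.mor₁ L))) := by
  let C' := (t.truncLE (μ - 1)).obj T₀.obj₃
  let ι' : C' ⟶ T₀.obj₃ := (t.truncLTι (μ - 1 + 1)).app T₀.obj₃
  have hι : IsoOn A ι' := by
    refine (Triangle.isZero₃_iff_isIso₁ _ ((rA A).map_distinguished _
      (t.triangleLTGE_distinguished (μ - 1 + 1) T₀.obj₃))).1 (MVPush.isZero_of_hd _ fun j => ?_)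
    show IsZero (DCoh.HD ((rA A).obj ((t.truncGE (μ - 1 + 1)).obj T₀.obj₃)) j)
    refine IsZero.of_iso ?_ (homologyRdIso A.ι _ j)
    rcases lt_or_ge j (μ - 1 + 1) with hj | hj
    · exact (Scheme.Modules.restrictFunctor A.ι).map_isZero (DerivedCategory.isZero_of_isGE _ (μ - 1 + 1) j hj)
    · haveI := DTrunc.isIso_homology_truncGEπ T₀.obj₃ (μ - 1 + 1) j hj
      haveI := hC
      exact (((DerivedCategory.isZero_of_isLE ((rA A).obj T₀.obj₃) (μ - 1) j (by omega)).of_iso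
        (homologyRdIso A.ι _ j).symm)).of_iso
          ((Scheme.Modules.restrictFunctor A.ι).mapIso (asIso ((DerivedCategory.homologyFunctor _ j).map
            ((t.truncGEπ (μ - 1 + 1)).app T₀.obj₃))).symm)
  haveI hC' : DerivedCategory.IsLE C' (μ - 1) := inferInstanceAs (t.IsLE ((t.truncLE (μ - 1)).obj T₀.obj₃) (μ - 1))
  have hvan : ∀ (b : ℤ) (H : DCoh.D X), H.IsLE b → ∀ p : ℤ, b + (μ - 1 - p) < a →
      ∀ f : ((T X).obj (cut A H)).obj (T₀.obj₃⟦p⟧) ⟶ L, f = 0 := fun b H hH p hp f => by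
    haveI := isIso_TObj_cut A H (hι.shift p)
    let D := DerivedCategory.Q.objPreimage (C'⟦p⟧)
    let eD : DerivedCategory.Q.obj D ≅ C'⟦p⟧ := DerivedCategory.Q.objObjPreimageIso _
    haveI := hasLTensorCx D
    haveI : t.IsLE (C'⟦p⟧) (μ - 1 - p) := t.isLE_shift C' (μ - 1) p (μ - 1 - p) (by omega)
    haveI : (DCoh.toD X D).IsLE (μ - 1 - p) :=
      ⟨(t.le _).prop_of_iso eD.symm (‹t.IsLE (C'⟦p⟧) (μ - 1 - p)›).le⟩
    haveI := hH
    haveI := isLE_rd A.ι H b
    haveI := isLE_extZeroD A ((rA A).obj H) b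
    haveI := isLE_ltensorCx D (μ - 1 - p) (C := cut A H) b
    let e : (DCoh.LTensorCx D).obj (cut A H) ≅ ((T X).obj (cut A H)).obj (T₀.obj₃⟦p⟧) :=
      ((ltensorCxIsoT D).app _).symm ≪≫ ((T X).obj (cut A H)).mapIso eD ≪≫
        asIso (((T X).obj (cut A H)).map (ι'⟦p⟧'))
    refine (cancel_epi e.hom).1 ((t.zero (e.hom ≫ f) (b + (μ - 1 - p)) a (by omega)).trans comp_zero.symm)
  have hbij : ∀ (b : ℤ) (H : DCoh.D X), H.IsLE b → b ≤ c + 1 →
      (Function.Injective fun x : cut A H ⟶ (R T₀.obj₂).obj L => x ≫ Rmap T₀.mor₁ L) ∧ (b ≤ c →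
        Function.Bijective fun x : cut A H ⟶ (R T₀.obj₂).obj L => x ≫ Rmap T₀.mor₁ L) := fun b H hH hbc => by
    let F := (T X).obj (cut A H)
    have hb : Function.Injective fun z : F.obj T₀.obj₂ ⟶ L => F.map T₀.mor₁ ≫ z := fun z z' hzz => by
      obtain ⟨r, hr⟩ := H25DTen.Dev.exists_factor_map (Adjunction.ofIsLeftAdjoint F) _ hT (z - z')
        (by rw [Preadditive.comp_sub]; exact sub_eq_zero.2 hzz)
      have hr0 : r = 0 := (cancel_epi (F.map ((shiftFunctorZero (DCoh.D X) ℤ).hom.app T₀.obj₃))).1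
        ((hvan b H hH 0 (by omega) _).trans comp_zero.symm)
      rw [hr0, comp_zero] at hr
      exact sub_eq_zero.1 hr.symm
    have e : (fun x : cut A H ⟶ (R T₀.obj₂).obj L => x ≫ Rmap T₀.mor₁ L) =
        (adjR T₀.obj₁).homEquiv _ _ ∘ (fun z => F.map T₀.mor₁ ≫ z) ∘ ((adjR T₀.obj₂).homEquiv _ _).symm := by
      funext x
      exact ((adjR T₀.obj₁).homEquiv _ _).symm.injective
        ((comp_Rmap T₀.mor₁ L _ x).trans (Equiv.symm_apply_apply _ _).symm)
    rw [e]
    refine ⟨((adjR _).homEquiv _ _).injective.comp (hb.comp ((adjR _).homEquiv _ _).symm.injective), fun hb' => ?_⟩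
    refine ((adjR _).homEquiv _ _).bijective.comp
      (Function.Bijective.comp ⟨hb, fun q => ?_⟩ ((adjR _).homEquiv _ _).symm.bijective)
    obtain ⟨r, hr⟩ := H25DTen.Dev.exists_factor_map (Adjunction.ofIsLeftAdjoint F) _
      (inv_rot_of_distTriang _ hT) q (hvan b H hH (-1) (by omega) _)
    exact ⟨r, hr⟩
  let a' := cutAdj A
  haveI := MV.isIso_extZero_unit A
  haveI := Thomason.isIso_extZeroRdAdj_unit A
  let ψ := (rA A).map (Rmap T₀.mor₁ L)
  have hb' : ∀ (b : ℤ) (h : DCoh.D A), h.IsLE b → b ≤ c + 1 →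
      (Function.Injective fun y : h ⟶ (rA A).obj ((R T₀.obj₂).obj L) => y ≫ ψ) ∧ (b ≤ c →
        Function.Bijective fun y : h ⟶ (rA A).obj ((R T₀.obj₂).obj L) => y ≫ ψ) := fun b h hh hbc => by
    haveI := hh
    haveI := isLE_extZeroD A h b
    let eu : h ≅ (rA A).obj ((CxOX.extZeroD A.ι).obj h) := asIso ((Thomason.extZeroRdAdj A).unit.app h)
    have h1 : ∀ y : (rA A).obj ((CxOX.extZeroD A.ι).obj h) ⟶ (rA A).obj ((R T₀.obj₂).obj L),
        (a'.homEquiv _ _).symm (y ≫ ψ) = (a'.homEquiv _ _).symm y ≫ Rmap T₀.mor₁ L :=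
      fun y => Adjunction.homEquiv_naturality_right_symm _ _ _
    have h2 := hbij b ((CxOX.extZeroD A.ι).obj h) inferInstance hbc
    have h3 : Function.Injective fun y : (rA A).obj ((CxOX.extZeroD A.ι).obj h) ⟶
        (rA A).obj ((R T₀.obj₂).obj L) => y ≫ ψ := fun y y' hyy =>
      (a'.homEquiv _ _).symm.injective (h2.1 ((h1 y).symm.trans
        ((congrArg (a'.homEquiv _ _).symm hyy).trans (h1 y'))))
    refine ⟨fun y y' hy => (cancel_epi eu.inv).1 (h3 ?_), fun hb => ⟨fun y y' hy => (cancel_epi eu.inv).1 (h3 ?_),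
      fun q => ?_⟩⟩
    · simp only [Category.assoc]
      exact congrArg (eu.inv ≫ ·) hy
    · simp only [Category.assoc]
      exact congrArg (eu.inv ≫ ·) hy
    · obtain ⟨x, hx⟩ := (h2.2 hb).2 ((a'.homEquiv _ _).symm (eu.inv ≫ q))
      have hy : (a'.homEquiv _ _) x ≫ ψ = eu.inv ≫ q := (a'.homEquiv _ _).symm.injective
        ((h1 _).trans ((congrArg (· ≫ Rmap T₀.mor₁ L) (Equiv.symm_apply_apply _ _)).trans hx))
      exact ⟨eu.hom ≫ (a'.homEquiv _ _) x, by simp only [Category.assoc, hy, Iso.hom_inv_id_assoc]⟩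
  obtain ⟨Z, g, δ, hZ⟩ := distinguished_cocone_triangle ψ
  have hZ0 : ∀ j ≤ c, IsZero (DCoh.HD Z j) := fun j hj => by
    haveI : DerivedCategory.IsLE ((t.truncLE c).obj Z) c :=
      inferInstanceAs (t.IsLE ((t.truncLE c).obj Z) c)
    haveI hi' := DTrunc.isIso_homology_truncLTι Z (c + 1) j (by omega)
    let v : (t.truncLE c).obj Z ⟶ Z := (t.truncLTι (c + 1)).app Z
    have hv : v = 0 := by
      have h1 : v ≫ δ = 0 := by
        haveI : t.IsLE (((t.truncLE c).obj Z)⟦(-1 : ℤ)⟧) (c + 1) := t.isLE_shift _ c (-1) (c + 1) (by omega)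
        let k := shiftFunctorCompIsoId (DCoh.D (A : Scheme.{u})) (1 : ℤ) (-1) (by norm_num)
        have h0 : (v ≫ δ)⟦(-1 : ℤ)⟧' ≫ k.hom.app _ = 0 := (hb' (c + 1) _ inferInstance le_rfl).1 (by
          show _ ≫ ψ = 0 ≫ ψ
          have hδ : δ ≫ ψ⟦(1 : ℤ)⟧' = 0 := comp_distTriang_mor_zero₃₁ _ hZ
          have hn := k.hom.naturality ψ
          rw [Category.assoc]
          refine (congrArg (_ ≫ ·) hn.symm).trans ?_
          rw [Functor.comp_map, ← Functor.map_comp_assoc, Category.assoc, hδ, comp_zero, Functor.map_zero,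
            zero_comp, zero_comp])
        exact (shiftFunctor _ (-1 : ℤ)).map_eq_zero_iff.1
          ((cancel_mono (k.hom.app _)).1 (h0.trans zero_comp.symm))
      obtain ⟨w, hw⟩ := Triangle.coyoneda_exact₃ _ hZ v h1
      obtain ⟨y, hy⟩ := ((hb' c ((t.truncLE c).obj Z) inferInstance (by omega)).2 le_rfl).2 w
      have hψg : ψ ≫ g = 0 := comp_distTriang_mor_zero₁₂ _ hZ
      refine hw.trans ((congrArg (· ≫ g) hy.symm).trans ?_)
      rw [Category.assoc, hψg, comp_zero]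
    haveI : IsIso ((DerivedCategory.homologyFunctor _ j).map v) := hi'
    rw [hv, Functor.map_zero] at this
    rw [IsZero.iff_id_eq_zero]
    exact (cancel_epi (0 : DCoh.HD ((t.truncLE c).obj Z) j ⟶ DCoh.HD Z j)).1 (by rw [zero_comp, zero_comp])
  haveI : Mono ((DerivedCategory.homologyFunctor _ i).map ψ) :=
    (DerivedCategory.HomologySequence.mono_homologyMap_mor₁_iff _ hZ (i - 1) i (by omega)).2
      ((hZ0 (i - 1) (by omega)).eq_of_src _ _)
  haveI : Epi ((DerivedCategory.homologyFunctor _ i).map ψ) :=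
    (DerivedCategory.HomologySequence.epi_homologyMap_mor₁_iff _ hZ i).2 ((hZ0 i hi).eq_of_tgt _ _)
  exact isIso_of_mono_of_epi _

/-- Locally, each cohomology sheaf of `RHom(k, L)` is one of `L ⊗^L` a complex of free modules. -/
theorem exists_local_R' {k : DCoh.D X} (μ : ℤ) (hk : DCoh.IsPseudoCoherentD μ k) (L : DCoh.D X)
    (a : ℤ) [L.IsGE a] (i : ℤ) (hi : i < a - μ) (x : X) : ∃ (A' : X.Opens) (r : DCoh.D X), x ∈ A' ∧ FreeModel A'.ι r ∧
      Nonempty (DCoh.HD ((rA A').obj (((T X).obj L).obj r)) i ≅ (DCoh.HD ((R k).obj L) i).restrict A'.ι) := by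
  obtain ⟨V, hx, E, α, hE, hα⟩ := (isPseudoCoherentD_iff μ _).1 hk x
  haveI := Thomason.isIso_extZeroRdAdj_unit V
  let k₁ := (CxOX.extZeroD V.ι).obj (DerivedCategory.Q.obj E)
  haveI : IsIso ((Thomason.extZeroRdAdj V).unit.app (DerivedCategory.Q.obj E)) :=
    NatIso.isIso_app_of_isIso _ _
  let eu : DerivedCategory.Q.obj E ≅ (rA V).obj k₁ :=
    asIso ((Thomason.extZeroRdAdj V).unit.app (DerivedCategory.Q.obj E))
  let φ₁ : k₁ ⟶ k := ((Thomason.extZeroRdAdj V).homEquiv _ _).symm α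
  have hφ₁ : (Thomason.extZeroRdAdj V).unit.app (DerivedCategory.Q.obj E) ≫ (rA V).map φ₁ = α :=
    ((Thomason.extZeroRdAdj V).homEquiv_unit _ _ φ₁).symm.trans (Equiv.apply_symm_apply _ _)
  obtain ⟨A, hxA, hAV, hA⟩ := exists_freeModel_of_rd (K := k₁)
    (isPerfect_of_iso eu (isPerfect_Q_of_isStrictlyPerfect hE)) hx
  let k₀ := k₁⟦(0 : ℤ)⟧
  let z := (shiftFunctorZero (DCoh.D X) ℤ).hom.app k₁
  let φ : k₀ ⟶ k := z ≫ φ₁
  obtain ⟨C, p, w, hT⟩ := distinguished_cocone_triangle φ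
  have happ : Approx μ ((rA V).map φ) := by
    have h1 : (rA V).map φ = (rA V).map z ≫ eu.inv ≫ α := by
      rw [← hφ₁]
      exact ((rA V).map_comp z φ₁).trans (congrArg ((rA V).map z ≫ ·) (eu.inv_hom_id_assoc _).symm)
    rw [h1]
    exact (Approx.of_isIso μ _).comp ((Approx.of_isIso μ _).comp hα)
  haveI hCV := (approx_iff ((rA V).map_distinguished _ hT) μ).1 happ
  have hCA : DerivedCategory.IsLE ((rA A).obj C) (μ - 1) := (DerivedCategory.isLE_iff _ _).2 fun j hj => by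
    have hz := (isLE_iff_support _ _).1 hCV j hj
    refine (fun h => H17.FPExt.isZero_of_stalk _ fun y => by by_contra hy; exact (Set.eq_empty_iff_forall_notMem.1 h) y hy) ?_
    refine Set.eq_empty_iff_forall_notMem.2 fun y hy => ?_
    exact Set.eq_empty_iff_forall_notMem.1 hz (⟨y.1, hAV y.2⟩ : (V : Scheme.{u}))
      ((Thomason.mem_support_rd V.ι C j _).2 ((Thomason.mem_support_rd A.ι C j y).1 hy))
  haveI : IsIso ((DerivedCategory.homologyFunctor _ i).map ((rA A).map (Rmap φ L))) :=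
    isIso_hd_Rmap' A hT L a μ (a - μ - 1) hCA (by omega) i (by omega)
  have hgood := freeModel_induction (stable_good A) (fun φ h => good_iff_of_isoOn h) (good_o A) hA 0 L
  haveI : IsIso ((rA A).map (θ k₀ L)) := hgood
  have hperf := freeModel_induction (stable_perfDual A) (invOn_perfDual A) (perfDual_o A) hA 0
  obtain ⟨A', hxA', hA'A, hA'⟩ := exists_freeModel_of_rd hperf hxA
  refine ⟨A', ro k₀, hxA', hA', ⟨?_⟩⟩
  let j := X.homOfLE hA'A
  let resA : DCoh.HD ((rA A).obj ((R k).obj L)) i ≅ DCoh.HD ((rA A).obj (((T X).obj L).obj (ro k₀))) i :=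
    asIso ((DerivedCategory.homologyFunctor _ i).map ((rA A).map (Rmap φ L))) ≪≫
      (DerivedCategory.homologyFunctor _ i).mapIso (asIso ((rA A).map (θ k₀ L))).symm
  exact homologyRdIso A'.ι _ i ≪≫
    (Scheme.Modules.restrictFunctorCongr (X.homOfLE_ι hA'A).symm ≪≫
      Scheme.Modules.restrictFunctorComp j A.ι).app _ ≪≫
    (Scheme.Modules.restrictFunctor j).mapIso ((homologyRdIso A.ι _ i).symm ≪≫ resA.symm ≪≫
      homologyRdIso A.ι _ i) ≪≫
    ((Scheme.Modules.restrictFunctorCongr (X.homOfLE_ι hA'A).symm ≪≫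
      Scheme.Modules.restrictFunctorComp j A.ι).app _).symm

/-- `RHom(k, L)` has quasi-coherent cohomology in degrees `< a - μ`. -/
theorem isQCoh_hd_R {k : DCoh.D X} (μ : ℤ) (hk : DCoh.IsPseudoCoherentD μ k) {L : DCoh.D X}
    (hL : DCoh.IsQCohD L) (a : ℤ) [L.IsGE a] (i : ℤ) (hi : i < a - μ) :
    Coh.IsQCoh (DCoh.HD ((R k).obj L) i) := by
  refine isQCoh_of_local _ fun x => ?_
  obtain ⟨A, r, hxA, hA, ⟨e⟩⟩ := exists_local_R' μ hk L a i hi x
  exact ⟨A, hxA, isQCoh_iso (((DerivedCategory.homologyFunctor _ i).mapIso ((rA A).mapIso (((T X).obj L).mapIso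
      ((shiftFunctorZero (DCoh.D X) ℤ).app r)))) ≪≫ e)
    (freeModel_induction (stable_qt A L) (invOn_qt A L) (qt_o A hL) hA 0 i)⟩

end Groth.Agent.LeadBrown
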