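import Groth.Agent.LeadBrown.ClosedHomO
import Groth.Agent.LeadBrown.PlusRightAdjoint
import Groth.Agent.LeadBrown.RSheafHomQCoh
import Groth.Agent.LeadBrown.DetectIso
import Groth.Agent.LeadBrown.QCohTri
import Groth.Agent.LeadBrown.BCAdjoint
import Groth.Agent.H10Coh.AffinePush
import Groth.Agent.H16Derived.GTheory.Closed
import Groth.Agent.H29Fitt.PullbackQCoh

/-!
# Consequences of `i_* RHom(O_Z, -) ≅ RHom(i_* O_Z, -)`
-/

set_option autoImplicit false
set_option linter.style.haveILetI false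
set_option linter.unusedSectionVars false

universe u

open CategoryTheory CategoryTheory.Limits CategoryTheory.Functor AlgebraicGeometry

attribute [local instance] HasDerivedCategory.standard

namespace Groth.Agent.LeadBrown

open Groth.Agent.H16Derived Groth.Agent.H16Derived.QCohD
open Groth.Agent.H16Derived.ProjFormula (pushCx pullCx)
open Groth.Agent.H16Derived.Dual (T R one)

variable {Z X : Scheme.{u}} (i : Z ⟶ X)

/-- `Ri_* = i_*` naturally when `i_*` is exact. -/
noncomputable def rpushIsoPushD [PreservesFiniteLimits (Scheme.Modules.pushforward i)]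
    [PreservesFiniteColimits (Scheme.Modules.pushforward i)] [DCoh.HasRpush i] :
    DCoh.Rpush i ≅ Dual3.pushD i :=
  let W := HomotopyCategory.quasiIso Z.Modules (ComplexShape.up ℤ)
  haveI := Functor.isRightDerivedFunctor_of_inverts (L := DerivedCategory.Qh) W (Dual3.pushD i)
    (Scheme.Modules.pushforward i).mapDerivedCategoryFactorsh
  Functor.rightDerivedUnique (DCoh.Rpush i) (Dual3.pushD i)
    ((DCoh.pushKh i).totalRightDerivedUnit DerivedCategory.Qh W)
    (Scheme.Modules.pushforward i).mapDerivedCategoryFactorsh.inv W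

variable [IsClosedImmersion i]

/-- `i_*` on derived categories has a right adjoint. -/
theorem exists_rightAdjoint_pushD [Dual3.HasHomO i] [PreservesFiniteLimits (Scheme.Modules.pushforward i)]
    [PreservesFiniteColimits (Scheme.Modules.pushforward i)] :
    ∃ G : DCoh.D X ⥤ DCoh.D Z, Nonempty (Dual3.pushD i ⊣ G) := by
  haveI := KFlat.Stalk.isGrothendieckAbelian_modules (X := X)
  haveI := ExactRightAdj.hasPointwise (F := Dual3.homO i)
  exact ⟨_, ⟨ExactRightAdj.adjD (Dual3.homOAdj i)⟩⟩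

variable [PreservesFiniteLimits (Scheme.Modules.pushforward i)]
  [PreservesFiniteColimits (Scheme.Modules.pushforward i)]

/-- `i_* O` agrees with `O_Z` pushed. -/
noncomputable def pushOneIso :
    pushOne i ≅ DCoh.inD X ((Scheme.Modules.pushforward i).obj (Coh.structureModule Z)) :=
  ((pushDQNat i).app (Dual.S₀ Z)).symm ≪≫ (Dual3.pushD i).mapIso Dual.oneIso.symm ≪≫
    ((Scheme.Modules.pushforward i).mapDerivedCategorySingleFunctor 0).app (Coh.structureModule Z)

/-- `i_* G ≅ RHom(k, -)` for the right adjoint `G` of `i_*` and `k ≅ i_* O`. -/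
theorem nonempty_pushD_rightAdjoint {G : DCoh.D X ⥤ DCoh.D Z} (adjG : Dual3.pushD i ⊣ G) {k : DCoh.D X}
    (e : k ≅ DCoh.inD X ((Scheme.Modules.pushforward i).obj (Coh.structureModule Z))) :
    Nonempty (G ⋙ Dual3.pushD i ≅ R k) := by
  haveI := KFlat.Stalk.hasLpull i
  haveI := QCohD.hasRpush i
  exact ⟨isoWhiskerLeft G (rpushIsoPushD i).symm ≪≫ rpushHomOIso i adjG ≪≫
    Dual.RIso (pushOneIso i ≪≫ e.symm)⟩

/-- `G` keeps quasi-coherence below. -/
theorem isQCohD_rightAdjoint_pushD {G : DCoh.D X ⥤ DCoh.D Z} (adjG : Dual3.pushD i ⊣ G)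
    (hpc : ∀ m : ℤ, DCoh.IsPseudoCoherentD m
      (DCoh.inD X ((Scheme.Modules.pushforward i).obj (Coh.structureModule Z))))
    {L : DCoh.D X} (hL : DCoh.IsQCohD L) (c : ℤ) [L.IsGE c] : DCoh.IsQCohD (G.obj L) := fun n => by
  obtain ⟨e⟩ := nonempty_pushD_rightAdjoint i adjG (Iso.refl _)
  have h := isQCoh_hd_R (c - n - 1) (hpc _) hL c n (by omega)
  haveI := ProjFormula.isIso_counit_of_isClosedImmersion i (DCoh.HD (G.obj L) n)
  refine QCohD.isQCoh_iso (asIso ((Scheme.Modules.pullbackPushforwardAdjunction i).counit.app _))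
    (H29Fitt.isQCoh_pullback i _ (QCohD.isQCoh_iso ((DerivedCategory.homologyFunctor _ n).mapIso (e.app L).symm ≪≫
      H8Props.PushPC.hdPushD i (G.obj L) n) h))

/-- A trace universal among quasi-coherent objects computes `G`. -/
theorem isIso_homEquiv_of_quasiCoherent [CompactSpace Z] [QuasiSeparatedSpace Z]
    {G : DCoh.D X ⥤ DCoh.D Z} (adjG : Dual3.pushD i ⊣ G)
    (hpc : ∀ m : ℤ, DCoh.IsPseudoCoherentD m
      (DCoh.inD X ((Scheme.Modules.pushforward i).obj (Coh.structureModule Z))))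
    {N : DCoh.D Z} (hN : DCoh.IsQCohD N) {L : DCoh.D X} (hL : DCoh.IsQCohD L) (c : ℤ) [L.IsGE c]
    (ξ : (Dual3.pushD i).obj N ⟶ L)
    (h : ∀ V : DCoh.D Z, DCoh.IsQCohD V →
      Function.Bijective fun x : V ⟶ N => (Dual3.pushD i).map x ≫ ξ) :
    IsIso (adjG.homEquiv _ _ ξ) := by
  refine isIso_of_bijective_postcomp hN (isQCohD_rightAdjoint_pushD i adjG hpc hL c) _ fun P hP => ?_
  have h' := ((adjG.homEquiv P L).bijective).comp (h P (Dual.isQCohD_of_isPerfect hP))
  convert h' using 1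
  funext x
  simp only [Function.comp_apply, Adjunction.homEquiv_naturality_left]

/-- A trace universal among quasi-coherent objects is universal. -/
theorem bijective_of_quasiCoherent [CompactSpace Z] [QuasiSeparatedSpace Z]
    (hpc : ∀ m : ℤ, DCoh.IsPseudoCoherentD m
      (DCoh.inD X ((Scheme.Modules.pushforward i).obj (Coh.structureModule Z))))
    [Dual3.HasHomO i] {N : DCoh.D Z} (hN : DCoh.IsQCohD N) {L : DCoh.D X} (hL : DCoh.IsQCohD L) (c : ℤ) [L.IsGE c]
    (ξ : (Dual3.pushD i).obj N ⟶ L)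
    (h : ∀ V : DCoh.D Z, DCoh.IsQCohD V →
      Function.Bijective fun x : V ⟶ N => (Dual3.pushD i).map x ≫ ξ) :
    ∀ V : DCoh.D Z, Function.Bijective fun x : V ⟶ N => (Dual3.pushD i).map x ≫ ξ := by
  obtain ⟨G, ⟨adjG⟩⟩ := exists_rightAdjoint_pushD i
  let η : N ⟶ G.obj L := adjG.homEquiv _ _ ξ
  haveI : IsIso η := isIso_homEquiv_of_quasiCoherent i adjG hpc hN hL c ξ h
  intro V
  have key : (fun x : V ⟶ N => (Dual3.pushD i).map x ≫ ξ) =
      (adjG.homEquiv V L).symm ∘ fun x => x ≫ η := funext fun x => by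
    simp only [Function.comp_apply, η, Adjunction.homEquiv_naturality_left_symm, Equiv.symm_apply_apply]
  rw [key]
  exact ((adjG.homEquiv V L).symm.bijective).comp
    ⟨fun a b h => (cancel_mono η).1 h, fun y => ⟨y ≫ inv η, by simp⟩⟩

/-- `a ≅ G` on bounded below objects. -/
theorem nonempty_rightAdjointQ_iso [CompactSpace Z] [QuasiSeparatedSpace Z]
    {G : DCoh.D X ⥤ DCoh.D Z} (adjG : Dual3.pushD i ⊣ G)
    (hpc : ∀ m : ℤ, DCoh.IsPseudoCoherentD m
      (DCoh.inD X ((Scheme.Modules.pushforward i).obj (Coh.structureModule Z))))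
    [DCoh.HasRpush i] {hf : DCoh.RpushPreservesQCoh i} {a : DCoh.DQCoh X ⥤ DCoh.DQCoh Z}
    (adj : DCoh.RpushQ i hf ⊣ a) :
    Nonempty (Dual3.bddι X ⋙ a ⋙ ObjectProperty.ι _ ≅ Dual3.bddι X ⋙ ObjectProperty.ι _ ⋙ G) := by
  let p := rpushIsoPushD i
  let ξ : ∀ K : DCoh.DQCoh X, (Dual3.pushD i).obj (a.obj K).obj ⟶ K.obj := fun K =>
    p.inv.app _ ≫ (adj.counit.app K).hom
  have hiso : ∀ K : (Dual3.IsBddBelowQ X).FullSubcategory, IsIso (adjG.homEquiv _ _ (ξ K.obj)) := fun K => by
    obtain ⟨c, hc⟩ := K.property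
    haveI : DerivedCategory.IsGE K.obj.obj c := hc
    refine isIso_homEquiv_of_quasiCoherent i adjG hpc (a.obj K.obj).property K.obj.property c _ fun V hV => ?_
    have h := ((p.app V).homCongr (Iso.refl K.obj.obj)).bijective.comp (universal_trace adj K.obj V hV)
    convert h using 1
    funext x
    simp only [Function.comp_apply, Iso.homCongr_apply, Iso.refl_hom, Category.comp_id, Iso.app_inv, ξ]
    exact (reassoc_of% (p.inv.naturality x)) _
  exact ⟨NatIso.ofComponents (fun K => @asIso _ _ _ _ (adjG.homEquiv _ _ (ξ K.obj)) (hiso K)) fun {K K'} k => by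
    show (a.map k.hom).hom ≫ adjG.homEquiv _ _ (ξ K'.obj) = adjG.homEquiv _ _ (ξ K.obj) ≫ G.map k.hom.hom
    rw [← Adjunction.homEquiv_naturality_left, ← Adjunction.homEquiv_naturality_right]
    refine congrArg _ ?_
    simp only [ξ, Category.assoc]
    have hn := congrArg (fun z => z.hom) (adj.counit.naturality k.hom)
    exact ((reassoc_of% (p.inv.naturality (a.map k.hom).hom)) _).trans (congrArg (p.inv.app _ ≫ ·) hn)⟩

/-- On `D^+` the right adjoint of `i_*` is `RHom(O_Z, -)`. -/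
theorem nonempty_RHomOPlus_iso [Dual3.HasHomO i] [EnoughInjectives X.Modules]
    {G : DCoh.D X ⥤ DCoh.D Z} (adjG : Dual3.pushD i ⊣ G) :
    Nonempty ((DerivedCategory.Plus.ι : DerivedCategory.Plus X.Modules ⥤ DCoh.D X) ⋙ G ≅
      Dual3.RHomOPlus i ⋙ (DerivedCategory.Plus.ι : DerivedCategory.Plus Z.Modules ⥤ DCoh.D Z)) := by
  haveI := KFlat.Stalk.isGrothendieckAbelian_modules (X := Z)
  exact nonempty_plus_rightAdjoint (Dual3.homOAdj i) adjG

/-- `G` keeps coherence below. -/
theorem isCohD_rightAdjoint_pushD [IsLocallyNoetherian X] {G : DCoh.D X ⥤ DCoh.D Z} (adjG : Dual3.pushD i ⊣ G)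
    (hpc : ∀ m : ℤ, DCoh.IsPseudoCoherentD m
      (DCoh.inD X ((Scheme.Modules.pushforward i).obj (Coh.structureModule Z))))
    {L : DCoh.D X} (hL : DCoh.IsCohD L) (c : ℤ) [L.IsGE c] : DCoh.IsCohD (G.obj L) := fun n => by
  obtain ⟨e⟩ := nonempty_pushD_rightAdjoint i adjG (Iso.refl _)
  haveI := ProjFormula.isIso_counit_of_isClosedImmersion i (DCoh.HD (G.obj L) n)
  have h : Coh.IsCoh ((Scheme.Modules.pushforward i).obj (DCoh.HD (G.obj L) n)) :=
    H10Coh.isCoh_of_iso ((DerivedCategory.homologyFunctor _ n).mapIso (e.app L).symm ≪≫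
      H8Props.PushPC.hdPushD i (G.obj L) n) (Dual.isCohD_R hpc hL c n)
  exact H10Coh.isCoh_of_iso (asIso ((Scheme.Modules.pullbackPushforwardAdjunction i).counit.app _))
    ⟨H29Fitt.isQCoh_pullback i _ h.1, H29Fitt.isFT_pullback i _ h.1 h.2⟩

/-- `i_* O` is pseudo-coherent over a locally noetherian base. -/
theorem pcStr_of_locallyNoetherian [IsLocallyNoetherian X] (m : ℤ) :
    DCoh.IsPseudoCoherentD m (DCoh.inD X ((Scheme.Modules.pushforward i).obj (Coh.structureModule Z))) := by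
  haveI : IsLocallyNoetherian Z := LocallyOfFiniteType.isLocallyNoetherian i
  exact KFlat.Stalk.isPseudoCoherentD_inD_of_isCoh'
    (H10Coh.isCoh_push_of_isFinite i _ (H10Coh.isCoh_structureModule' Z)) m

end Groth.Agent.LeadBrown
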