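import Groth.Agent.H8Props.RelPCTransfer

/-!
# Pseudo-coherent closed immersions
-/

set_option autoImplicit false
set_option linter.style.haveILetI false
set_option backward.isDefEq.respectTransparency false

universe u

open CategoryTheory CategoryTheory.Limits AlgebraicGeometry

attribute [local instance] HasDerivedCategory.standard

namespace Groth.Agent.LeadBrown

open H16Derived.KFlat.Stalk H8Props H8Props.PushPC

variable {Z W X : Scheme.{u}}

/-- Pseudo-coherent closed immersions compose. -/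
theorem pcStr_comp (a : Z ⟶ W) [IsClosedImmersion a] (b : W ⟶ X) [IsClosedImmersion b] (ha : PCStr a)
    (hb : PCStr b) : PCStr (a ≫ b) := fun m =>
  isPseudoCoherentD_of_iso
    ((pushDInD b _) ≪≫ (DerivedCategory.singleFunctor _ 0).mapIso
      ((Scheme.Modules.pushforwardComp a b).app _))
    ((pc_pushD_iff b hb _ m).1 (ha m))

theorem pcStr_congr {a b : Z ⟶ W} (h : a = b) (ha : PCStr a) : PCStr b := h ▸ ha

/-- Between affine schemes. -/
theorem pcStr_affine (i : Z ⟶ W) [IsClosedImmersion i] [IsAffine W]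
    (hi : MoreMor.IsPseudoCoherentMor i) : PCStr i := by
  obtain ⟨hZ, hsurj⟩ := IsClosedImmersion.isAffine_surjective_of_isAffine i
  haveI := hZ
  have he : i.appLE ⊤ ⊤ le_top = i.appTop := by simp [Scheme.Hom.appLE, Scheme.Hom.appTop]
  letI := (i.appLE ⊤ ⊤ le_top).hom.toAlgebra
  have h : MoreMor.IsPseudoCoherentHom Γ(W, ⊤) Γ(Z, ⊤) := hi ⊤ ⊤ (isAffineOpen_top Z) (isAffineOpen_top W) le_top
  let ψ : MvPolynomial PEmpty.{u + 1} Γ(W, ⊤) →ₐ[Γ(W, ⊤)] Γ(Z, ⊤) := MvPolynomial.aeval PEmpty.elim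
  have hψ : Function.Surjective ψ := fun z => by
    obtain ⟨w, hw⟩ := hsurj z
    refine ⟨MvPolynomial.C w, ?_⟩
    rw [MvPolynomial.aeval_C]
    show (i.appLE ⊤ ⊤ le_top).hom w = z
    rw [he]
    exact hw
  have hr : PseudoCoh.RFP i.appTop.hom := by
    rw [← he, show (i.appLE ⊤ ⊤ le_top).hom = ψ.toRingHom.comp MvPolynomial.C from
      RingHom.ext fun a => (MvPolynomial.aeval_C _ a).symm]
    exact PseudoCoh.RFP.comp
      (PseudoCoh.rfp_of_bijective _ ⟨MvPolynomial.C_injective _ _, MvPolynomial.C_surjective _⟩)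
      (PseudoCoh.rfp_of_isPseudoCoherentHom h ψ hψ)
  haveI : IsClosedImmersion (Spec.map i.appTop) := IsClosedImmersion.spec_of_surjective _ hsurj
  have h1 : PCStr (Z.isoSpec.hom ≫ Spec.map i.appTop) :=
    pcStr_comp _ _ (RelPC.pcStr_of_isIso _) (pcStr_specMap i.appTop.hom hsurj hr)
  refine pcStr_congr ?_ (pcStr_comp (Z.isoSpec.hom ≫ Spec.map i.appTop) W.isoSpec.inv h1 (RelPC.pcStr_of_isIso _))
  rw [Scheme.isoSpec_hom_naturality, Category.assoc, Iso.hom_inv_id, Category.comp_id]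

/-- Pseudo-coherent closed immersions push `O` to a pseudo-coherent object. -/
theorem pcStr_of_isPseudoCoherentMor (i : Z ⟶ X) [IsClosedImmersion i]
    (hi : MoreMor.IsPseudoCoherentMor i) : PCStr i := fun m => isPseudoCoherentD_of_rd fun x => by
  obtain ⟨_, ⟨(V : X.Opens), hV, rfl⟩, hxV, -⟩ :=
    X.isBasis_affineOpens.exists_subset_of_mem_open (Set.mem_univ x) isOpen_univ
  haveI : IsAffine (V : Scheme.{u}) := hV
  exact ⟨V, hxV, isPseudoCoherentD_of_iso (rdInD V.ι _ ≪≫ (DerivedCategory.singleFunctor _ 0).mapIso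
    ((pushRestrictNatIso i V).app _ ≪≫
      (Scheme.Modules.pushforward (i ∣_ V)).mapIso (Scheme.Modules.restrictUnitIso (i ⁻¹ᵁ V).ι))).symm
    (pcStr_affine (i ∣_ V) (IsZariskiLocalAtTarget.restrict (P := @MoreMor.IsPseudoCoherentMor) hi V) m)⟩

end Groth.Agent.LeadBrown
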