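import Groth.Agent.LeadBrown.RelPerfectFP
import Groth.Agent.LeadBrown.ClosedHomO2
import Groth.Agent.LeadBrown.PCClosed
import Groth.Agent.S7169
import Groth.Agent.S3630

/-!
# Rigidity of the dualizing complex of a proper flat morphism
-/

set_option autoImplicit false
set_option linter.style.haveILetI false
set_option linter.unusedSectionVars false

universe u

open CategoryTheory CategoryTheory.Limits CategoryTheory.Functor AlgebraicGeometry

attribute [local instance] HasDerivedCategory.standard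

namespace Groth.Agent.LeadBrown

open Groth.Agent.H16Derived Groth.Agent.H16Derived.QCohD
open Groth.Agent.H16Derived.KFlat.Stalk (rd rdQ hasLpull)
open DerivedCategory.TStructure (t)

variable {X Y : Scheme.{u}}

/-- Restriction along the identity, naturally. -/
noncomputable def rdIdNat (X : Scheme.{u}) : rd (𝟙 X) ≅ 𝟭 (DCoh.D X) :=
  Localization.liftNatIso DerivedCategory.Q (HomologicalComplex.quasiIso X.Modules (ComplexShape.up ℤ))
    (DerivedCategory.Q ⋙ rd (𝟙 X)) DerivedCategory.Q _ _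
    (rdQ (𝟙 X) ≪≫ isoWhiskerRight (NatIso.mapHomologicalComplex (Scheme.Modules.restrictFunctorId (X := X)) _ ≪≫
      Functor.mapHomologicalComplexIdIso X.Modules (ComplexShape.up ℤ)) DerivedCategory.Q ≪≫
      Functor.leftUnitor _)

/-- `R(id)_* = id`. -/
noncomputable def rpushIdNat (X : Scheme.{u}) [DCoh.HasRpush (𝟙 X)] : DCoh.Rpush (𝟙 X) ≅ 𝟭 (DCoh.D X) :=
  ((Thomason.restrictRpushAdj (𝟙 X)).ofNatIsoLeft (rdIdNat X)).rightAdjointUniq Adjunction.id

theorem nonempty_rpush_congr {a b : X ⟶ Y} (h : a = b) [DCoh.HasRpush a] [DCoh.HasRpush b] :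
    Nonempty (DCoh.Rpush a ≅ DCoh.Rpush b) := by
  subst h
  exact ⟨Iso.refl _⟩

/-- `Rb_* Δ_* = id` for a section `Δ` of `b`. -/
theorem nonempty_pushD_section (Δ : X ⟶ Y) (b : Y ⟶ X) (w : Δ ≫ b = 𝟙 X)
    [PreservesFiniteLimits (Scheme.Modules.pushforward Δ)] [PreservesFiniteColimits (Scheme.Modules.pushforward Δ)]
    [QuasiCompact Δ] [QuasiSeparated Δ] [DCoh.HasRpush b] :
    Nonempty (Dual3.pushD Δ ⋙ DCoh.Rpush b ≅ 𝟭 (DCoh.D X)) := by
  haveI := QCohD.hasRpush Δ
  haveI := QCohD.hasRpush (𝟙 X)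
  haveI : DCoh.HasRpush (Δ ≫ b) := w.symm ▸ QCohD.hasRpush (𝟙 X)
  obtain ⟨c⟩ := KFlat.Stalk.nonempty_rpushCompIso Δ b
  obtain ⟨d⟩ := nonempty_rpush_congr w
  exact ⟨isoWhiskerRight (rpushIsoPushD Δ).symm _ ≪≫ c ≪≫ d ≪≫ rpushIdNat X⟩

/-- Bijectivity for all shifts. -/
theorem bijective_shift {C D : Type*} [Category C] [Category D] [HasShift C ℤ] [HasShift D ℤ]
    (P : C ⥤ D) [P.CommShift ℤ] {A : C} {L : D} (ξ : P.obj A ⟶ L)
    (h : ∀ N : C, Function.Bijective fun x : N ⟶ A => P.map x ≫ ξ) (M : C) (j : ℤ) :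
    Function.Bijective fun φ : M ⟶ A⟦j⟧ => P.map φ ≫ (P.commShiftIso j).hom.app A ≫ ξ⟦j⟧' := by
  let F := shiftFunctor C j
  let F' := shiftFunctor D j
  let N := F.objPreimage M
  let e : F.obj N ≅ M := F.objObjPreimageIso M
  let c := (P.commShiftIso j).app N
  have key : ∀ x : N ⟶ A, P.map (e.inv ≫ F.map x) ≫ (P.commShiftIso j).hom.app A ≫ ξ⟦j⟧' =
      P.map e.inv ≫ c.hom ≫ F'.map (P.map x ≫ ξ) := fun x => by
    have hn := (P.commShiftIso j).hom.naturality x
    simp only [Functor.comp_map] at hn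
    simp only [Functor.map_comp, Category.assoc, F, F', c, Iso.app_hom]
    rw [reassoc_of% hn]
  have hb : Function.Bijective fun x : N ⟶ A => e.inv ≫ F.map x :=
    ⟨fun a b hab => F.map_injective ((cancel_epi e.inv).1 hab),
      fun φ => ⟨F.preimage (e.hom ≫ φ), by simp⟩⟩
  refine (Function.Bijective.of_comp_iff _ hb).1 ?_
  simp only [Function.comp_def, key]
  refine ⟨fun a b hab => (h N).1 (F'.map_injective ((cancel_epi c.hom).1 ((cancel_epi (P.map e.inv)).1 hab))),
    fun ψ => ?_⟩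
  obtain ⟨x, hx⟩ := (h N).2 (F'.preimage (c.inv ≫ P.map e.hom ≫ ψ))
  refine ⟨x, ?_⟩
  simp only at hx ⊢
  rw [hx, Functor.map_preimage, Iso.hom_inv_id_assoc, ← Functor.map_comp_assoc, Iso.inv_hom_id,
    CategoryTheory.Functor.map_id, Category.id_comp]

variable {S : Scheme.{u}} [CompactSpace S] [QuasiSeparatedSpace S] (f : X ⟶ S) [IsProper f] [Flat f]
  [LocallyOfFinitePresentation f] [DCoh.HasLpull (pullback.fst f f)]
  [PreservesFiniteLimits (Scheme.Modules.pushforward (pullback.diagonal f))]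
  [PreservesFiniteColimits (Scheme.Modules.pushforward (pullback.diagonal f))]
  [DCoh.HasRpush f] {hf : DCoh.RpushPreservesQCoh f} {a : DCoh.DQCoh S ⥤ DCoh.DQCoh X}
  (adj : DCoh.RpushQ f hf ⊣ a) (O : DCoh.DQCoh S) (eO : O.obj ≅ DCoh.inD S (Coh.structureModule S))

include adj eO

/-- `ω` is rigid. -/
theorem isRelDualizing : Dual3.IsRelDualizing f (a.obj O).obj := by
  let Δ := pullback.diagonal f
  let p₁ := pullback.fst f f
  let p₂ := pullback.snd f f
  haveI : CompactSpace X := QuasiCompact.compactSpace_of_compactSpace f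
  haveI : QuasiSeparatedSpace X := quasiSeparatedSpace_of_quasiSeparated f
  haveI : CompactSpace ↑(pullback f f) := QuasiCompact.compactSpace_of_compactSpace p₂
  haveI : QuasiSeparatedSpace ↑(pullback f f) := quasiSeparatedSpace_of_quasiSeparated p₂
  haveI := QCohD.hasRpush p₂
  obtain ⟨hp₂, a₂, adj₂, O₂, eO₂, ⟨e⟩⟩ :=
    exists_lpull_dualizing (IsPullback.of_hasPullback f f) hf adj O eO
  obtain ⟨hpc, htd⟩ := relPerfect adj O eO
  let L := (DCoh.Lpull p₁).obj (a.obj O).obj
  have hL : DCoh.IsQCohD L := QCohD.isQCohD_lpull p₁ (a.obj O).property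
  haveI : (DCoh.inD S (Coh.structureModule S)).IsGE 0 := inferInstance
  obtain ⟨lo, hlo⟩ := exists_isGE adj O 0 (t.isGE_of_iso eO.symm 0)
  haveI := hlo
  haveI : L.IsGE lo := isGE_lpull_flat p₁ _ lo hlo
  let one := DCoh.inD X (Coh.structureModule X)
  let t₂ : (DCoh.Rpush p₂).obj L ⟶ one :=
    (DCoh.Rpush p₂).map e.hom ≫ (adj₂.counit.app O₂).hom ≫ eO₂.hom
  have ht : ∀ U : DCoh.D ↑(pullback f f), DCoh.IsQCohD U →
      Function.Bijective fun y : U ⟶ L => (DCoh.Rpush p₂).map y ≫ t₂ := fun U hU => by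
    have h := ((Iso.refl ((DCoh.Rpush p₂).obj U)).homCongr eO₂).bijective.comp
      ((universal_trace adj₂ O₂ U hU).comp ((Iso.refl U).homCongr e).bijective)
    convert h using 1
    funext y
    simp only [Function.comp_apply, Iso.homCongr_apply, Iso.refl_inv, Category.id_comp, Functor.map_comp, t₂,
      Category.assoc]
    rfl
  haveI : IsClosedImmersion Δ := inferInstance
  obtain ⟨p⟩ := nonempty_pushD_section Δ p₂ (pullback.diagonal_snd f)
  haveI := QCohD.hasRpush Δ
  have hpush : ∀ V, DCoh.IsQCohD V → DCoh.IsQCohD ((Dual3.pushD Δ).obj V) := fun V hV i =>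
    QCohD.isQCoh_iso ((DerivedCategory.homologyFunctor _ i).mapIso ((rpushIsoPushD Δ).app V))
      (QCohD.isQCohD_rpush Δ hV i)
  have hone : DCoh.IsQCohD one := Dual.isQCohD_of_isPerfect (PnD.isPerfect_one X)
  obtain ⟨ξ, hξ⟩ := (ht _ (hpush _ hone)).2 (p.hom.app one)
  refine ⟨ξ, hpc, htd, fun M j => ?_⟩
  have hQ : ∀ V : DCoh.D X, DCoh.IsQCohD V →
      Function.Bijective fun x : V ⟶ one => (Dual3.pushD Δ).map x ≫ ξ := fun V hV => by
    refine (Function.Bijective.of_comp_iff' (ht _ (hpush V hV)) _).1 ?_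
    have h := ((p.app V).symm.homCongr (Iso.refl one)).bijective
    convert h using 1
    funext x
    simp only [Function.comp_apply, Functor.map_comp, Category.assoc] at hξ ⊢
    rw [hξ]
    have hn := p.hom.naturality x
    simp only [Functor.comp_map, Functor.id_map] at hn
    rw [hn]
    simp
  have hΔpc : ∀ m : ℤ, DCoh.IsPseudoCoherentD m
      (DCoh.inD _ ((Scheme.Modules.pushforward Δ).obj (Coh.structureModule X))) := by
    refine pcStr_of_isPseudoCoherentMor Δ (S7169.result Δ p₂ ?_ (H8Props.PseudoCoh.isPseudoCoherentMor_of_flat p₂))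
    rw [show Δ ≫ p₂ = 𝟙 X from pullback.diagonal_snd f]
    exact H8Props.PseudoCoh.isPseudoCoherentMor_of_flat (𝟙 X)
  have hall := (haveI := S3630.result X _ Δ; bijective_of_quasiCoherent Δ hΔpc) hone hL lo ξ hQ
  exact bijective_shift (Dual3.pushD Δ) ξ hall M j

end Groth.Agent.LeadBrown
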