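import Groth.Agent.LeadBrown.Dominate
import Groth.Agent.LeadBrown.OneHom
import Groth.Agent.LeadBrown.Rigidity

/-!
# Nonvanishing of `O` and descent along isomorphisms
-/

set_option autoImplicit false

universe u

open CategoryTheory CategoryTheory.Limits AlgebraicGeometry

attribute [local instance] HasDerivedCategory.standard

namespace Groth.Agent.LeadBrown

open Groth.Agent.H16Derived.KFlat.Stalk (rd)

theorem not_isZero_structureModule {U : Scheme.{u}} [Nonempty U] : ¬ IsZero (Coh.structureModule U) := fun h => by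
  have h2 : (1 : Γ(U, ⊤)) = 0 := mu_oX_bijective.1
    (((DerivedCategory.singleFunctor U.Modules 0).map_isZero h).eq_of_src _ _)
  obtain ⟨x⟩ := ‹Nonempty U›
  have h3 := congrArg (U.presheaf.germ ⊤ x trivial) h2
  rw [map_one, map_zero] at h3
  exact one_ne_zero h3

/-- `H^{-n}(O[n])` does not vanish. -/
theorem not_isZero_hd_oX_shift {U : Scheme.{u}} [Nonempty U] (n : ℤ) :
    ¬ IsZero (DCoh.HD ((oX U)⟦n⟧) (-n)) := fun h =>
  not_isZero_structureModule (h.of_iso
    ((((DerivedCategory.homologyFunctor U.Modules 0).shiftIso n (-n) 0 (by omega)).app (oX U)) ≪≫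
      (DerivedCategory.singleFunctorCompHomologyFunctorIso U.Modules 0).app _).symm)

/-- Isomorphisms descend along an isomorphism of schemes. -/
noncomputable def rdPreimageIso {A B : Scheme.{u}} (q : A ⟶ B) [IsIso q] {E E' : DCoh.D B}
    (e : (rd q).obj E ≅ (rd q).obj E') : E ≅ E' :=
  haveI : IsIso (inv q) := inferInstance
  let k := (nonempty_rdCompIso (inv q) q (𝟙 B) (IsIso.inv_hom_id q)).some
  (rdIdNat B).symm.app E ≪≫ k.app E ≪≫ (rd (inv q)).mapIso e ≪≫ (k.app E').symm ≪≫ (rdIdNat B).app E'

end Groth.Agent.LeadBrown
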