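import Groth.Agent.LeadBrown.ShriekSmooth
import Groth.Agent.LeadBrown.OXShift
import Groth.Agent.H4RepDual.FieldVan
import Groth.Agent.H4RepDual.PointScheme
import Groth.Agent.H4RSH.Invertible
import Groth.Agent.H17.LocusBC
import Groth.Agent.H29Omega.DerLocal
import Groth.Agent.H17.PrinOmega
import Groth.Agent.H22Alg.ExtPowHom
import Groth.Agent.H22Alg.ExtPowSES
import Groth.Agent.H27CurveDiv.RelDim
import Groth.Agent.H29RR.SmoothRegular
import Groth.Agent.H8Props.Devissage.LocalFibre
import Groth.Agent.H8Props.FieldDimSmooth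
import Groth.Agent.H8Props.NormalLowDim
import Groth.Agent.H8Props.FunDescent.GenericFree
import Groth.Agent.H29Omega.SheafFinite
import Groth.Agent.H29Ref.BigOpen
import Groth.Agent.H29Ref.DenseExt
import Groth.Agent.H29Ref.RefPow
import Groth.Agent.H29Ref.Rational
import Groth.Agent.H10Coh.FinType2
import Groth.Agent.S7877
import Groth.Agent.S7862
import Groth.Agent.S1561
import Groth.Agent.S5792

/-!
# The dualizing sheaf of a normal variety over a perfect field
-/

set_option autoImplicit false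
set_option linter.style.haveILetI false
set_option linter.unusedSectionVars false
set_option backward.isDefEq.respectTransparency false
set_option synthInstance.maxHeartbeats 400000
set_option maxHeartbeats 2000000

universe u

open CategoryTheory CategoryTheory.Limits AlgebraicGeometry TopologicalSpace Opposite

attribute [local instance] HasDerivedCategory.standard

namespace Groth.Agent.LeadBrown

open Groth.Agent.H16Derived
open Groth.Agent.H16Derived.KFlat.Stalk (rd rdComp homologyRdIso isZero_hdSingle)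

/-- Exterior powers of coherent modules are coherent. -/
theorem isCoh_of_isExtPow' {X : Scheme.{u}} [IsLocallyNoetherian X] {i : ℕ} {E L : X.Modules} (hE : Coh.IsCoh E)
    (hL : ExtPow.IsExtPow i E L) : Coh.IsCoh L := by
  haveI : L.IsQuasicoherent := H22Alg.ExtPowHom.isQCoh_of_isExtPow hE.1 hL
  haveI : E.IsQuasicoherent := hE.1
  rw [H10Coh.isCoh_iff_finite_sections L]
  refine ⟨‹L.IsQuasicoherent›, fun U hU => ?_⟩
  obtain ⟨φ, -⟩ := hL
  haveI : Module.Finite Γ(X, U) Γ(E, U) := @H10Coh.finite_sections _ E hE.1 hE.2 _ hU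
  haveI : Module.Finite Γ(X, U) (E.val.obj (op U)) := ‹Module.Finite Γ(X, U) Γ(E, U)›
  let φ' : Γ(L, U) ≃ₗ[Γ(X, U)] ↥(⋀[Γ(X, U)]^i Γ(E, U)) := φ ⟨U, hU⟩
  exact Module.Finite.equiv φ'.symm

theorem isDualizingSch_of_open {X U : Scheme.{u}}
    [∀ (U V : Scheme.{u}) (j : U ⟶ V) [IsOpenImmersion j], PreservesFiniteLimits (Scheme.Modules.restrictFunctor j)]
    [∀ (R : CommRingCat.{u}), PreservesFiniteLimits (tilde.functor R)]
    (j : U ⟶ X) [IsOpenImmersion j] {K : DCoh.D X} (hK : Dual2.IsDualizingSch X K) :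
    Dual2.IsDualizingSch U ((rd j).obj K) := fun A _ i _ => by
  obtain ⟨ω, hω, ⟨e⟩⟩ := hK A (i ≫ j)
  exact ⟨ω, hω, ⟨(rdComp i j (i ≫ j) rfl K).symm ≪≫ e⟩⟩

variable {k : Type u} [Field k] [PerfectField k] {X : Scheme.{u}} {p : X ⟶ Spec (CommRingCat.of k)}
  [Dual3.IsSepFT p] [ConnectedSpace X]
  [∀ (U V : Scheme.{u}) (j : U ⟶ V) [IsOpenImmersion j], PreservesFiniteLimits (Scheme.Modules.restrictFunctor j)]

/-- **`ω_X ≅ (Ω^n)^∨∨` for a normal connected variety over a perfect field.** -/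
theorem nonempty_dualizing_normal (hX : Pi1.IsNormalScheme X) (n : ℕ)
    (hdim : topologicalKrullDim X = (n : WithBot ℕ∞))
    (c : DEt.Compactification p) [DCoh.HasRpush c.fbar] {hc : DCoh.RpushPreservesQCoh c.fbar}
    {a : DCoh.DQCoh (Spec (CommRingCat.of k)) ⥤ DCoh.DQCoh c.Xbar} (adj : DCoh.RpushQ c.fbar hc ⊣ a)
    (O : DCoh.DQCoh (Spec (CommRingCat.of k))) (eO : O.obj ≅ oX (Spec (CommRingCat.of k)))
    (W : X.Modules) (hW : ExtPow.IsExtPow n (Omega.sheaf p) W) :
    Nonempty (DCoh.HD (haveI := c.isOpenImmersion; (rd c.j).obj (a.obj O).obj) (-(n : ℤ)) ≅ RefHull.ddual W) := by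
  haveI : ∀ R : CommRingCat.{u}, PreservesFiniteLimits (tilde.functor R) := fun R =>
    QCohD.preservesFiniteLimits_tilde_of _
  haveI := c.isOpenImmersion
  haveI := c.isProper
  haveI := isNoetherian_of_isSepFT p
  haveI : IsIntegral X := S7862.isIntegral_of_connected X fun t => (hX t).1
  haveI : LocallyOfFiniteType p := Dual3.IsSepFT.locallyOfFiniteType
  haveI : IsSeparated p := Dual3.IsSepFT.isSeparated
  haveI : QuasiCompact p := Dual3.IsSepFT.quasiCompact
  haveI : LocallyOfFinitePresentation p := inferInstance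
  letI : X.Over (Spec (CommRingCat.of k)) := ⟨p⟩
  haveI : LocallyOfFinitePresentation (X ↘ Spec (CommRingCat.of k)) := ‹LocallyOfFinitePresentation p›
  let U : X.Opens := p.smoothLocus
  have hU : ∀ x : X, x ∉ U → (2 : WithBot ℕ∞) ≤ ringKrullDim (X.presheaf.stalk x) := fun x hx => by
    by_contra h
    haveI := (hX x).1
    haveI := (hX x).2
    refine hx (((S1561.result k X).1 x).2 (H8Props.NormalLowDim.isRegularLocalRing_of_dim_le_one (X.presheaf.stalk x) ?_))
    revert h
    induction ringKrullDim (X.presheaf.stalk x) with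
    | bot => simp
    | coe d =>
      intro h
      rw [show (2 : WithBot ℕ∞) = ((2 : ℕ∞) : WithBot ℕ∞) from rfl, WithBot.coe_le_coe, not_le] at h
      rw [show (1 : WithBot ℕ∞) = ((1 : ℕ∞) : WithBot ℕ∞) from rfl, WithBot.coe_le_coe]
      exact Order.le_of_lt_add_one (h.trans_eq rfl)
  have hη : genericPoint X ∈ U := by
    by_contra hη
    have h2 := hU _ hη
    rw [ringKrullDim_eq_zero_of_isField H29Ref.isField_generic] at h2
    exact absurd h2 (by decide)
  haveI : Nonempty (U : Scheme.{u}) := ⟨⟨_, hη⟩⟩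
  haveI : IsIntegral (U : Scheme.{u}) := isIntegral_of_isOpenImmersion U.ι
  haveI : Smooth (U.ι ≫ p) := H17.LocusBC.smooth_restrict_smoothLocus p
  have hdU : topologicalKrullDim ↥(U : Scheme.{u}) = (n : WithBot ℕ∞) := by
    have h : ∀ u : (U : Scheme.{u}), FlatMor.localDim (U : Scheme.{u}) u = (n : WithBot ℕ∞) := fun u => by
      rw [H8Props.Devissage.localDim_openEmbedding U.ι.isOpenEmbedding u,
        H8Props.FieldDim.localDim_eq_of_pure p (U.ι.base u) _ ?_]
      intro T hT
      rw [irreducibleComponents_eq_singleton] at hT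
      obtain rfl := hT
      rw [IsHomeomorph.topologicalKrullDim_eq _ (Homeomorph.Set.univ _).isHomeomorph]
      exact hdim
    rw [S5792.result]
    exact le_antisymm (iSup_le fun v => (h v).le) ((h ⟨_, hη⟩).ge.trans (le_iSup _ _))
  haveI : SmoothOfRelativeDimension n (U.ι ≫ p) := H27CurveDiv.smoothOfRelativeDimension_of_dim _ n hdU
  haveI : CompactSpace (U : Scheme.{u}) := isCompact_iff_compactSpace.1 (NoetherianSpace.isCompact _)
  haveI : IsNoetherian (U : Scheme.{u}) := { }
  haveI : Dual3.IsSepFT (U.ι ≫ p) := ⟨inferInstance, inferInstance, inferInstance⟩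
  let cU : DEt.Compactification (U.ι ≫ p) :=
    ⟨c.Xbar, U.ι ≫ c.j, c.fbar, inferInstance, c.isProper, by rw [Category.assoc, c.fac]⟩
  let WU : (U : Scheme.{u}).Modules := (Scheme.Modules.pullback U.ι).obj W
  have hΩq : Coh.IsQCoh (Omega.sheaf p) := H29Omega.isQCoh_sheaf p
  obtain ⟨eΩ⟩ := H29Omega.nonempty_restrict_iso_sheaf (H17.PrinOmega.isUniversal_dOmega p) U.ι
  have hWU : ExtPow.IsExtPow n (Omega.sheaf (U.ι ≫ p)) WU :=
    H22Alg.ExtPowSES.isExtPow_of_iso
      (((Scheme.Modules.restrictFunctorIsoPullback U.ι).app (Omega.sheaf p)).symm ≪≫ eΩ)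
      (H22Alg.ExtPowHom.isExtPow_pullback U.ι hΩq hW)
  obtain ⟨eS⟩ := nonempty_shriek_smooth (n := n) cU adj O eO WU hWU
  let A := (rd c.j).obj (a.obj O).obj
  let eA : (rd U.ι).obj A ≅ (DerivedCategory.singleFunctor (U : Scheme.{u}).Modules (-(n : ℤ))).obj WU :=
    (rdComp U.ι c.j (U.ι ≫ c.j) rfl _).symm ≪≫ eS ≪≫
      ((DerivedCategory.singleFunctors (U : Scheme.{u}).Modules).shiftIso (n : ℤ) (-(n : ℤ)) 0 (by omega)).app WU
  have hWUinv : PicF.IsInvertible WU := H17.FLI.isInvertible_of_rank_one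
    (H17.FLI.isInvertible_extPow (H28RR.isFinLocFreeOfRank_omega (U.ι ≫ p) n) hWU)
  let eHD : (Scheme.Modules.restrictFunctor U.ι).obj (DCoh.HD A (-(n : ℤ))) ≅ WU :=
    (homologyRdIso U.ι A _).symm ≪≫ (DerivedCategory.homologyFunctor _ _).mapIso eA ≪≫
      (DerivedCategory.singleFunctorCompHomologyFunctorIso _ (-(n : ℤ))).app WU
  have hne : ¬ IsZero (DCoh.HD A (-(n : ℤ))) := fun h => by
    obtain ⟨V, hV, ⟨eV⟩⟩ := hWUinv ⟨_, hη⟩
    haveI : Nonempty (V : Scheme.{u}) := ⟨⟨_, hV⟩⟩
    exact not_isZero_structureModule (((Scheme.Modules.restrictFunctor V.ι).map_isZero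
      (((Scheme.Modules.restrictFunctor U.ι).map_isZero h).of_iso eHD.symm)).of_iso eV.symm)
  -- dualizing
  let eO' : O.obj ≅ (DCoh.tildeD (CommRingCat.of k)).obj (Dual.inD k k) :=
    eO ≪≫ ((DerivedCategory.singleFunctor (Spec (CommRingCat.of k)).Modules 0).mapIso
      (AlgebraicGeometry.tildeSelf (R := CommRingCat.of k))).symm ≪≫
      (((tilde.functor (CommRingCat.of k)).mapDerivedCategorySingleFunctor 0).app (ModuleCat.of k k)).symm
  have hK : Dual2.IsDualizingSch X A := isDualizingSch_of_open c.j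
    (H4RepDual.isDualizingSch_rightAdjoint c.fbar (hf := hc) adj O (H4RepDual.isDualizingSch_field O eO'))
  have hcoh : DCoh.IsCohD A := H4RSH.isCohD_of_isDualizingSch hK
  -- reflexive
  have hRef : ∀ m : ℤ, (∀ i, i < m → IsZero (DCoh.HD A i)) → ¬ IsZero (DCoh.HD A m) →
      RefHull.IsReflexive (DCoh.HD A m) := fun m h1 h2 =>
    (H29Ref.isReflexive_iff _ (hcoh m)).2 fun x => S7877.result X hX A hK m h1 h2 x
  have hlow : ∀ i : ℤ, i < -(n : ℤ) → IsZero (DCoh.HD A i) := by
    by_contra hcon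
    push Not at hcon
    obtain ⟨i₀, hi₀, hni₀⟩ := hcon
    haveI : CompactSpace c.Xbar := QuasiCompact.compactSpace_of_compactSpace c.fbar
    haveI : QuasiSeparatedSpace c.Xbar := quasiSeparatedSpace_of_quasiSeparated c.fbar
    haveI hOge : O.obj.IsGE 0 := DerivedCategory.TStructure.t.isGE_of_iso eO.symm 0
    obtain ⟨lo, hlo⟩ := exists_isGE adj O 0 hOge
    haveI := isGE_rd' c.j (a.obj O).obj lo hlo
    obtain ⟨m, hm, hmin⟩ := Int.exists_least_of_bdd (P := fun i => ¬ IsZero (DCoh.HD A i))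
      ⟨lo, fun i hi => by
        by_contra hlt
        exact hi (DerivedCategory.isZero_of_isGE A lo i (by omega))⟩ ⟨i₀, hni₀⟩
    have hmn : m < -(n : ℤ) := lt_of_le_of_lt (hmin i₀ hni₀) hi₀
    have hr := hRef m (fun i hi => by
      by_contra hz
      exact absurd (hmin i hz) (by omega)) hm
    have ht := H29Ref.isTorsionFree_of_isReflexive _ (hcoh m) hr
    have hzU : IsZero ((Scheme.Modules.restrictFunctor U.ι).obj (DCoh.HD A m)) :=
      (isZero_hdSingle WU (-(n : ℤ)) m (by omega)).of_iso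
        ((homologyRdIso U.ι A m).symm ≪≫ (DerivedCategory.homologyFunctor _ m).mapIso eA)
    haveI : Subsingleton ((DCoh.HD A m).presheaf.stalk (genericPoint X)) := by
      have h' : IsZero (TopCat.Presheaf.stalk (C := Ab.{u}) (DCoh.HD A m).presheaf
          (U.ι (⟨genericPoint X, hη⟩ : (U : Scheme.{u})))) := by
        refine IsZero.of_iso ?_
          ((Scheme.Modules.restrictStalkNatIso U.ι (⟨genericPoint X, hη⟩ : (U : Scheme.{u}))).app
            (DCoh.HD A m)).symm
        exact (Scheme.Modules.toPresheaf _ ⋙ TopCat.Presheaf.stalkFunctor Ab.{u}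
          (⟨genericPoint X, hη⟩ : (U : Scheme.{u}))).map_isZero hzU
      exact AddCommGrpCat.subsingleton_of_isZero h'
    refine hm ((KFlat.Stalk.isZero_of_stalk fun x => ?_))
    have hss : Subsingleton ((DCoh.HD A m).presheaf.stalk x) := by
      refine subsingleton_of_forall_eq 0 fun t => ?_
      obtain ⟨V, hxV, s, rfl⟩ := TopCat.Presheaf.exists_germ_eq (DCoh.HD A m).presheaf t
      have hηV : genericPoint X ∈ V :=
        ((genericPoint_spec X).mem_open_set_iff V.isOpen).2 ⟨x, trivial, hxV⟩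
      rw [H29Ref.germ_generic_injective _ (hcoh m).1 ht hηV (Subsingleton.elim
        ((DCoh.HD A m).presheaf.germ V _ hηV s) ((DCoh.HD A m).presheaf.germ V _ hηV 0)), map_zero]
    haveI : Subsingleton ((DerSch.stalkFunctor X x).obj (DCoh.HD A m)) := hss
    exact ModuleCat.isZero_of_subsingleton _
  let ω := DCoh.HD A (-(n : ℤ))
  have hωc : Coh.IsCoh ω := hcoh _
  have hωr : RefHull.IsReflexive ω := hRef _ hlow hne
  have hWc : Coh.IsCoh W := isCoh_of_isExtPow' ⟨hΩq, H29Omega.isFT_sheaf p⟩ hW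
  let eW : W.restrict U.ι ≅ WU := (Scheme.Modules.restrictFunctorIsoPullback U.ι).app W
  haveI hbi : IsIso ((Scheme.Modules.restrictFunctor U.ι).map (RefHull.bidualMap W)) := by
    refine H29Ref.isIso_restrict_of_bijective U _ fun x hx => ?_
    refine (H29Ref.isReflexiveAt_iff W (H10Coh.isFP_of_isCoh W hWc) (H29Ref.isFP_dual W hWc) x).1 ?_
    obtain ⟨bs⟩ := H8Props.FunDescent.stalkFree_of_isFreeOfRankNear W hWc.1
      (H29Ref.isFreeOfRankNear_of_restrict W U hWUinv eW x hx)
    haveI := Module.Free.of_basis bs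
    haveI := Module.Finite.of_basis bs
    show Module.IsReflexive (X.presheaf.stalk x) (W.presheaf.stalk x)
    infer_instance
  have hunit : ∀ F : X.Modules, Coh.IsCoh F → RefHull.IsReflexive F →
      IsIso ((Scheme.Modules.restrictAdjunction U.ι).unit.app F) := fun F hF hFr =>
    (H29Ref.isIso_unit_iff F U).2 fun V => H29Ref.bijective_res hX F hF hFr _
      fun x hxV hx => hU x fun hxU => hx ⟨⟨x, hxU⟩, hxV, rfl⟩
  haveI := hunit ω hωc hωr
  haveI := hunit _ (H29Ref.isCoh_ddual W hWc) (H29Ref.isReflexive_ddual W hWc)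
  exact ⟨asIso ((Scheme.Modules.restrictAdjunction U.ι).unit.app ω) ≪≫
    (Scheme.Modules.pushforward U.ι).mapIso (eHD ≪≫ eW.symm ≪≫
      asIso ((Scheme.Modules.restrictFunctor U.ι).map (RefHull.bidualMap W))) ≪≫
    (asIso ((Scheme.Modules.restrictAdjunction U.ι).unit.app (RefHull.ddual W))).symm⟩

end Groth.Agent.LeadBrown
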