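import Groth.Agent.LeadBrown.Dominate

/-!
# Independence of the compactification
-/

set_option autoImplicit false
set_option linter.style.haveILetI false
set_option linter.unusedSectionVars false

universe u

open CategoryTheory CategoryTheory.Limits AlgebraicGeometry CategoryTheory.Pretriangulated

attribute [local instance] HasDerivedCategory.standard

namespace Groth.Agent.LeadBrown

open Groth.Agent.H16Derived Groth.Agent.H16Derived.Thomason Groth.Agent.H16Derived.KFlat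
open Groth.Agent.H16Derived.KFlat.Stalk (rd)
attribute [local instance] hasCoproducts_D small_hom

/-- Schemes of finite type over a Noetherian base. -/
theorem isNoetherian_of_isSepFT {X S : Scheme.{u}} [IsNoetherian S] (p : X ⟶ S) [Dual3.IsSepFT p] :
    IsNoetherian X := by
  haveI : QuasiCompact p := Dual3.IsSepFT.quasiCompact
  haveI : LocallyOfFiniteType p := Dual3.IsSepFT.locallyOfFiniteType
  haveI : CompactSpace X := QuasiCompact.compactSpace_of_compactSpace p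
  haveI : IsLocallyNoetherian X := LocallyOfFiniteType.isLocallyNoetherian p
  exact { }

/-- The closure of `X` in the product of two compactifications. -/
theorem exists_common {X Y : Scheme.{u}} [IsNoetherian X] [IsNoetherian Y] {f : X ⟶ Y}
    (c₁ c₂ : DEt.Compactification f) :
    ∃ (Z : Scheme.{u}) (jZ : X ⟶ Z) (p₁ : Z ⟶ c₁.Xbar) (p₂ : Z ⟶ c₂.Xbar),
      IsOpenImmersion jZ ∧ IsDominant jZ ∧ IsProper p₁ ∧ IsProper p₂ ∧
      jZ ≫ p₁ = c₁.j ∧ jZ ≫ p₂ = c₂.j ∧ p₁ ≫ c₁.fbar = p₂ ≫ c₂.fbar := by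
  haveI := c₁.isOpenImmersion
  haveI := c₂.isOpenImmersion
  haveI := c₁.isProper
  haveI := c₂.isProper
  let φ : X ⟶ pullback c₁.fbar c₂.fbar := pullback.lift c₁.j c₂.j (by rw [c₁.fac, c₂.fac])
  haveI : IsImmersion (φ ≫ pullback.fst c₁.fbar c₂.fbar) := by
    rw [show φ ≫ pullback.fst c₁.fbar c₂.fbar = c₁.j from pullback.lift_fst _ _ _]; infer_instance
  haveI : IsImmersion φ := IsImmersion.of_comp φ (pullback.fst c₁.fbar c₂.fbar)
  haveI : QuasiSeparatedSpace (pullback c₁.fbar c₂.fbar : Scheme.{u}) :=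
    quasiSeparatedSpace_of_quasiSeparated (pullback.fst c₁.fbar c₂.fbar ≫ c₁.fbar)
  haveI : QuasiCompact φ := quasiCompact_of_compactSpace φ
  refine ⟨φ.image, φ.toImage, φ.imageι ≫ pullback.fst _ _, φ.imageι ≫ pullback.snd _ _,
    inferInstance, inferInstance, inferInstance, inferInstance, ?_, ?_, ?_⟩
  · rw [← Category.assoc, Scheme.Hom.toImage_imageι, pullback.lift_fst]
  · rw [← Category.assoc, Scheme.Hom.toImage_imageι, pullback.lift_snd]
  · rw [Category.assoc, Category.assoc, pullback.condition]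

/-- **`f^!` does not depend on the compactification.** -/
theorem nonempty_shriekC_independent {X Y : Scheme.{u}} [IsNoetherian X] [IsNoetherian Y] {f : X ⟶ Y}
    (c₁ c₂ : DEt.Compactification f) [DCoh.HasRpush c₁.fbar] [DCoh.HasRpush c₂.fbar]
    {h₁ : DCoh.RpushPreservesQCoh c₁.fbar} {h₂ : DCoh.RpushPreservesQCoh c₂.fbar}
    {a₁ : DCoh.DQCoh Y ⥤ DCoh.DQCoh c₁.Xbar} {a₂ : DCoh.DQCoh Y ⥤ DCoh.DQCoh c₂.Xbar}
    (adj₁ : DCoh.RpushQ c₁.fbar h₁ ⊣ a₁) (adj₂ : DCoh.RpushQ c₂.fbar h₂ ⊣ a₂) :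
    Nonempty (Dual3.bddι Y ⋙ a₁ ⋙ ObjectProperty.ι _ ⋙ (haveI := c₁.isOpenImmersion; rd c₁.j) ≅
      Dual3.bddι Y ⋙ a₂ ⋙ ObjectProperty.ι _ ⋙ (haveI := c₂.isOpenImmersion; rd c₂.j)) := by
  haveI := c₁.isProper
  haveI := c₂.isProper
  obtain ⟨Z, jZ, p₁, p₂, hj, hd, hp₁, hp₂, w₁, w₂, hw⟩ := exists_common c₁ c₂
  haveI := hj; haveI := hd; haveI := hp₁; haveI := hp₂
  let g := p₁ ≫ c₁.fbar
  haveI := QCohD.hasRpush g
  haveI : CompactSpace Z := QuasiCompact.compactSpace_of_compactSpace g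
  haveI : QuasiSeparatedSpace Z := quasiSeparatedSpace_of_quasiSeparated g
  have hg : DCoh.RpushPreservesQCoh g := fun K hK => QCohD.isQCohD_rpush g hK
  haveI := isLeftAdjoint_rpushQ g hg
  let aZ := (DCoh.RpushQ g hg).rightAdjoint
  have adjZ : DCoh.RpushQ g hg ⊣ aZ := Adjunction.ofIsLeftAdjoint _
  obtain ⟨e₁⟩ := nonempty_shriek_iso c₁ adj₁ p₁ jZ w₁ adjZ
  obtain ⟨e₂⟩ : Nonempty (Dual3.bddι Y ⋙ aZ ⋙ ObjectProperty.ι _ ⋙ rd jZ ≅
      haveI := c₂.isOpenImmersion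
      Dual3.bddι Y ⋙ a₂ ⋙ ObjectProperty.ι _ ⋙ rd c₂.j) := by
    haveI := QCohD.hasRpush (p₂ ≫ c₂.fbar)
    have hg' : DCoh.RpushPreservesQCoh (p₂ ≫ c₂.fbar) := fun K hK => QCohD.isQCohD_rpush _ hK
    haveI := isLeftAdjoint_rpushQ (p₂ ≫ c₂.fbar) hg'
    obtain ⟨e⟩ : Nonempty (aZ ≅ (DCoh.RpushQ (p₂ ≫ c₂.fbar) hg').rightAdjoint) := by
      have h : Nonempty (DCoh.RpushQ (p₂ ≫ c₂.fbar) hg' ≅ DCoh.RpushQ g hg) := by
        simp only [g, hw]; exact ⟨Iso.refl _⟩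
      exact ⟨adjZ.rightAdjointUniq ((Adjunction.ofIsLeftAdjoint _).ofNatIsoLeft h.some)⟩
    obtain ⟨e'⟩ := nonempty_shriek_iso c₂ adj₂ p₂ jZ w₂ (Adjunction.ofIsLeftAdjoint (DCoh.RpushQ (p₂ ≫ c₂.fbar) hg'))
    exact ⟨Functor.isoWhiskerLeft (Dual3.bddι Y) (Functor.isoWhiskerRight e (ObjectProperty.ι _ ⋙ rd jZ)) ≪≫ e'⟩
  exact ⟨e₁.symm ≪≫ e₂⟩

end Groth.Agent.LeadBrown
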