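import Groth.Agent.LeadBrown.SelfHom
import Groth.Agent.H16Derived.TorTest.PushStalkAmp
import Groth.Agent.H16Derived.TorTest.FibrePerfect
import Groth.Agent.H16Derived.TorTest.PushTensorPC
import Groth.Agent.S1508
import Groth.Agent.S1510
import Groth.Agent.S7172
import Groth.Agent.S7175

/-!
# `f^!` for perfect morphisms
-/

set_option autoImplicit false
set_option linter.style.haveILetI false
set_option linter.unusedSectionVars false

universe u

open CategoryTheory CategoryTheory.Limits AlgebraicGeometry CategoryTheory.Pretriangulated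

attribute [local instance] HasDerivedCategory.standard

namespace Groth.Agent.LeadBrown

open Groth.Agent.H16Derived Groth.Agent.H16Derived.QCohD
open Groth.Agent.H16Derived.KFlat.Stalk (rd hasLpull)
open Groth.Agent.H16Derived.Dual (T R ro one σ θIso)
open DerivedCategory.TStructure (t)

variable {X Y : Scheme.{u}}

/-- The closed immersion of a chart of a perfect morphism has perfect direct image of `O`. -/
theorem isPerfect_rpush_one_chart {f : X ⟶ Y} (hf : MoreMor.IsPerfectMor f) {U W : Scheme.{u}} (j : U ⟶ X)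
    [IsOpenImmersion j] (i : U ⟶ W) [IsClosedImmersion i] (g : W ⟶ Y) [Smooth g] (w : i ≫ g = j ≫ f)
    [DCoh.HasRpush i] : DCoh.IsPerfect ((DCoh.Rpush i).obj (one U)) := by
  have hj : MoreMor.IsPerfectMor j := S7172.result j
  have hp : MoreMor.IsPerfectMor i := S1510.result i g (w.symm ▸ S1508.result j f hj hf)
  obtain ⟨e⟩ := nonempty_rpush_one i
  exact KFlat.Stalk.isPerfect_of_iso e.symm (S7175.result i hp)

variable [IsNoetherian X] [IsNoetherian Y] {f : X ⟶ Y} (hf : MoreMor.IsPerfectMor f) (c : DEt.Compactification f)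
  [DCoh.HasRpush c.fbar] {hc : DCoh.RpushPreservesQCoh c.fbar}
  {a : DCoh.DQCoh Y ⥤ DCoh.DQCoh c.Xbar} (adj : DCoh.RpushQ c.fbar hc ⊣ a)

include hf adj in
/-- `f^!` preserves bounded coherent objects. -/
theorem exists_bounds_shriek (K : DCoh.DQCoh Y) (lo hi : ℤ) (hlo : K.obj.IsGE lo) (hhi : K.obj.IsLE hi)
    (hK : DCoh.IsCohD K.obj) :
    haveI := c.isOpenImmersion
    ∃ lo' hi' : ℤ, ((rd c.j).obj (a.obj K).obj).IsGE lo' ∧ ((rd c.j).obj (a.obj K).obj).IsLE hi' ∧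
      DCoh.IsCohD ((rd c.j).obj (a.obj K).obj) := by
  haveI := c.isOpenImmersion
  haveI := c.isProper
  haveI : CompactSpace c.Xbar := QuasiCompact.compactSpace_of_compactSpace c.fbar
  haveI : QuasiSeparatedSpace c.Xbar := quasiSeparatedSpace_of_quasiSeparated c.fbar
  obtain ⟨m, hm⟩ := exists_isGE adj K lo hlo
  suffices h : ∃ b : ℤ, ((rd c.j).obj (a.obj K).obj).IsLE b by
    obtain ⟨b, hb⟩ := h
    exact ⟨m, b, isGE_rd' c.j _ m hm, hb, Exchange.isCohD_rd c.j (isCohD_rightAdjoint c.fbar adj K lo hlo hK)⟩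
  refine KFlat.Stalk.exists_isLE_of_local fun x => ?_
  obtain ⟨U, j, hj, W, i, g, _, _, _, _, hx, w, _, hi', b, adjb, n, H⟩ := exists_local_model c adj x
  obtain ⟨M, l, hl, ⟨e⟩, hM, -⟩ := H K lo hlo
  obtain ⟨d', hd'⟩ := hM hi hhi
  haveI : CompactSpace U := QuasiCompact.compactSpace_of_compactSpace i
  haveI : QuasiSeparatedSpace U := quasiSeparatedSpace_of_quasiSeparated i
  haveI := hasLpull i
  have hKi := isPerfect_rpush_one_chart hf j i g w
  haveI := isIso_dualTrans i adjb M (isQCohD_R_perfect hKi M.property)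
  obtain ⟨-, -, d, -, hd⟩ := KFlat.Stalk.isCohD_and_bounded_of_isPerfect (Dual.isPerfect_ro hKi)
  haveI := hd'
  haveI := hd
  haveI := TorTest.isLE_T M.obj (ro ((DCoh.Rpush i).obj (one U))) d' d
  haveI hU : (b.obj M).obj.IsLE (d + d') := isLE_of_rpush_affine i (b.obj M).property _
    (isLE_of_iso (θIso hKi M.obj ≪≫ (asIso ((dualTrans i adjb).app M)).symm) _ ‹_›)
  haveI : ((rd j).obj ((rd c.j).obj (a.obj K).obj)).IsLE (d + d') := isLE_of_iso e.symm _ hU
  exact ⟨j.opensRange, d + d', hx, isLE_of_iso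
    (KFlat.Stalk.rdComp j.isoOpensRange.inv j _ j.isoOpensRange_inv_comp _).symm _
    (KFlat.Stalk.isLE_rd j.isoOpensRange.inv _ (d + d'))⟩

include hf adj in
/-- `O ⟶ RHom(f^!O, f^!O)` is invertible. -/
theorem isIso_shriek_unit (O : DCoh.DQCoh Y) (hO : Nonempty (O.obj ≅ DCoh.inD Y (Coh.structureModule Y)))
    (E : CochainComplex X.Modules ℤ)
    (hE : haveI := c.isOpenImmersion; Nonempty (DCoh.toD X E ≅ (rd c.j).obj (a.obj O).obj))
    [DCoh.HasLTensorCx E] [DCoh.HasRSheafHom E]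
    (υ : (DCoh.LTensorCx E).obj (DCoh.inD X (Coh.structureModule X)) ≅ DCoh.toD X E) :
    IsIso (((DCoh.RSheafHomAdj E).homEquiv (DCoh.inD X (Coh.structureModule X)) (DCoh.toD X E)) υ.hom) := by
  haveI := c.isOpenImmersion
  obtain ⟨eO⟩ := hO
  obtain ⟨eE⟩ := hE
  haveI : (DCoh.inD Y (Coh.structureModule Y)).IsGE 0 := inferInstance
  haveI : (DCoh.inD Y (Coh.structureModule Y)).IsLE 0 := inferInstance
  have h0 : O.obj.IsGE 0 := t.isGE_of_iso eO.symm 0
  have hcoh : DCoh.IsCohD O.obj :=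
    Dual.isCohD_iso eO.symm (KFlat.Stalk.isCohD_and_bounded_of_isPerfect (PnD.isPerfect_one Y)).1
  obtain ⟨lo, hi, hlo, hhi, hω⟩ := exists_bounds_shriek hf c adj O 0 0 h0 (isLE_of_iso eO.symm 0 ‹_›) hcoh
  haveI := hhi
  refine isIso_RSheafHom_unit E
    (fun m => KFlat.Stalk.isPseudoCoherentD_of_iso eE.symm (Dual.isPseudoCoherentD_of_isCohD hi hω m)) lo
    (t.isGE_of_iso eE.symm lo) (fun x => ?_) υ
  obtain ⟨U, j, hj, W, i, g, _, _, _, _, hx, w, _, hi', b, adjb, n, H⟩ := exists_local_model c adj x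
  obtain ⟨M, l, hl, ⟨e⟩, -, hM⟩ := H O 0 h0
  obtain ⟨eM⟩ := hM ⟨eO⟩
  obtain ⟨u⟩ := nonempty_one_iso_R_chart i adjb (isPerfect_rpush_one_chart hf j i g w) M n eM
  let e' : (rd j).obj (DCoh.toD X E) ≅ (b.obj M).obj := (rd j).mapIso eE ≪≫ e
  exact ⟨U, j, hj, hx, ⟨u ≪≫ (Dual.RIso e'.symm).app _ ≪≫ (R _).mapIso e'.symm⟩⟩

include hf adj in
/-- `f^!O` has locally finite Tor dimension over `Y` for flat `f`. -/
theorem relPerfect_shriek [Flat f] (O : DCoh.DQCoh Y)
    (hO : Nonempty (O.obj ≅ DCoh.inD Y (Coh.structureModule Y))) :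
    haveI := c.isOpenImmersion
    (∀ m : ℤ, DCoh.IsPseudoCoherentD m ((rd c.j).obj (a.obj O).obj)) ∧
      DCoh.LocHasFiniteRelTorDim f ((rd c.j).obj (a.obj O).obj) := by
  haveI := c.isOpenImmersion
  obtain ⟨eO⟩ := hO
  haveI : (DCoh.inD Y (Coh.structureModule Y)).IsGE 0 := inferInstance
  haveI : (DCoh.inD Y (Coh.structureModule Y)).IsLE 0 := inferInstance
  have h0 : O.obj.IsGE 0 := t.isGE_of_iso eO.symm 0
  have hcoh : DCoh.IsCohD O.obj :=
    Dual.isCohD_iso eO.symm (KFlat.Stalk.isCohD_and_bounded_of_isPerfect (PnD.isPerfect_one Y)).1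
  obtain ⟨lo, hi, hlo, hhi, hω⟩ := exists_bounds_shriek hf c adj O 0 0 h0 (isLE_of_iso eO.symm 0 ‹_›) hcoh
  haveI := hhi
  let ω := (rd c.j).obj (a.obj O).obj
  refine ⟨fun m => Dual.isPseudoCoherentD_of_isCohD hi hω m, ?_⟩
  let F := DerivedCategory.Q.objPreimage ω
  let eF : DCoh.toD X F ≅ ω := DerivedCategory.Q.objObjPreimageIso ω
  refine (TorTest.locHasFiniteRelTorDim_iff f eF).2 fun x => ?_
  obtain ⟨U, j, hj, W, i, g, _, _, _, hg, hx, w, _, hi', b, adjb, n, H⟩ := exists_local_model c adj x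
  obtain ⟨M, l, hl, ⟨e⟩, -, hM⟩ := H O 0 h0
  obtain ⟨eM⟩ := hM ⟨eO⟩
  haveI : CompactSpace U := QuasiCompact.compactSpace_of_compactSpace i
  haveI : QuasiSeparatedSpace U := quasiSeparatedSpace_of_quasiSeparated i
  haveI := hasLpull i
  have hKi := isPerfect_rpush_one_chart hf j i g w
  haveI := isIso_dualTrans i adjb M (isQCohD_R_perfect hKi M.property)
  have hMp : DCoh.IsPerfect M.obj :=
    KFlat.Stalk.isPerfect_of_iso eM.symm (KFlat.Stalk.isPerfect_shift (PnD.isPerfect_one W) n)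
  let FU := ((Scheme.Modules.restrictFunctor j).mapHomologicalComplex (ComplexShape.up ℤ)).obj F
  let eU : DCoh.toD U FU ≅ (b.obj M).obj :=
    ((KFlat.Stalk.rdQ j).app F).symm ≪≫ (rd j).mapIso eF ≪≫ e
  obtain ⟨p₁⟩ := H8Props.RpushAffine.nonempty_rpush_closed i (DCoh.toD U FU)
  let PF := ((Scheme.Modules.pushforward i).mapHomologicalComplex (ComplexShape.up ℤ)).obj FU
  let eP : DCoh.toD W PF ≅ ((T W).obj M.obj).obj (ro ((DCoh.Rpush i).obj (one U))) :=
    ((Scheme.Modules.pushforward i).mapDerivedCategoryFactors.app FU).symm ≪≫ p₁.symm ≪≫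
      (DCoh.Rpush i).mapIso eU ≪≫ asIso ((dualTrans i adjb).app M) ≪≫ (θIso hKi M.obj).symm
  obtain ⟨u, hu⟩ := hx
  obtain ⟨V, p, q, hV, hamp⟩ := ProperSupp.locFiniteTorAmplitude_id
    (KFlat.Stalk.isPerfect_of_iso eP.symm (isPerfect_TObj hMp (Dual.isPerfect_ro hKi))) (i.base u)
  refine ⟨j ''ᵁ (i ⁻¹ᵁ V), p, q, hu ▸ ⟨u, hV, rfl⟩, ?_⟩
  rintro _ ⟨u', hu', rfl⟩
  exact (TorTest.at_restrict j f p q F u').1 ((TorTest.at_congr w p q FU u').1
    (TorTest.at_comp_flat i g ((TorTest.at_push_iff i p q FU u').2 (hamp _ hu'))))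

end Groth.Agent.LeadBrown
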