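import Groth.Agent.LeadBrown.SelfHomFormal
import Groth.Agent.LeadBrown.ShriekPerfect
import Groth.Agent.LeadBrown.BCAdjoint
import Groth.Agent.LeadBrown.RSheafHomQCoh
import Groth.Agent.H16Derived.BaseChange.RelFlatPull

/-!
# The dualizing complex of a proper flat morphism of finite presentation
-/

set_option autoImplicit false
set_option linter.style.haveILetI false
set_option linter.unusedSectionVars false

universe u

open CategoryTheory CategoryTheory.Limits AlgebraicGeometry CategoryTheory.Pretriangulated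

attribute [local instance] HasDerivedCategory.standard

namespace Groth.Agent.LeadBrown

open Groth.Agent.H16Derived Groth.Agent.H16Derived.QCohD
open Groth.Agent.H16Derived.KFlat.Stalk (rd rdQ rdComp hasLpull)
open Groth.Agent.H16Derived.Dual (T R ro one oneIso)
open DerivedCategory.TStructure (t)

variable {X Y : Scheme.{u}}

/-- Restriction along the identity. -/
theorem nonempty_rd_id (K : DCoh.D X) : Nonempty ((rd (𝟙 X)).obj K ≅ K) :=
  let K₀ := DerivedCategory.Q.objPreimage K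
  let eK : DerivedCategory.Q.obj K₀ ≅ K := DerivedCategory.Q.objObjPreimageIso K
  ⟨(rd (𝟙 X)).mapIso eK.symm ≪≫ (rdQ (𝟙 X)).app K₀ ≪≫
    DerivedCategory.Q.mapIso (HomologicalComplex.Hom.isoOfComponents
      (fun i => (Scheme.Modules.restrictFunctorId (X := X)).app (K₀.X i))
      (fun i j _ => ((Scheme.Modules.restrictFunctorId (X := X)).hom.naturality (K₀.d i j)).symm)) ≪≫ eK⟩

variable {X' Y' : Scheme.{u}}

/-- `ω` commutes with base change. -/
theorem exists_lpull_dualizing [CompactSpace Y] [QuasiSeparatedSpace Y] [CompactSpace Y'] [QuasiSeparatedSpace Y']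
    {f : X ⟶ Y} {g : Y' ⟶ Y} {f' : X' ⟶ Y'} {g' : X' ⟶ X} (hsq : IsPullback g' f' f g) [IsProper f] [Flat f]
    [LocallyOfFinitePresentation f] [QuasiCompact g] [QuasiSeparated g] [DCoh.HasRpush f] [DCoh.HasRpush f']
    [DCoh.HasLpull g'] (hf : DCoh.RpushPreservesQCoh f) {a : DCoh.DQCoh Y ⥤ DCoh.DQCoh X}
    (adj : DCoh.RpushQ f hf ⊣ a) (O : DCoh.DQCoh Y) (eO : O.obj ≅ DCoh.inD Y (Coh.structureModule Y)) :
    ∃ (hf' : DCoh.RpushPreservesQCoh f') (a' : DCoh.DQCoh Y' ⥤ DCoh.DQCoh X') (_ : DCoh.RpushQ f' hf' ⊣ a')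
      (O' : DCoh.DQCoh Y') (_ : O'.obj ≅ DCoh.inD Y' (Coh.structureModule Y')),
      Nonempty ((DCoh.Lpull g').obj (a.obj O).obj ≅ (a'.obj O').obj) := by
  haveI : QuasiCompact g' := MorphismProperty.of_isPullback hsq.flip ‹QuasiCompact g›
  haveI : QuasiSeparated g' := MorphismProperty.of_isPullback hsq.flip ‹QuasiSeparated g›
  haveI : IsProper f' := MorphismProperty.of_isPullback hsq ‹IsProper f›
  haveI : CompactSpace X := QuasiCompact.compactSpace_of_compactSpace f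
  haveI : QuasiSeparatedSpace X := quasiSeparatedSpace_of_quasiSeparated f
  haveI : CompactSpace X' := QuasiCompact.compactSpace_of_compactSpace f'
  haveI : QuasiSeparatedSpace X' := quasiSeparatedSpace_of_quasiSeparated f'
  haveI := QCohD.hasRpush g
  haveI := QCohD.hasRpush g'
  haveI := hasLpull g
  have hf' : DCoh.RpushPreservesQCoh f' := fun K hK => QCohD.isQCohD_rpush _ hK
  have hg : DCoh.RpushPreservesQCoh g := fun K hK => QCohD.isQCohD_rpush _ hK
  have hg' : DCoh.RpushPreservesQCoh g' := fun K hK => QCohD.isQCohD_rpush _ hK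
  have hLg : Dual3.LpullPreservesQCoh g := fun _ hK => QCohD.isQCohD_lpull g hK
  have hLg' : Dual3.LpullPreservesQCoh g' := fun _ hK => QCohD.isQCohD_lpull g' hK
  haveI : (DCoh.RpushQ f' hf').IsLeftAdjoint := isLeftAdjoint_rpushQ f' hf'
  let adj' : DCoh.RpushQ f' hf' ⊣ (DCoh.RpushQ f' hf').rightAdjoint := Adjunction.ofIsLeftAdjoint _
  let adjg := adjQ g hLg hg
  let adjg' := adjQ g' hLg' hg'
  obtain ⟨e, -, hξ, hβ⟩ := exists_bcAdjoint hsq (BaseChange.ti_of_flat f g) hf hf' adj adj' adjg adjg'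
  haveI : IsIso (H25Dual3.Compat.ξ adj adj' e ((Dual3.LpullQ g hLg).obj O)) := hξ _
  have h := hβ O (fun Q hQ => hw_of_perfect (fun E hE => BaseChange.isPerfect_rpush f hE) O.property Q hQ) _
    (H25Dual3.Compat.trace adj adj' adjg adjg' e O)
  obtain ⟨e₀⟩ := nonempty_lpull_single g 0
  refine ⟨hf', _, adj', (Dual3.LpullQ g hLg).obj O, (DCoh.Lpull g).mapIso eO ≪≫ e₀, ⟨?_⟩⟩
  exact (ObjectProperty.ι _).mapIso (asIso (H25Dual3.Compat.bc adj adj' adjg adjg' e O))

variable [CompactSpace Y] [QuasiSeparatedSpace Y] {f : X ⟶ Y} [IsProper f] [Flat f]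
  [LocallyOfFinitePresentation f] [DCoh.HasRpush f] {hf : DCoh.RpushPreservesQCoh f}
  {a : DCoh.DQCoh Y ⥤ DCoh.DQCoh X} (adj : DCoh.RpushQ f hf ⊣ a) (O : DCoh.DQCoh Y)
  (eO : O.obj ≅ DCoh.inD Y (Coh.structureModule Y))

include adj eO

/-- Over a noetherian base. -/
theorem relPerfect_noetherian [IsNoetherian Y] :
    (∀ m : ℤ, DCoh.IsPseudoCoherentD m (a.obj O).obj) ∧ DCoh.LocHasFiniteRelTorDim f (a.obj O).obj := by
  haveI : IsLocallyNoetherian X := LocallyOfFiniteType.isLocallyNoetherian f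
  haveI : CompactSpace X := QuasiCompact.compactSpace_of_compactSpace f
  haveI : IsNoetherian X := { }
  let c : DEt.Compactification f :=
    ⟨X, 𝟙 X, f, inferInstance, inferInstance, Category.id_comp f⟩
  haveI : DCoh.HasRpush c.fbar := ‹DCoh.HasRpush f›
  obtain ⟨e⟩ := nonempty_rd_id (a.obj O).obj
  obtain ⟨h₁, h₂⟩ := relPerfect_shriek (S7172.result f) c (hc := hf) adj O ⟨eO⟩
  refine ⟨fun m => KFlat.Stalk.isPseudoCoherentD_of_iso e (h₁ m), fun x => ?_⟩
  obtain ⟨V, p, q, hx, h⟩ := h₂ x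
  exact ⟨V, p, q, hx, fun F ⟨eF⟩ => h F ⟨eF ≪≫ e.symm⟩⟩

/-- `ω` is relatively perfect. -/
theorem relPerfect :
    (∀ m : ℤ, DCoh.IsPseudoCoherentD m (a.obj O).obj) ∧ DCoh.LocHasFiniteRelTorDim f (a.obj O).obj := by
  haveI : CompactSpace X := QuasiCompact.compactSpace_of_compactSpace f
  haveI : QuasiSeparatedSpace X := quasiSeparatedSpace_of_quasiSeparated f
  suffices h : ∀ x : X, ∃ (U : Scheme.{u}) (j : U ⟶ X) (_ : IsOpenImmersion j) (V : Scheme.{u}) (i : V ⟶ Y)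
      (_ : IsOpenImmersion i) (p : U ⟶ V), x ∈ j.opensRange ∧ p ≫ i = j ≫ f ∧ Flat p ∧
        (∀ m, DCoh.IsPseudoCoherentD m ((rd j).obj (a.obj O).obj)) ∧
          DCoh.LocHasFiniteRelTorDim p ((rd j).obj (a.obj O).obj) by
    refine ⟨fun m => KFlat.Stalk.isPseudoCoherentD_of_rd fun x => ?_, ?_⟩
    · obtain ⟨U, j, _, -, -, -, -, hx, -, -, hpc, -⟩ := h x
      exact ⟨j.opensRange, hx, KFlat.Stalk.isPseudoCoherentD_of_iso
        (rdComp j.isoOpensRange.inv j _ j.isoOpensRange_inv_comp _).symm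
        (KFlat.Stalk.isPseudoCoherentD_rd j.isoOpensRange.inv (hpc m))⟩
    · let F := DerivedCategory.Q.objPreimage (a.obj O).obj
      let eF : DCoh.toD X F ≅ (a.obj O).obj := DerivedCategory.Q.objObjPreimageIso _
      refine (TorTest.locHasFiniteRelTorDim_iff f eF).2 fun x => ?_
      obtain ⟨U, j, _, V, i, _, p, hx, w, _, -, htd⟩ := h x
      obtain ⟨u, rfl⟩ := hx
      obtain ⟨W, l, r, hu, hW⟩ := (TorTest.locHasFiniteRelTorDim_iff p
        (F := ((Scheme.Modules.restrictFunctor j).mapHomologicalComplex (ComplexShape.up ℤ)).obj F)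
        (((rdQ j).app F).symm ≪≫ (rd j).mapIso eF)).1 htd u
      refine ⟨j ''ᵁ W, l, r, ⟨u, hu, rfl⟩, ?_⟩
      rintro _ ⟨u', hu', rfl⟩
      exact (TorTest.at_restrict j f l r F u').1 ((TorTest.at_congr w l r _ u').1
        (TorTest.at_comp p i (hW _ hu')))
  intro x
  obtain ⟨_, ⟨V, hV : IsAffineOpen V, rfl⟩, hxV, -⟩ :=
    Y.isBasis_affineOpens.exists_subset_of_mem_open (Set.mem_univ (f.base x)) isOpen_univ
  let i := hV.fromSpec
  let j := pullback.fst f i
  let p := pullback.snd f i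
  have hW : IsPullback j p f i := IsPullback.of_hasPullback f i
  haveI : QuasiCompact i := inferInstance
  haveI := QCohD.hasRpush p
  haveI := hasLpull j
  obtain ⟨hp, a₁, adj₁, O₁, eO₁, ⟨e₁⟩⟩ := exists_lpull_dualizing hW hf adj O eO
  obtain ⟨ρ⟩ := QCohD.lpull_openImmersion j (a.obj O).obj
  obtain ⟨A, X₀, f₀, g, hA, _, _, _, hsq⟩ := BaseChange.exists_proper_flat_model (R := (Γ(Y, V) : Type u)) p
  haveI := hA
  haveI : IsNoetherianRing A := Algebra.FiniteType.isNoetherianRing ℤ _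
  haveI : IsNoetherian (Spec (CommRingCat.of A)) := inferInstance
  haveI : CompactSpace X₀ := QuasiCompact.compactSpace_of_compactSpace f₀
  haveI : QuasiSeparatedSpace X₀ := quasiSeparatedSpace_of_quasiSeparated f₀
  haveI := QCohD.hasRpush f₀
  haveI := hasLpull g
  have hf₀ : DCoh.RpushPreservesQCoh f₀ := fun K hK => QCohD.isQCohD_rpush _ hK
  haveI : (DCoh.RpushQ f₀ hf₀).IsLeftAdjoint := isLeftAdjoint_rpushQ f₀ hf₀
  let adj₀ : DCoh.RpushQ f₀ hf₀ ⊣ (DCoh.RpushQ f₀ hf₀).rightAdjoint := Adjunction.ofIsLeftAdjoint _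
  let O₀ : DCoh.DQCoh (Spec (CommRingCat.of A)) :=
    ⟨DCoh.inD _ (Coh.structureModule _), Dual.isQCohD_of_isPerfect (PnD.isPerfect_one _)⟩
  obtain ⟨hp', a₂, adj₂, O₂, eO₂, ⟨e₂⟩⟩ := exists_lpull_dualizing hsq hf₀ adj₀ O₀ (Iso.refl _)
  obtain ⟨h₁, h₂⟩ := relPerfect_noetherian adj₀ O₀ (Iso.refl _)
  let c : (a₂.obj O₂) ≅ (a₁.obj O₁) := (adj₂.rightAdjointUniq adj₁).app O₂ ≪≫
    a₁.mapIso ((ObjectProperty.fullyFaithfulι _).preimageIso (eO₂ ≪≫ eO₁.symm))
  let θ : (DCoh.Lpull g).obj ((DCoh.RpushQ f₀ hf₀).rightAdjoint.obj O₀).obj ≅ (rd j).obj (a.obj O).obj :=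
    e₂ ≪≫ (ObjectProperty.ι _).mapIso c ≪≫ e₁.symm ≪≫ ρ
  refine ⟨_, j, inferInstance, _, i, inferInstance, p, ?_, hW.w.symm, inferInstance, fun m => ?_, fun u => ?_⟩
  · obtain ⟨v, hv⟩ : f.base x ∈ Set.range i.base := by rw [hV.range_fromSpec]; exact hxV
    obtain ⟨z, hz, -⟩ := Scheme.Pullback.exists_preimage_pullback x v hv.symm
    exact ⟨z, hz⟩
  · exact KFlat.Stalk.isPseudoCoherentD_of_iso θ (KFlat.Stalk.isPseudoCoherentD_lpull g (h₁ m))
  · obtain ⟨W, l, r, hu, hW'⟩ := BaseChange.locHasFiniteRelTorDim_lpull hsq h₂ u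
    exact ⟨W, l, r, hu, fun F ⟨eF⟩ => hW' F ⟨eF ≪≫ θ.symm⟩⟩

/-- `O ⟶ RHom(ω, ω)` is invertible. -/
theorem isIso_dualizing_unit (E : CochainComplex X.Modules ℤ) (eE : DCoh.toD X E ≅ (a.obj O).obj)
    [DCoh.HasLTensorCx E] [DCoh.HasRSheafHom E]
    (υ : (DCoh.LTensorCx E).obj (DCoh.inD X (Coh.structureModule X)) ≅ DCoh.toD X E) :
    IsIso (((DCoh.RSheafHomAdj E).homEquiv (DCoh.inD X (Coh.structureModule X)) (DCoh.toD X E)) υ.hom) := by
  haveI : CompactSpace X := QuasiCompact.compactSpace_of_compactSpace f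
  haveI : QuasiSeparatedSpace X := quasiSeparatedSpace_of_quasiSeparated f
  haveI := hasLpull f
  haveI : (DCoh.inD Y (Coh.structureModule Y)).IsGE 0 := inferInstance
  obtain ⟨lo, hlo⟩ := exists_isGE adj O 0 (t.isGE_of_iso eO.symm 0)
  obtain ⟨hpc, -⟩ := relPerfect adj O eO
  let ω := (a.obj O).obj
  haveI : DerivedCategory.IsGE ω lo := hlo
  have hR : DCoh.IsQCohD ((R ω).obj ω) := fun i =>
    isQCoh_hd_R (lo - i - 1) (hpc _) (a.obj O).property lo i (by omega)
  let eo : O.obj ≅ one Y := eO ≪≫ oneIso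
  obtain ⟨u₀⟩ := nonempty_one_iso_R_of_trace f hf (fun _ h => BaseChange.isPerfect_rpush f h)
    (a.obj O).property hR ((adj.counit.app O).hom ≫ eo.hom) fun V hV => by
      have h := ((Iso.refl _).homCongr eo).bijective.comp (universal_trace adj O V hV)
      convert h using 1
      funext x
      simp [Function.comp_def]
  let u : DCoh.inD X (Coh.structureModule X) ≅ (DCoh.RSheafHom E).obj (DCoh.toD X E) :=
    oneIso ≪≫ u₀ ≪≫ (Dual.RIso eE.symm).app ω ≪≫ (R _).mapIso eE.symm ≪≫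
      ((Dual.rsheafHomIso E).app _).symm
  exact isIso_homEquiv _ PnD.inD_end_comm υ u

end Groth.Agent.LeadBrown
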