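import Groth.Agent.LeadBrown.BCAdjoint
import Groth.Agent.LeadBrown.QCohTri
import Groth.Agent.LeadBrown.Rpush
import Groth.Agent.H16Derived.BaseChange.Devissage
import Groth.Agent.H10Coh.AffineLeray
import Groth.Agent.H10Coh.HigherDirect2

/-!
# Bounded-above right adjoints of `Rf_*` and Tor independent base change
-/

set_option autoImplicit false
set_option linter.style.haveILetI false
set_option linter.unusedSectionVars false

universe u

open CategoryTheory CategoryTheory.Limits AlgebraicGeometry CategoryTheory.Pretriangulated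
open DerivedCategory.TStructure (t)

attribute [local instance] HasDerivedCategory.standard

namespace Groth.Agent.LeadBrown

open Groth.Agent.H16Derived Groth.Agent.H16Derived.BaseChange
open Groth.Agent.H16Derived.KFlat.Stalk (rd hasLpull rpushCommShift rpush_isTriangulated lpullRpushAdj)
open Groth.Agent.H16Derived.ProjFormula (PTri)

variable {X Y X' Y' : Scheme.{u}}

theorem isLE_of_iso {E F : DCoh.D X} (e : E ≅ F) (n : ℤ) (h : E.IsLE n) : F.IsLE n :=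
  haveI : t.IsLE E n := h
  t.isLE_of_iso e n

theorem isLE_of_le' {E : DCoh.D X} {m n : ℤ} (hmn : m ≤ n) (h : E.IsLE m) : E.IsLE n :=
  haveI : t.IsLE E m := h
  t.isLE_of_le E m n hmn

/-- The push forward base change isomorphism for right adjoints. -/
theorem nonempty_rpush_rightAdjoint [CompactSpace X] [QuasiSeparatedSpace X] [CompactSpace X']
    [QuasiSeparatedSpace X'] [CompactSpace Y] [QuasiSeparatedSpace Y] [CompactSpace Y'] [QuasiSeparatedSpace Y']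
    {f : X ⟶ Y} {f' : X' ⟶ Y'} {g : Y' ⟶ Y} {g' : X' ⟶ X} (h : IsPullback g' f' f g) (hTI : TI f g)
    [DCoh.HasRpush f] [DCoh.HasRpush f'] [DCoh.HasRpush g] [DCoh.HasRpush g']
    {hf : DCoh.RpushPreservesQCoh f} {hf' : DCoh.RpushPreservesQCoh f'}
    (hg : DCoh.RpushPreservesQCoh g) (hg' : DCoh.RpushPreservesQCoh g')
    {a : DCoh.DQCoh Y ⥤ DCoh.DQCoh X} {a' : DCoh.DQCoh Y' ⥤ DCoh.DQCoh X'}
    (adj : DCoh.RpushQ f hf ⊣ a) (adj' : DCoh.RpushQ f' hf' ⊣ a') (M : DCoh.DQCoh Y') :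
    Nonempty ((DCoh.Rpush g').obj (a'.obj M).obj ≅ (a.obj ((DCoh.RpushQ g hg).obj M)).obj) := by
  haveI : QuasiCompact g := quasiCompact_of_compactSpace g
  haveI : QuasiCompact g' := quasiCompact_of_compactSpace g'
  haveI : QuasiSeparated g := QuasiSeparated.of_quasiSeparatedSpace g
  haveI : QuasiSeparated g' := QuasiSeparated.of_quasiSeparatedSpace g'
  haveI := hasLpull g
  haveI := hasLpull g'
  have hLg : Dual3.LpullPreservesQCoh g := fun _ hK => QCohD.isQCohD_lpull g hK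
  have hLg' : Dual3.LpullPreservesQCoh g' := fun _ hK => QCohD.isQCohD_lpull g' hK
  obtain ⟨e, -, hξ, -⟩ := exists_bcAdjoint h hTI hf hf' adj adj' (adjQ g hLg hg) (adjQ g' hLg' hg')
  haveI := hξ M
  exact ⟨(ObjectProperty.ι _).mapIso (asIso (Dual3.xi adj adj' e M))⟩

/-- `Rf_*` has finite cohomological amplitude on `D_QCoh`. -/
theorem exists_isLE_rpush (f : X ⟶ Y) [DCoh.HasRpush f] [QuasiCompact f] [QuasiSeparated f] [CompactSpace Y] :
    ∃ N : ℤ, ∀ (K : DCoh.D X), DCoh.IsQCohD K → ∀ b : ℤ, K.IsLE b → ((DCoh.Rpush f).obj K).IsLE (b + N) := by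
  obtain ⟨N, hN⟩ := QCohD.exists_bound f
  exact ⟨N, fun K hK b hb => (DerivedCategory.isLE_iff _ _).2 fun m hm =>
    haveI := hb
    QCohD.isZero_rpush_of_isLE f hN K hK b m (by omega)⟩

/-- Along an affine morphism `Rf_*` reflects upper bounds. -/
theorem isLE_of_rpush_affine (f : X ⟶ Y) [IsAffineHom f] [DCoh.HasRpush f] {Z : DCoh.D X}
    (hZ : DCoh.IsQCohD Z) (b : ℤ) (h : ((DCoh.Rpush f).obj Z).IsLE b) : Z.IsLE b := by
  have hN : QCohD.Bound f 1 := fun M hM _ p hp => by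
    obtain ⟨m, rfl⟩ := Nat.exists_eq_succ_of_ne_zero (show p ≠ 0 by omega)
    haveI : M.IsQuasicoherent := hM
    rw [IsZero.iff_id_eq_zero]
    exact (H10Coh.shF Y).map_injective
      (((H10Coh.isZero_rpushAb_of_isAffineHom f M m).of_iso
        (H10Coh.nonempty_toAb_rpush f M (m + 1)).some).eq_of_src _ _)
  letI := rpushCommShift f
  haveI := rpush_isTriangulated f
  let L := (t.truncLT (b + 1)).obj Z
  let T := (t.truncGE (b + 1)).obj Z
  have hT := t.triangleLTGE_distinguished (b + 1) Z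
  have hLq : DCoh.IsQCohD L := QCohD.homP_truncLT Coh.IsQCoh QCohD.isQCoh_iso QCohD.isQCoh_isZero hZ _
  have hTq : DCoh.IsQCohD T := QCohD.homP_truncGE Coh.IsQCoh QCohD.isQCoh_iso QCohD.isQCoh_isZero hZ _
  haveI : DerivedCategory.IsLE L b := t.isLE_truncLT_obj Z (b + 1) b (by omega)
  haveI : DerivedCategory.IsGE T (b + 1) := inferInstanceAs (t.IsGE _ _)
  have h0 : IsZero ((DCoh.Rpush f).obj T) := by
    refine MVPush.isZero_of_hd _ fun m => ?_
    rcases lt_or_ge m (b + 1) with hm | hm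
    · haveI := KFlat.Stalk.isGE_rpush f T (b + 1)
      exact DerivedCategory.isZero_of_isGE _ (b + 1) m hm
    · haveI := h
      exact (DerivedCategory.HomologySequence.exact₃ _ ((DCoh.Rpush f).map_distinguished _ hT) m (m + 1)
        rfl).isZero_of_both_zeros
        ((DerivedCategory.isZero_of_isLE ((DCoh.Rpush f).obj Z) b m (by omega)).eq_of_src _ _)
        ((QCohD.isZero_rpush_of_isLE f hN L hLq b (m + 1) (by omega)).eq_of_tgt _ _)
  have hz : IsZero T := QCohD.AffineUnit.isZero_of_rpush f T hTq h0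
  haveI : IsIso ((t.triangleLTGE (b + 1)).obj Z).mor₁ := (Triangle.isZero₃_iff_isIso₁ _ hT).1 hz
  exact isLE_of_iso (asIso ((t.triangleLTGE (b + 1)).obj Z).mor₁) b ‹_›

section Glue

variable {f : X ⟶ Y} [DCoh.HasRpush f] {hf : DCoh.RpushPreservesQCoh f}
  {a : DCoh.DQCoh Y ⥤ DCoh.DQCoh X} (adj : DCoh.RpushQ f hf ⊣ a)

/-- `a L` lives in degrees `≤ b`. -/
def LEQ (a : DCoh.DQCoh Y ⥤ DCoh.DQCoh X) (L : DCoh.D Y) (b : ℤ) : Prop :=
  DCoh.IsQCohD L ∧ ∀ M : DCoh.DQCoh Y, Nonempty (M.obj ≅ L) → (a.obj M).obj.IsLE b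

theorem LEQ.of_iso {L L' : DCoh.D Y} (e : L ≅ L') {b : ℤ} (h : LEQ a L b) : LEQ a L' b :=
  ⟨QCohD.isQCohD_iso e h.1, fun M ⟨i⟩ => h.2 M ⟨i ≪≫ e.symm⟩⟩

theorem LEQ.of_le {L : DCoh.D Y} {b b' : ℤ} (hb : b ≤ b') (h : LEQ a L b) : LEQ a L b' :=
  ⟨h.1, fun M hM => isLE_of_le' hb (h.2 M hM)⟩

include adj in
theorem LEQ.middle {T : Triangle (DCoh.D Y)} (hT : T ∈ distTriang (DCoh.D Y)) {b : ℤ}
    (h₁ : LEQ a T.obj₁ b) (h₃ : LEQ a T.obj₃ b) : LEQ a T.obj₂ b := by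
  have h₂ : DCoh.IsQCohD T.obj₂ := QCohD.AffineUnit.isQCohD_obj₃ (inv_rot_of_distTriang _ hT)
    (QCohD.HomVanish.isQCohD_shift h₃.1 (-1)) h₁.1
  refine ⟨h₂, fun M ⟨e⟩ => ?_⟩
  obtain ⟨T', hT', e₁, e₂, e₃⟩ := exists_triangle_lift hT h₁.1 h₂ h₃.1
  obtain ⟨T'', hT'', i₁, i₂, i₃, -, -⟩ := ptri_rightAdjoint adj T' hT'
  haveI : t.IsLE T''.obj₁ b := isLE_of_iso i₁.symm b (h₁.2 T'.obj₁ ⟨eqToIso (congrArg (fun A => A.obj) e₁)⟩)
  haveI : t.IsLE T''.obj₃ b := isLE_of_iso i₃.symm b (h₃.2 T'.obj₃ ⟨eqToIso (congrArg (fun A => A.obj) e₃)⟩)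
  exact isLE_of_iso (i₂ ≪≫ (ObjectProperty.ι _).mapIso (a.mapIso (eqToIso e₂ ≪≫ (ObjectProperty.isoMk _ e).symm)))
    b (t.isLE₂ T'' hT'' b inferInstance inferInstance)

include adj in
theorem LEQ.shift {L : DCoh.D Y} {b : ℤ} (h : LEQ a L b) (n : ℤ) : LEQ a (L⟦n⟧) (b - n) := by
  refine ⟨QCohD.HomVanish.isQCohD_shift h.1 n, fun M ⟨e⟩ => ?_⟩
  haveI := hasLpull f
  letI := rpushCommShift f
  haveI := rpush_isTriangulated f
  letI := adj.rightAdjointCommShift ℤ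
  let A : DCoh.DQCoh Y := ⟨L, h.1⟩
  haveI : t.IsLE (a.obj A).obj b := h.2 A ⟨Iso.refl _⟩
  exact isLE_of_iso (((ObjectProperty.ι _).mapIso (a.mapIso (ObjectProperty.isoMk _ (shiftObjIso A n ≪≫ e.symm)
      : A⟦n⟧ ≅ M).symm ≪≫ (a.commShiftIso n).app A) ≪≫ shiftObjIso (a.obj A) n).symm) (b - n)
    (t.isLE_shift _ b n (b - n) (by omega))

end Glue

section Devissage

variable {f : X ⟶ Y} [DCoh.HasRpush f] {hf : DCoh.RpushPreservesQCoh f}
  {a : DCoh.DQCoh Y ⥤ DCoh.DQCoh X} (adj : DCoh.RpushQ f hf ⊣ a)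

/-- `a` is bounded above on push forwards along `k`. -/
def Bd (a : DCoh.DQCoh Y ⥤ DCoh.DQCoh X) {W : Scheme.{u}} (k : W ⟶ Y) : Prop :=
  ∃ d : ℤ, ∀ [DCoh.HasRpush k] (L : DCoh.D W), DCoh.IsQCohD L → ∀ n : ℤ, L.IsLE n →
    LEQ a ((DCoh.Rpush k).obj L) (n + d)

theorem Bd.comp {W W' : Scheme.{u}} {k : W ⟶ Y} (hk : Bd a k) [QuasiCompact k] [QuasiSeparated k] (σ : W' ⟶ W)
    [QuasiCompact σ] [QuasiSeparated σ] [CompactSpace W] : Bd a (σ ≫ k) := by
  haveI := QCohD.hasRpush σ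
  haveI := QCohD.hasRpush k
  obtain ⟨d, hd⟩ := hk
  obtain ⟨N, hN⟩ := exists_isLE_rpush σ
  refine ⟨N + d, fun L hL n hn => ?_⟩
  obtain ⟨e⟩ := KFlat.Stalk.nonempty_rpushCompIso σ k
  exact LEQ.of_le (by omega) (LEQ.of_iso (e.app L) (hd _ (QCohD.isQCohD_rpush σ hL) _ (hN L hL n hn)))

variable [CompactSpace Y] [QuasiSeparatedSpace Y]

include adj in
theorem bd_sup (S U : Y.Opens) (hSc : IsCompact (S : Set Y)) (hUc : IsCompact (U : Set Y))
    (hS : Bd a S.ι) (hU : Bd a U.ι) (hSU : Bd a (S ⊓ U).ι) : Bd a (S ⊔ U).ι := by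
  haveI : CompactSpace (S : Scheme.{u}) := isCompact_iff_compactSpace.1 hSc
  haveI : CompactSpace (U : Scheme.{u}) := isCompact_iff_compactSpace.1 hUc
  haveI : CompactSpace ((S ⊓ U : Y.Opens) : Scheme.{u}) :=
    isCompact_iff_compactSpace.1 (QuasiSeparatedSpace.inter_isCompact S.1 U.1 S.2 hSc U.2 hUc)
  haveI : CompactSpace ((S ⊔ U : Y.Opens) : Scheme.{u}) := isCompact_iff_compactSpace.1 (hSc.union hUc)
  haveI := Thomason.qss_opens (S ⊔ U)
  haveI := Thomason.qss_opens S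
  haveI := Thomason.qss_opens U
  haveI := Thomason.qss_opens (S ⊓ U)
  let W := (S ⊔ U).ι
  haveI : QuasiCompact W := quasiCompact_of_compactSpace W
  haveI := QCohD.hasRpush W
  let a₁ := W ⁻¹ᵁ S
  let b₁ := W ⁻¹ᵁ U
  have hab : a₁ ⊔ b₁ = ⊤ := by
    refine eq_top_iff.2 fun x _ => ?_
    exact (x.2 : W.base x ∈ S ⊔ U)
  have hgood : ∀ (T : Y.Opens) (hT : T ≤ S ⊔ U) [CompactSpace (T : Scheme.{u})], Bd a T.ι →
      Bd a ((W ⁻¹ᵁ T).ι ≫ W) := by
    intro T hT _ hg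
    haveI : IsOpenImmersion ((W ⁻¹ᵁ T).ι ≫ W) := inferInstance
    have hr : Set.range ((W ⁻¹ᵁ T).ι ≫ W).base = Set.range T.ι.base := by
      ext x
      simp only [Scheme.Opens.range_ι]
      constructor
      · rintro ⟨y, rfl⟩
        exact y.2
      · intro hx
        exact ⟨⟨⟨x, hT hx⟩, hx⟩, rfl⟩
    let σ := IsOpenImmersion.isoOfRangeEq ((W ⁻¹ᵁ T).ι ≫ W) T.ι hr
    rw [show (W ⁻¹ᵁ T).ι ≫ W = σ.hom ≫ T.ι from (IsOpenImmersion.lift_fac _ _ _).symm]
    haveI : QuasiCompact T.ι := quasiCompact_of_compactSpace T.ι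
    exact hg.comp σ.hom
  obtain ⟨dS, hdS⟩ := hgood S le_sup_left hS
  obtain ⟨dU, hdU⟩ := hgood U le_sup_right hU
  obtain ⟨dI, hdI⟩ : Bd a ((a₁ ⊓ b₁).ι ≫ W) := hgood (S ⊓ U) (inf_le_left.trans le_sup_left) hSU
  haveI hq : ∀ c : (↑(S ⊔ U) : Scheme.{u}).Opens, QuasiSeparated (c.ι ≫ W) := fun c => inferInstance
  refine ⟨max (max dS dU) (dI + 1), fun L hL n hn => ?_⟩
  haveI : QuasiCompact (W ⁻¹ᵁ S).ι := Thomason.quasiCompact_ι _ (QuasiCompact.isCompact_preimage (f := W) _ S.isOpen hSc)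
  haveI : QuasiCompact (W ⁻¹ᵁ U).ι := Thomason.quasiCompact_ι _ (QuasiCompact.isCompact_preimage (f := W) _ U.isOpen hUc)
  haveI : QuasiCompact (W ⁻¹ᵁ (S ⊓ U)).ι := Thomason.quasiCompact_ι _
    (QuasiCompact.isCompact_preimage (f := W) _ (S ⊓ U).isOpen (QuasiSeparatedSpace.inter_isCompact S.1 U.1 S.2 hSc U.2 hUc))
  haveI : QuasiCompact (a₁ ⊓ b₁).ι := ‹QuasiCompact (W ⁻¹ᵁ (S ⊓ U)).ι›
  haveI := QCohD.hasRpush a₁.ι
  haveI := QCohD.hasRpush b₁.ι
  haveI := QCohD.hasRpush (a₁ ⊓ b₁).ι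
  haveI := QCohD.hasRpush (a₁.ι ≫ W)
  haveI := QCohD.hasRpush (b₁.ι ≫ W)
  haveI := QCohD.hasRpush ((a₁ ⊓ b₁).ι ≫ W)
  haveI := hn
  letI := rpushCommShift W
  haveI := rpush_isTriangulated W
  obtain ⟨p, q, r, hT⟩ := MVPush.exists_triangle_rpush a₁ b₁ hab L
  obtain ⟨eA⟩ := KFlat.Stalk.nonempty_rpushCompIso a₁.ι W
  obtain ⟨eB⟩ := KFlat.Stalk.nonempty_rpushCompIso b₁.ι W
  obtain ⟨eC⟩ := KFlat.Stalk.nonempty_rpushCompIso (a₁ ⊓ b₁).ι W
  have hA : LEQ a ((DCoh.Rpush W).obj ((DCoh.Rpush a₁.ι).obj ((DCoh.restrictD a₁.ι).obj L))) (n + max (max dS dU) (dI + 1)) :=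
    LEQ.of_le (by omega) (LEQ.of_iso (eA.app _).symm
      (hdS _ (QCohD.isQCohD_rd a₁.ι hL) n (KFlat.Stalk.isLE_rd a₁.ι L n)))
  have hB : LEQ a ((DCoh.Rpush W).obj ((DCoh.Rpush b₁.ι).obj ((DCoh.restrictD b₁.ι).obj L))) (n + max (max dS dU) (dI + 1)) :=
    LEQ.of_le (by omega) (LEQ.of_iso (eB.app _).symm
      (hdU _ (QCohD.isQCohD_rd b₁.ι hL) n (KFlat.Stalk.isLE_rd b₁.ι L n)))
  have hC : LEQ a (((DCoh.Rpush W).obj ((DCoh.Rpush (a₁ ⊓ b₁).ι).obj
      ((DCoh.restrictD (a₁ ⊓ b₁).ι).obj L)))⟦(-1 : ℤ)⟧) (n + max (max dS dU) (dI + 1)) :=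
    LEQ.of_le (by omega) ((LEQ.of_iso (eC.app _).symm
      (hdI _ (QCohD.isQCohD_rd _ hL) n (KFlat.Stalk.isLE_rd _ L n))).shift adj (-1))
  have h₂ := LEQ.middle adj ((DCoh.Rpush W).map_distinguished _ (binaryBiproductTriangle_distinguished _ _)) hA hB
  exact LEQ.middle adj (inv_rot_of_distTriang _ ((DCoh.Rpush W).map_distinguished _ hT)) hC h₂

include adj in
theorem bd_bot : Bd a (⊥ : Y.Opens).ι := by
  refine ⟨0, fun L hL n _ => ⟨?_, fun M ⟨e⟩ => ?_⟩⟩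
  all_goals
    haveI : CompactSpace ((⊥ : Y.Opens) : Scheme.{u}) := isCompact_iff_compactSpace.1 isCompact_empty
    haveI : QuasiCompact (⊥ : Y.Opens).ι := quasiCompact_of_compactSpace _
  · exact QCohD.isQCohD_rpush _ hL
  · haveI := hasLpull f
    letI := rpushCommShift (⊥ : Y.Opens).ι
    haveI := rpush_isTriangulated (⊥ : Y.Opens).ι
    have hz : IsZero M.obj := ((DCoh.Rpush (⊥ : Y.Opens).ι).map_isZero
      (isZero_of_cover fun x => (x.2 : False).elim)).of_iso e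
    have hM : IsZero M := (IsZero.iff_id_eq_zero _).2 (ObjectProperty.hom_ext _ (hz.eq_of_src _ _))
    haveI : a.IsRightAdjoint := adj.isRightAdjoint
    haveI : a.PreservesZeroMorphisms := inferInstance
    exact (DerivedCategory.isLE_iff _ _).2 fun i _ => Functor.map_isZero _
      (Functor.map_isZero (ObjectProperty.ι _) (a.map_isZero hM))

variable (Small : Y.Opens → Prop) (hmono : ∀ U V : Y.Opens, U ≤ V → Small V → Small U)
  (hcov : ∀ y : Y, ∃ U : Y.Opens, IsAffineOpen U ∧ y ∈ U ∧ Small U)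
  (h : ∀ U : Y.Opens, IsAffineOpen U → Small U → Bd a U.ι)

include adj hmono h in
theorem bd_sup_finset {U₀ : Y.Opens} (hU₀ : IsAffineOpen U₀) (hsm : Small U₀) {ι : Type*} (s : Finset ι)
    (V : ι → Y.Opens) (hV : ∀ i ∈ s, IsAffineOpen (V i)) (hle : ∀ i ∈ s, V i ≤ U₀) :
    IsCompact ((s.sup V : Y.Opens) : Set Y) ∧ Bd a (s.sup V).ι := by
  classical
  induction s using Finset.induction_on generalizing V with
  | empty =>
    rw [Finset.sup_empty]
    exact ⟨isCompact_empty, bd_bot adj⟩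
  | @insert j s hj ih =>
    rw [Finset.sup_insert]
    have hjA := hV j (Finset.mem_insert_self j s)
    obtain ⟨hc, hb⟩ := ih V (fun i hi => hV i (Finset.mem_insert_of_mem hi)) fun i hi => hle i (Finset.mem_insert_of_mem hi)
    refine ⟨hjA.isCompact.union hc, bd_sup adj _ _ hjA.isCompact hc (h (V j) hjA (hmono _ _ (hle j (Finset.mem_insert_self j s)) hsm)) hb ?_⟩
    rw [Finset.sup_inf_distrib_left]
    refine (ih _ (fun i hi => ?_) fun i hi => inf_le_left.trans (hle j (Finset.mem_insert_self j s))).2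
    haveI : IsAffine U₀ := hU₀
    have hp : ∀ k ∈ insert j s, IsAffineOpen (U₀.ι ⁻¹ᵁ V k) := fun k hk =>
      (U₀.ι.isAffineOpen_iff_of_isOpenImmersion (U := U₀.ι ⁻¹ᵁ V k)).1 (by
        rw [U₀.ι.image_preimage_eq_opensRange_inf, Scheme.Opens.opensRange_ι,
          inf_eq_right.2 (hle k hk)]
        exact hV k hk)
    have h2 := ((hp j (Finset.mem_insert_self j s)).inf
      (hp i (Finset.mem_insert_of_mem hi))).image_of_isOpenImmersion U₀.ι
    rwa [← Scheme.Hom.preimage_inf, U₀.ι.image_preimage_eq_opensRange_inf, Scheme.Opens.opensRange_ι,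
      inf_eq_right.2 (inf_le_left.trans (hle j (Finset.mem_insert_self j s)))] at h2

include adj hmono hcov h in
/-- Boundedness above is local on small affine opens. -/
theorem exists_bound_of_affine : ∃ d : ℤ, ∀ (K : DCoh.DQCoh Y) (n : ℤ), K.obj.IsLE n →
    (a.obj K).obj.IsLE (n + d) := by
  classical
  choose U hU hyU hsU using hcov
  obtain ⟨s, hs⟩ := isCompact_univ.elim_finite_subcover (fun y => (U y : Set Y)) (fun y => (U y).2)
    (fun y _ => Set.mem_iUnion.2 ⟨y, hyU y⟩)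
  have hall : ∀ s : Finset Y, IsCompact ((s.sup U : Y.Opens) : Set Y) ∧ Bd a (s.sup U).ι := fun s => by
    induction s using Finset.induction_on with
    | empty =>
      rw [Finset.sup_empty]
      exact ⟨isCompact_empty, bd_bot adj⟩
    | @insert j s hj ih =>
      rw [Finset.sup_insert]
      obtain ⟨r, hr, he⟩ := (isCompact_iff_finite_and_eq_biUnion_affineOpens (U := U j ⊓ s.sup U)).1
        (QuasiSeparatedSpace.inter_isCompact (U j).1 (s.sup U).1 (U j).2 (hU j).isCompact (s.sup U).2 ih.1)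
      have he' : U j ⊓ s.sup U = hr.toFinset.sup fun V => V.1 := by
        conv_rhs => rw [Finset.sup_eq_iSup]
        simpa using he
      refine ⟨(hU j).isCompact.union ih.1, bd_sup adj _ _ (hU j).isCompact ih.1 (h _ (hU j) (hsU j)) ih.2 ?_⟩
      rw [he']
      exact (bd_sup_finset adj Small hmono h (hU j) (hsU j) _ _ (fun V _ => V.2)
        fun V hV => ((Finset.le_sup hV).trans he'.ge).trans inf_le_left).2
  have htop : s.sup U = ⊤ := top_le_iff.1 fun y _ => by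
    obtain ⟨z, hz, hy⟩ := Set.mem_iUnion₂.1 (hs (Set.mem_univ y))
    exact (Finset.le_sup (f := U) hz) hy
  have key : Bd a (⊤ : Y.Opens).ι := htop ▸ (hall s).2
  obtain ⟨d, hd⟩ := key
  haveI := QCohD.hasRpush (⊤ : Y.Opens).ι
  refine ⟨d, fun K n hn => ?_⟩
  haveI := hn
  obtain ⟨e⟩ := MVPush.nonempty_iso_rpush_restrict (⊤ : Y.Opens) Set.univ isClosed_univ
    (fun _ _ => trivial) K.obj fun _ => Set.subset_univ _
  exact (hd _ (QCohD.isQCohD_rd _ K.property) n (KFlat.Stalk.isLE_rd _ K.obj n)).2 K ⟨e⟩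

end Devissage

/-- The base change of a bounded-above right adjoint is bounded above. -/
theorem exists_bound_baseChange [CompactSpace X] [QuasiSeparatedSpace X] [CompactSpace X']
    [QuasiSeparatedSpace X'] [CompactSpace Y] [QuasiSeparatedSpace Y] [CompactSpace Y'] [QuasiSeparatedSpace Y']
    {f : X ⟶ Y} {f' : X' ⟶ Y'} {g : Y' ⟶ Y} {g' : X' ⟶ X} (hsq : IsPullback g' f' f g) (hTI : TI f g)
    [DCoh.HasRpush f] [DCoh.HasRpush f'] {hf : DCoh.RpushPreservesQCoh f} {hf' : DCoh.RpushPreservesQCoh f'}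
    {a : DCoh.DQCoh Y ⥤ DCoh.DQCoh X} {a' : DCoh.DQCoh Y' ⥤ DCoh.DQCoh X'}
    (adj : DCoh.RpushQ f hf ⊣ a) (adj' : DCoh.RpushQ f' hf' ⊣ a')
    (hbd : ∃ d : ℤ, ∀ (K : DCoh.DQCoh Y) (n : ℤ), K.obj.IsLE n → (a.obj K).obj.IsLE (n + d)) :
    ∃ d' : ℤ, ∀ (K' : DCoh.DQCoh Y') (n : ℤ), K'.obj.IsLE n → (a'.obj K').obj.IsLE (n + d') := by
  haveI : QuasiCompact f := quasiCompact_of_compactSpace f
  haveI : QuasiSeparated f := QuasiSeparated.of_quasiSeparatedSpace f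
  haveI : QuasiCompact f' := quasiCompact_of_compactSpace f'
  haveI : QuasiSeparated f' := QuasiSeparated.of_quasiSeparatedSpace f'
  refine exists_bound_of_affine adj' (fun U => ∃ V : Y.Opens, IsAffineOpen V ∧ U ≤ g ⁻¹ᵁ V)
    (fun U V hUV ⟨T, hT, hle⟩ => ⟨T, hT, hUV.trans hle⟩) (fun y => ?_) fun W hW hsm => ?_
  · obtain ⟨V, hV, hyV, -⟩ := exists_isAffineOpen_mem_and_subset (U := (⊤ : Y.Opens)) (x := g.base y) trivial
    obtain ⟨U, hU, hyU, hUV⟩ := exists_isAffineOpen_mem_and_subset (U := g ⁻¹ᵁ V) (x := y) hyV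
    exact ⟨U, hU, hyU, V, hV, hUV⟩
  obtain ⟨V, hV, hle⟩ := hsm
  haveI : IsAffine (W : Scheme.{u}) := hW
  let W₁ : Scheme.{u} := W
  let k₁ : W₁ ⟶ Y' := W.ι
  have hrange : Set.range (k₁ ≫ g).base ⊆ V := by
    rintro _ ⟨w, rfl⟩
    exact hle w.2
  haveI : IsAffine (V : Scheme.{u}) := hV
  let h : W₁ ⟶ V := IsOpenImmersion.lift V.ι (k₁ ≫ g) (by rw [Scheme.Opens.range_ι]; exact hrange)
  have hh : h ≫ V.ι = k₁ ≫ g := IsOpenImmersion.lift_fac _ _ _
  haveI : QuasiCompact k₁ := quasiCompact_of_compactSpace k₁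
  haveI : QuasiCompact V.ι := quasiCompact_of_compactSpace V.ι
  haveI : QuasiSeparated k₁ := inferInstance
  let pX := pullback.fst f V.ι
  let fV := pullback.snd f V.ι
  let pW := pullback.fst f' k₁
  let fW := pullback.snd f' k₁
  have sqV : IsPullback pX fV f V.ι := IsPullback.of_hasPullback f V.ι
  have sqW : IsPullback pW fW f' k₁ := IsPullback.of_hasPullback f' k₁
  let q : pullback f' k₁ ⟶ pullback f V.ι := pullback.lift (pW ≫ g') (fW ≫ h)
    (by rw [Category.assoc, Category.assoc, hh, hsq.w, ← Category.assoc, sqW.w, Category.assoc])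
  have hq1 : q ≫ pX = pW ≫ g' := pullback.lift_fst _ _ _
  have hq2 : q ≫ fV = fW ≫ h := pullback.lift_snd _ _ _
  have sqH : IsPullback q fW fV h := IsPullback.of_right (by rw [hq1, hh]; exact sqW.paste_horiz hsq) hq2 sqV
  haveI : IsAffineHom h := inferInstance
  haveI : IsAffineHom q := MorphismProperty.of_isPullback sqH.flip ‹IsAffineHom h›
  haveI : QuasiSeparated fV := inferInstance
  haveI : QuasiSeparated fW := inferInstance
  haveI : CompactSpace (pullback f V.ι : Scheme.{u}) := QuasiCompact.compactSpace_of_compactSpace fV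
  haveI : CompactSpace (pullback f' k₁ : Scheme.{u}) := QuasiCompact.compactSpace_of_compactSpace fW
  haveI : QuasiSeparatedSpace (pullback f V.ι : Scheme.{u}) := quasiSeparatedSpace_of_quasiSeparated fV
  haveI : QuasiSeparatedSpace (pullback f' k₁ : Scheme.{u}) := quasiSeparatedSpace_of_quasiSeparated fW
  haveI : QuasiCompact pX := quasiCompact_of_compactSpace pX
  haveI : QuasiCompact pW := quasiCompact_of_compactSpace pW
  haveI := QCohD.hasRpush V.ι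
  haveI := QCohD.hasRpush k₁
  haveI := QCohD.hasRpush pX
  haveI := QCohD.hasRpush pW
  haveI := QCohD.hasRpush h
  haveI := QCohD.hasRpush q
  haveI := QCohD.hasRpush fV
  haveI := QCohD.hasRpush fW
  have hfV : DCoh.RpushPreservesQCoh fV := fun K hK => QCohD.isQCohD_rpush fV hK
  have hfW : DCoh.RpushPreservesQCoh fW := fun K hK => QCohD.isQCohD_rpush fW hK
  haveI := isLeftAdjoint_rpushQ fV hfV
  haveI := isLeftAdjoint_rpushQ fW hfW
  have adjV := Adjunction.ofIsLeftAdjoint (DCoh.RpushQ fV hfV)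
  have adjW := Adjunction.ofIsLeftAdjoint (DCoh.RpushQ fW hfW)
  have hvq : DCoh.RpushPreservesQCoh V.ι := fun K hK => QCohD.isQCohD_rpush V.ι hK
  have hkq : DCoh.RpushPreservesQCoh k₁ := fun K hK => QCohD.isQCohD_rpush k₁ hK
  have hhq : DCoh.RpushPreservesQCoh h := fun K hK => QCohD.isQCohD_rpush h hK
  obtain ⟨d, hd⟩ := hbd
  obtain ⟨e₁, he₁⟩ := exists_isLE_rpush V.ι
  obtain ⟨e₂, he₂⟩ := exists_isLE_rpush h
  obtain ⟨e₃, he₃⟩ := exists_isLE_rpush pW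
  refine ⟨e₂ + e₁ + d + e₃, fun L hL n hn => ⟨QCohD.isQCohD_rpush k₁ hL, fun M ⟨eM⟩ => ?_⟩⟩
  let L₀ : DCoh.DQCoh W₁ := ⟨L, hL⟩
  let L₁ := (DCoh.RpushQ h hhq).obj L₀
  obtain ⟨i₁⟩ := nonempty_rpush_rightAdjoint sqV (ti_of_flat' f V.ι) hvq (fun K hK => QCohD.isQCohD_rpush pX hK)
    adj adjV L₁
  obtain ⟨i₂⟩ := nonempty_rpush_rightAdjoint sqH (hTI.restrict V.ι k₁ pX sqV.w.symm hh) hhq
    (fun K hK => QCohD.isQCohD_rpush q hK) adjV adjW L₀
  obtain ⟨i₃⟩ := nonempty_rpush_rightAdjoint sqW (ti_of_flat' f' k₁) hkq (fun K hK => QCohD.isQCohD_rpush pW hK)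
    adj' adjW L₀
  have h₁ : ((DCoh.Rpush pX).obj (((DCoh.RpushQ fV hfV).rightAdjoint).obj L₁).obj).IsLE (n + e₂ + e₁ + d) :=
    isLE_of_iso i₁.symm _ (hd _ _ (he₁ _ L₁.property _ (he₂ L hL n hn)))
  haveI := hasLpull pX
  haveI := h₁
  haveI := BaseChange.isIso_counit_of_openImmersion pX (lpullRpushAdj pX)
  have h₂ : (((DCoh.RpushQ fV hfV).rightAdjoint).obj L₁).obj.IsLE (n + e₂ + e₁ + d) :=
    isLE_of_iso (asIso ((lpullRpushAdj pX).counit.app _)) _ (KFlat.Stalk.isLE_lpull pX _ _)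
  have h₃ : (((DCoh.RpushQ fW hfW).rightAdjoint).obj L₀).obj.IsLE (n + e₂ + e₁ + d) :=
    isLE_of_rpush_affine q (((DCoh.RpushQ fW hfW).rightAdjoint).obj L₀).property _
      (isLE_of_iso i₂.symm _ h₂)
  exact isLE_of_iso (i₃ ≪≫ (ObjectProperty.ι _).mapIso (a'.mapIso
      (ObjectProperty.isoMk _ eM.symm : (DCoh.RpushQ k₁ hkq).obj L₀ ≅ M))) _
    (isLE_of_le' (by omega) (he₃ _ (((DCoh.RpushQ fW hfW).rightAdjoint).obj L₀).property _ h₃))

end Groth.Agent.LeadBrown
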