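import Groth.Agent.LeadBrown.CopTensor
import Groth.Agent.H16Derived.Dual.PseudoQCoh

/-!
# `Lg^* RHom(k, L) ⟶ RHom(Lg^* k, Lg^* L)`
-/

set_option autoImplicit false
set_option linter.style.haveILetI false
set_option linter.unusedSectionVars false

universe u

open CategoryTheory CategoryTheory.Limits AlgebraicGeometry CategoryTheory.Pretriangulated Opposite

attribute [local instance] HasDerivedCategory.standard

namespace Groth.Agent.LeadBrown

open Groth.Agent.H16Derived Groth.Agent.H16Derived.QCohD Groth.Agent.H25DTen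
open Groth.Agent.H16Derived.KFlat.Stalk (lpullRpushAdj lpullCommShift lpull_isTriangulated rd rdComp)
open Groth.Agent.H16Derived.Dual (T R adjR Rmap σ σ_naturality_left o one rA IsoOn)

variable {X X' : Scheme.{u}}

theorem σ_naturality_right (a : DCoh.D X) {b b' : DCoh.D X} (f : b ⟶ b') :
    ((T X).obj a).map f ≫ (σ a b').hom = (σ a b).hom ≫ ((T X).map f).app a :=
  (Dual.symm₂ X).hom.naturality (X := (a, b)) (Y := (a, b')) (Prod.mkHom (𝟙 a) f)

/-- The two tensor functors by a fixed object agree. -/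
noncomputable def tSwap (k : DCoh.D X) : (T X).flip.obj k ≅ (T X).obj k :=
  NatIso.ofComponents (fun b => σ b k) fun f => σ_naturality_left f k

/-- `k ⊗ - ⊣ RHom(k, -)`. -/
noncomputable def adjS (k : DCoh.D X) : (T X).obj k ⊣ R k := (adjR k).ofNatIsoLeft (tSwap k)

theorem adjS_symm (k g L : DCoh.D X) (x : g ⟶ (R k).obj L) :
    ((adjS k).homEquiv g L).symm x = (σ g k).inv ≫ ((adjR k).homEquiv g L).symm x := by
  rw [Adjunction.homEquiv_counit, Adjunction.homEquiv_counit]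
  show ((T X).obj k).map x ≫ (σ ((R k).obj L) k).inv ≫ (adjR k).counit.app L = _
  rw [← Category.assoc, ← Category.assoc]
  exact congrArg (· ≫ _) ((tSwap k).inv.naturality x)

/-- Evaluation. -/
noncomputable def evS (k L : DCoh.D X) : ((T X).obj k).obj ((R k).obj L) ⟶ L := (adjS k).counit.app L

theorem adjS_symm_eq (k g L : DCoh.D X) (x : g ⟶ (R k).obj L) :
    ((adjS k).homEquiv g L).symm x = ((T X).obj k).map x ≫ evS k L :=
  (adjS k).homEquiv_counit g L x

theorem comp_Rmap_S {k' k : DCoh.D X} (φ : k' ⟶ k) (L g : DCoh.D X) (x : g ⟶ (R k).obj L) :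
    ((adjS k').homEquiv g L).symm (x ≫ Rmap φ L) =
      ((T X).map φ).app g ≫ ((adjS k).homEquiv g L).symm x := by
  rw [adjS_symm, adjS_symm, Dual.comp_Rmap]
  rw [← Category.assoc, ← Category.assoc (((T X).map φ).app g)]
  refine congrArg (· ≫ _) ?_
  rw [Iso.inv_comp_eq, ← Category.assoc, Iso.eq_comp_inv]
  exact σ_naturality_right g φ

theorem Rmap_evS {k' k : DCoh.D X} (φ : k' ⟶ k) (L : DCoh.D X) :
    ((T X).obj k').map (Rmap φ L) ≫ evS k' L = ((T X).map φ).app ((R k).obj L) ≫ evS k L := by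
  have h := comp_Rmap_S φ L _ (𝟙 ((R k).obj L))
  rw [Category.id_comp, adjS_symm_eq, adjS_symm_eq, CategoryTheory.Functor.map_id, Category.id_comp] at h
  exact h

variable (g : X' ⟶ X) [DCoh.HasRpush g] [DCoh.HasLpull g]

/-- `Lg^* RHom(k, L) ⟶ RHom(Lg^* k, Lg^* L)`. -/
noncomputable def wR (k L : DCoh.D X) :
    (DCoh.Lpull g).obj ((R k).obj L) ⟶ (R ((DCoh.Lpull g).obj k)).obj ((DCoh.Lpull g).obj L) :=
  (adjS _).homEquiv _ _ ((cT g k ((R k).obj L)).inv ≫ (DCoh.Lpull g).map (evS k L))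

theorem adjS_symm_wR (k L : DCoh.D X) {G : DCoh.D X'} (x : G ⟶ (DCoh.Lpull g).obj ((R k).obj L)) :
    ((adjS _).homEquiv G _).symm (x ≫ wR g k L) =
      ((T X').obj ((DCoh.Lpull g).obj k)).map x ≫ (cT g k ((R k).obj L)).inv ≫ (DCoh.Lpull g).map (evS k L) := by
  rw [Adjunction.homEquiv_naturality_left_symm, wR, Equiv.symm_apply_apply]

theorem wR_evS (k L : DCoh.D X) :
    ((T X').obj ((DCoh.Lpull g).obj k)).map (wR g k L) ≫ evS _ _ =
      (cT g k ((R k).obj L)).inv ≫ (DCoh.Lpull g).map (evS k L) :=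
  ((adjS _).homEquiv_counit _ _ _).symm.trans (Equiv.symm_apply_apply _ _)

theorem wR_naturality {k' k : DCoh.D X} (φ : k' ⟶ k) (L : DCoh.D X) :
    wR g k L ≫ Rmap ((DCoh.Lpull g).map φ) ((DCoh.Lpull g).obj L) =
      (DCoh.Lpull g).map (Rmap φ L) ≫ wR g k' L := by
  apply ((adjS _).homEquiv _ _).symm.injective
  rw [comp_Rmap_S, adjS_symm_wR, adjS_symm_eq, wR_evS]
  have h1 := cT_naturality_left g φ ((R k).obj L)
  have h2 := cT_naturality_right g k' (Rmap φ L)
  rw [← cancel_epi (cT g k' ((R k).obj L)).hom, ← reassoc_of% h1, ← reassoc_of% h2,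
    Iso.hom_inv_id_assoc, Iso.hom_inv_id_assoc, ← Functor.map_comp, ← Functor.map_comp, Rmap_evS]

/-- `RHom(-, L)` of isomorphisms over `A`. -/
theorem isoOn_Rmap {A : X.Opens} {k' k : DCoh.D X} {φ : k' ⟶ k} (h : IsoOn A φ) (L : DCoh.D X) :
    IsoOn A (Rmap φ L) := by
  refine (Dual.isoOn_iff_bijective A _).2 fun H => ?_
  haveI := Dual.isIso_TObj_cut A H h
  have hc : Function.Bijective fun z : ((T X).obj (cut A H)).obj k ⟶ L =>
      ((T X).obj (cut A H)).map φ ≫ z :=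
    ((asIso (((T X).obj (cut A H)).map φ)).symm.homCongr (Iso.refl L)).bijective |> fun hb => by
      convert hb using 1
      funext z
      simp
  have e : (fun x : cut A H ⟶ (R k).obj L => x ≫ Rmap φ L) =
      (adjR k').homEquiv _ _ ∘ (fun z : ((T X).obj (cut A H)).obj k ⟶ L =>
        ((T X).obj (cut A H)).map φ ≫ z) ∘ ((adjR k).homEquiv _ _).symm := by
    funext x
    refine ((adjR k').homEquiv _ _).symm.injective ?_
    simp only [Function.comp_apply, Equiv.symm_apply_apply]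
    exact Dual.comp_Rmap φ L _ x
  rw [e]
  exact ((adjR k').homEquiv _ _).bijective.comp (hc.comp ((adjR k).homEquiv _ _).symm.bijective)

/-- Inverse image of isomorphisms over `A`. -/
theorem isoOn_lpull {A : X.Opens} {A' : X'.Opens} (hA : A' ≤ g ⁻¹ᵁ A) {k' k : DCoh.D X} {φ : k' ⟶ k}
    (h : IsoOn A φ) : IsoOn A' ((DCoh.Lpull g).map φ) := by
  obtain ⟨C, j, δ, hT⟩ := distinguished_cocone_triangle φ
  haveI : IsIso ((rA A).map φ) := h
  have hz : IsZero ((rA A).obj C) :=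
    (Triangle.isZero₃_iff_isIso₁ _ ((rA A).map_distinguished _ hT)).2 ‹_›
  letI := lpullCommShift g
  haveI := lpull_isTriangulated g
  refine (Triangle.isZero₃_iff_isIso₁ _
    ((rA A').map_distinguished _ ((DCoh.Lpull g).map_distinguished _ hT))).1 ?_
  exact ((rd (X'.homOfLE hA)).map_isZero (isZero_rd_lpull g A hz)).of_iso
    (rdComp (X'.homOfLE hA) (g ⁻¹ᵁ A).ι A'.ι (X'.homOfLE_ι hA) ((DCoh.Lpull g).obj C))

/-- `Hom(G, F RHom(P -, L))` is exact at the middle. -/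
theorem exists_lift_R {C : Type*} [Category C] [Preadditive C] [HasZeroObject C] [HasShift C ℤ]
    [∀ n : ℤ, (shiftFunctor C n).Additive] [Pretriangulated C] {Z : Scheme.{u}}
    {P : C ⥤ DCoh.D X} {P' : DCoh.D X ⥤ C} (adjP : P ⊣ P')
    {F : DCoh.D X ⥤ DCoh.D Z} {F' : DCoh.D Z ⥤ DCoh.D X} (adjF : F ⊣ F')
    (T₀ : Triangle C) (hT : T₀ ∈ distTriang C) (L : DCoh.D X) {G : DCoh.D Z}
    (x : G ⟶ F.obj ((R (P.obj T₀.obj₂)).obj L)) (hx : x ≫ F.map (Rmap (P.map T₀.mor₁) L) = 0) :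
    ∃ y : G ⟶ F.obj ((R (P.obj T₀.obj₃)).obj L), y ≫ F.map (Rmap (P.map T₀.mor₂) L) = x := by
  obtain ⟨K, j, δ, hd⟩ := distinguished_cocone_triangle₁ (Rmap (P.map T₀.mor₁) L)
  have hj : j ≫ Rmap (P.map T₀.mor₁) L = 0 := comp_distTriang_mor_zero₁₂ _ hd
  let z := ((adjR (P.obj T₀.obj₂)).homEquiv _ _).symm j
  have hz : (P ⋙ (T X).obj K).map T₀.mor₁ ≫ z = 0 := by
    rw [Functor.comp_map, ← Dual.comp_Rmap, hj, Adjunction.homEquiv_counit]
    exact (congrArg (· ≫ _) (((T X).flip.obj _).map_zero _ _)).trans zero_comp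
  obtain ⟨r, hr⟩ := Dev.exists_factor_map (adjP.comp (Adjunction.ofIsLeftAdjoint ((T X).obj K))) T₀ hT z hz
  let t := (adjR (P.obj T₀.obj₃)).homEquiv _ _ r
  have htj : t ≫ Rmap (P.map T₀.mor₂) L = j := ((adjR _).homEquiv _ _).symm.injective (by
    rw [Dual.comp_Rmap, Equiv.symm_apply_apply]; exact hr)
  obtain ⟨q, hq⟩ := Dev.exists_lift_map adjF _ hd x hx
  refine ⟨q ≫ F.map t, ?_⟩
  rw [Category.assoc, ← F.map_comp]
  exact (congrArg (fun s => q ≫ F.map s) htj).trans hq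

theorem Rmap_comp {a b c : DCoh.D X} (φ : a ⟶ b) (ψ : b ⟶ c) (L : DCoh.D X) :
    Rmap (φ ≫ ψ) L = Rmap ψ L ≫ Rmap φ L := by
  apply ((adjR a).homEquiv _ _).symm.injective
  conv_lhs => rw [← Category.id_comp (Rmap (φ ≫ ψ) L), Dual.comp_Rmap]
  rw [Dual.comp_Rmap]
  conv_rhs => rw [← Category.id_comp (Rmap ψ L), Dual.comp_Rmap]
  rw [Functor.map_comp, Category.assoc]

theorem Rmap_id (k L : DCoh.D X) : Rmap (𝟙 k) L = 𝟙 _ := by
  apply ((adjR k).homEquiv _ _).symm.injective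
  conv_lhs => rw [← Category.id_comp (Rmap (𝟙 k) L), Dual.comp_Rmap]
  rw [CategoryTheory.Functor.map_id, Category.id_comp]

theorem Rmap_zero (k k' L : DCoh.D X) : Rmap (0 : k' ⟶ k) L = 0 := by
  apply ((adjR k').homEquiv _ _).symm.injective
  conv_lhs => rw [← Category.id_comp (Rmap (0 : k' ⟶ k) L), Dual.comp_Rmap]
  rw [Functor.map_zero, zero_comp, Adjunction.homEquiv_counit]
  exact ((congrArg (· ≫ _) (((T X).flip.obj k').map_zero _ _)).trans zero_comp).symm

theorem isZero_R {k : DCoh.D X} (hk : IsZero k) (L : DCoh.D X) : IsZero ((R k).obj L) := by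
  rw [IsZero.iff_id_eq_zero, ← Rmap_id, hk.eq_of_src (𝟙 k) 0, Rmap_zero]

variable (G : DCoh.D X') (L : DCoh.D X)

/-- `k ↦ Hom(G, Lg^* RHom(k, L))`. -/
noncomputable def srcW : (DCoh.D X)ᵒᵖ ⥤ AddCommGrpCat.{u + 1} where
  obj k := AddCommGrpCat.of (G ⟶ (DCoh.Lpull g).obj ((R k.unop).obj L))
  map φ := AddCommGrpCat.ofHom (Preadditive.rightComp G ((DCoh.Lpull g).map (Rmap φ.unop L)))
  map_id k := by
    ext x
    change x ≫ (DCoh.Lpull g).map (Rmap (𝟙 k.unop) L) = x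
    rw [Rmap_id, CategoryTheory.Functor.map_id, Category.comp_id]
  map_comp φ ψ := by
    ext x
    change x ≫ (DCoh.Lpull g).map (Rmap (ψ.unop ≫ φ.unop) L) = (x ≫ _) ≫ _
    rw [Rmap_comp, Functor.map_comp, Category.assoc]

/-- `k ↦ Hom(G, RHom(Lg^* k, Lg^* L))`. -/
noncomputable def tgtW : (DCoh.D X)ᵒᵖ ⥤ AddCommGrpCat.{u + 1} where
  obj k := AddCommGrpCat.of (G ⟶ (R ((DCoh.Lpull g).obj k.unop)).obj ((DCoh.Lpull g).obj L))
  map φ := AddCommGrpCat.ofHom (Preadditive.rightComp G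
    (Rmap ((DCoh.Lpull g).map φ.unop) ((DCoh.Lpull g).obj L)))
  map_id k := by
    ext x
    change x ≫ Rmap ((DCoh.Lpull g).map (𝟙 k.unop)) _ = x
    rw [CategoryTheory.Functor.map_id, Rmap_id, Category.comp_id]
  map_comp φ ψ := by
    ext x
    change x ≫ Rmap ((DCoh.Lpull g).map (ψ.unop ≫ φ.unop)) _ = (x ≫ _) ≫ _
    rw [Functor.map_comp, Rmap_comp, Category.assoc]

/-- Composition with `wR`. -/
noncomputable def wNat : srcW g G L ⟶ tgtW g G L where
  app k := AddCommGrpCat.ofHom (Preadditive.rightComp G (wR g k.unop L))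
  naturality k k' φ := by
    ext x
    change (x ≫ (DCoh.Lpull g).map (Rmap φ.unop L)) ≫ wR g k'.unop L = (x ≫ wR g k.unop L) ≫ _
    rw [Category.assoc, Category.assoc, wR_naturality]

theorem isExactOp_srcW : Dev.IsExactOp (srcW g G L) := by
  haveI : (DCoh.Lpull g).Additive := by
    letI := lpullCommShift g
    haveI := lpull_isTriangulated g
    infer_instance
  intro T₀ hT x
  constructor
  · intro hx
    obtain ⟨y, hy⟩ := exists_lift_R (Adjunction.id (C := DCoh.D X)) (lpullRpushAdj g) T₀ hT L x hx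
    exact ⟨y, hy⟩
  · rintro ⟨y, rfl⟩
    change (y ≫ (DCoh.Lpull g).map (Rmap T₀.mor₂ L)) ≫ (DCoh.Lpull g).map (Rmap T₀.mor₁ L) = 0
    rw [Category.assoc, ← Functor.map_comp, ← Rmap_comp, comp_distTriang_mor_zero₁₂ _ hT, Rmap_zero,
      Functor.map_zero, comp_zero]

theorem isExactOp_tgtW : Dev.IsExactOp (tgtW g G L) := by
  haveI : (DCoh.Lpull g).Additive := by
    letI := lpullCommShift g
    haveI := lpull_isTriangulated g
    infer_instance
  intro T₀ hT x
  constructor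
  · intro hx
    obtain ⟨y, hy⟩ := exists_lift_R (lpullRpushAdj g) (Adjunction.id (C := DCoh.D X')) T₀ hT
      ((DCoh.Lpull g).obj L) x hx
    exact ⟨y, hy⟩
  · rintro ⟨y, rfl⟩
    change (y ≫ Rmap ((DCoh.Lpull g).map T₀.mor₂) _) ≫ Rmap ((DCoh.Lpull g).map T₀.mor₁) _ = 0
    rw [Category.assoc, ← Rmap_comp, ← Functor.map_comp, comp_distTriang_mor_zero₁₂ _ hT,
      Functor.map_zero, Rmap_zero, comp_zero]

/-- `wR` is bijective on maps from objects cut to `A'`, for all shifts. -/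
def WGood (A' : X'.Opens) (L k : DCoh.D X) : Prop :=
  ∀ (n : ℤ) (H : DCoh.D X'), Function.Bijective ((wNat g (cut A' H) L).app (op (k⟦n⟧)))

theorem isoOn_wR_iff (A' : X'.Opens) (k L : DCoh.D X) :
    IsoOn A' (wR g k L) ↔ ∀ H, Function.Bijective ((wNat g (cut A' H) L).app (op k)) :=
  Dual.isoOn_iff_bijective A' _

theorem wR_bijective_iff_of_isoOn {A : X.Opens} {A' : X'.Opens} (hA : A' ≤ g ⁻¹ᵁ A) {k' k : DCoh.D X}
    {φ : k' ⟶ k} (h : IsoOn A φ) (L : DCoh.D X) :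
    IsoOn A' (wR g k L) ↔ IsoOn A' (wR g k' L) := by
  have h1 : IsoOn A' ((DCoh.Lpull g).map (Rmap φ L)) := isoOn_lpull g hA (isoOn_Rmap h L)
  have h2 : IsoOn A' (Rmap ((DCoh.Lpull g).map φ) ((DCoh.Lpull g).obj L)) :=
    isoOn_Rmap (isoOn_lpull g hA h) _
  exact ⟨fun hw => h1.of_comp_left (wR_naturality g φ L ▸ hw.comp h2),
    fun hw => h2.of_comp_right ((wR_naturality g φ L).symm ▸ h1.comp hw)⟩

theorem invOn_wGood {A : X.Opens} {A' : X'.Opens} (hA : A' ≤ g ⁻¹ᵁ A) (L : DCoh.D X) :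
    Dual.InvOn A (WGood g A' L) := fun _ h => forall_congr' fun n =>
  ((isoOn_wR_iff g A' _ L).symm.trans (wR_bijective_iff_of_isoOn g hA (h.shift n) L)).trans
    (isoOn_wR_iff g A' _ L)

theorem wR_bijective_of_iso (A' : X'.Opens) {k k' : DCoh.D X} (e : k ≅ k') (L : DCoh.D X)
    (h : ∀ H, Function.Bijective ((wNat g (cut A' H) L).app (op k))) (H : DCoh.D X') :
    Function.Bijective ((wNat g (cut A' H) L).app (op k')) := by
  have := h H
  rw [← ConcreteCategory.isIso_iff_bijective] at this ⊢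
  exact (NatTrans.isIso_app_iff_of_iso _ e.symm.op).1 this

theorem stable_wGood (A' : X'.Opens) (L : DCoh.D X) : QCohD.Stable (X := X) (WGood g A' L) where
  of_iso e h n := wR_bijective_of_iso g A' ((shiftFunctor _ n).mapIso e) L (h n)
  shift h n p := wR_bijective_of_iso g A' ((shiftFunctorAdd (DCoh.D X) n p).app _) L (h (n + p))
  ext₂ T₀ hT h₁ h₃ n H :=
    Dev.bijective_shift_ext_op (wNat g (cut A' H) L) (isExactOp_srcW _ _ _) (isExactOp_tgtW _ _ _) T₀ hT
      (fun p => h₁ p H) (fun p => h₃ p H) n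
  of_isZero hK n := by
    haveI : (DCoh.Lpull g).Additive := by
      letI := lpullCommShift g
      haveI := lpull_isTriangulated g
      infer_instance
    haveI : IsIso (wR g (_⟦n⟧) L) := isIso_of_source_target_iso_zero _
      ((DCoh.Lpull g).map_isZero (isZero_R (Functor.map_isZero _ hK) L)).isoZero
      (isZero_R ((DCoh.Lpull g).map_isZero (Functor.map_isZero _ hK)) _).isoZero
    exact (isoOn_wR_iff g A' _ L).1 (Dual.isoOn_of_isIso A' _)

/-- `wR` is an isomorphism for invertible objects. -/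
theorem isIso_wR_of_isEquivalence (k L : DCoh.D X) [((T X).flip.obj k).IsEquivalence]
    [((T X').flip.obj ((DCoh.Lpull g).obj k)).IsEquivalence] : IsIso (wR g k L) := by
  haveI : ((T X).obj k).IsEquivalence := Functor.isEquivalence_of_iso (tSwap k)
  haveI : ((T X').obj ((DCoh.Lpull g).obj k)).IsEquivalence := Functor.isEquivalence_of_iso (tSwap _)
  haveI : IsIso (evS k L) := inferInstanceAs (IsIso ((adjS k).counit.app L))
  rw [wR, Adjunction.homEquiv_unit]
  infer_instance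

theorem nonempty_lpull_o (n : ℤ) : Nonempty ((DCoh.Lpull g).obj (o X n) ≅ o X' n) := by
  letI := lpullCommShift g
  obtain ⟨e⟩ := nonempty_lpull_single g 0
  exact ⟨(DCoh.Lpull g).mapIso ((DerivedCategory.Q.commShiftIso n).app (Dual.S₀ X) ≪≫
      (shiftFunctor (DCoh.D X) n).mapIso Dual.oneIso.symm) ≪≫
    ((DCoh.Lpull g).commShiftIso n).app _ ≪≫ (shiftFunctor (DCoh.D X') n).mapIso (e ≪≫ Dual.oneIso) ≪≫
    ((DerivedCategory.Q.commShiftIso n).app (Dual.S₀ X')).symm⟩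

theorem wGood_o (A' : X'.Opens) (L : DCoh.D X) (p : ℤ) : WGood g A' L (o X p) := fun n => by
  haveI : ((T X).flip.obj ((o X p)⟦n⟧)).IsEquivalence :=
    Functor.isEquivalence_of_iso ((T X).flip.mapIso (Dual.oShiftIso p n).symm)
  obtain ⟨e⟩ := nonempty_lpull_o g (p + n)
  haveI : ((T X').flip.obj ((DCoh.Lpull g).obj ((o X p)⟦n⟧))).IsEquivalence :=
    Functor.isEquivalence_of_iso ((T X').flip.mapIso (e.symm ≪≫ (DCoh.Lpull g).mapIso (Dual.oShiftIso p n).symm))
  haveI := isIso_wR_of_isEquivalence g ((o X p)⟦n⟧) L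
  exact (isoOn_wR_iff g A' _ L).1 (Dual.isoOn_of_isIso A' _)

theorem isoOn_wR_of_freeModel {A : X.Opens} {A' : X'.Opens} (hA : A' ≤ g ⁻¹ᵁ A) {k : DCoh.D X}
    (h : FreeModel A.ι k) (L : DCoh.D X) : IsoOn A' (wR g k L) :=
  (isoOn_wR_iff g A' k L).2 (wR_bijective_of_iso g A' ((shiftFunctorZero (DCoh.D X) ℤ).app k) L
    (Dual.freeModel_induction (stable_wGood g A' L) (invOn_wGood g hA L) (wGood_o g A' L) h 0))

/-- Inverse image commutes with `RHom(k, -)` for perfect `k`. -/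
theorem isIso_wR {k : DCoh.D X} (hk : DCoh.IsPerfect k) (L : DCoh.D X) : IsIso (wR g k L) := by
  refine Dual.isIso_of_isoOn_cover _ fun x' => ?_
  obtain ⟨A, hx, hA⟩ := exists_freeModel hk (g.base x')
  exact ⟨g ⁻¹ᵁ A, hx, isoOn_wR_of_freeModel g le_rfl hA L⟩

end Groth.Agent.LeadBrown
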