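import Groth.Agent.LeadBrown.BCAdjointPC
import Groth.Agent.LeadBrown.Independent

/-!
# Flat base change for the upper shriek functor
-/

set_option autoImplicit false
set_option linter.style.haveILetI false
set_option linter.unusedSectionVars false

universe u

open CategoryTheory CategoryTheory.Limits AlgebraicGeometry

attribute [local instance] HasDerivedCategory.standard

namespace Groth.Agent.LeadBrown

open Groth.Agent.H16Derived
open Groth.Agent.H16Derived.KFlat.Stalk (rd lpullRpushAdj hasLpull)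
open Groth.Agent.H16Derived.BaseChange (TI ti_of_flat' nonempty_sq isLp_self)

/-- Restriction to an open is the derived inverse image. -/
noncomputable def rdIsoLpull {U X : Scheme.{u}} (j : U ⟶ X) [IsOpenImmersion j] [DCoh.HasRpush j]
    [DCoh.HasLpull j] : rd j ≅ DCoh.Lpull j :=
  Adjunction.leftAdjointUniq (Thomason.restrictRpushAdj j) (lpullRpushAdj j)

/-- `rd` commutes with inverse images along a commutative square of open immersions. -/
theorem nonempty_rd_lpull_sq {U X U' X' : Scheme.{u}} (j : U ⟶ X) (j' : U' ⟶ X') (g : U' ⟶ U) (g' : X' ⟶ X)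
    [IsOpenImmersion j] [IsOpenImmersion j'] [DCoh.HasRpush j] [DCoh.HasRpush j'] [DCoh.HasLpull g]
    [DCoh.HasLpull g'] (w : g ≫ j = j' ≫ g') :
    Nonempty (rd j ⋙ DCoh.Lpull g ≅ DCoh.Lpull g' ⋙ rd j') := by
  haveI := hasLpull j
  haveI := hasLpull j'
  obtain ⟨e⟩ := nonempty_sq w (isLp_self j) (isLp_self j') (isLp_self g') (isLp_self g)
  exact ⟨Functor.isoWhiskerRight (rdIsoLpull j) _ ≪≫ e.symm ≪≫
    Functor.isoWhiskerLeft _ (rdIsoLpull j').symm⟩

section Natural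

variable {X Y X' Y' : Scheme.{u}} [CompactSpace X] [QuasiSeparatedSpace X] [CompactSpace X'] [QuasiSeparatedSpace X']
  [CompactSpace Y] [QuasiSeparatedSpace Y] [CompactSpace Y'] [QuasiSeparatedSpace Y']
  {f : X ⟶ Y} {f' : X' ⟶ Y'} {g : Y' ⟶ Y} {g' : X' ⟶ X}
  [DCoh.HasRpush f] [DCoh.HasRpush f'] [DCoh.HasRpush g] [DCoh.HasRpush g'] [DCoh.HasLpull g] [DCoh.HasLpull g']
  {hf : DCoh.RpushPreservesQCoh f} {hf' : DCoh.RpushPreservesQCoh f'}
  {hg : DCoh.RpushPreservesQCoh g} {hg' : DCoh.RpushPreservesQCoh g'}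
  {hLg : Dual3.LpullPreservesQCoh g} {hLg' : Dual3.LpullPreservesQCoh g'}

theorem bcPush_naturality (e : DCoh.RpushQ g' hg' ⋙ DCoh.RpushQ f hf ≅ DCoh.RpushQ f' hf' ⋙ DCoh.RpushQ g hg)
    (adjg : Dual3.LpullQ g hLg ⊣ DCoh.RpushQ g hg) (adjg' : Dual3.LpullQ g' hLg' ⊣ DCoh.RpushQ g' hg')
    {K L : DCoh.DQCoh X} (k : K ⟶ L) :
    (Dual3.LpullQ g hLg).map ((DCoh.RpushQ f hf).map k) ≫ Dual3.bcPush e adjg adjg' L =
      Dual3.bcPush e adjg adjg' K ≫ (DCoh.RpushQ f' hf').map ((Dual3.LpullQ g' hLg').map k) := by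
  unfold Dual3.bcPush
  rw [← Adjunction.homEquiv_naturality_left_symm, ← Adjunction.homEquiv_naturality_right_symm]
  refine congrArg (adjg.homEquiv _ _).symm ?_
  have h1 := adjg'.unit.naturality k
  have h2 := e.hom.naturality ((Dual3.LpullQ g' hLg').map k)
  simp only [Functor.id_map, Functor.comp_map] at h1 h2
  rw [← Category.assoc, ← Functor.map_comp, h1, Functor.map_comp, Category.assoc, h2, Category.assoc]

/-- The base change isomorphism on bounded below objects, natural in the object. -/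
theorem nonempty_bc_bdd [IsNoetherian Y] [IsProper f] [Flat g] (h : IsPullback g' f' f g)
    {a : DCoh.DQCoh Y ⥤ DCoh.DQCoh X} {a' : DCoh.DQCoh Y' ⥤ DCoh.DQCoh X'}
    (adj : DCoh.RpushQ f hf ⊣ a) (adj' : DCoh.RpushQ f' hf' ⊣ a')
    (adjg : Dual3.LpullQ g hLg ⊣ DCoh.RpushQ g hg) (adjg' : Dual3.LpullQ g' hLg' ⊣ DCoh.RpushQ g' hg') :
    Nonempty (Dual3.bddι Y ⋙ a ⋙ Dual3.LpullQ g' hLg' ≅ Dual3.bddι Y ⋙ Dual3.LpullQ g hLg ⋙ a') := by
  obtain ⟨e, hθ, -, hβ⟩ := exists_bcAdjoint h (ti_of_flat' f g) hf hf' adj adj' adjg adjg'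
  let β : ∀ K : DCoh.DQCoh Y, (Dual3.LpullQ g' hLg').obj (a.obj K) ⟶ a'.obj ((Dual3.LpullQ g hLg).obj K) :=
    fun K => haveI := hθ (a.obj K)
      adj'.homEquiv _ _ (inv (Dual3.bcPush e adjg adjg' (a.obj K)) ≫ (Dual3.LpullQ g hLg).map (adj.counit.app K))
  have htr : ∀ K, Dual3.bcPush e adjg adjg' (a.obj K) ≫ (DCoh.RpushQ f' hf').map (β K) ≫ adj'.counit.app _ =
      (Dual3.LpullQ g hLg).map (adj.counit.app K) := fun K => by
    haveI := hθ (a.obj K)
    exact (congrArg (Dual3.bcPush e adjg adjg' (a.obj K) ≫ ·)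
      ((adj'.homEquiv_counit _ _ _).symm.trans (Equiv.symm_apply_apply _ _))).trans (IsIso.hom_inv_id_assoc _ _)
  have hiso : ∀ K : (Dual3.IsBddBelowQ Y).FullSubcategory, IsIso (β K.obj) := fun K => by
    obtain ⟨c, hc⟩ := K.property
    haveI := hc
    exact hβ K.obj (fun Q hQ => hw_of_pseudoCoherent 0
      (fun M a hM => by rw [sub_zero]; exact isGE_lpull_flat g M a hM)
      (pseudoCoherent_rpush_of_perfect f) K.obj.property c
      (fun i hi => DerivedCategory.isZero_of_isGE K.obj.obj c i hi) Q hQ) _ (htr K.obj)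
  refine ⟨NatIso.ofComponents (fun K => @asIso _ _ _ _ (β K.obj) (hiso K)) fun {K L} k => ?_⟩
  haveI := hθ (a.obj K.obj)
  haveI := hθ (a.obj L.obj)
  show (Dual3.LpullQ g' hLg').map (a.map k.hom) ≫ β L.obj = β K.obj ≫ a'.map ((Dual3.LpullQ g hLg).map k.hom)
  simp only [β, ← Adjunction.homEquiv_naturality_left, ← Adjunction.homEquiv_naturality_right]
  refine congrArg (adj'.homEquiv _ _) ?_
  rw [← cancel_epi (Dual3.bcPush e adjg adjg' (a.obj K.obj)), ← Category.assoc, ← bcPush_naturality e adjg adjg']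
  simp only [Category.assoc, IsIso.hom_inv_id_assoc, ← Functor.map_comp]
  exact congrArg (Dual3.LpullQ g hLg).map (adj.counit.naturality k.hom)

end Natural

/-- **Flat base change for `f^!`.** -/
theorem nonempty_shriekC_baseChange {X Y X' Y' : Scheme.{u}} [IsNoetherian X] [IsNoetherian Y] [IsNoetherian X']
    [IsNoetherian Y'] {f : X ⟶ Y} {g : Y' ⟶ Y} {f' : X' ⟶ Y'} {g' : X' ⟶ X} (hsq : IsPullback g' f' f g) [Flat g]
    (c : DEt.Compactification f) (c' : DEt.Compactification f') [DCoh.HasRpush c.fbar] [DCoh.HasRpush c'.fbar]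
    {hc : DCoh.RpushPreservesQCoh c.fbar} {hc' : DCoh.RpushPreservesQCoh c'.fbar}
    {a : DCoh.DQCoh Y ⥤ DCoh.DQCoh c.Xbar} {a' : DCoh.DQCoh Y' ⥤ DCoh.DQCoh c'.Xbar}
    (adj : DCoh.RpushQ c.fbar hc ⊣ a) (adj' : DCoh.RpushQ c'.fbar hc' ⊣ a')
    [DCoh.HasLpull g] [DCoh.HasLpull g'] (hLg : Dual3.LpullPreservesQCoh g) :
    Nonempty (Dual3.bddι Y ⋙ a ⋙ ObjectProperty.ι _ ⋙ (haveI := c.isOpenImmersion; rd c.j) ⋙ DCoh.Lpull g' ≅
      Dual3.bddι Y ⋙ Dual3.LpullQ g hLg ⋙ a' ⋙ ObjectProperty.ι _ ⋙ (haveI := c'.isOpenImmersion; rd c'.j)) := by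
  haveI := c.isOpenImmersion
  haveI := c.isProper
  haveI : CompactSpace c.Xbar := QuasiCompact.compactSpace_of_compactSpace c.fbar
  haveI : QuasiSeparatedSpace c.Xbar := quasiSeparatedSpace_of_quasiSeparated c.fbar
  let Z := pullback c.fbar g
  let pr : Z ⟶ c.Xbar := pullback.fst c.fbar g
  let fb : Z ⟶ Y' := pullback.snd c.fbar g
  have hZ : IsPullback pr fb c.fbar g := IsPullback.of_hasPullback _ _
  haveI : CompactSpace Z := QuasiCompact.compactSpace_of_compactSpace fb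
  haveI : QuasiSeparatedSpace Z := quasiSeparatedSpace_of_quasiSeparated fb
  let j' : X' ⟶ Z := pullback.lift (g' ≫ c.j) f' (by rw [Category.assoc, c.fac, hsq.w])
  have hj1 : j' ≫ pr = g' ≫ c.j := pullback.lift_fst _ _ _
  have hj2 : j' ≫ fb = f' := pullback.lift_snd _ _ _
  have hjsq : IsPullback g' j' c.j pr := IsPullback.of_bot (by rw [hj2, c.fac]; exact hsq) hj1.symm hZ
  haveI hj : IsOpenImmersion j' := MorphismProperty.of_isPullback hjsq c.isOpenImmersion
  let c'' : DEt.Compactification f' := ⟨Z, j', fb, hj, inferInstance, hj2⟩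
  haveI : QuasiCompact g := quasiCompact_of_compactSpace g
  haveI : QuasiCompact pr := quasiCompact_of_compactSpace pr
  haveI : QuasiCompact c.j := quasiCompact_of_compactSpace c.j
  haveI : QuasiCompact j' := quasiCompact_of_compactSpace j'
  haveI := QCohD.hasRpush c''.fbar
  haveI := QCohD.hasRpush g
  haveI := QCohD.hasRpush pr
  haveI := QCohD.hasRpush c.j
  haveI := QCohD.hasRpush j'
  haveI := hasLpull pr
  haveI : QuasiSeparated g := (quasiSeparated_iff_quasiSeparatedSpace g).2 inferInstance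
  haveI : QuasiSeparated pr := (quasiSeparated_iff_quasiSeparatedSpace pr).2 inferInstance
  have hfb : DCoh.RpushPreservesQCoh c''.fbar := fun K hK => QCohD.isQCohD_rpush _ hK
  have hg : DCoh.RpushPreservesQCoh g := fun K hK => QCohD.isQCohD_rpush _ hK
  have hpr : DCoh.RpushPreservesQCoh pr := fun K hK => QCohD.isQCohD_rpush _ hK
  have hLpr : Dual3.LpullPreservesQCoh pr := fun K hK => QCohD.isQCohD_lpull pr hK
  haveI := isLeftAdjoint_rpushQ c''.fbar hfb
  have adj'' : DCoh.RpushQ c''.fbar hfb ⊣ (DCoh.RpushQ c''.fbar hfb).rightAdjoint := Adjunction.ofIsLeftAdjoint _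
  obtain ⟨β⟩ := nonempty_bc_bdd (f := c.fbar) (f' := c''.fbar) hZ adj adj'' (adjQ g hLg hg) (adjQ pr hLpr hpr)
  obtain ⟨ind⟩ := nonempty_shriekC_independent c'' c' adj'' adj'
  obtain ⟨σ⟩ := nonempty_rd_lpull_sq c.j j' g' pr hj1.symm
  let Lb : (Dual3.IsBddBelowQ Y).FullSubcategory ⥤ (Dual3.IsBddBelowQ Y').FullSubcategory :=
    ObjectProperty.lift _ (Dual3.bddι Y ⋙ Dual3.LpullQ g hLg) fun K => by
      obtain ⟨n, hn⟩ := K.property
      exact ⟨n, isGE_lpull_flat g _ n hn⟩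
  let F := Dual3.bddι Y ⋙ a ⋙ ObjectProperty.ι DCoh.IsQCohD
  refine ⟨(Functor.isoWhiskerLeft F σ : _) ≪≫
    Functor.isoWhiskerRight β (ObjectProperty.ι DCoh.IsQCohD ⋙ rd j') ≪≫ ?_⟩
  exact (Functor.isoWhiskerLeft Lb ind : _)

end Groth.Agent.LeadBrown
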