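import Groth.Agent.LeadBrown.Support
import Groth.Agent.H16Derived.Exchange.ProperRel
import Groth.Agent.H16Derived.KFlat.PerfNoeth
import Groth.Agent.H16Derived.Thomason.CohExtend

/-!
# Supports and the right adjoint of `Rf_*` for bounded below objects
-/

set_option autoImplicit false
set_option linter.style.haveILetI false
set_option linter.unusedSectionVars false

universe u

open CategoryTheory CategoryTheory.Limits AlgebraicGeometry CategoryTheory.Pretriangulated

attribute [local instance] HasDerivedCategory.standard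

namespace Groth.Agent.LeadBrown

open Groth.Agent.H16Derived Groth.Agent.H16Derived.Thomason Groth.Agent.H16Derived.KFlat
  Groth.Agent.H16Derived.KFlat.Stalk
attribute [local instance] hasCoproducts_D small_hom

/-- Pseudo-coherent objects are compact with respect to uniformly bounded below families. -/
theorem holds_of_pc {Y : Scheme.{u}} [CompactSpace Y] [QuasiSeparatedSpace Y] {E : DCoh.D Y}
    (hq : DCoh.IsQCohD E) (hpc : ∀ m : ℤ, DCoh.IsPseudoCoherentD m E) (c : ℤ) :
    QCohD.FinSupp.Holds.{u} (fun L : DCoh.D Y => DCoh.IsQCohD L ∧ L.IsGE c) E := by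
  obtain ⟨r, hr⟩ := exists_hasAppr (X := Y) Set.univ isClosed_univ (by simp)
  obtain ⟨P, C, α, p, w, hT, hP, hC⟩ := hr c E hq (hpc _) fun i _ => Set.subset_univ _
  refine QCohD.FinSupp.ext₂ hT (holds_of_isPerfect (P := fun L : DCoh.D Y => DCoh.IsQCohD L ∧ L.IsGE c)
    (fun _ h => h.1) hP.1) ?_
  intro κ K _ hK β
  haveI : (∐ K).IsGE c := by
    rw [DerivedCategory.isGE_iff]
    intro j hj
    exact isZero_hd_sigma K j fun k =>
      haveI := (hK k).2
      DerivedCategory.isZero_of_isGE (K k) c j hj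
  haveI := hC
  refine ⟨∅, ?_⟩
  haveI : DerivedCategory.TStructure.t.IsLE (Triangle.mk α p w).obj₃ (c - 1) := hC
  have h : β = 0 := DerivedCategory.TStructure.t.zero β (c - 1) c (by omega)
  rw [h, zero_comp]

variable {X Y : Scheme.{u}} {f : X ⟶ Y} [IsNoetherian Y] [IsProper f] [DCoh.HasRpush f]
  {hf : DCoh.RpushPreservesQCoh f} {a : DCoh.DQCoh Y ⥤ DCoh.DQCoh X} (adj : DCoh.RpushQ f hf ⊣ a)

/-- Direct images of perfect objects are compact with respect to uniformly bounded below families. -/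
theorem holds_rpush_of_isPerfect (c : ℤ) (E : DCoh.D X) (hE : DCoh.IsPerfect E) :
    QCohD.FinSupp.Holds.{u} (fun L : DCoh.D Y => DCoh.IsQCohD L ∧ L.IsGE c) ((DCoh.Rpush f).obj E) := by
  haveI : CompactSpace X := QuasiCompact.compactSpace_of_compactSpace f
  haveI : IsLocallyNoetherian X := LocallyOfFiniteType.isLocallyNoetherian f
  obtain ⟨hc, u, v, hu, hv⟩ := isCohD_and_bounded_of_isPerfect hE
  haveI : E.IsGE u := hu
  haveI : E.IsLE v := hv
  obtain ⟨hR, b, hb⟩ := Exchange.isCohD_rpush_proper f E u v hc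
  haveI := hb
  exact holds_of_pc (QCohD.isQCohD_rpush f (Dual.isQCohD_of_isPerfect hE))
    (fun m => Dual.isPseudoCoherentD_of_isCohD b hR m) c

include adj in
/-- `a` respects supports of bounded below objects. -/
theorem suppIn_obj_of_isGE (Q : DCoh.DQCoh Y) (c : ℤ) (hQ : Q.obj.IsGE c) {T : Set Y} (hT : IsClosed T)
    (hQT : SuppIn T Q.obj) : SuppIn (f.base ⁻¹' T) (a.obj Q).obj := by
  haveI : CompactSpace X := QuasiCompact.compactSpace_of_compactSpace f
  haveI : QuasiSeparatedSpace X := quasiSeparatedSpace_of_quasiSeparated f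
  refine suppIn_obj adj (fun K => ∃ c : ℤ, K.obj.IsGE c) (fun K hK S ι h => ?_) ?_ ?_ Q ⟨c, hQ⟩ hT hQT
  · obtain ⟨d, hd⟩ := hK
    exact isIso_sigma_map_of_holds adj (fun L => DCoh.IsQCohD L ∧ L.IsGE d) (fun _ => K)
      (fun _ => ⟨K.property, hd⟩) (fun E hE => holds_rpush_of_isPerfect d E hE) S ι h
  · intro U R K _ hK _ hR
    obtain ⟨d, hd⟩ := hK
    haveI := hd
    haveI : ((rd U.ι).obj K.obj).IsGE d := isGE_rd U K.obj d
    exact ⟨d, hR ▸ isGE_rpush U.ι ((rd U.ι).obj K.obj) d⟩
  · intro Q₁ K R u v w hT' hK hR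
    obtain ⟨d, hd⟩ := hK
    obtain ⟨e, he⟩ := hR
    refine ⟨min d (e + 1), ?_⟩
    haveI : DerivedCategory.TStructure.t.IsGE K.obj d := hd
    haveI : DerivedCategory.TStructure.t.IsGE R.obj e := he
    haveI : DerivedCategory.TStructure.t.IsGE (R.obj⟦(-1 : ℤ)⟧) (e + 1) :=
      DerivedCategory.TStructure.t.isGE_shift R.obj e (-1) (e + 1) (by omega)
    exact DerivedCategory.TStructure.t.isGE₂ _ (inv_rot_of_distTriang _ hT') _
      (DerivedCategory.TStructure.t.isGE_of_ge (R.obj⟦(-1 : ℤ)⟧) _ (e + 1) (min_le_right _ _))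
      (DerivedCategory.TStructure.t.isGE_of_ge K.obj _ d (min_le_left _ _))

end Groth.Agent.LeadBrown
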