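import Groth.Agent.LeadBrown.BddCriterion
import Groth.Agent.LeadBrown.ShriekPerfect
import Groth.Agent.LeadBrown.CopTensor
import Groth.Agent.LeadBrown.SupportNoeth
import Groth.Agent.LeadBrown.ShriekBC

/-!
# `f^!K ≅ Lf^*K ⊗^L f^!O` for perfect `f` and bounded below `K`
-/

set_option autoImplicit false
set_option linter.style.haveILetI false
set_option linter.unusedSectionVars false
set_option backward.isDefEq.respectTransparency false
set_option maxHeartbeats 1000000

universe u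

open CategoryTheory CategoryTheory.Limits CategoryTheory.Functor AlgebraicGeometry CategoryTheory.Pretriangulated

attribute [local instance] HasDerivedCategory.standard

namespace Groth.Agent.LeadBrown

open Groth.Agent.H16Derived Groth.Agent.H16Derived.Thomason Groth.Agent.H16Derived.KFlat
open Groth.Agent.H16Derived.QCohD (isQCohD_iso)
open Groth.Agent.H16Derived.KFlat.Stalk (rd rdComp hasLpull rpushCommShift rpush_isTriangulated lpullCommShift
  lpull_isTriangulated preservesCoproducts_lpull)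
open Groth.Agent.H16Derived.ProjFormula (PTri ptri_of_isTriangulated ptri_TObj)
open DerivedCategory.TStructure (t)
attribute [local instance] hasCoproducts_D small_hom preservesCoproducts_qι

/-- Restriction to an open commutes with tensor products. -/
theorem nonempty_rd_TObj {U X : Scheme.{u}} (j : U ⟶ X) [IsOpenImmersion j] [QuasiCompact j] (M : DCoh.D X) :
    Nonempty ((Dual.T X).obj M ⋙ rd j ≅ rd j ⋙ (Dual.T U).obj ((rd j).obj M)) := by
  haveI := QCohD.hasRpush j
  haveI := hasLpull j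
  let r := rdIsoLpull j
  exact ⟨NatIso.ofComponents (fun K => r.app _ ≪≫ cT j M K ≪≫
      ((Dual.T U).mapIso (r.app M).symm).app ((DCoh.Lpull j).obj K) ≪≫
      ((Dual.T U).obj ((rd j).obj M)).mapIso (r.app K).symm) fun {K L} g => by
    show (rd j).map (((Dual.T X).obj M).map g) ≫ r.hom.app _ ≫ (cT j M L).hom ≫
        ((Dual.T U).map (r.inv.app M)).app _ ≫ ((Dual.T U).obj _).map (r.inv.app L) =
      (r.hom.app _ ≫ (cT j M K).hom ≫ ((Dual.T U).map (r.inv.app M)).app _ ≫ ((Dual.T U).obj _).map (r.inv.app K)) ≫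
        ((Dual.T U).obj ((rd j).obj M)).map ((rd j).map g)
    rw [← Category.assoc, r.hom.naturality, Category.assoc, ← Category.assoc ((DCoh.Lpull j).map _) (cT j M L).hom,
      cT_naturality_right]
    simp only [Category.assoc]
    refine congrArg (fun z => r.hom.app _ ≫ (cT j M K).hom ≫ z) ?_
    rw [← Category.assoc, NatTrans.naturality, Category.assoc, ← Functor.map_comp, ← Functor.map_comp,
      r.inv.naturality]⟩

theorem suppIn_mono {X : Scheme.{u}} {S T : Set X} (h : S ⊆ T) {E : DCoh.D X} (hE : SuppIn S E) : SuppIn T E :=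
  fun i => (hE i).trans h

section Bound

variable {X Y : Scheme.{u}} [IsNoetherian X] [IsNoetherian Y] {f : X ⟶ Y} (hf : MoreMor.IsPerfectMor f)
  (c : DEt.Compactification f) [DCoh.HasRpush c.fbar] {hc : DCoh.RpushPreservesQCoh c.fbar}
  {a : DCoh.DQCoh Y ⥤ DCoh.DQCoh c.Xbar} (adj : DCoh.RpushQ c.fbar hc ⊣ a)

include hf adj in
/-- `f^!` of a bounded object is bounded above. -/
theorem exists_isLE_shriek (K : DCoh.DQCoh Y) (lo hi : ℤ) (hlo : K.obj.IsGE lo) (hhi : K.obj.IsLE hi) :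
    haveI := c.isOpenImmersion
    ∃ b : ℤ, ((rd c.j).obj (a.obj K).obj).IsLE b := by
  haveI := c.isOpenImmersion
  refine KFlat.Stalk.exists_isLE_of_local fun x => ?_
  obtain ⟨U, j, hj, W, i, g, _, _, _, _, hx, w, _, hi', b, adjb, n, H⟩ := exists_local_model c adj x
  obtain ⟨M, l, hl, ⟨e⟩, hM, -⟩ := H K lo hlo
  obtain ⟨d', hd'⟩ := hM hi hhi
  haveI : CompactSpace U := QuasiCompact.compactSpace_of_compactSpace i
  haveI : QuasiSeparatedSpace U := quasiSeparatedSpace_of_quasiSeparated i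
  haveI := hasLpull i
  have hKi := isPerfect_rpush_one_chart hf j i g w
  haveI := isIso_dualTrans i adjb M (isQCohD_R_perfect hKi M.property)
  obtain ⟨-, -, d, -, hd⟩ := KFlat.Stalk.isCohD_and_bounded_of_isPerfect (Dual.isPerfect_ro hKi)
  haveI := hd'
  haveI := hd
  haveI := TorTest.isLE_T M.obj (Dual.ro ((DCoh.Rpush i).obj (Dual.one U))) d' d
  haveI hU : (b.obj M).obj.IsLE (d + d') := isLE_of_rpush_affine i (b.obj M).property _
    (isLE_of_iso (Dual.θIso hKi M.obj ≪≫ (asIso ((dualTrans i adjb).app M)).symm) _ ‹_›)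
  haveI : ((rd j).obj ((rd c.j).obj (a.obj K).obj)).IsLE (d + d') := isLE_of_iso e.symm _ hU
  exact ⟨j.opensRange, d + d', hx, isLE_of_iso
    (rdComp j.isoOpensRange.inv j _ j.isoOpensRange_inv_comp _).symm _
    (KFlat.Stalk.isLE_rd j.isoOpensRange.inv _ (d + d'))⟩

include hf adj in
/-- The upper bound is uniform. -/
theorem exists_uniform_shriek (r : ℕ) :
    haveI := c.isOpenImmersion
    ∃ N : ℤ, ∀ (L : DCoh.DQCoh Y) (d : ℤ), L.obj.IsGE (d - r) → L.obj.IsLE d →
      ((rd c.j).obj (a.obj L).obj).IsLE (d + N) := by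
  classical
  haveI := c.isOpenImmersion
  haveI := c.isProper
  haveI : CompactSpace c.Xbar := QuasiCompact.compactSpace_of_compactSpace c.fbar
  haveI : QuasiSeparatedSpace c.Xbar := quasiSeparatedSpace_of_quasiSeparated c.fbar
  by_contra hne
  push Not at hne
  choose L d hge hle hnot using fun n : ℕ => hne n
  let J := ULift.{u} ℕ
  let V : J → DCoh.D Y := fun n => (L n.down).obj⟦d n.down⟧
  have hV : ∀ n, DCoh.IsQCohD (V n) := fun n => QCohD.HomVanish.isQCohD_shift (L n.down).property _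
  let S : DCoh.DQCoh Y := ⟨∐ V, S1040.result Y V hV⟩
  have hSge : S.obj.IsGE (-(r : ℤ)) := (DerivedCategory.isGE_iff _ _).2 fun j hj => isZero_hd_sigma V j fun n => by
    haveI := hge n.down
    haveI := t.isGE_shift (L n.down).obj (d n.down - r) (d n.down) (-(r : ℤ)) (by omega)
    exact DerivedCategory.isZero_of_isGE (V n) (-(r : ℤ)) j hj
  have hSle : S.obj.IsLE 0 := (DerivedCategory.isLE_iff _ _).2 fun j hj => isZero_hd_sigma V j fun n => by
    haveI := hle n.down
    haveI := t.isLE_shift (L n.down).obj (d n.down) (d n.down) 0 (by omega)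
    exact DerivedCategory.isZero_of_isLE (V n) 0 j hj
  obtain ⟨m, hm⟩ := exists_isLE_shriek hf c adj S _ _ hSge hSle
  let n : ℕ := m.toNat + 1
  let T : DCoh.DQCoh Y := ⟨V ⟨n⟩, hV ⟨n⟩⟩
  let p : S ⟶ T := ObjectProperty.homMk (QCohD.FinSupp.proj V ⟨n⟩)
  let s : T ⟶ S := ObjectProperty.homMk (Sigma.ι V ⟨n⟩)
  have hsp : s ≫ p = 𝟙 T := ObjectProperty.hom_ext _ (by
    show Sigma.ι V ⟨n⟩ ≫ QCohD.FinSupp.proj V ⟨n⟩ = 𝟙 _
    rw [QCohD.FinSupp.proj, Sigma.ι_desc, dif_pos rfl, eqToHom_refl])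
  haveI : IsSplitMono ((rd c.j).map (a.map s).hom) := IsSplitMono.mk' ⟨(rd c.j).map (a.map p).hom, by
    rw [← Functor.map_comp]
    show (rd c.j).map (a.map s ≫ a.map p).hom = _
    rw [← a.map_comp, hsp, CategoryTheory.Functor.map_id]
    exact (rd c.j).map_id _⟩
  haveI := hm
  have hT : ((rd c.j).obj (a.obj T).obj).IsLE m := (DerivedCategory.isLE_iff _ _).2 fun j hj =>
    IsZero.of_mono ((DerivedCategory.homologyFunctor X.Modules j).map ((rd c.j).map (a.map s).hom))
      (DerivedCategory.isZero_of_isLE ((rd c.j).obj (a.obj S).obj) m j hj)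
  obtain ⟨eA⟩ : Nonempty ((a.obj T).obj ≅ (a.obj (L n)).obj⟦d n⟧) := nonempty_shift adj (L n) (d n) T (Iso.refl _)
  haveI := hT
  let A := (rd c.j).obj (a.obj (L n)).obj
  haveI : t.IsLE (A⟦d n⟧) m :=
    t.isLE_of_iso ((rd c.j).mapIso eA ≪≫ ((rd c.j).commShiftIso (d n)).app _) m
  haveI : t.IsLE ((A⟦d n⟧)⟦-d n⟧) (m + d n) := t.isLE_shift _ m (-d n) (m + d n) (by omega)
  haveI : t.IsLE A (m + d n) := t.isLE_of_iso (X := (A⟦d n⟧)⟦-d n⟧)
    ((shiftFunctorCompIsoId (DCoh.D X) (d n) (-d n) (by omega)).app A) _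
  exact hnot n (t.isLE_of_le A (m + d n) (d n + n) (by omega))

end Bound

section Tensor

variable {X Y : Scheme.{u}} [IsNoetherian X] [IsNoetherian Y] {f : X ⟶ Y} (hf : MoreMor.IsPerfectMor f)
  (c : DEt.Compactification f) [DCoh.HasRpush c.fbar] {hc : DCoh.RpushPreservesQCoh c.fbar}
  {a : DCoh.DQCoh Y ⥤ DCoh.DQCoh c.Xbar} (adj : DCoh.RpushQ c.fbar hc ⊣ a)
  (O : DCoh.DQCoh Y) (eO : O.obj ≅ Dual.one Y) [DCoh.HasLpull c.fbar] [CompactSpace c.Xbar]
  [QuasiSeparatedSpace c.Xbar]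

include hf in
/-- The comparison map is invertible on `X`. -/
theorem isIso_rd_cmp (K : DCoh.DQCoh Y) (c₀ : ℤ) (hK : K.obj.IsGE c₀) :
    haveI := c.isOpenImmersion
    IsIso ((rd c.j).map ((cmp adj O eO).app K)) := by
  haveI := c.isOpenImmersion
  haveI := c.isProper
  haveI : IsLocallyNoetherian c.Xbar := LocallyOfFiniteType.isLocallyNoetherian c.fbar
  haveI : IsNoetherian c.Xbar := { }
  refine isIso_of_isIso_rd _ fun x => ?_
  obtain ⟨V, hV, hxV, -⟩ := exists_isAffineOpen_mem_and_subset (x := f x) (U := (⊤ : Y.Opens)) trivial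
  let v := hV.fromSpec
  haveI : IsOpenImmersion v := inferInstanceAs (IsOpenImmersion hV.fromSpec)
  let U : X.Opens := f ⁻¹ᵁ V
  haveI : CompactSpace (U : Scheme.{u}) := isCompact_iff_compactSpace.1 (TopologicalSpace.NoetherianSpace.isCompact _)
  let jU : (U : Scheme.{u}) ⟶ c.Xbar := U.ι ≫ c.j
  haveI : QuasiCompact jU := quasiCompact_of_compactSpace jU
  haveI := QCohD.hasRpush jU
  refine ⟨U, hxV, ?_⟩
  obtain ⟨κ⟩ := nonempty_rdCompIso U.ι c.j jU rfl
  suffices h : IsIso ((rd jU).map ((cmp adj O eO).app K)) from (NatIso.isIso_map_iff κ _).1 h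
  let p := c.fbar
  have hrange : Set.range jU.base ⊆ p.base ⁻¹' (V : Set Y) := by
    rintro _ ⟨z, rfl⟩
    have hz : f.base (U.ι.base z) ∈ V := z.2
    rwa [show f.base (U.ι.base z) = p.base (jU.base z) from (congr($(c.fac).base (U.ι.base z))).symm] at hz
  letI := lpullCommShift p
  haveI := lpull_isTriangulated p
  letI := rpushCommShift p
  haveI := rpush_isTriangulated p
  let F := ((DCoh.IsQCohD (X := Y)).ι ⋙ DCoh.Lpull p ⋙ (Dual.T c.Xbar).obj (a.obj O).obj) ⋙ rd jU
  let G := (a ⋙ (DCoh.IsQCohD (X := c.Xbar)).ι) ⋙ rd jU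
  let τ : F ⟶ G := Functor.whiskerRight (cmp adj O eO) (rd jU)
  have hF : PTri F := ((ptri_of_isTriangulated _).comp ((ptri_of_isTriangulated _).comp (ptri_TObj _))).comp
    (ptri_of_isTriangulated _)
  have hG : PTri G := (ptri_rightAdjoint adj).comp (ptri_of_isTriangulated _)
  haveI : (rd jU).IsLeftAdjoint := (restrictRpushAdj jU).isLeftAdjoint
  haveI := fun J => preservesCoproducts_of_isLeftAdjoint (rd jU) J
  haveI := fun J => preservesCoproducts_lpull p J
  haveI := fun J => preservesCoproducts_of_isLeftAdjoint ((Dual.T c.Xbar).obj (a.obj O).obj) J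
  refine isIso_app_of_affine_bdd τ hF hG (fun J => inferInstance) (fun d {κ} B s hB hs => ?_) v
    (fun L d hL hs => ?_) (fun r => ?_) (fun n L ⟨e⟩ => ?_) K c₀ hK
  · -- sums
    have hι : IsIso (Sigma.desc fun k => (s.inj k).hom) := by
      let hm := (isColimitMapCoconeCofanMkEquiv (DCoh.IsQCohD (X := Y)).ι B s.inj)
        (isColimitOfPreserves _ (hs.ofIsoColimit (Cofan.ext (Iso.refl _) fun k => Category.comp_id _)))
      have : Sigma.desc (fun k => (s.inj k).hom) =
          ((coproductIsCoproduct fun k => (B k).obj).coconePointUniqueUpToIso hm).hom :=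
        Sigma.hom_ext _ _ fun k => by
          rw [Sigma.ι_desc]
          exact ((coproductIsCoproduct fun k => (B k).obj).comp_coconePointUniqueUpToIso_hom hm ⟨k⟩).symm
      rw [this]; infer_instance
    have ha := isIso_sigma_map_of_holds adj (fun L => DCoh.IsQCohD L ∧ L.IsGE d) B
      (fun k => ⟨(B k).property, hB k⟩) (fun E hE => holds_rpush_of_isPerfect d E hE) s.pt s.inj hι
    obtain ⟨hc'⟩ := isColimit_of_isIso (fun k => a.obj (B k)) (a.obj s.pt) (fun k => a.map (s.inj k)) ha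
    let H := (DCoh.IsQCohD (X := c.Xbar)).ι ⋙ rd jU
    exact ⟨((isColimitMapCoconeCofanMkEquiv G B s.inj).symm
      (isColimitMapCoconeCofanMkEquiv H _ _ (isColimitOfPreserves H hc'))).ofIsoColimit
        ((Cocone.functoriality (Discrete.functor B) G).mapIso
          (Cofan.ext (Iso.refl s.pt) fun k => Category.comp_id _))⟩
  · -- killed
    have hVr : Set.range v.base = (V : Set Y) := hV.range_fromSpec
    rw [hVr] at hs
    have hz : IsZero ((rd V.ι).obj L.obj) := isZero_rd_of_suppIn V hs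
    have key : ∀ E : DCoh.D c.Xbar, SuppIn (p.base ⁻¹' (V : Set Y)ᶜ) E → IsZero ((rd jU).obj E) := fun E hE =>
      (isZero_rd_iff jU E).2 (suppIn_mono (fun z hz hz' => (show p.base z ∈ (V : Set Y)ᶜ from hz) (hrange hz')) hE)
    refine ⟨key _ ?_, key _ (suppIn_obj_of_isGE adj L d hL V.isOpen.isClosed_compl hs)⟩
    have h1 := (isZero_rd_iff (p ⁻¹ᵁ V).ι _).1 (isZero_rd_TObj (a.obj O).obj (p ⁻¹ᵁ V) (isZero_rd_lpull p V hz))
    rwa [Scheme.Opens.range_ι] at h1
  · -- bounds
    obtain ⟨N, hN⟩ := exists_uniform_shriek hf c adj r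
    haveI h0 : O.obj.IsGE 0 := t.isGE_of_iso eO.symm 0
    haveI h0' : O.obj.IsLE 0 := t.isLE_of_iso eO.symm 0
    obtain ⟨b, hb⟩ := exists_isLE_shriek hf c adj O 0 0 h0 h0'
    obtain ⟨eT⟩ := nonempty_rd_TObj jU (a.obj O).obj
    refine ⟨max N b, fun L d hge hle i hi => ⟨?_, ?_⟩⟩
    · haveI := hle
      haveI := Stalk.isLE_lpull p L.obj d
      haveI := Stalk.isLE_rd jU ((DCoh.Lpull p).obj L.obj) d
      haveI : t.IsLE ((rd jU).obj (a.obj O).obj) b := by
        haveI := hb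
        haveI := Stalk.isLE_rd U.ι ((rd c.j).obj (a.obj O).obj) b
        exact t.isLE_of_iso (X := (rd U.ι).obj ((rd c.j).obj (a.obj O).obj)) (κ.app (a.obj O).obj).symm b
      haveI := TorTest.isLE_T ((rd jU).obj (a.obj O).obj) ((rd jU).obj ((DCoh.Lpull p).obj L.obj)) b d
      exact (DerivedCategory.isZero_of_isLE (((Dual.T _).obj ((rd jU).obj (a.obj O).obj)).obj
          ((rd jU).obj ((DCoh.Lpull p).obj L.obj))) (d + b) i (by omega)).of_iso
        ((DerivedCategory.homologyFunctor _ i).mapIso (eT.app ((DCoh.Lpull p).obj L.obj)))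
    · haveI := hN L d hge hle
      haveI := Stalk.isLE_rd U.ι ((rd c.j).obj (a.obj L).obj) (d + N)
      exact (DerivedCategory.isZero_of_isLE ((rd U.ι).obj ((rd c.j).obj (a.obj L).obj)) (d + N) i (by omega)).of_iso
        ((DerivedCategory.homologyFunctor _ i).mapIso (κ.app (a.obj L).obj))
  · haveI := isIso_cmp_single adj O eO n L e
    exact Functor.map_isIso (rd jU) ((cmp adj O eO).app L)

end Tensor

section Main

variable {X Y : Scheme.{u}} [IsNoetherian X] [IsNoetherian Y] {f : X ⟶ Y} (hf : MoreMor.IsPerfectMor f)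
  (c : DEt.Compactification f) [DCoh.HasRpush c.fbar] {hc : DCoh.RpushPreservesQCoh c.fbar}
  {a : DCoh.DQCoh Y ⥤ DCoh.DQCoh c.Xbar} (adj : DCoh.RpushQ c.fbar hc ⊣ a)
  (O : DCoh.DQCoh Y) (eO : O.obj ≅ Dual.one Y) [DCoh.HasLpull f]

include hf adj eO in
/-- **`f^! ≅ Lf^*(-) ⊗^L f^!O` on bounded below objects, for perfect `f`.** -/
theorem nonempty_shriek_iso_lpull_tensor (E : CochainComplex X.Modules ℤ) [DCoh.HasLTensorCx E]
    (eE : haveI := c.isOpenImmersion; DCoh.toD X E ≅ (rd c.j).obj (a.obj O).obj) :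
    haveI := c.isOpenImmersion
    Nonempty (Dual3.bddι Y ⋙ a ⋙ (DCoh.IsQCohD (X := c.Xbar)).ι ⋙ rd c.j ≅
      Dual3.bddι Y ⋙ (DCoh.IsQCohD (X := Y)).ι ⋙ DCoh.Lpull f ⋙ DCoh.LTensorCx E) := by
  haveI := c.isOpenImmersion
  haveI := c.isProper
  haveI : CompactSpace c.Xbar := QuasiCompact.compactSpace_of_compactSpace c.fbar
  haveI : QuasiSeparatedSpace c.Xbar := quasiSeparatedSpace_of_quasiSeparated c.fbar
  haveI := hasLpull c.fbar
  haveI : QuasiCompact c.j := quasiCompact_of_compactSpace c.j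
  haveI := QCohD.hasRpush c.j
  haveI := hasLpull c.j
  let τ := Functor.whiskerLeft (Dual3.bddι Y) (Functor.whiskerRight (cmp adj O eO) (rd c.j))
  haveI : ∀ K, IsIso (τ.app K) := fun K => by
    obtain ⟨n, hn⟩ := K.property
    exact isIso_rd_cmp hf c adj O eO K.obj n hn
  haveI := NatIso.isIso_of_isIso_app τ
  obtain ⟨eT⟩ := nonempty_rd_TObj c.j (a.obj O).obj
  obtain ⟨u⟩ := BaseChange.IsLp.unique ((BaseChange.isLp_self c.fbar).comp (BaseChange.isLp_self c.j) |>.congr c.fac)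
    (BaseChange.isLp_self f)
  let T0 : (Dual.T X).obj ((rd c.j).obj (a.obj O).obj) ≅ DCoh.LTensorCx E :=
    (Dual.T X).mapIso eE.symm ≪≫
      (NatIso.ofComponents (fun b => Dual.σ _ b) (fun g => Dual.σ_naturality_right _ g) :
        (Dual.T X).obj (DCoh.toD X E) ≅ (Dual.T X).flip.obj (DCoh.toD X E)) ≪≫ Dual.ltensorCxIsoT E
  let L := Dual3.bddι Y ⋙ (DCoh.IsQCohD (X := Y)).ι ⋙ DCoh.Lpull c.fbar
  let e₁ : L ⋙ (rd c.j ⋙ (Dual.T X).obj ((rd c.j).obj (a.obj O).obj)) ≅
      L ⋙ (DCoh.Lpull c.j ⋙ DCoh.LTensorCx E) :=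
    Functor.isoWhiskerLeft L (Functor.isoWhiskerRight (rdIsoLpull c.j) _ ≪≫
      Functor.isoWhiskerLeft (DCoh.Lpull c.j) T0)
  let e₂ := Functor.isoWhiskerLeft (Dual3.bddι Y ⋙ (DCoh.IsQCohD (X := Y)).ι)
    (Functor.isoWhiskerRight u.symm (DCoh.LTensorCx E))
  exact ⟨((asIso τ).symm : _) ≪≫ (Functor.isoWhiskerLeft L eT : _) ≪≫ e₁ ≪≫ e₂⟩

end Main

end Groth.Agent.LeadBrown
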