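import Groth.Agent.LeadBrown.Fin
import Groth.Agent.H16Derived.GenAmpleGamma
import Groth.Agent.H10Coh.SheafHom.Adj

/-!
# Twists, multiplication by sections and by global functions
-/

set_option autoImplicit false
set_option linter.style.haveILetI false
set_option linter.unusedSectionVars false
set_option backward.isDefEq.respectTransparency false

universe u

open CategoryTheory CategoryTheory.Limits AlgebraicGeometry CategoryTheory.Pretriangulated Opposite

attribute [local instance] HasDerivedCategory.standard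

namespace Groth.Agent.LeadBrown

open Groth.Agent.H16Derived Groth.Agent.H16Derived.GenAmple
open Groth.Agent.H16Derived.KFlat.Stalk (rd)
open Groth.Agent.H17.ExtRegVanish (mulEnd res)
open Groth.Agent.H11Ample (tm tm_smul_left tm_smul_right tm_res exists_gen exists_coeff)

variable {X : Scheme.{u}} {L : X.Modules}

/-- Multiplication commutes with the shifts. -/
theorem mu_shift (r : Γ(X, ⊤)) (E : DCoh.D X) (n : ℤ) :
    (mu r).app (E⟦n⟧) = ((mu r).app E)⟦n⟧' := by
  obtain ⟨C, ⟨e⟩⟩ : ∃ C : CochainComplex X.Modules ℤ, Nonempty (DerivedCategory.Q.obj C ≅ E) :=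
    ⟨_, ⟨DerivedCategory.Q.objObjPreimageIso E⟩⟩
  have key : (mu r).app ((DerivedCategory.Q.obj C)⟦n⟧) = ((mu r).app (DerivedCategory.Q.obj C))⟦n⟧' := by
    let c := ((DerivedCategory.Q (C := X.Modules)).commShiftIso n).app C
    rw [← cancel_epi c.hom]
    refine (mu_naturality r c.hom).trans ?_
    rw [mu_Q]
    refine ((congrArg (· ≫ c.hom) (mu_Q r _)).trans ?_)
    refine Eq.trans ?_ (((DerivedCategory.Q (C := X.Modules)).commShiftIso n).hom.naturality (muC r C))
    refine congrArg (· ≫ c.hom) (congrArg DerivedCategory.Q.map ?_)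
    exact HomologicalComplex.Hom.ext (funext fun i => rfl)
  rw [← cancel_epi (e.hom⟦n⟧'), mu_naturality, key, ← Functor.map_comp, ← Functor.map_comp, mu_naturality]

theorem sigApp_tw (hL : PicF.IsInvertible L) (s : Coh.structureModule X ⟶ L) (F : X.Modules) :
    (tw L).map (sigApp s F) = sigApp s ((tw L).obj F) := by
  refine H10Coh.SheafHom.tensor_ext (F := F) (N := L) fun U m e => ?_
  show ((tw L).map (sigApp s F)).app U (tm m e) = (sigApp s ((tw L).obj F)).app U (tm m e)
  rw [tw_map_tm, sigApp_apply]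
  refine Eq.trans ?_ (sigApp_apply s ((tw L).obj F) U (tm m e)).symm
  refine H11Tilde.eq_of_locally _ _ fun x hx => ?_
  obtain ⟨V, g, hxV, hg⟩ := exists_gen hL x
  refine ⟨U ⊓ V, inf_le_left, ⟨hx, hxV⟩, ?_⟩
  refine (tm_res inf_le_left _ _).trans (Eq.trans ?_ (tm_res inf_le_left _ _).symm)
  refine (congrArg (fun z => tm z _) (tm_res inf_le_left m _)).trans
    (Eq.trans ?_ (congrArg (fun z => tm z _) (tm_res inf_le_left m _)).symm)
  rw [show L.presheaf.map (homOfLE (inf_le_left : U ⊓ V ≤ U)).op (SecTwist.val s U) = SecTwist.val s (U ⊓ V)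
    from SecTwist.map_val s _]
  have hle : U ⊓ V ≤ V := inf_le_right
  have hg' := hg.res hle
  obtain ⟨a, ha⟩ := exists_coeff hg' (SecTwist.val s (U ⊓ V))
  obtain ⟨b, hb⟩ := exists_coeff hg' (L.presheaf.map (homOfLE (inf_le_left : U ⊓ V ≤ U)).op e)
  rw [ha, hb]
  simp only [tm_smul_left, tm_smul_right, smul_smul, mul_comm]

variable [PreservesFiniteLimits (tw L)] [PreservesFiniteColimits (tw L)]

theorem tw_mulEnd (r : Γ(X, ⊤)) (F : X.Modules) : (tw L).map (mulEnd r F) = mulEnd r ((tw L).obj F) := by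
  refine H10Coh.SheafHom.tensor_ext (F := F) (N := L) fun U m e => ?_
  show ((tw L).map (mulEnd r F)).app U (tm m e) = res U r • tm m e
  rw [tw_map_tm, ← tm_smul_left]
  rfl

/-- Twisting commutes with multiplication. -/
theorem td_mu (r : Γ(X, ⊤)) (E : DCoh.D X) :
    (TD (L := L)).map ((mu r).app E) = (mu r).app ((TD (L := L)).obj E) := by
  obtain ⟨C, ⟨e⟩⟩ : ∃ C : CochainComplex X.Modules ℤ, Nonempty (DerivedCategory.Q.obj C ≅ E) :=
    ⟨_, ⟨DerivedCategory.Q.objObjPreimageIso E⟩⟩
  have key : (TD (L := L)).map ((mu r).app (DerivedCategory.Q.obj C)) =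
      (mu r).app ((TD (L := L)).obj (DerivedCategory.Q.obj C)) := by
    let fac := (tw L).mapDerivedCategoryFactors
    rw [mu_Q, ← cancel_mono (fac.hom.app C)]
    refine (fac.hom.naturality (muC r C)).trans ?_
    refine Eq.trans ?_ (mu_naturality r (fac.hom.app C))
    refine congrArg (fac.hom.app C ≫ ·) (Eq.trans ?_ (mu_Q _ _).symm)
    exact congrArg DerivedCategory.Q.map (HomologicalComplex.Hom.ext (funext fun i => tw_mulEnd r (C.X i)))
  rw [← cancel_epi ((TD (L := L)).map e.hom), ← Functor.map_comp, mu_naturality, Functor.map_comp, key]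
  exact (mu_naturality _ _).symm

/-- Multiplication by a section commutes with twisting. -/
theorem td_sigD (hL : PicF.IsInvertible L) (s : Coh.structureModule X ⟶ L) (E : DCoh.D X) :
    (TD (L := L)).map ((sigD s).app E) = (sigD s).app ((TD (L := L)).obj E) := by
  obtain ⟨C, ⟨e⟩⟩ : ∃ C : CochainComplex X.Modules ℤ, Nonempty (DerivedCategory.Q.obj C ≅ E) :=
    ⟨_, ⟨DerivedCategory.Q.objObjPreimageIso E⟩⟩
  have key : (TD (L := L)).map ((sigD s).app (DerivedCategory.Q.obj C)) =
      (sigD s).app ((TD (L := L)).obj (DerivedCategory.Q.obj C)) := by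
    let fac := (tw L).mapDerivedCategoryFactors
    let C' := ((tw L).mapHomologicalComplex (ComplexShape.up ℤ)).obj C
    rw [← cancel_mono ((TD (L := L)).map (fac.hom.app C)), ← Functor.map_comp, sigD_Q,
      ← cancel_mono (fac.hom.app C')]
    refine (fac.hom.naturality (sigC s C)).trans ?_
    refine Eq.trans ?_ (congrArg (· ≫ fac.hom.app C') ((sigD s).naturality (fac.hom.app C)))
    refine Eq.trans ?_ (Category.assoc _ _ _).symm
    refine congrArg (fac.hom.app C ≫ ·) (Eq.trans ?_ (sigD_Q s C').symm)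
    exact congrArg DerivedCategory.Q.map
      (HomologicalComplex.Hom.ext (funext fun i => sigApp_tw hL s (C.X i)))
  rw [← cancel_epi ((TD (L := L)).map e.hom), ← Functor.map_comp,
    show e.hom ≫ (sigD s).app E = (sigD s).app _ ≫ (TD (L := L)).map e.hom from (sigD s).naturality e.hom,
    Functor.map_comp, key]
  exact ((sigD s).naturality ((TD (L := L)).map e.hom)).symm

/-- On an open where `s' = c • s` the two multiplications differ by `c`. -/
theorem rd_sigD_rel (s s' : Coh.structureModule X ⟶ L) (V : X.Opens) (c : Γ(X, V))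
    (h : ∀ (W : X.Opens) (hW : W ≤ V), SecTwist.val s' W = X.presheaf.map (homOfLE hW).op c • SecTwist.val s W)
    (E : DCoh.D X) :
    (rd V.ι).map ((sigD s').app E) =
      (rd V.ι).map ((sigD s).app E) ≫ (mu (V.topIso.inv c)).app _ := by
  obtain ⟨C, ⟨e⟩⟩ : ∃ C : CochainComplex X.Modules ℤ, Nonempty (DerivedCategory.Q.obj C ≅ E) :=
    ⟨_, ⟨DerivedCategory.Q.objObjPreimageIso E⟩⟩
  have key : (rd V.ι).map ((sigD s').app (DerivedCategory.Q.obj C)) =
      (rd V.ι).map ((sigD s).app (DerivedCategory.Q.obj C)) ≫ (mu (V.topIso.inv c)).app _ := by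
    let fac := (Scheme.Modules.restrictFunctor V.ι).mapDerivedCategoryFactors
    let fac' := (tw L).mapDerivedCategoryFactors
    let C' := ((tw L).mapHomologicalComplex (ComplexShape.up ℤ)).obj C
    rw [← cancel_mono ((rd V.ι).map (fac'.hom.app C)), Category.assoc, ← mu_naturality, ← Category.assoc,
      ← Functor.map_comp, ← Functor.map_comp, sigD_Q, sigD_Q, ← cancel_mono (fac.hom.app C'), Category.assoc,
      ← mu_naturality, ← Category.assoc]
    refine (fac.hom.naturality (sigC s' C)).trans (Eq.trans ?_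
      (congrArg (· ≫ _) (fac.hom.naturality (sigC s C))).symm)
    refine Eq.trans ?_ (Category.assoc _ _ _).symm
    refine congrArg (fac.hom.app C ≫ ·) ?_
    refine Eq.trans ?_ (congrArg (_ ≫ ·) (mu_Q _ _)).symm
    refine Eq.trans ?_ ((DerivedCategory.Q).map_comp _ _)
    refine congrArg DerivedCategory.Q.map (HomologicalComplex.Hom.ext (funext fun i => ?_))
    refine Scheme.Modules.hom_ext _ _ fun W => ?_
    ext m
    show (sigApp s' (C.X i)).app (V.ι ''ᵁ W) m =
      (V.ι.appIso W).inv (res W (V.topIso.inv c)) • (sigApp s (C.X i)).app (V.ι ''ᵁ W) m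
    rw [sigApp_apply, sigApp_apply, h _ (V.ι_image_le W), tm_smul_right]
    refine congrArg (· • _) ?_
    rw [Scheme.Opens.ι_appIso]
    show _ = (V : Scheme.{u}).presheaf.map _ (V.topIso.inv c)
    rw [Scheme.Opens.topIso_inv, ← CommRingCat.comp_apply]
    show _ = (X.presheaf.map _ ≫ X.presheaf.map _).hom c
    rw [← Functor.map_comp]
    rfl
  rw [← cancel_epi ((rd V.ι).map e.hom), ← Category.assoc, ← Functor.map_comp, ← Functor.map_comp,
    show e.hom ≫ (sigD s').app E = (sigD s').app _ ≫ (TD (L := L)).map e.hom from (sigD s').naturality e.hom,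
    show e.hom ≫ (sigD s).app E = (sigD s).app _ ≫ (TD (L := L)).map e.hom from (sigD s).naturality e.hom,
    Functor.map_comp, Functor.map_comp, key, Category.assoc, Category.assoc, mu_naturality]

end Groth.Agent.LeadBrown
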