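import Groth.Agent.LeadBrown.LpullTensor2
import Groth.Agent.H16Derived.KFlat.SheafAssoc
import Groth.Agent.H16Derived.KFlat.StalkTensor
import Groth.Agent.H16Derived.ProjFormula.Map

/-!
# `f^*(M ⊗ N) ≅ f^*M ⊗ f^*N` and composition of inverse images
-/

set_option autoImplicit false
set_option linter.style.haveILetI false

universe u

open CategoryTheory CategoryTheory.Limits AlgebraicGeometry Opposite TensorProduct MonoidalCategory

namespace Groth.Agent.LeadBrown

open Groth.Agent.H16Derived.KFlat Groth.Agent.H16Derived.KFlat.Stalk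
open Groth.Agent.H16Derived.ProjFormula (pull push)

variable {X Y Z : Scheme.{u}}

/-- Morphisms out of `M ⊗ N` are determined by the decomposable sections. -/
theorem tensor_hom_ext {M N F : X.Modules} {φ φ' : tensor M N ⟶ F}
    (h : ∀ (U : X.Opens) (m : Γ(M, U)) (n : Γ(N, U)), φ.app U (tensorSect U m n) = φ'.app U (tensorSect U m n)) :
    φ = φ' := by
  let adj := PresheafOfModules.sheafificationAdjunction (R := X.ringCatSheaf) (𝟙 X.ringCatSheaf.obj)
  apply (adj.homEquiv (CohB1.tensorPre M N) F).injective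
  rw [Adjunction.homEquiv_unit, Adjunction.homEquiv_unit]
  exact PresheafOfModules.hom_ext fun U => ModuleCat.MonoidalCategory.tensor_ext fun m n => h U.unop m n

/-- Sectionwise `(a ⊗ b)`. -/
theorem tensorBi_map_tensorSect {M M' N N' : X.Modules} (a : M ⟶ M') (b : N ⟶ N') (U : X.Opens)
    (m : Γ(M, U)) (n : Γ(N, U)) :
    (((DCoh.tensorBi (X := X)).obj M').map b).app U
        ((((DCoh.tensorBi (X := X)).map a).app N).app U (tensorSect U m n)) =
      tensorSect U (a.app U m) (b.app U n) := by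
  let adj := PresheafOfModules.sheafificationAdjunction (R := X.ringCatSheaf) (𝟙 X.ringCatSheaf.obj)
  have h1 := adj.unit.naturality ((DCoh.toP (X := X)).map a ▷ (DCoh.toP (X := X)).obj N)
  have h2 := adj.unit.naturality ((DCoh.toP (X := X)).obj M' ◁ (DCoh.toP (X := X)).map b)
  refine (congrArg ((((DCoh.tensorBi (X := X)).obj M').map b).app U)
    ((congr($(congr(PresheafOfModules.Hom.app $h1 (op U))).hom
      ((show (CohB1.toPMod M).obj (op U) from m) ⊗ₜ (show (CohB1.toPMod N).obj (op U) from n)))).symm :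
      _ = tensorSect U (a.app U m) n)).trans ?_
  exact (congr($(congr(PresheafOfModules.Hom.app $h2 (op U))).hom
    ((show (CohB1.toPMod M').obj (op U) from a.app U m) ⊗ₜ (show (CohB1.toPMod N).obj (op U) from n)))).symm

/-- The adjunct of `f^*(M ⊗ N) ⟶ f^*M ⊗ f^*N` on decomposable sections. -/
theorem pullTensor_adjunct (f : X ⟶ Y) (M N : Y.Modules) (U : Y.Opens) (m : Γ(M, U)) (n : Γ(N, U)) :
    ((Scheme.Modules.pullbackPushforwardAdjunction f).homEquiv _ _ ((pullTensorLIso f N).hom.app M)).app U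
        (tensorSect U m n) =
      tensorSect (f ⁻¹ᵁ U) (((Scheme.Modules.pullbackPushforwardAdjunction f).unit.app M).app U m)
        (((Scheme.Modules.pullbackPushforwardAdjunction f).unit.app N).app U n) := by
  have h := H15Site.PullTensor.homEquiv_psi_comp (f := ModSite.RMor.ofScheme f)
    (H15Site.PullTensor.tσ (H15Site.PullTensor.η (ModSite.RMor.ofScheme f) M)
      (H15Site.PullTensor.η (ModSite.RMor.ofScheme f) N)) _ (𝟙 _)
  rw [Category.comp_id] at h
  have h' := congr($(congr(PresheafOfModules.Hom.app $h (op U))).hom (m ⊗ₜ n))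
  exact h'

/-- The unit of the composed adjunction against that of the composite. -/
theorem unit_pullbackComp (f : X ⟶ Y) (g : Y ⟶ Z) (M : Z.Modules) (U : Z.Opens) (s : Γ(M, U)) :
    ((Scheme.Modules.pullbackComp f g).hom.app M).app (f ⁻¹ᵁ g ⁻¹ᵁ U)
        (((Scheme.Modules.pullbackPushforwardAdjunction f).unit.app ((pull g).obj M)).app (g ⁻¹ᵁ U)
          (((Scheme.Modules.pullbackPushforwardAdjunction g).unit.app M).app U s)) =
      ((Scheme.Modules.pullbackPushforwardAdjunction (f ≫ g)).unit.app M).app U s := by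
  have h := unit_conjugateEquiv ((Scheme.Modules.pullbackPushforwardAdjunction g).comp
    (Scheme.Modules.pullbackPushforwardAdjunction f)) (Scheme.Modules.pullbackPushforwardAdjunction (f ≫ g))
    (Scheme.Modules.pullbackComp f g).inv M
  rw [Scheme.Modules.conjugateEquiv_pullbackComp_inv, Adjunction.comp_unit_app] at h
  have h' := congrArg (fun t => ((Scheme.Modules.pullbackComp f g).hom.app M).app (f ⁻¹ᵁ g ⁻¹ᵁ U) (t.app U s)) h
  refine h'.trans ?_
  exact ConcreteCategory.congr_hom (congr($((Scheme.Modules.pullbackComp f g).inv_hom_id_app M).app (f ⁻¹ᵁ g ⁻¹ᵁ U))) _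

/-- `c` commutes with composition of inverse images. -/
theorem pullTensor_comp (f : X ⟶ Y) (g : Y ⟶ Z) (M N : Z.Modules) :
    (pull f).map ((pullTensorLIso g N).hom.app M) ≫ (pullTensorLIso f ((pull g).obj N)).hom.app ((pull g).obj M) ≫
        ((DCoh.tensorBi (X := X)).map ((Scheme.Modules.pullbackComp f g).hom.app M)).app ((pull f).obj ((pull g).obj N)) ≫
        ((DCoh.tensorBi (X := X)).obj ((pull (f ≫ g)).obj M)).map ((Scheme.Modules.pullbackComp f g).hom.app N) =
      (Scheme.Modules.pullbackComp f g).hom.app (tensor M N) ≫ (pullTensorLIso (f ≫ g) N).hom.app M := by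
  let A := Scheme.Modules.pullbackPushforwardAdjunction f
  let B := Scheme.Modules.pullbackPushforwardAdjunction g
  apply ((B.comp A).homEquiv _ _).injective
  refine tensor_hom_ext fun U m n => ?_
  rw [Adjunction.homEquiv_unit, Adjunction.homEquiv_unit, Adjunction.comp_unit_app]
  have h1 := unit_pullbackComp f g (tensor M N) U (tensorSect U m n)
  have h2 := pullTensor_adjunct (f ≫ g) M N U m n
  have h3 := pullTensor_adjunct g M N U m n
  have h4 := pullTensor_adjunct f ((pull g).obj M) ((pull g).obj N) (g ⁻¹ᵁ U)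
    ((B.unit.app M).app U m) ((B.unit.app N).app U n)
  rw [Adjunction.homEquiv_unit] at h2 h3 h4
  refine Eq.trans ?_ ((congrArg (((pullTensorLIso (f ≫ g) N).hom.app M).app (f ⁻¹ᵁ g ⁻¹ᵁ U)) h1).trans h2).symm
  have n1 := congr($(A.unit.naturality ((pullTensorLIso g N).hom.app M)).app (g ⁻¹ᵁ U)
    ((B.unit.app (tensor M N)).app U (tensorSect U m n)))
  refine (congrArg (fun t => (((DCoh.tensorBi (X := X)).obj ((pull (f ≫ g)).obj M)).map
      ((Scheme.Modules.pullbackComp f g).hom.app N)).app (f ⁻¹ᵁ g ⁻¹ᵁ U)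
    ((((DCoh.tensorBi (X := X)).map ((Scheme.Modules.pullbackComp f g).hom.app M)).app
      ((pull f).obj ((pull g).obj N))).app (f ⁻¹ᵁ g ⁻¹ᵁ U)
      (((pullTensorLIso f ((pull g).obj N)).hom.app ((pull g).obj M)).app (f ⁻¹ᵁ g ⁻¹ᵁ U) t))) n1.symm).trans ?_
  refine (congrArg (fun t => (((DCoh.tensorBi (X := X)).obj ((pull (f ≫ g)).obj M)).map
      ((Scheme.Modules.pullbackComp f g).hom.app N)).app (f ⁻¹ᵁ g ⁻¹ᵁ U)
    ((((DCoh.tensorBi (X := X)).map ((Scheme.Modules.pullbackComp f g).hom.app M)).app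
      ((pull f).obj ((pull g).obj N))).app (f ⁻¹ᵁ g ⁻¹ᵁ U)
      (((pullTensorLIso f ((pull g).obj N)).hom.app ((pull g).obj M)).app (f ⁻¹ᵁ g ⁻¹ᵁ U)
        ((A.unit.app _).app (g ⁻¹ᵁ U) t)))) h3).trans ?_
  refine (congrArg (fun t => (((DCoh.tensorBi (X := X)).obj ((pull (f ≫ g)).obj M)).map
      ((Scheme.Modules.pullbackComp f g).hom.app N)).app (f ⁻¹ᵁ g ⁻¹ᵁ U)
    ((((DCoh.tensorBi (X := X)).map ((Scheme.Modules.pullbackComp f g).hom.app M)).app
      ((pull f).obj ((pull g).obj N))).app (f ⁻¹ᵁ g ⁻¹ᵁ U) t)) h4).trans ?_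
  refine (tensorBi_map_tensorSect _ _ _ _ _).trans ?_
  exact congrArg₂ (tensorSect _) (unit_pullbackComp f g M U m) (unit_pullbackComp f g N U n)

open Groth.Agent.H16Derived.ProjFormula (pullCx)

/-- Composition of inverse images of complexes. -/
noncomputable def pullCxComp (f : X ⟶ Y) (g : Y ⟶ Z) : pullCx g ⋙ pullCx f ≅ pullCx (f ≫ g) :=
  NatIso.ofComponents (fun K => HomologicalComplex.Hom.isoOfComponents
    (fun i => (Scheme.Modules.pullbackComp f g).app (K.X i))
    (fun i j _ => ((Scheme.Modules.pullbackComp f g).hom.naturality (K.d i j)).symm))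
    (fun φ => HomologicalComplex.hom_ext _ _ fun i => (Scheme.Modules.pullbackComp f g).hom.naturality (φ.f i))

/-- `f^*(K ⊗ L) ≅ f^*K ⊗ f^*L` commutes with composition of inverse images. -/
theorem pullTot_comp (f : X ⟶ Y) (g : Y ⟶ Z) (K L : CochainComplex Z.Modules ℤ) :
    (pullCx f).map (pullTotIso g K L).hom ≫ (pullTotIso f ((pullCx g).obj K) ((pullCx g).obj L)).hom ≫
        (((DCoh.tensorCx (X := X)).map ((pullCxComp f g).hom.app K)).app ((pullCx f).obj ((pullCx g).obj L)) ≫
          ((DCoh.tensorCx (X := X)).obj ((pullCx (f ≫ g)).obj K)).map ((pullCxComp f g).hom.app L)) =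
      (pullCxComp f g).hom.app (((DCoh.tensorCx (X := Z)).obj K).obj L) ≫ (pullTotIso (f ≫ g) K L).hom := by
  haveI : ∀ J : Type, PreservesColimitsOfShape (Discrete J) (pull g ⋙ pull f) := fun J =>
    have := preservesColimitsOfSize_shrink.{0, u, 0, u} (pull f)
    have := preservesColimitsOfSize_shrink.{0, u, 0, u} (pull g)
    inferInstance
  refine HomologicalComplex.hom_ext _ _ fun n =>
    TotCompare.hom_ext (DCoh.tensorBi (X := Z)) (pull g ⋙ pull f) K L fun p q h => ?_
  let ι₁ := HomologicalComplex.ιMapBifunctor ((pullCx g).obj K) ((pullCx g).obj L) (DCoh.tensorBi (X := Y))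
    (ComplexShape.up ℤ) p q n h
  have a₁ := ((pull f).map_comp _ _).symm.trans
    ((congrArg (pull f).map (ι_pullTotIso g K L p q n h)).trans ((pull f).map_comp _ _))
  have a₂ := ι_pullTotIso f ((pullCx g).obj K) ((pullCx g).obj L) p q n h
  have a₃ := ι_pullTotIso (f ≫ g) K L p q n h
  have a₄ := HomologicalComplex.ι_mapBifunctorMap ((pullCxComp f g).hom.app K) ((pullCxComp f g).hom.app L)
    (DCoh.tensorBi (X := X)) (ComplexShape.up ℤ) p q n h
  rw [H16Derived.Dual.expand_map]
  refine ((Category.assoc _ _ _).symm.trans ((congrArg (· ≫ _) a₁).trans (Category.assoc _ _ _))).trans ?_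
  refine (congrArg (_ ≫ ·) ((Category.assoc _ _ _).symm.trans ((congrArg (· ≫ _) a₂).trans (Category.assoc _ _ _)))).trans ?_
  refine (congrArg (_ ≫ ·) (congrArg (_ ≫ ·) a₄)).trans ?_
  refine Eq.trans ?_ (Category.assoc _ _ _)
  refine Eq.trans ?_ ((congrArg (· ≫ _) ((Scheme.Modules.pullbackComp f g).hom.naturality _).symm).trans
    rfl)
  refine Eq.trans ?_ (Category.assoc _ _ _).symm
  refine Eq.trans ?_ (congrArg (_ ≫ ·) a₃).symm
  refine Eq.trans ?_ (Category.assoc _ _ _)
  refine Eq.trans ?_ (congrArg (· ≫ _) (pullTensor_comp f g (K.X p) (L.X q)))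
  exact (congrArg (_ ≫ ·) (congrArg (_ ≫ ·) (Category.assoc _ _ _).symm)).trans
    ((congrArg (_ ≫ ·) (Category.assoc _ _ _).symm).trans (Category.assoc _ _ _).symm)

end Groth.Agent.LeadBrown
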