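import Groth.Agent.LeadBrown.RHomPull

/-!
# `Lg^* RHom(k, L) ≅ RHom(Lg^* k, Lg^* L)` for pseudo-coherent `k`
-/

set_option autoImplicit false
set_option linter.style.haveILetI false
set_option linter.unusedSectionVars false

universe u

open CategoryTheory CategoryTheory.Limits AlgebraicGeometry CategoryTheory.Pretriangulated

attribute [local instance] HasDerivedCategory.standard

namespace Groth.Agent.LeadBrown

open Groth.Agent.H16Derived Groth.Agent.H16Derived.QCohD
open Groth.Agent.H16Derived.KFlat.Stalk (rd lpullRpushAdj lpullCommShift lpull_isTriangulated isLE_lpull hasLpull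
  isPerfect_of_iso homologyRdIso Approx approx_iff isPseudoCoherentD_iff)
open Groth.Agent.H16Derived.Thomason (isLE_iff_support)
open Groth.Agent.H16Derived.Dual (T R Rmap rA IsoOn)
open DerivedCategory.TStructure

variable {X X' : Scheme.{u}}

/-- Pseudo-coherent objects are approximated locally by free models. -/
theorem exists_approx_freeModel {k : DCoh.D X} (hk : ∀ m : ℤ, DCoh.IsPseudoCoherentD m k) (μ : ℤ) (x : X) :
    ∃ (A : X.Opens) (k₀ C : DCoh.D X) (φ : k₀ ⟶ k) (p : k ⟶ C) (w : C ⟶ k₀⟦(1 : ℤ)⟧),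
      x ∈ A ∧ FreeModel A.ι k₀ ∧ Triangle.mk φ p w ∈ distTriang (DCoh.D X) ∧
        DerivedCategory.IsLE ((rA A).obj C) (μ - 1) := by
  obtain ⟨V, hx, E, α, hE, hα⟩ := (isPseudoCoherentD_iff μ _).1 (hk μ) x
  haveI := Thomason.isIso_extZeroRdAdj_unit V
  let k₁ := (CxOX.extZeroD V.ι).obj (DerivedCategory.Q.obj E)
  haveI : IsIso ((Thomason.extZeroRdAdj V).unit.app (DerivedCategory.Q.obj E)) :=
    NatIso.isIso_app_of_isIso _ _
  let eu : DerivedCategory.Q.obj E ≅ (rA V).obj k₁ :=
    asIso ((Thomason.extZeroRdAdj V).unit.app (DerivedCategory.Q.obj E))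
  let φ₁ : k₁ ⟶ k := ((Thomason.extZeroRdAdj V).homEquiv _ _).symm α
  have hφ₁ : (Thomason.extZeroRdAdj V).unit.app (DerivedCategory.Q.obj E) ≫ (rA V).map φ₁ = α :=
    ((Thomason.extZeroRdAdj V).homEquiv_unit _ _ φ₁).symm.trans (Equiv.apply_symm_apply _ _)
  obtain ⟨A, hxA, hAV, hA⟩ := Dual.exists_freeModel_of_rd (K := k₁)
    (isPerfect_of_iso eu (Dual.isPerfect_Q_of_isStrictlyPerfect hE)) hx
  obtain ⟨C, p, w, hT⟩ := distinguished_cocone_triangle φ₁
  refine ⟨A, k₁, C, φ₁, p, w, hxA, hA, hT, ?_⟩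
  have happ : Approx μ ((rA V).map φ₁) := by
    have h1 : (rA V).map φ₁ = eu.inv ≫ α := by
      rw [← hφ₁]
      exact (eu.inv_hom_id_assoc _).symm
    rw [h1]
    exact (Approx.of_isIso μ _).comp hα
  haveI hCV := (approx_iff ((rA V).map_distinguished _ hT) μ).1 happ
  refine (DerivedCategory.isLE_iff _ _).2 fun j hj => ?_
  have hz := (isLE_iff_support _ _).1 hCV j hj
  refine (fun h => H17.FPExt.isZero_of_stalk _ fun y => by by_contra hy; exact (Set.eq_empty_iff_forall_notMem.1 h) y hy) ?_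
  refine Set.eq_empty_iff_forall_notMem.2 fun y hy => ?_
  exact Set.eq_empty_iff_forall_notMem.1 hz (⟨y.1, hAV y.2⟩ : (V : Scheme.{u}))
    ((Thomason.mem_support_rd V.ι C j _).2 ((Thomason.mem_support_rd A.ι C j y).1 hy))

/-- Isomorphisms in low degrees over `A` from a cone. -/
theorem isIso_hd_of_cone {A : X.Opens} {M N Z : DCoh.D X} {φ : M ⟶ N} {p : N ⟶ Z} {w : Z ⟶ M⟦(1 : ℤ)⟧}
    (hT : Triangle.mk φ p w ∈ distTriang (DCoh.D X)) (i : ℤ)
    (h0 : IsZero (DCoh.HD ((rA A).obj Z) (i - 1))) (h1 : IsZero (DCoh.HD ((rA A).obj Z) i)) :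
    IsIso ((DerivedCategory.homologyFunctor _ i).map ((rA A).map φ)) := by
  have hT' := (rA A).map_distinguished _ hT
  haveI : Mono ((DerivedCategory.homologyFunctor _ i).map ((rA A).map φ)) :=
    (DerivedCategory.HomologySequence.mono_homologyMap_mor₁_iff _ hT' (i - 1) i (by omega)).2
      (h0.eq_of_src _ _)
  haveI : Epi ((DerivedCategory.homologyFunctor _ i).map ((rA A).map φ)) :=
    (DerivedCategory.HomologySequence.epi_homologyMap_mor₁_iff _ hT' i).2 (h1.eq_of_tgt _ _)
  exact isIso_of_mono_of_epi _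

/-- Vanishing of cohomology of a cone in low degrees. -/
theorem isZero_hd_cone {A : X.Opens} {M N Z : DCoh.D X} {φ : M ⟶ N} {p : N ⟶ Z} {w : Z ⟶ M⟦(1 : ℤ)⟧}
    (hT : Triangle.mk φ p w ∈ distTriang (DCoh.D X)) (j : ℤ)
    (h0 : IsIso ((DerivedCategory.homologyFunctor _ j).map ((rA A).map φ)))
    (h1 : IsIso ((DerivedCategory.homologyFunctor _ (j + 1)).map ((rA A).map φ))) :
    IsZero (DCoh.HD ((rA A).obj Z) j) := by
  have hT' := (rA A).map_distinguished _ hT
  have hp := (DerivedCategory.HomologySequence.epi_homologyMap_mor₁_iff _ hT' j).1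
    (haveI := h0; inferInstanceAs (Epi ((DerivedCategory.homologyFunctor _ j).map ((rA A).map φ))))
  have hd := (DerivedCategory.HomologySequence.mono_homologyMap_mor₁_iff _ hT' j (j + 1) rfl).1
    (haveI := h1; inferInstanceAs (Mono ((DerivedCategory.homologyFunctor _ (j + 1)).map ((rA A).map φ))))
  have hex := DerivedCategory.HomologySequence.exact₃ _ hT' j (j + 1) rfl
  exact hex.isZero_of_both_zeros hp hd

variable (g : X' ⟶ X) [DCoh.HasRpush g] [DCoh.HasLpull g]

/-- Inverse image commutes with `RHom(k, L)` for `k` pseudo-coherent and `L` bounded below, when `Lg^*` has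
bounded cohomological amplitude. -/
theorem isIso_wR_pseudoCoherent (d : ℤ)
    (hd : ∀ (M : DCoh.D X) (a : ℤ), M.IsGE a → ((DCoh.Lpull g).obj M).IsGE (a - d))
    {k : DCoh.D X} (hk : ∀ m : ℤ, DCoh.IsPseudoCoherentD m k) (L : DCoh.D X) (a : ℤ) [L.IsGE a] :
    IsIso (wR g k L) := by
  obtain ⟨Z, p, w, hT⟩ := distinguished_cocone_triangle (wR g k L)
  refine (Triangle.isZero₃_iff_isIso₁ _ hT).1 (MVPush.isZero_of_hd Z fun i₀ => H17.FPExt.isZero_of_stalk _ fun x' => ?_)
  -- a neighbourhood on which both sides agree in low degrees with the perfect case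
  let D := max d 0
  have hD : d ≤ D := le_max_left _ _
  have hD0 : 0 ≤ D := le_max_right _ _
  let μ : ℤ := a - i₀ - 2 * D - 6
  obtain ⟨A, k₀, C, φ, q, v, hxA, hA, hφ, hC⟩ := exists_approx_freeModel hk μ (g.base x')
  let A' := g ⁻¹ᵁ A
  letI := lpullCommShift g
  haveI := lpull_isTriangulated g
  have hCg : DerivedCategory.IsLE ((rA A').obj ((DCoh.Lpull g).obj C)) (μ - 1) := by
    haveI := hasLpull (g ∣_ A)
    haveI := hC
    haveI : DerivedCategory.IsLE ((DCoh.Lpull (g ∣_ A)).obj ((rA A).obj C)) (μ - 1) := isLE_lpull (g ∣_ A) _ _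
    obtain ⟨e⟩ := ProjFormula.nonempty_rd_lpull g A C
    exact ⟨(t.le (μ - 1)).prop_of_iso e.symm
      (‹DerivedCategory.IsLE ((DCoh.Lpull (g ∣_ A)).obj ((rA A).obj C)) (μ - 1)›).le⟩
  haveI : ((DCoh.Lpull g).obj L).IsGE (a - d) := hd L a ‹_›
  have hR : ∀ i ≤ i₀ + 1,
      IsIso ((DerivedCategory.homologyFunctor _ i).map ((rA A').map
        (Rmap ((DCoh.Lpull g).map φ) ((DCoh.Lpull g).obj L)))) := fun i hi =>
    Dual.isIso_hd_Rmap A' ((DCoh.Lpull g).map_distinguished _ hφ) ((DCoh.Lpull g).obj L) (a - d) μ (i₀ + 2)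
      hCg (by omega) i (by omega)
  have hL : ∀ i ≤ i₀ + 1,
      IsIso ((DerivedCategory.homologyFunctor _ i).map ((rA A').map ((DCoh.Lpull g).map (Rmap φ L)))) := by
    obtain ⟨W, r, s, hW⟩ := distinguished_cocone_triangle (Rmap φ L)
    let c := i₀ + D + 4
    have hW0 : ∀ j ≤ c - 2, IsZero (DCoh.HD ((rA A).obj W) j) := fun j hj =>
      isZero_hd_cone hW j (Dual.isIso_hd_Rmap A hφ L a μ c hC (by omega) j (by omega))
        (Dual.isIso_hd_Rmap A hφ L a μ c hC (by omega) (j + 1) (by omega))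
    let W' := (t.truncGE (c - 1)).obj W
    let π : W ⟶ W' := (t.truncGEπ (c - 1)).app W
    have hπ : IsoOn A π := by
      refine (Triangle.isZero₁_iff_isIso₂ _ ((rA A).map_distinguished _
        (t.triangleLTGE_distinguished (c - 1) W))).1 (MVPush.isZero_of_hd _ fun j => ?_)
      show IsZero (DCoh.HD ((rA A).obj ((t.truncLT (c - 1)).obj W)) j)
      refine IsZero.of_iso ?_ (homologyRdIso A.ι _ j)
      rcases le_or_gt j (c - 2) with hj | hj
      · haveI := DTrunc.isIso_homology_truncLTι W (c - 1) j (by omega)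
        exact (((hW0 j hj).of_iso (homologyRdIso A.ι _ j).symm)).of_iso
          ((Scheme.Modules.restrictFunctor A.ι).mapIso (asIso ((DerivedCategory.homologyFunctor _ j).map
            ((t.truncLTι (c - 1)).app W))))
      · haveI : t.IsLE ((t.truncLT (c - 1)).obj W) (c - 2) := t.isLE_truncLT_obj W (c - 1) (c - 2) (by omega)
        exact (Scheme.Modules.restrictFunctor A.ι).map_isZero
          (DerivedCategory.isZero_of_isLE _ (c - 2) j (by omega))
    haveI hW' : W'.IsGE (c - 1) := inferInstanceAs (t.IsGE ((t.truncGE (c - 1)).obj W) (c - 1))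
    have hgW := hd W' (c - 1) hW'
    have hiso : IsoOn A' ((DCoh.Lpull g).map π) := isoOn_lpull g le_rfl hπ
    haveI : IsIso ((rA A').map ((DCoh.Lpull g).map π)) := hiso
    have hz : ∀ j ≤ i₀ + 1, IsZero (DCoh.HD ((rA A').obj ((DCoh.Lpull g).obj W)) j) := fun j hj => by
      refine IsZero.of_iso ?_ ((DerivedCategory.homologyFunctor _ j).mapIso (asIso ((rA A').map ((DCoh.Lpull g).map π))))
      refine IsZero.of_iso ?_ (homologyRdIso A'.ι _ j)
      haveI := hgW
      exact (Scheme.Modules.restrictFunctor A'.ι).map_isZero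
        (DerivedCategory.isZero_of_isGE _ (c - 1 - d) j (by omega))
    exact fun i hi => isIso_hd_of_cone ((DCoh.Lpull g).map_distinguished _ hW) i
      (hz (i - 1) (by omega)) (hz i hi)
  haveI : IsIso ((rA A').map (wR g k₀ L)) := isoOn_wR_of_freeModel g le_rfl hA L
  have hw : ∀ i ≤ i₀ + 1, IsIso ((DerivedCategory.homologyFunctor _ i).map ((rA A').map (wR g k L))) := fun i hi => by
    haveI := hR i hi
    haveI := hL i hi
    have e := congrArg (fun z => (DerivedCategory.homologyFunctor _ i).map ((rA A').map z)) (wR_naturality g φ L)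
    simp only [Functor.map_comp] at e
    haveI : IsIso ((DerivedCategory.homologyFunctor _ i).map ((rA A').map (wR g k L)) ≫
        (DerivedCategory.homologyFunctor _ i).map ((rA A').map
          (Rmap ((DCoh.Lpull g).map φ) ((DCoh.Lpull g).obj L)))) := e.symm ▸ inferInstance
    exact IsIso.of_isIso_comp_right ((DerivedCategory.homologyFunctor _ i).map ((rA A').map (wR g k L)))
      ((DerivedCategory.homologyFunctor _ i).map ((rA A').map
        (Rmap ((DCoh.Lpull g).map φ) ((DCoh.Lpull g).obj L))))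
  have hz := isZero_hd_cone hT i₀ (hw i₀ (by omega)) (hw (i₀ + 1) le_rfl)
  by_contra hne
  exact Set.eq_empty_iff_forall_notMem.1 (Thomason.support_eq_empty_of_isZero hz) ⟨x', hxA⟩
    ((Thomason.mem_support_rd A'.ι Z i₀ _).2 hne)

end Groth.Agent.LeadBrown
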