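import Groth.Prelude.Def_DDual2
import Groth.Agent.LeadBrown.Rpush
import Groth.Agent.H16Derived.Thomason.Approx
import Groth.Agent.H16Derived.Thomason.Bounded
import Groth.Agent.S1020

/-!
# Properties of the right adjoint of `Rf_*` on `D_QCoh`
-/

set_option autoImplicit false
set_option linter.style.haveILetI false
set_option linter.unusedSectionVars false

universe u

open CategoryTheory CategoryTheory.Limits AlgebraicGeometry CategoryTheory.Pretriangulated

attribute [local instance] HasDerivedCategory.standard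

namespace Groth.Agent.LeadBrown

open Groth.Agent.H16Derived Groth.Agent.H16Derived.Thomason Groth.Agent.H16Derived.KFlat
  Groth.Agent.H16Derived.KFlat.Stalk
attribute [local instance] hasCoproducts_D small_hom

open DerivedCategory in
/-- Cohomology of a direct sum vanishes where that of the summands does. -/
theorem isZero_hd_sigma {X : Scheme.{u}} {ι : Type u} (K : ι → DCoh.D X) (n : ℤ)
    (h : ∀ i, IsZero (DCoh.HD (K i) n)) : IsZero (DCoh.HD (∐ K) n) := by
  have hi : ∀ i, ∃ C : CochainComplex X.Modules ℤ, Nonempty (Q.obj C ≅ K i) := fun i =>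
    have := Localization.essSurj (DerivedCategory.Q (C := X.Modules))
      (HomologicalComplex.quasiIso X.Modules (ComplexShape.up ℤ))
    ⟨_, ⟨Q.objObjPreimageIso (K i)⟩⟩
  choose C hC using hi
  have := QCoprod.preservesColimitsOfShape_Q (A := X.Modules) ι
  have : ∀ i : ℤ, PreservesColimitsOfShape (Discrete ι) ((𝟭 (CochainComplex X.Modules ℤ)) ⋙
      HomologicalComplex.eval X.Modules (ComplexShape.up ℤ) i) := fun i =>
    inferInstanceAs (PreservesColimitsOfShape (Discrete ι) (HomologicalComplex.eval X.Modules (ComplexShape.up ℤ) i))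
  have hH : PreservesColimitsOfShape (Discrete ι) (𝟭 _ ⋙
      HomologicalComplex.homologyFunctor X.Modules (ComplexShape.up ℤ) n) :=
    H26Tor.preservesColimitsOfShape_homology _ n
  have := hH
  have : HasColimit (Discrete.functor C ⋙ Q) :=
    ⟨⟨⟨_, isColimitOfPreserves Q (colimit.isColimit (Discrete.functor C))⟩⟩⟩
  have : HasCoproduct (fun i => Q.obj (C i)) := hasColimit_of_iso (Discrete.compNatIsoDiscrete C Q).symm
  let e : ∐ K ≅ Q.obj (∐ C) := HasColimit.isoOfNatIso (G := Discrete.functor fun i => Q.obj (C i)) (Discrete.natIso fun i => (hC i.as).some.symm) ≪≫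
    (PreservesCoproduct.iso Q C).symm
  let e' : DCoh.HD (∐ K) n ≅ ∐ fun i => (C i).homology n :=
    (homologyFunctor X.Modules n).mapIso e ≪≫ (homologyFunctorFactors X.Modules n).app (∐ C) ≪≫
      PreservesCoproduct.iso (𝟭 _ ⋙ HomologicalComplex.homologyFunctor X.Modules (ComplexShape.up ℤ) n) C
  refine IsZero.of_iso ?_ e'
  exact (IsZero.iff_id_eq_zero _).2 (Sigma.hom_ext _ _ fun i =>
    (IsZero.of_iso (h i) (((DerivedCategory.homologyFunctor X.Modules n).mapIso (hC i).some ≪≫ Iso.refl _).symm ≪≫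
      (homologyFunctorFactors X.Modules n).app (C i)).symm).eq_of_src _ _)

variable {X Y : Scheme.{u}} {f : X ⟶ Y} [DCoh.HasRpush f] {hf : DCoh.RpushPreservesQCoh f}
  {a : DCoh.DQCoh Y ⥤ DCoh.DQCoh X} (adj : DCoh.RpushQ f hf ⊣ a)

/-- The adjunction in `D(O)`. -/
noncomputable def homEquivD (Z : DCoh.D X) (hZ : DCoh.IsQCohD Z) (K : DCoh.DQCoh Y) :
    (Z ⟶ (a.obj K).obj) ≃ ((DCoh.Rpush f).obj Z ⟶ K.obj) where
  toFun g := (adj.homEquiv ⟨Z, hZ⟩ K).symm (ObjectProperty.homMk g) |>.hom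
  invFun φ := ((adj.homEquiv ⟨Z, hZ⟩ K) (ObjectProperty.homMk φ)).hom
  left_inv g := congrArg (fun t => t.hom) ((adj.homEquiv ⟨Z, hZ⟩ K).apply_symm_apply (ObjectProperty.homMk g))
  right_inv φ := congrArg (fun t => t.hom) ((adj.homEquiv ⟨Z, hZ⟩ K).symm_apply_apply (ObjectProperty.homMk φ))

theorem homEquivD_comp {Z Z' : DCoh.D X} (hZ : DCoh.IsQCohD Z) (hZ' : DCoh.IsQCohD Z') (u : Z' ⟶ Z)
    (K : DCoh.DQCoh Y) (g : Z ⟶ (a.obj K).obj) :
    homEquivD adj Z' hZ' K (u ≫ g) = (DCoh.Rpush f).map u ≫ homEquivD adj Z hZ K g :=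
  congrArg (fun t => t.hom)
    (adj.homEquiv_naturality_left_symm (X' := ⟨Z', hZ'⟩) (X := ⟨Z, hZ⟩) (Y := K)
      (ObjectProperty.homMk u) (ObjectProperty.homMk g))

theorem homEquivD_map {Z : DCoh.D X} (hZ : DCoh.IsQCohD Z) {K K' : DCoh.DQCoh Y} (k : K ⟶ K')
    (g : Z ⟶ (a.obj K).obj) :
    homEquivD adj Z hZ K' (g ≫ (a.map k).hom) = homEquivD adj Z hZ K g ≫ k.hom :=
  congrArg (fun t => t.hom)
    (adj.homEquiv_naturality_right_symm (X := ⟨Z, hZ⟩) (ObjectProperty.homMk g) k)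

theorem homEquivD_add {Z : DCoh.D X} (hZ : DCoh.IsQCohD Z) (K : DCoh.DQCoh Y) [(DCoh.Rpush f).Additive]
    (g g' : Z ⟶ (a.obj K).obj) :
    homEquivD adj Z hZ K (g + g') = homEquivD adj Z hZ K g + homEquivD adj Z hZ K g' := by
  have hQ : DCoh.IsQCohD ((a.obj K).obj) := (a.obj K).property
  have h : ∀ g : Z ⟶ (a.obj K).obj, homEquivD adj Z hZ K g =
      (DCoh.Rpush f).map g ≫ homEquivD adj _ hQ K (𝟙 _) := fun g => by
    rw [← homEquivD_comp adj hQ hZ g K (𝟙 _), Category.comp_id]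
  rw [h, h g, h g', Functor.map_add, Preadditive.add_comp]

include adj in
/-- `a` commutes with shifts. -/
theorem nonempty_shift [CompactSpace X] [QuasiSeparatedSpace X] (K : DCoh.DQCoh Y) (n : ℤ) (T : DCoh.DQCoh Y)
    (e : K.obj⟦n⟧ ≅ T.obj) : Nonempty ((a.obj T).obj ≅ (a.obj K).obj⟦n⟧) := by
  haveI := hasLpull f
  letI := rpushCommShift f
  haveI := rpush_isTriangulated f
  let F := (a.obj K).obj⟦n⟧
  have hF : DCoh.IsQCohD F := QCohD.HomVanish.isQCohD_shift (a.obj K).property n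
  let E : ∀ (Z : DCoh.D X), DCoh.IsQCohD Z → ((Z ⟶ F) ≃ (Z ⟶ (a.obj T).obj)) := fun Z hZ =>
    ((shiftEquiv' (DCoh.D X) (-n) n (by omega)).toAdjunction.homEquiv Z _).symm.trans <|
    (homEquivD adj (Z⟦-n⟧) (QCohD.HomVanish.isQCohD_shift hZ _) K).trans <|
    (Iso.homCongr (((DCoh.Rpush f).commShiftIso (-n)).app Z) (Iso.refl _)).trans <|
    ((shiftEquiv' (DCoh.D Y) (-n) n (by omega)).toAdjunction.homEquiv ((DCoh.Rpush f).obj Z) _).trans <|
    (Iso.homCongr (Iso.refl _) e).trans (homEquivD adj Z hZ T).symm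
  let adX := (shiftEquiv' (DCoh.D X) (-n) n (by omega)).toAdjunction
  let adY := (shiftEquiv' (DCoh.D Y) (-n) n (by omega)).toAdjunction
  have hE : ∀ (Z : DCoh.D X) (hZ : DCoh.IsQCohD Z) (g : Z ⟶ F),
      homEquivD adj Z hZ T (E Z hZ g) = adY.homEquiv ((DCoh.Rpush f).obj Z) _
        (((DCoh.Rpush f).commShiftIso (-n)).inv.app Z ≫
          homEquivD adj (Z⟦-n⟧) (QCohD.HomVanish.isQCohD_shift hZ _) K ((adX.homEquiv Z _).symm g)) ≫ e.hom :=
    fun Z hZ g => by
      refine ((homEquivD adj Z hZ T).apply_symm_apply _).trans ?_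
      show 𝟙 _ ≫ adY.homEquiv _ _ ((((DCoh.Rpush f).commShiftIso (-n)).app Z).inv ≫ _ ≫ 𝟙 _) ≫ e.hom = _
      rw [Category.id_comp, Category.comp_id]
      rfl
  have hnat : ∀ (Z Z' : DCoh.D X) (hZ : DCoh.IsQCohD Z) (hZ' : DCoh.IsQCohD Z') (u : Z' ⟶ Z) (g : Z ⟶ F),
      E Z' hZ' (u ≫ g) = u ≫ E Z hZ g := by
    intro Z Z' hZ hZ' u g
    apply (homEquivD adj Z' hZ' T).injective
    rw [homEquivD_comp adj hZ hZ', hE, hE, ← Category.assoc ((DCoh.Rpush f).map u),
      ← Adjunction.homEquiv_naturality_left]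
    refine congrArg (fun z => adY.homEquiv _ _ z ≫ e.hom) ?_
    refine (congrArg (fun z => ((DCoh.Rpush f).commShiftIso (-n)).inv.app Z' ≫
      homEquivD adj (Z'⟦-n⟧) (QCohD.HomVanish.isQCohD_shift hZ' (-n)) K z)
      (adX.homEquiv_naturality_left_symm u g)).trans ?_
    refine (congrArg (_ ≫ ·) (homEquivD_comp adj (QCohD.HomVanish.isQCohD_shift hZ (-n))
      (QCohD.HomVanish.isQCohD_shift hZ' (-n)) _ _ _)).trans ?_
    exact (Category.assoc _ _ _).symm.trans
      ((congrArg (· ≫ _) (((DCoh.Rpush f).commShiftIso (-n)).inv.naturality u).symm).trans (Category.assoc _ _ _))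
  refine ⟨⟨(E _ (a.obj T).property).symm (𝟙 _), E F hF (𝟙 _), ?_, ?_⟩⟩
  · rw [← hnat F _ hF (a.obj T).property _ (𝟙 _), Category.comp_id, Equiv.apply_symm_apply]
  · apply (E F hF).injective
    rw [hnat _ F (a.obj T).property hF, Equiv.apply_symm_apply, Category.comp_id]

section Coproducts

variable [CompactSpace X] [QuasiSeparatedSpace X] [CompactSpace Y] [QuasiSeparatedSpace Y]

include adj in
/-- The comparison map `∐ a(K_j) ⟶ a(∐ K_j)` is an isomorphism when direct images of perfect objects are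
compact with respect to the family. -/
theorem isIso_sigma_map_of_holds (P₀ : DCoh.D Y → Prop) {J : Type u} (K : J → DCoh.DQCoh Y)
    (hK : ∀ j, P₀ (K j).obj)
    (hH : ∀ E : DCoh.D X, DCoh.IsPerfect E →
      QCohD.FinSupp.Holds.{u} P₀ ((DCoh.Rpush f).obj E))
    (S : DCoh.DQCoh Y) (ι : ∀ j, K j ⟶ S)
    (hS : IsIso (Sigma.desc fun j => (ι j).hom)) :
    IsIso (Sigma.desc fun j => (a.map (ι j)).hom) := by
  classical
  haveI := hasLpull f
  letI := rpushCommShift f
  haveI := rpush_isTriangulated f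
  haveI := hS
  obtain ⟨G, hG, hgen⟩ := hasGen (X := X) Set.univ isClosed_univ (by simp)
  let W : J → DCoh.D X := fun j => (a.obj (K j)).obj
  have hW : ∀ j, DCoh.IsQCohD (W j) := fun j => (a.obj (K j)).property
  let φ : (∐ W) ⟶ (a.obj S).obj := Sigma.desc fun j => (a.map (ι j)).hom
  obtain ⟨C, g, δ, hT⟩ := distinguished_cocone_triangle φ
  have hsum : DCoh.IsQCohD (∐ W) := S1040.result X W hW
  have key : ∀ P : DCoh.D X, DCoh.IsPerfect P → Function.Bijective fun t : P ⟶ ∐ W => t ≫ φ := by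
    intro P hP
    have hPq := Dual.isQCohD_of_isPerfect hP
    let V : J → DCoh.D Y := fun j => (K j).obj
    let ψ : (∐ V) ⟶ S.obj := Sigma.desc fun j => (ι j).hom
    let p : ∀ j, S.obj ⟶ V j := fun j => inv ψ ≫ QCohD.FinSupp.proj V j
    have hp : ∀ i j, (ι i).hom ≫ p j = if h : i = j then eqToHom (congrArg V h) else 0 := fun i j => by
      have h : (ι i).hom = Sigma.ι V i ≫ ψ := (Sigma.ι_desc (fun j => (ι j).hom) i).symm
      rw [h, Category.assoc, IsIso.hom_inv_id_assoc, QCohD.FinSupp.proj, Sigma.ι_desc]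
    let e := fun j => homEquivD adj P hPq (K j)
    have he : ∀ (j : J) (x : P ⟶ W j),
        homEquivD adj P hPq S (x ≫ (a.map (ι j)).hom) = e j x ≫ (ι j).hom := fun j x =>
      homEquivD_map adj hPq (ι j) x
    have hsumφ : ∀ (s : Finset J) (t : ∀ j, P ⟶ W j),
        homEquivD adj P hPq S ((∑ j ∈ s, t j ≫ Sigma.ι W j) ≫ φ) =
          ∑ j ∈ s, e j (t j) ≫ (ι j).hom := fun s t => by
      let E : (P ⟶ (a.obj S).obj) →+ ((DCoh.Rpush f).obj P ⟶ S.obj) :=
        AddMonoidHom.mk' (homEquivD adj P hPq S) (homEquivD_add adj hPq S)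
      show E _ = _
      rw [Preadditive.sum_comp, map_sum]
      refine Finset.sum_congr rfl fun j _ => ?_
      rw [Category.assoc, Sigma.ι_desc]
      exact he j (t j)
    constructor
    · suffices h0 : ∀ t : P ⟶ ∐ W, t ≫ φ = 0 → t = 0 by
        intro t t' htt
        refine sub_eq_zero.1 (h0 _ ?_)
        rw [Preadditive.sub_comp]
        exact sub_eq_zero.2 htt
      intro t ht
      obtain ⟨s, hs⟩ := holds_of_isPerfect (P := fun L => DCoh.IsQCohD L) (fun _ h => h) hP J W hW t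
      have ht' := eq_sum_ι W t s hs
      have h1 := hsumφ s fun j => t ≫ QCohD.FinSupp.proj W j
      rw [← ht', ht] at h1
      have h2 : homEquivD adj P hPq S 0 = 0 := by
        simpa using homEquivD_add adj hPq S 0 0
      rw [h2] at h1
      rw [ht']
      refine Finset.sum_eq_zero fun j hj => ?_
      have h3 := congrArg (· ≫ p j) h1
      simp only [zero_comp, Preadditive.sum_comp, Category.assoc] at h3
      rw [Finset.sum_eq_single j (fun b _ hb => by rw [hp, dif_neg hb, comp_zero])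
        (fun h => (h hj).elim), hp, dif_pos rfl, eqToHom_refl, Category.comp_id] at h3
      have h4 : e j (0 : P ⟶ W j) = 0 := by
        simpa [e] using homEquivD_add adj hPq (K j) 0 0
      rw [(e j).injective (h3.symm.trans h4.symm), zero_comp]
    · intro x
      obtain ⟨s, hs⟩ := hH P hP J V hK (homEquivD adj P hPq S x ≫ inv ψ)
      have hs' := eq_sum_ι V (homEquivD adj P hPq S x ≫ inv ψ) s hs
      refine ⟨∑ j ∈ s, (e j).symm ((homEquivD adj P hPq S x ≫ inv ψ) ≫ QCohD.FinSupp.proj V j) ≫ Sigma.ι W j, ?_⟩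
      apply (homEquivD adj P hPq S).injective
      simp only
      rw [hsumφ]
      have h5 := congrArg (· ≫ ψ) hs'
      simp only [Category.assoc, IsIso.inv_hom_id, Category.comp_id, Preadditive.sum_comp] at h5
      refine Eq.trans (Finset.sum_congr rfl fun j _ => ?_) h5.symm
      rw [Equiv.apply_symm_apply, Category.assoc, Category.assoc]
      exact congrArg (fun z => _ ≫ _ ≫ _ ≫ z) (Sigma.ι_desc (fun j => (ι j).hom) j).symm
  have hC : DCoh.IsQCohD C := QCohD.AffineUnit.isQCohD_obj₃ hT hsum (a.obj S).property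
  have hz : IsZero C := by
    refine hgen C ⟨hC, suppIn_univ C⟩ fun n x => ?_
    have hP : ∀ m : ℤ, DCoh.IsPerfect (G⟦m⟧) := fun m => (hG.shift isClosed_univ m).1
    have h1 : x ≫ δ = 0 := by
      let c := shiftFunctorCompIsoId (DCoh.D X) (1 : ℤ) (-1) (by norm_num)
      have h' : (x ≫ δ) ≫ φ⟦(1 : ℤ)⟧' = 0 := by
        have h'' : δ ≫ φ⟦(1 : ℤ)⟧' = 0 := comp_distTriang_mor_zero₃₁ _ hT
        rw [Category.assoc, h'', comp_zero]
      let s := (shiftFunctorAdd (DCoh.D X) n (-1)).app G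
      let t' : G⟦n + (-1)⟧ ⟶ ∐ W := s.hom ≫ (x ≫ δ)⟦(-1 : ℤ)⟧' ≫ c.hom.app _
      have ht' : t' ≫ φ = 0 := by
        simp only [t', Category.assoc]
        erw [← c.hom.naturality φ]
        rw [Functor.comp_map, ← Functor.map_comp_assoc (shiftFunctor (DCoh.D X) (-1 : ℤ)),
          h', Functor.map_zero, zero_comp, comp_zero]
      have h0 : t' = 0 := (key _ (hP _)).1 (ht'.trans zero_comp.symm)
      have h0' : (x ≫ δ)⟦(-1 : ℤ)⟧' ≫ c.hom.app _ = 0 :=
        (cancel_epi s.hom).1 (h0.trans comp_zero.symm)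
      have h2 : (x ≫ δ)⟦(-1 : ℤ)⟧' = 0 := (cancel_mono (c.hom.app _)).1 (h0'.trans zero_comp.symm)
      exact (shiftFunctor (DCoh.D X) (-1 : ℤ)).map_eq_zero_iff.1 h2
    obtain ⟨y, hy⟩ := Triangle.coyoneda_exact₃ _ hT x h1
    obtain ⟨z, hz⟩ := (key _ (hP n)).2 y
    have h3 : φ ≫ g = 0 := comp_distTriang_mor_zero₁₂ _ hT
    calc x = y ≫ g := hy
      _ = (z ≫ φ) ≫ g := congrArg (· ≫ g) hz.symm
      _ = 0 := by rw [Category.assoc, h3, comp_zero]
  exact (Triangle.isZero₃_iff_isIso₁ _ hT).1 hz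

include adj in
/-- The comparison map `∐ a(K_j) ⟶ a(∐ K_j)` is an isomorphism when `Rf_*` preserves perfect objects. -/
theorem isIso_sigma_map (hperf : ∀ E : DCoh.D X, DCoh.IsPerfect E → DCoh.IsPerfect ((DCoh.Rpush f).obj E))
    {J : Type u} (K : J → DCoh.DQCoh Y) (S : DCoh.DQCoh Y) (ι : ∀ j, K j ⟶ S)
    (hS : IsIso (Sigma.desc fun j => (ι j).hom)) :
    IsIso (Sigma.desc fun j => (a.map (ι j)).hom) :=
  isIso_sigma_map_of_holds adj (fun L => DCoh.IsQCohD L) K (fun j => (K j).property)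
    (fun E hE => holds_of_isPerfect (fun _ h => h) (hperf E hE)) S ι hS

omit [CompactSpace X] [QuasiSeparatedSpace X] [CompactSpace Y] [QuasiSeparatedSpace Y] in
/-- A colimit cofan in `D(O)` gives one in `D_QCoh`. -/
theorem isColimit_of_isIso {Z : Scheme.{u}} {J : Type u} (K : J → DCoh.DQCoh Z) (S : DCoh.DQCoh Z)
    (ι : ∀ j, K j ⟶ S) (h : IsIso (Sigma.desc fun j => (ι j).hom)) :
    Nonempty (IsColimit (Cofan.mk S ι)) := by
  haveI := h
  refine ⟨isColimitOfReflects (ObjectProperty.ι (DCoh.IsQCohD (X := Z))) ?_⟩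
  refine (isColimitMapCoconeCofanMkEquiv (ObjectProperty.ι (DCoh.IsQCohD (X := Z))) K ι).symm ?_
  exact IsColimit.ofIsoColimit (coproductIsCoproduct fun j => (K j).obj)
    (Cofan.ext (@asIso _ _ _ _ _ h) fun j => Sigma.ι_desc _ _)

include adj in
/-- `a` commutes with direct sums when `Rf_*` preserves perfect objects. -/
theorem preservesColimitsOfShape_discrete
    (hperf : ∀ E : DCoh.D X, DCoh.IsPerfect E → DCoh.IsPerfect ((DCoh.Rpush f).obj E)) (J : Type u) :
    PreservesColimitsOfShape (Discrete J) a := by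
  suffices ∀ K : J → DCoh.DQCoh Y, PreservesColimit (Discrete.functor K) a from
    ⟨fun {F} => preservesColimit_of_iso_diagram a Discrete.natIsoFunctor.symm⟩
  intro K
  let V : J → DCoh.D Y := fun j => (K j).obj
  let S : DCoh.DQCoh Y := ⟨∐ V, S1040.result Y V fun j => (K j).property⟩
  let ι : ∀ j, K j ⟶ S := fun j => ObjectProperty.homMk (Sigma.ι V j)
  have h : IsIso (Sigma.desc fun j => (ι j).hom) := by
    have : (Sigma.desc fun j => (ι j).hom) = 𝟙 (∐ V) := Sigma.hom_ext _ _ fun j => by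
      rw [Sigma.ι_desc, Category.comp_id]
      rfl
    rw [this]
    infer_instance
  obtain ⟨hc⟩ := isColimit_of_isIso K S ι h
  refine preservesColimit_of_preserves_colimit_cocone hc ?_
  refine (isColimitMapCoconeCofanMkEquiv a K ι).symm ?_
  exact (isColimit_of_isIso (fun j => a.obj (K j)) (a.obj S) (fun j => a.map (ι j))
    (isIso_sigma_map adj hperf K S ι h)).some

end Coproducts

section BoundedBelow

variable [CompactSpace X] [QuasiSeparatedSpace X] [CompactSpace Y] [QuasiSeparatedSpace Y]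
  [QuasiCompact f] [QuasiSeparated f]

include adj in
/-- `a` sends bounded below objects to bounded below objects. -/
theorem exists_isGE (K : DCoh.DQCoh Y) (c : ℤ) (hK : K.obj.IsGE c) : ∃ m : ℤ, (a.obj K).obj.IsGE m := by
  haveI := hasLpull f
  letI := rpushCommShift f
  haveI := rpush_isTriangulated f
  haveI := hK
  obtain ⟨G, hG, hgen⟩ := hasGen (X := X) Set.univ isClosed_univ (by simp)
  obtain ⟨b, hb⟩ := exists_isLE_of_pc (isPseudoCoherentD_of_isPerfect hG.1 0)
  obtain ⟨N, hN⟩ := QCohD.exists_bound f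
  have hGq := Dual.isQCohD_of_isPerfect hG.1
  haveI := hb
  haveI hle : ((DCoh.Rpush f).obj G).IsLE (b + N) := by
    rw [DerivedCategory.isLE_iff]
    exact fun m hm => QCohD.isZero_rpush_of_isLE f hN G hGq b m (by omega)
  refine (S1020.result X G hG.1 (fun E hE h => hgen E ⟨hE, suppIn_univ E⟩ h) _ (a.obj K).property).2
    ⟨c - b - N - 1, fun i hi φ => ?_⟩
  have hGi : DCoh.IsQCohD (G⟦-i⟧) := QCohD.HomVanish.isQCohD_shift hGq _
  apply (homEquivD adj _ hGi K).injective
  haveI : ((DCoh.Rpush f).obj (G⟦-i⟧)).IsLE (b + N + i) := by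
    haveI : DerivedCategory.TStructure.t.IsLE (((DCoh.Rpush f).obj G)⟦-i⟧) (b + N + i) :=
      DerivedCategory.TStructure.t.isLE_shift ((DCoh.Rpush f).obj G) (b + N) (-i) (b + N + i) (by omega)
    exact DerivedCategory.TStructure.t.isLE_of_iso (X := ((DCoh.Rpush f).obj G)⟦-i⟧) (((DCoh.Rpush f).commShiftIso (-i)).app G).symm _
  haveI : DerivedCategory.TStructure.t.IsGE K.obj c := hK
  exact (DerivedCategory.TStructure.t.zero (homEquivD adj _ hGi K φ) (b + N + i) c (by omega)).trans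
    (DerivedCategory.TStructure.t.zero _ (b + N + i) c (by omega)).symm

include adj in
/-- The bound is uniform. -/
theorem exists_uniform :
    ∃ N : ℕ, ∀ (K : DCoh.DQCoh Y) (c : ℤ), (∀ i : ℤ, i ≤ c → IsZero (DCoh.HD K.obj i)) →
      ∀ i : ℤ, i ≤ c - N → IsZero (DCoh.HD (a.obj K).obj i) := by
  classical
  haveI := hasLpull f
  letI := rpushCommShift f
  haveI := rpush_isTriangulated f
  by_contra hne
  push Not at hne
  choose K c hK i hi hnz using hne
  let J := ULift.{u} ℕ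
  let V : J → DCoh.D Y := fun n => (K n.down).obj⟦c n.down⟧
  have hV : ∀ n, DCoh.IsQCohD (V n) := fun n => QCohD.HomVanish.isQCohD_shift (K n.down).property _
  let S : DCoh.DQCoh Y := ⟨∐ V, S1040.result Y V hV⟩
  have hge : S.obj.IsGE 1 := by
    haveI : ∀ n, (V n).IsGE 1 := fun n => by
      haveI : (K n.down).obj.IsGE (c n.down + 1) := (DerivedCategory.isGE_iff _ _).2 fun j hj => hK _ _ (by omega)
      exact DerivedCategory.TStructure.t.isGE_shift (K n.down).obj (c n.down + 1) (c n.down) 1 (by omega)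
    rw [DerivedCategory.isGE_iff]
    intro j hj
    exact isZero_hd_sigma V j fun n => DerivedCategory.isZero_of_isGE (V n) 1 j hj
  obtain ⟨m, hm⟩ := exists_isGE adj S 1 hge
  let n : ℕ := (-m).toNat + 1
  let T : DCoh.DQCoh Y := ⟨V ⟨n⟩, hV ⟨n⟩⟩
  let r : S ⟶ T := ObjectProperty.homMk (QCohD.FinSupp.proj V ⟨n⟩)
  let s : T ⟶ S := ObjectProperty.homMk (Sigma.ι V ⟨n⟩)
  have hsr : s ≫ r = 𝟙 T := ObjectProperty.hom_ext _ (by
    show Sigma.ι V ⟨n⟩ ≫ QCohD.FinSupp.proj V ⟨n⟩ = 𝟙 _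
    rw [QCohD.FinSupp.proj, Sigma.ι_desc, dif_pos rfl, eqToHom_refl])
  haveI hT : (a.obj T).obj.IsGE m := by
    haveI := hm
    haveI : IsSplitMono (a.map s).hom := IsSplitMono.mk' ⟨(a.map r).hom, by
      show (a.map s ≫ a.map r).hom = _
      rw [← a.map_comp, hsr, CategoryTheory.Functor.map_id]
      rfl⟩
    rw [DerivedCategory.isGE_iff]
    exact fun j hj => IsZero.of_mono ((DerivedCategory.homologyFunctor X.Modules j).map (a.map s).hom)
      (DerivedCategory.isZero_of_isGE (a.obj S).obj m j hj)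
  -- `a` commutes with shifts up to isomorphism
  obtain ⟨eA⟩ : Nonempty ((a.obj T).obj ≅ (a.obj (K n)).obj⟦c n⟧) := nonempty_shift adj (K n) (c n) T (Iso.refl _)
  have hz : IsZero (DCoh.HD (a.obj T).obj (i n - c n)) :=
    DerivedCategory.isZero_of_isGE _ m _ (by have := hi n; omega)
  refine hnz n (IsZero.of_iso (IsZero.of_iso hz ((DerivedCategory.homologyFunctor X.Modules (i n - c n)).mapIso eA).symm) ?_)
  exact (((DerivedCategory.homologyFunctor X.Modules 0).shiftIso (c n) (i n - c n) (i n) (by omega)).app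
    (a.obj (K n)).obj).symm

end BoundedBelow

end Groth.Agent.LeadBrown
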