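import Groth.Agent.LeadBrown.BCAdjoint
import Groth.Agent.LeadBrown.RHomPullPC
import Groth.Agent.H8Props.ClosedBaseChange
import Groth.Agent.H16Derived.Exchange.ProperRel
import Groth.Agent.H16Derived.Dual.PseudoCoh
import Groth.Agent.H16Derived.KFlat.PerfFlat

/-!
# Base change for the right adjoint, pseudo-coherent case
-/

set_option autoImplicit false
set_option linter.style.haveILetI false

universe u

open CategoryTheory CategoryTheory.Limits AlgebraicGeometry

attribute [local instance] HasDerivedCategory.standard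

namespace Groth.Agent.LeadBrown

open Groth.Agent.H16Derived

/-- Flat inverse images preserve lower bounds. -/
theorem isGE_lpull_flat {X X' : Scheme.{u}} (g : X' ⟶ X) [Flat g] [DCoh.HasLpull g] (M : DCoh.D X) (a : ℤ)
    (hM : M.IsGE a) : ((DCoh.Lpull g).obj M).IsGE a := by
  haveI := KFlat.Stalk.preservesFiniteLimits_pullback_of_flat g
  obtain ⟨e⟩ := H8Props.ClosedBC.nonempty_lpull_flat g M
  let F := Scheme.Modules.pullback g
  haveI : F.Additive := Functor.additive_of_preserves_binary_products _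
  refine (DerivedCategory.isGE_iff _ _).2 fun i hi => ?_
  let P := DerivedCategory.Q.objPreimage M
  refine IsZero.of_iso ?_ ((DerivedCategory.homologyFunctor X'.Modules i).mapIso (e ≪≫
    F.mapDerivedCategory.mapIso (DerivedCategory.Q.objObjPreimageIso M).symm ≪≫
      F.mapDerivedCategoryFactors.app P) ≪≫ (DerivedCategory.homologyFunctorFactors X'.Modules i).app _ ≪≫
      (P.sc i).mapHomologyIso F)
  exact F.map_isZero (IsZero.of_iso (DerivedCategory.isZero_of_isGE M a i hi)
    (((DerivedCategory.homologyFunctorFactors X.Modules i).app P).symm ≪≫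
      (DerivedCategory.homologyFunctor X.Modules i).mapIso (DerivedCategory.Q.objObjPreimageIso M)))

/-- The hypothesis of the base change theorem, for pseudo-coherent direct images. -/
theorem hw_of_pseudoCoherent {X Y Y' : Scheme.{u}} {f : X ⟶ Y} [DCoh.HasRpush f] {g : Y' ⟶ Y}
    [DCoh.HasRpush g] [DCoh.HasLpull g] (d : ℤ)
    (hd : ∀ (M : DCoh.D Y) (a : ℤ), M.IsGE a → ((DCoh.Lpull g).obj M).IsGE (a - d))
    (hp : ∀ Q : DCoh.D X, DCoh.IsPerfect Q → ∀ m : ℤ, DCoh.IsPseudoCoherentD m ((DCoh.Rpush f).obj Q))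
    {K : DCoh.D Y} (hK : DCoh.IsQCohD K) (c : ℤ) (hc : ∀ i : ℤ, i < c → IsZero (DCoh.HD K i))
    (Q : DCoh.D X) (hQ : DCoh.IsPerfect Q) :
    IsIso (wR g ((DCoh.Rpush f).obj Q) K) ∧ DCoh.IsQCohD ((Dual.R ((DCoh.Rpush f).obj Q)).obj K) := by
  haveI : K.IsGE c := (DerivedCategory.isGE_iff _ _).2 hc
  exact ⟨isIso_wR_pseudoCoherent g d hd (hp Q hQ) K c, Dual.isQCohD_R (hp Q hQ) hK c⟩

/-- Proper direct images of perfect objects are pseudo-coherent over Noetherian bases. -/
theorem pseudoCoherent_rpush_of_perfect {X Y : Scheme.{u}} [IsNoetherian Y] (f : X ⟶ Y) [IsProper f]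
    [DCoh.HasRpush f] (Q : DCoh.D X) (hQ : DCoh.IsPerfect Q) (m : ℤ) :
    DCoh.IsPseudoCoherentD m ((DCoh.Rpush f).obj Q) := by
  haveI : IsLocallyNoetherian X := LocallyOfFiniteType.isLocallyNoetherian f
  haveI : CompactSpace X := QuasiCompact.compactSpace_of_compactSpace f
  obtain ⟨h1, a, b, ha, hb⟩ := KFlat.Stalk.isCohD_and_bounded_of_isPerfect hQ
  haveI := ha
  haveI := hb
  obtain ⟨h2, c, h3⟩ := Exchange.isCohD_rpush_proper f Q a b h1
  haveI := h3
  exact Dual.isPseudoCoherentD_of_isCohD c h2 m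

end Groth.Agent.LeadBrown
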