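import Groth.Agent.LeadBrown.SumsBaseChange
import Groth.Agent.LeadBrown.BCAdjointPC
import Groth.Agent.H16Derived.Dual.Main
import Groth.Agent.H16Derived.PnD.Unit
import Groth.Agent.H16Derived.PnD.Free
import Groth.Agent.H10Coh.AffineLeray

/-!
# `Rf_* a ≅ RHom(Rf_* O, -)` on bounded below objects
-/

set_option autoImplicit false
set_option linter.style.haveILetI false
set_option linter.unusedSectionVars false

universe u

open CategoryTheory CategoryTheory.Limits AlgebraicGeometry CategoryTheory.Pretriangulated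

attribute [local instance] HasDerivedCategory.standard

namespace Groth.Agent.LeadBrown

open Groth.Agent.H16Derived Groth.Agent.H16Derived.QCohD
open Groth.Agent.H16Derived.KFlat.Stalk (hasLpull)
open Groth.Agent.H16Derived.Dual (T R adjR one rightUnit oneIso isQCohD_of_isPerfect)

variable {X Y : Scheme.{u}}

/-- `RHom(O, -)` is the identity. -/
noncomputable def rOneIso (X : Scheme.{u}) : R (one X) ≅ 𝟭 (DCoh.D X) :=
  (adjR (one X)).rightAdjointUniq (Adjunction.id.ofNatIsoLeft (rightUnit X).symm)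

theorem isPerfect_one' (X : Scheme.{u}) : DCoh.IsPerfect (one X) :=
  KFlat.Stalk.isPerfect_of_iso oneIso (PnD.isPerfect_one X)

/-- `RHom(k', -) ≅ RHom(k, -)` along `k ≅ k'`. -/
noncomputable def isoR {k k' : DCoh.D X} (e : k ≅ k') : R k' ≅ R k :=
  (adjR k').rightAdjointUniq ((adjR k).ofNatIsoLeft ((T X).flip.mapIso e))

/-- Direct image of `O` along an affine morphism. -/
theorem nonempty_rpush_one (f : X ⟶ Y) [IsAffineHom f] [DCoh.HasRpush f] :
    Nonempty ((DCoh.Rpush f).obj (one X) ≅ DCoh.inD Y ((Coh.push f).obj (Coh.structureModule X))) := by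
  haveI : (Coh.structureModule X).IsQuasicoherent := H10Coh.isQuasicoherent_unit
  obtain ⟨e⟩ := PnD.nonempty_rpush_inD f (Coh.structureModule X) fun p hp => by
    obtain ⟨m, rfl⟩ := Nat.exists_eq_succ_of_ne_zero (show p ≠ 0 by omega)
    exact H10Coh.isZero_rpushAb_of_isAffineHom f _ m
  exact ⟨(DCoh.Rpush f).mapIso oneIso.symm ≪≫ e⟩

variable [CompactSpace X] [QuasiSeparatedSpace X] [CompactSpace Y] [QuasiSeparatedSpace Y]
  (f : X ⟶ Y) [DCoh.HasRpush f] [DCoh.HasLpull f] [QuasiCompact f] [QuasiSeparated f]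
  {hf : DCoh.RpushPreservesQCoh f} {a : DCoh.DQCoh Y ⥤ DCoh.DQCoh X} (adj : DCoh.RpushQ f hf ⊣ a)

/-- The duality transformation `Rf_* a ⟶ RHom(Rf_* O, -)`. -/
noncomputable def dualTrans :
    a ⋙ DCoh.RpushQ f hf ⋙ ObjectProperty.ι _ ⟶ ObjectProperty.ι _ ⋙ R ((DCoh.Rpush f).obj (one X)) where
  app K := (DCoh.Rpush f).map ((rOneIso X).inv.app (a.obj K).obj) ≫ alphaR f (one X) (adj.counit.app K).hom
  naturality K L k := by
    show (DCoh.Rpush f).map (a.map k).hom ≫ (DCoh.Rpush f).map ((rOneIso X).inv.app _) ≫ _ =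
      ((DCoh.Rpush f).map ((rOneIso X).inv.app _) ≫ _) ≫ (R _).map k.hom
    have hn := (rOneIso X).inv.naturality (a.map k).hom
    simp only [Functor.id_map] at hn
    rw [← Functor.map_comp_assoc, hn, Functor.map_comp_assoc, Category.assoc]
    refine congrArg (_ ≫ ·) (alphaR_naturality f (one X) (adj.counit.app K).hom (adj.counit.app L).hom
      (a.map k).hom k.hom ?_)
    exact congrArg (fun t => t.hom) (adj.counit.naturality k)

/-- Duality, in sheafified form, for `Q = O`. -/
theorem isIso_dualTrans (K : DCoh.DQCoh Y)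
    (h : DCoh.IsQCohD ((R ((DCoh.Rpush f).obj (one X))).obj K.obj)) : IsIso ((dualTrans f adj).app K) := by
  haveI := isIso_alphaR f (isQCohD_of_isPerfect (isPerfect_one' X)) (adj.counit.app K).hom
    (universal_trace adj K) (hf _ (isQCohD_iso ((rOneIso X).app _).symm (a.obj K).property)) h
  show IsIso ((DCoh.Rpush f).map ((rOneIso X).inv.app (a.obj K).obj) ≫ _)
  infer_instance

include adj in
/-- `Rf_* a ≅ RHom(Rf_* O, -)` on bounded below objects, for pseudo-coherent `Rf_* O`. -/
theorem nonempty_rpush_rightAdjoint_R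
    (hp : ∀ m : ℤ, DCoh.IsPseudoCoherentD m ((DCoh.Rpush f).obj (one X))) :
    Nonempty (Dual3.bddι Y ⋙ a ⋙ DCoh.RpushQ f hf ⋙ ObjectProperty.ι _ ≅
      Dual3.bddι Y ⋙ ObjectProperty.ι _ ⋙ R ((DCoh.Rpush f).obj (one X))) := by
  let τ := Functor.whiskerLeft (Dual3.bddι Y) (dualTrans f adj)
  haveI : ∀ K, IsIso (τ.app K) := fun K => by
    obtain ⟨c, hc⟩ := K.property
    haveI := hc
    exact isIso_dualTrans f adj K.obj (Dual.isQCohD_R hp K.obj.property c)
  haveI := NatIso.isIso_of_isIso_app τ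
  exact ⟨asIso τ⟩

end Groth.Agent.LeadBrown
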