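import Groth.Agent.H16Derived.Dual.Unit
import Mathlib.Algebra.Homology.BifunctorShift

/-!
# `- ⊗^L O[n]` is the shift
-/

set_option autoImplicit false
set_option linter.style.haveILetI false
set_option backward.isDefEq.respectTransparency false

universe u

open CategoryTheory CategoryTheory.Limits AlgebraicGeometry

attribute [local instance] HasDerivedCategory.standard

namespace Groth.Agent.LeadBrown

open Groth.Agent.H16Derived.Dual
open Groth.Agent.H16Derived Groth.Agent.H16Derived.KFlat

variable (X : Scheme.{u})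

/-- `- ⊗ O[n] = -[n]` on complexes. -/
noncomputable def tensorSIso (n : ℤ) :
    (DCoh.tensorCx (X := X)).flip.obj (S X n) ≅ shiftFunctor (CochainComplex X.Modules ℤ) n :=
  (NatIso.ofComponents (fun K => ((DCoh.tensorCx (X := X)).obj K).commShiftIso n |>.app (S₀ X))
    (fun {K L} f => by
      exact (NatTrans.shift_app_comm ((DCoh.tensorBi (X := X)).map₂CochainComplex.map f) n (S₀ X)).symm) :
      (DCoh.tensorCx (X := X)).flip.obj (S X n) ≅
        (DCoh.tensorCx (X := X)).flip.obj (S₀ X) ⋙ shiftFunctor _ n) ≪≫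
    Functor.isoWhiskerRight (tensorS₀Iso X) (shiftFunctor _ n) ≪≫ Functor.leftUnitor _

/-- `- ⊗^L O[n] = -[n]`. -/
noncomputable def TFlipShiftIso (n : ℤ) : (T X).flip.obj (o X n) ≅ shiftFunctor (DCoh.D X) n :=
  haveI : ∀ L, IsIso ((εFst (S X n)).app L) := fun L => isIso_ε L _ (Or.inr (isKFlat_S X n))
  haveI := NatIso.isIso_of_isIso_app (εFst (S X n))
  Localization.liftNatIso DerivedCategory.Q (HomologicalComplex.quasiIso X.Modules (ComplexShape.up ℤ))
    (DerivedCategory.Q ⋙ (T X).flip.obj (o X n)) (DerivedCategory.Q ⋙ shiftFunctor (DCoh.D X) n) _ _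
    (asIso (εFst (S X n)) ≪≫ Functor.isoWhiskerRight (tensorSIso X n) DerivedCategory.Q ≪≫
      DerivedCategory.Q.commShiftIso n)

end Groth.Agent.LeadBrown
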