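import Groth.Agent.H16Derived.ProjFormula.PTri
import Mathlib.CategoryTheory.Abelian.DiagramLemmas.Four
import Mathlib.CategoryTheory.Triangulated.HomologicalFunctor

/-!
# Four lemmas for natural transformations between exact functors
-/

set_option autoImplicit false
set_option linter.style.haveILetI false

universe v u v' u' v'' u''

open CategoryTheory CategoryTheory.Limits CategoryTheory.Pretriangulated

namespace Groth.Agent.LeadBrown

open Groth.Agent.H16Derived.ProjFormula (PTri)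

variable {C : Type u} [Category.{v} C] [Preadditive C] [HasZeroObject C] [HasShift C ℤ]
  [∀ n : ℤ, (shiftFunctor C n).Additive] [Pretriangulated C]
  {D : Type u'} [Category.{v'} D] [Preadditive D] [HasZeroObject D] [HasShift D ℤ]
  [∀ n : ℤ, (shiftFunctor D n).Additive] [Pretriangulated D]
  {E : Type u''} [Category.{v''} E] [Abelian E] (H : D ⥤ E) [H.IsHomological]

/-- A homological functor after an exact functor is exact in the middle. -/
theorem ptri_exact {A : C ⥤ D} (hA : PTri A) {T : Triangle C} (hT : T ∈ distTriang C) :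
    ∃ w : (A ⋙ H).map T.mor₁ ≫ (A ⋙ H).map T.mor₂ = 0, (ShortComplex.mk _ _ w).Exact := by
  obtain ⟨T', hT', e₁, e₂, e₃, h₁, h₂⟩ := hA T hT
  have hz : A.map T.mor₁ ≫ A.map T.mor₂ = 0 := hA.zero hT
  refine ⟨by show H.map _ ≫ H.map _ = 0; rw [← H.map_comp, hz, H.map_zero], ?_⟩
  refine ShortComplex.exact_of_iso (ShortComplex.isoMk (H.mapIso e₁) (H.mapIso e₂) (H.mapIso e₃) ?_ ?_)
    (H.map_distinguished_exact T' hT')
  · show H.map e₁.hom ≫ H.map (A.map T.mor₁) = H.map T'.mor₁ ≫ H.map e₂.hom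
    rw [← H.map_comp, ← H.map_comp, h₁]
  · show H.map e₂.hom ≫ H.map (A.map T.mor₂) = H.map T'.mor₂ ≫ H.map e₃.hom
    rw [← H.map_comp, ← H.map_comp, h₂]

variable {A B : C ⥤ D} (hA : PTri A) (hB : PTri B) (τ : A ⟶ B) {T : Triangle C} (hT : T ∈ distTriang C)

include hA hB hT in
/-- The epi four lemma. -/
theorem epi_app₃ (h₂ : Epi (H.map (τ.app T.obj₂))) (h₁' : Epi (H.map (τ.app (T.obj₁⟦(1 : ℤ)⟧))))
    (h₂' : Mono (H.map (τ.app (T.obj₂⟦(1 : ℤ)⟧)))) : Epi (H.map (τ.app T.obj₃)) := by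
  obtain ⟨w₁, e₁⟩ := ptri_exact H hA (rot_of_distTriang _ hT)
  obtain ⟨w₂, e₂⟩ := ptri_exact H hA (rot_of_distTriang _ (rot_of_distTriang _ hT))
  obtain ⟨v₁, d₁⟩ := ptri_exact H hB (rot_of_distTriang _ hT)
  obtain ⟨v₂, d₂⟩ := ptri_exact H hB (rot_of_distTriang _ (rot_of_distTriang _ hT))
  let R₁ := ComposableArrows.mk₃ ((A ⋙ H).map T.mor₂) ((A ⋙ H).map T.mor₃) ((A ⋙ H).map (-T.mor₁⟦(1 : ℤ)⟧'))
  let R₂ := ComposableArrows.mk₃ ((B ⋙ H).map T.mor₂) ((B ⋙ H).map T.mor₃) ((B ⋙ H).map (-T.mor₁⟦(1 : ℤ)⟧'))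
  let φ : R₁ ⟶ R₂ := ComposableArrows.homMk₃ (H.map (τ.app T.obj₂)) (H.map (τ.app T.obj₃))
    (H.map (τ.app (T.obj₁⟦(1 : ℤ)⟧))) (H.map (τ.app (T.obj₂⟦(1 : ℤ)⟧)))
    ((Functor.whiskerRight τ H).naturality _) ((Functor.whiskerRight τ H).naturality _)
    ((Functor.whiskerRight τ H).naturality _)
  exact Abelian.epi_of_epi_of_epi_of_mono φ
    (ComposableArrows.exact_of_δ₀ (ComposableArrows.exact₂_mk _ w₁ e₁) (ComposableArrows.exact₂_mk _ w₂ e₂))
    (ComposableArrows.exact_of_δ₀ (ComposableArrows.exact₂_mk _ v₁ d₁) (ComposableArrows.exact₂_mk _ v₂ d₂))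
    h₂ h₁' h₂'

include hA hB hT in
/-- The mono four lemma. -/
theorem mono_app₃ (h₁ : Epi (H.map (τ.app T.obj₁))) (h₂ : Mono (H.map (τ.app T.obj₂)))
    (h₁' : Mono (H.map (τ.app (T.obj₁⟦(1 : ℤ)⟧)))) : Mono (H.map (τ.app T.obj₃)) := by
  obtain ⟨w₁, e₁⟩ := ptri_exact H hA hT
  obtain ⟨w₂, e₂⟩ := ptri_exact H hA (rot_of_distTriang _ hT)
  obtain ⟨v₁, d₁⟩ := ptri_exact H hB hT
  obtain ⟨v₂, d₂⟩ := ptri_exact H hB (rot_of_distTriang _ hT)
  let R₁ := ComposableArrows.mk₃ ((A ⋙ H).map T.mor₁) ((A ⋙ H).map T.mor₂) ((A ⋙ H).map T.mor₃)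
  let R₂ := ComposableArrows.mk₃ ((B ⋙ H).map T.mor₁) ((B ⋙ H).map T.mor₂) ((B ⋙ H).map T.mor₃)
  let φ : R₁ ⟶ R₂ := ComposableArrows.homMk₃ (H.map (τ.app T.obj₁)) (H.map (τ.app T.obj₂))
    (H.map (τ.app T.obj₃)) (H.map (τ.app (T.obj₁⟦(1 : ℤ)⟧)))
    ((Functor.whiskerRight τ H).naturality _) ((Functor.whiskerRight τ H).naturality _)
    ((Functor.whiskerRight τ H).naturality _)
  exact Abelian.mono_of_epi_of_mono_of_mono φ
    (ComposableArrows.exact_of_δ₀ (ComposableArrows.exact₂_mk _ w₁ e₁) (ComposableArrows.exact₂_mk _ w₂ e₂))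
    (ComposableArrows.exact_of_δ₀ (ComposableArrows.exact₂_mk _ v₁ d₁) (ComposableArrows.exact₂_mk _ v₂ d₂))
    h₁ h₂ h₁'

end Groth.Agent.LeadBrown
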