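import Groth.Agent.H16Derived.Thomason.HocolimHD

/-!
# Homotopy colimits of eventually constant systems
-/

set_option autoImplicit false
set_option linter.style.haveILetI false

universe u

open CategoryTheory CategoryTheory.Limits CategoryTheory.Pretriangulated AlgebraicGeometry

attribute [local instance] HasDerivedCategory.standard

namespace Groth.Agent.LeadBrown

open Groth.Agent.H16Derived.Thomason (preservesColimitsOfShape_hd_nat)

/-- A system mapping to `K` whose cohomology is eventually that of `K` has homotopy colimit `K`. -/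
theorem isHocolim_of_eventually {X : Scheme.{u}} [HasColimitsOfShape (Discrete ℕ) (DCoh.D X)]
    {K : DCoh.D X} (E : ℕ → DCoh.D X) (f : ∀ n, E n ⟶ E (n + 1)) (i : ∀ n, E n ⟶ K)
    (hfi : ∀ n, f n ≫ i (n + 1) = i n)
    (hiso : ∀ j : ℤ, ∃ N : ℕ, ∀ n, N ≤ n → IsIso ((DerivedCategory.homologyFunctor X.Modules j).map (i n))) :
    DerLim.IsHocolim E f K i := by
  obtain ⟨L, d, c, hd⟩ := distinguished_cocone_triangle (𝟙 (∐ E) - DerLim.shiftMap E f)
  let l : ∀ n, E n ⟶ L := fun n => Sigma.ι E n ≫ d
  have hdl : Sigma.desc l = d := Sigma.hom_ext _ _ fun n => Sigma.ι_desc _ _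
  have hL : DerLim.IsHocolim E f L l := ⟨c, by rw [hdl]; exact hd⟩
  obtain ⟨φ, hφ⟩ := Triangle.yoneda_exact₂ _ hd (Sigma.desc i) (by
    show (𝟙 (∐ E) - DerLim.shiftMap E f) ≫ Sigma.desc i = 0
    refine Sigma.hom_ext _ _ fun n => ?_
    simp [DerLim.shiftMap, hfi])
  change L ⟶ K at φ
  change Sigma.desc i = d ≫ φ at hφ
  have hlφ : ∀ n, l n ≫ φ = i n := fun n => by
    show (Sigma.ι E n ≫ d) ≫ φ = i n
    rw [Category.assoc, ← hφ, Sigma.ι_desc]
  haveI : IsIso φ := by
    refine (DerivedCategory.isIso_iff _ φ).2 fun j => ?_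
    let H := DerivedCategory.homologyFunctor X.Modules j
    haveI := preservesColimitsOfShape_hd_nat (X := X) j
    haveI : AB5OfSize.{0, 0} X.Modules := AB5OfSize_shrink.{0, 0, u, u} _
    haveI : HasExactColimitsOfShape ℕ X.Modules := AB5OfSize.ofShape ℕ
    obtain ⟨e, he⟩ := S1034.result H E f L l hL
    let F := Functor.ofSequence (fun n => H.map (f n))
    obtain ⟨N, hiN⟩ := hiso j
    have hsucc : ∀ n, N ≤ n → IsIso (H.map (f n)) := fun n hn => by
      haveI := hiN n hn
      haveI := hiN (n + 1) (by omega)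
      haveI : IsIso (H.map (f n) ≫ H.map (i (n + 1))) := by rw [← H.map_comp, hfi]; infer_instance
      exact IsIso.of_isIso_comp_right (H.map (f n)) (H.map (i (n + 1)))
    have hconst : F.IsEventuallyConstantFrom N := by
      intro k g
      obtain ⟨hNk⟩ : Nonempty (PLift (N ≤ k)) := ⟨⟨g.le⟩⟩
      rw [Subsingleton.elim g (homOfLE hNk.down)]
      obtain ⟨t, rfl⟩ := Nat.exists_eq_add_of_le hNk.down
      induction t with
      | zero => exact (Subsingleton.elim (𝟙 N) (homOfLE hNk.down)) ▸ inferInstanceAs (IsIso (F.map (𝟙 N)))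
      | succ t ih =>
        rw [show homOfLE hNk.down = homOfLE (Nat.le_add_right N t) ≫ homOfLE (Nat.le_succ (N + t)) from
          Subsingleton.elim _ _, F.map_comp]
        haveI := ih (homOfLE (Nat.le_add_right N t)) ⟨Nat.le_add_right N t⟩
        haveI : IsIso (F.map (homOfLE (Nat.le_succ (N + t)))) := by
          rw [show F.map (homOfLE (Nat.le_succ (N + t))) = H.map (f (N + t)) from Functor.ofSequence_map_homOfLE_succ _ _]
          exact hsucc _ (Nat.le_add_right N t)
        exact IsIso.comp_isIso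
    haveI : IsIso (colimit.ι (Functor.ofSequence fun n => H.map (f n)) N) := hconst.isIso_ι_of_isColimit (colimit.isColimit F)
    haveI : IsIso (H.map (l N)) := by rw [← he N]; exact @IsIso.comp_isIso _ _ _ _ _ _ _ (by assumption) inferInstance
    haveI : IsIso (H.map (l N) ≫ H.map φ) := by rw [← H.map_comp, hlφ]; exact hiN N le_rfl
    exact IsIso.of_isIso_comp_left (H.map (l N)) (H.map φ)
  refine ⟨inv φ ≫ c, isomorphic_distinguished _ hd _
    (Triangle.isoMk _ _ (Iso.refl _) (Iso.refl _) (asIso φ).symm ?_ ?_ ?_)⟩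
  · exact (Category.comp_id _).trans (Category.id_comp _).symm
  · show Sigma.desc i ≫ inv φ = 𝟙 _ ≫ d
    rw [hφ, Category.assoc, IsIso.hom_inv_id, Category.comp_id, Category.id_comp]
  · show (inv φ ≫ c) ≫ (𝟙 (∐ E))⟦(1 : ℤ)⟧' = inv φ ≫ c
    rw [CategoryTheory.Functor.map_id, Category.comp_id]

end Groth.Agent.LeadBrown
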