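import Groth.Agent.LeadBrown.QCohTri
import Groth.Agent.LeadBrown.Telescope
import Groth.Agent.LeadBrown.FourLemma
import Groth.Agent.H10Coh.TildeExact
import Groth.Agent.H16Derived.TorTest.RpushAmp
import Mathlib.Algebra.Homology.DerivedCategory.TStructure

/-!
# A comparison criterion for exact functors on bounded below quasi-coherent objects
-/

set_option autoImplicit false
set_option linter.style.haveILetI false
set_option linter.unusedSectionVars false
set_option backward.isDefEq.respectTransparency false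

universe u

open CategoryTheory CategoryTheory.Limits AlgebraicGeometry CategoryTheory.Pretriangulated ZeroObject
open DerivedCategory (singleFunctor homologyFunctor)
open DerivedCategory.TStructure (t)

attribute [local instance] HasDerivedCategory.standard

namespace Groth.Agent.LeadBrown

open Groth.Agent.H16Derived Groth.Agent.H16Derived.Thomason Groth.Agent.H16Derived.KFlat
open Groth.Agent.H16Derived.KFlat.Stalk (rd rpushCommShift rpush_isTriangulated isGE_rpush)
open Groth.Agent.H16Derived.ProjFormula (PTri)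
open Groth.Agent.H16Derived.QCohD (isQCohD_iso)
attribute [local instance] hasCoproducts_D small_hom

/-- Truncation does not change cohomology below. -/
theorem isIso_homologyMap_truncLEι {X : Scheme.{u}} (M : DCoh.D X) (n j : ℤ) (h : j ≤ n) :
    IsIso ((homologyFunctor X.Modules j).map ((t.truncLEι n).app M)) := by
  have hT := t.triangleLEGE_distinguished n (n + 1) rfl M
  let T := (t.triangleLEGE n (n + 1) rfl).obj M
  haveI : t.IsGE T.obj₃ (n + 1) := inferInstanceAs (t.IsGE ((t.truncGE (n + 1)).obj M) (n + 1))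
  have h₀ : IsZero ((homologyFunctor X.Modules j).obj T.obj₃) := DerivedCategory.isZero_of_isGE _ (n + 1) j (by omega)
  have h₁ : IsZero ((homologyFunctor X.Modules (j - 1)).obj T.obj₃) := DerivedCategory.isZero_of_isGE _ (n + 1) _ (by omega)
  haveI : Epi ((homologyFunctor X.Modules j).map T.mor₁) :=
    (DerivedCategory.HomologySequence.epi_homologyMap_mor₁_iff T hT j).2 (h₀.eq_of_tgt _ _)
  haveI : Mono ((homologyFunctor X.Modules j).map T.mor₁) :=
    (DerivedCategory.HomologySequence.mono_homologyMap_mor₁_iff T hT (j - 1) j (by omega)).2 (h₁.eq_of_src _ _)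
  exact isIso_of_mono_of_epi ((homologyFunctor X.Modules j).map T.mor₁)

/-- Truncation preserves quasi-coherence. -/
theorem isQCohD_truncLE {X : Scheme.{u}} (M : DCoh.D X) (hM : DCoh.IsQCohD M) (n : ℤ) :
    DCoh.IsQCohD ((t.truncLE n).obj M) := fun i => by
  by_cases h : i ≤ n
  · haveI := isIso_homologyMap_truncLEι M n i h
    exact QCohD.isQCoh_iso (asIso ((homologyFunctor X.Modules i).map ((t.truncLEι n).app M))).symm (hM i)
  · exact QCohD.isQCoh_isZero _ (DerivedCategory.isZero_of_isLE _ n i (by omega))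

variable {Y Z : Scheme.{u}} {F G : DCoh.DQCoh Y ⥤ DCoh.D Z} (τ : F ⟶ G) (hF : PTri F) (hG : PTri G)

/-- `τ` is invertible above degree `n` and epimorphic in degree `n` on all shifts of `L`. -/
def IsoAbove (n : ℤ) (L : DCoh.D Y) : Prop :=
  ∀ (k j : ℤ) (L' : DCoh.DQCoh Y), Nonempty (L'.obj ≅ L⟦k⟧) →
    (n < j + k → IsIso ((homologyFunctor Z.Modules j).map (τ.app L'))) ∧
      (n ≤ j + k → Epi ((homologyFunctor Z.Modules j).map (τ.app L')))

include hF hG in
theorem isoAbove_obj₃ {T : Triangle (DCoh.D Y)} (hT : T ∈ distTriang (DCoh.D Y)) {n : ℤ}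
    (h₁q : DCoh.IsQCohD T.obj₁) (h₁ : IsoAbove τ (n + 1) T.obj₁) (h₂ : IsoShifts τ T.obj₂) :
    IsoAbove τ n T.obj₃ := fun k j L' ⟨e⟩ => by
  obtain ⟨T', hT', e₁, e₂, e₃⟩ := exists_triangle_lift (Triangle.shift_distinguished _ hT k)
    (QCohD.HomVanish.isQCohD_shift h₁q k) (QCohD.HomVanish.isQCohD_shift h₂.1 k) (isQCohD_iso e L'.property)
  let H := homologyFunctor Z.Modules j
  have i₂ : IsIso (τ.app T'.obj₂) := h₂.2 k _ ⟨eqToIso (congrArg (fun A => A.obj) e₂)⟩
  have i₂' : IsIso (τ.app (T'.obj₂⟦(1 : ℤ)⟧)) := h₂.2 (k + 1) _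
    ⟨shiftObjIso _ 1 ≪≫ (shiftFunctor _ (1 : ℤ)).mapIso (eqToIso (congrArg (fun A => A.obj) e₂)) ≪≫
      ((shiftFunctorAdd (DCoh.D Y) k 1).app T.obj₂).symm⟩
  have i₁ := h₁ k j _ ⟨eqToIso (congrArg (fun A => A.obj) e₁)⟩
  have i₁' := h₁ (k + 1) j (T'.obj₁⟦(1 : ℤ)⟧)
    ⟨shiftObjIso _ 1 ≪≫ (shiftFunctor _ (1 : ℤ)).mapIso (eqToIso (congrArg (fun A => A.obj) e₁)) ≪≫
      ((shiftFunctorAdd (DCoh.D Y) k 1).app T.obj₁).symm⟩
  haveI : H.IsHomological := inferInstance
  have hepi : n ≤ j + k → Epi (H.map (τ.app T'.obj₃)) := fun h =>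
    epi_app₃ H hF hG τ hT' inferInstance (i₁'.2 (by omega)) inferInstance
  have hmono : n < j + k → Mono (H.map (τ.app T'.obj₃)) := fun h =>
    haveI := i₁'.1 (by omega)
    mono_app₃ H hF hG τ hT' (i₁.2 (by omega)) inferInstance inferInstance
  let w : T'.obj₃ ≅ L' := eqToIso e₃ ≪≫ (ObjectProperty.isoMk _ e).symm
  have hw : H.map (τ.app L') = inv (H.map (F.map w.hom)) ≫ H.map (τ.app T'.obj₃) ≫ H.map (G.map w.hom) := by
    rw [IsIso.eq_inv_comp, ← H.map_comp, ← H.map_comp, τ.naturality]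
  rw [hw]
  refine ⟨fun h => ?_, fun h => ?_⟩
  · haveI := hmono h
    haveI := hepi h.le
    haveI : IsIso (H.map (τ.app T'.obj₃)) := isIso_of_mono_of_epi _
    infer_instance
  · haveI := hepi h
    infer_instance

theorem isoShifts_of_isoAbove {L : DCoh.D Y} (hL : DCoh.IsQCohD L) (h : ∀ n, IsoAbove τ n L) :
    IsoShifts τ L :=
  ⟨hL, fun k L' e => (DerivedCategory.isIso_iff _ _).2 fun j => (h (j + k - 1) k j L' e).1 (by omega)⟩

variable (hsumF : ∀ J : Type u, PreservesColimitsOfShape (Discrete J) F)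
  (hsum : ∀ (d : ℤ) {κ : Type u} (B : κ → DCoh.DQCoh Y) (c : Cofan B), (∀ k, (B k).obj.IsGE d) →
    IsColimit c → Nonempty (IsColimit (G.mapCocone c)))

include hF hG hsumF hsum in
theorem isoShifts_sum {κ : Type u} (A : κ → DCoh.D Y) (d : ℤ) (hd : ∀ k, (A k).IsGE d)
    (hA : ∀ k, IsoShifts τ (A k)) : IsoShifts τ (∐ A) :=
  ⟨S1040.result _ A fun k => (hA k).1, fun n L' ⟨e⟩ => by
    let B : κ → DCoh.DQCoh Y := fun k => ⟨(A k)⟦n⟧, QCohD.HomVanish.isQCohD_shift (hA k).1 n⟩
    obtain ⟨c, ⟨hc⟩, ⟨ec⟩⟩ := exists_isColimit_cofan B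
    haveI : ∀ k, IsIso (τ.app (B k)) := fun k => (hA k).2 n _ ⟨Iso.refl _⟩
    haveI := hsumF κ
    let hFc := isColimitOfPreserves F hc
    obtain ⟨hGc⟩ := hsum (d - n) B c (fun k => haveI := hd k; t.isGE_shift (A k) d n (d - n) (by omega)) hc
    haveI : ∀ j : Discrete κ, IsIso ((Functor.whiskerLeft (Discrete.functor B) τ).app j) := fun j =>
      ‹∀ k, IsIso (τ.app (B k))› j.as
    haveI := NatIso.isIso_of_isIso_app (Functor.whiskerLeft (Discrete.functor B) τ)
    let w := asIso (Functor.whiskerLeft (Discrete.functor B) τ)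
    have hτ : τ.app c.pt = (hFc.coconePointsIsoOfNatIso hGc w).hom := hFc.hom_ext fun j =>
      (τ.naturality _).trans (IsColimit.comp_coconePointsIsoOfNatIso_hom hFc hGc w j).symm
    have h : IsIso (τ.app c.pt) := by rw [hτ]; infer_instance
    exact (NatTrans.isIso_app_iff_of_iso τ (ObjectProperty.isoMk _
      (ec ≪≫ (PreservesCoproduct.iso (shiftFunctor (DCoh.D Y) n) A).symm ≪≫ e.symm))).1 h⟩

variable [CompactSpace Y] [QuasiSeparatedSpace Y] {R : CommRingCat.{u}} (v : Spec R ⟶ Y) [IsOpenImmersion v]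
  (hz : ∀ (L : DCoh.DQCoh Y) (c : ℤ), L.obj.IsGE c → SuppIn (Set.range v.base)ᶜ L.obj →
    IsZero (F.obj L) ∧ IsZero (G.obj L))
  (hb : ∀ r : ℕ, ∃ N : ℤ, ∀ (L : DCoh.DQCoh Y) (d : ℤ), L.obj.IsGE (d - r) → L.obj.IsLE d → ∀ i : ℤ,
    d + N < i → IsZero ((homologyFunctor Z.Modules i).obj (F.obj L)) ∧
      IsZero ((homologyFunctor Z.Modules i).obj (G.obj L)))
  (hO : ∀ (n : ℤ) (L : DCoh.DQCoh Y),
    Nonempty (L.obj ≅ (singleFunctor Y.Modules n).obj (Coh.structureModule Y)) → IsIso (τ.app L))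

include hF hG hsumF hsum hz hb hO in
/-- A transformation which is invertible on the shifts of `O`, between functors of bounded amplitude
which kill what lives off an affine open and commute with uniformly bounded below sums, is invertible
on bounded below objects. -/
theorem isIso_app_of_affine_bdd (L : DCoh.DQCoh Y) (c : ℤ) (hL : L.obj.IsGE c) : IsIso (τ.app L) := by
  haveI : QuasiCompact v := quasiCompact_of_compactSpace v
  haveI : QuasiSeparated v := inferInstance
  haveI := QCohD.hasRpush v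
  letI := rpushCommShift v
  haveI := rpush_isTriangulated v
  let adjV := restrictRpushAdj v
  let J := DCoh.Rpush v
  have hJge : ∀ (M : DCoh.D (Spec R)) (d : ℤ), M.IsGE d → (J.obj M).IsGE d := fun M d hM => by
    haveI := hM
    exact isGE_rpush v M d
  -- objects supported off `V`
  have h1 : ∀ (C : DCoh.D Y) (d : ℤ), DCoh.IsQCohD C → C.IsGE d → SuppIn (Set.range v.base)ᶜ C → IsoShifts τ C :=
    fun C d hq hd hs => ⟨hq, fun k L' ⟨e⟩ => by
      haveI := hd
      haveI := t.isGE_shift C d k (d - k) (by omega)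
      obtain ⟨zF, zG⟩ := hz L' (d - k) (t.isGE_of_iso e.symm (d - k)) (((isZero_rd_iff v _).1
        (IsZero.of_iso (((shiftFunctor _ k).map_isZero ((isZero_rd_iff v C).2 hs)))
          (((rd v).mapIso e) ≪≫ ((rd v).commShiftIso k).app C))))
      exact ⟨0, zF.eq_of_src _ _, zG.eq_of_src _ _⟩⟩
  -- compare an object with the direct image of its restriction
  have h2 : ∀ (A : DCoh.D Y) (d : ℤ), DCoh.IsQCohD A → A.IsGE d →
      ∃ (C : DCoh.D Y) (p : J.obj ((rd v).obj A) ⟶ C) (e : C ⟶ A⟦(1 : ℤ)⟧),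
        Triangle.mk (adjV.unit.app A) p e ∈ distTriang (DCoh.D Y) ∧ IsoShifts τ C := fun A d hA hd => by
    obtain ⟨C, p, e, he⟩ := distinguished_cocone_triangle (adjV.unit.app A)
    refine ⟨C, p, e, he, h1 C (d - 1) (QCohD.AffineUnit.isQCohD_obj₃ he hA
      (QCohD.isQCohD_rpush v (QCohD.isQCohD_rd _ hA))) ?_ ?_⟩
    · haveI := hd
      haveI := hJge _ d (isGE_rd' v A d hd)
      haveI : t.IsGE (J.obj ((rd v).obj A)) (d - 1) := t.isGE_of_ge _ (d - 1) d (by omega)
      haveI : t.IsGE (A⟦(1 : ℤ)⟧) (d - 1) := t.isGE_shift A d 1 (d - 1) (by omega)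
      exact t.isGE₂ _ (rot_of_distTriang _ he) (d - 1) ‹_› ‹_›
    · exact (isZero_rd_iff v C).1
        ((Triangle.isZero₃_iff_isIso₁ _ ((rd v).map_distinguished _ he)).2 (isIso_rd_map_unit v A))
  have hcone : ∀ {T : Triangle (DCoh.D Y)}, T ∈ distTriang (DCoh.D Y) → IsoShifts τ T.obj₁ →
      IsoShifts τ T.obj₂ → IsoShifts τ T.obj₃ := fun hT a b => isoShifts_obj₃ τ hF hG hT a b
  have hmid : ∀ {T : Triangle (DCoh.D Y)}, T ∈ distTriang (DCoh.D Y) → IsoShifts τ T.obj₁ →
      IsoShifts τ T.obj₃ → IsoShifts τ T.obj₂ := fun hT a b =>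
    hcone (inv_rot_of_distTriang _ hT) (b.shift τ (-1)) a
  let O : DCoh.D (Spec R) := DCoh.inD (Spec R) (Coh.structureModule (Spec R))
  have hσ : IsoShifts τ (J.obj O) := by
    let A := (singleFunctor Y.Modules 0).obj (Coh.structureModule Y)
    have hAq : DCoh.IsQCohD A := ProjFormula.isQCohD_single_structure Y 0
    have hA : IsoShifts τ A := ⟨hAq, fun k L' ⟨e⟩ => hO (0 - k) L'
      ⟨e ≪≫ ((DerivedCategory.singleFunctors Y.Modules).shiftIso k (0 - k) 0 (by omega)).app _⟩⟩
    obtain ⟨C, p, e, he, hC⟩ := h2 A 0 hAq inferInstance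
    exact IsoShifts.of_iso τ (J.mapIso (((Scheme.Modules.restrictFunctor v).mapDerivedCategorySingleFunctor 0).app _ ≪≫
      (singleFunctor _ 0).mapIso (Scheme.Modules.restrictUnitIso v))) (hmid he hA hC)
  -- sums of uniformly bounded below objects
  have hsum' : ∀ {κ : Type u} (A : κ → DCoh.D (Spec R)) (d : ℤ), (∀ k, (A k).IsGE d) →
      (∀ k, DCoh.IsQCohD (A k)) → (∀ k, IsoShifts τ (J.obj (A k))) → IsoShifts τ (J.obj (∐ A)) :=
    fun A d hd hq hA => by
      haveI := QCohD.isIso_rpush_sigma v A hq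
      exact (isoShifts_sum τ hF hG hsumF hsum _ d (fun k => hJge _ d (hd k)) hA).of_iso τ
        (asIso (Sigma.desc fun k => J.map (Sigma.ι A k)))
  -- modules
  obtain ⟨N₀, hN₀⟩ := QCohD.exists_bound v
  obtain ⟨N, hN⟩ := hb N₀
  have hmod : ∀ (M : (Spec R).Modules), Coh.IsQCoh M → IsoShifts τ (J.obj ((singleFunctor _ 0).obj M)) := by
    have hq : ∀ (M : (Spec R).Modules), Coh.IsQCoh M → DCoh.IsQCohD (J.obj ((singleFunctor _ 0).obj M)) :=
      fun M hM => QCohD.isQCohD_rpush v (TorTest.isQCohD_inD hM)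
    have key : ∀ (m : ℕ) (M : (Spec R).Modules), Coh.IsQCoh M →
        IsoAbove τ (N₀ + N + 1 - m) (J.obj ((singleFunctor _ 0).obj M)) := by
      intro m
      induction m with
      | zero =>
        intro M hM k j L' ⟨e⟩
        haveI : ((singleFunctor (Spec R).Modules 0).obj M).IsGE 0 := inferInstance
        haveI : t.IsGE (J.obj ((singleFunctor _ 0).obj M)) 0 := hJge _ 0 ‹_›
        haveI : t.IsLE (J.obj ((singleFunctor _ 0).obj M)) N₀ := (DerivedCategory.isLE_iff _ _).2 fun i hi =>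
          QCohD.isZero_rpush_of_isLE v hN₀ _ (TorTest.isQCohD_inD hM) 0 i (by omega)
        have hge : L'.obj.IsGE ((N₀ : ℤ) - k - N₀) :=
          haveI := t.isGE_shift (J.obj ((singleFunctor _ 0).obj M)) 0 k ((N₀ : ℤ) - k - N₀) (by omega)
          t.isGE_of_iso e.symm _
        have hle : L'.obj.IsLE ((N₀ : ℤ) - k) :=
          haveI := t.isLE_shift (J.obj ((singleFunctor _ 0).obj M)) N₀ k ((N₀ : ℤ) - k) (by omega)
          t.isLE_of_iso e.symm _
        refine ⟨fun h => ?_, fun h => ?_⟩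
        · obtain ⟨zF, zG⟩ := hN L' _ hge hle j (by push_cast at h; omega)
          exact ⟨0, zF.eq_of_src _ _, zG.eq_of_src _ _⟩
        · obtain ⟨zF, zG⟩ := hN L' _ hge hle j (by push_cast at h; omega)
          exact ⟨fun a b _ => zG.eq_of_src _ _⟩
      | succ m ih =>
        intro M hM
        haveI : M.IsQuasicoherent := hM
        obtain ⟨P, ⟨eP⟩⟩ : ∃ P : ModuleCat.{u} R, Nonempty ((tilde.functor R).obj P ≅ M) := ⟨_, ⟨H10Coh.tildeIso M⟩⟩
        let p : ModuleCat.of R (P →₀ R) ⟶ P := ModuleCat.ofHom (Finsupp.linearCombination R id)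
        haveI : Epi p := (ModuleCat.epi_iff_surjective _).2 (fun x => ⟨Finsupp.single x (1 : R), by
          simp [p]⟩)
        let π : SheafOfModules.free.{u} (R := (Spec R).ringCatSheaf) P ⟶ M :=
          (tildeFinsupp (R := R) P).inv ≫ (tilde.functor R).map p ≫ eP.hom
        haveI : Epi ((tilde.functor R).map p) := (tilde.functor R).map_epi p
        haveI : Epi π := inferInstanceAs (Epi ((tildeFinsupp (R := R) P).inv ≫ (tilde.functor R).map p ≫ eP.hom))
        haveI : (SheafOfModules.free.{u} (R := (Spec R).ringCatSheaf) P : (Spec R).Modules).IsQuasicoherent :=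
          H10Coh.isQuasicoherent_of_iso_tilde (N := ModuleCat.of R (P →₀ R)) (tildeFinsupp (R := R) P)
        have hK : Coh.IsQCoh (kernel π) := H10Coh.isQuasicoherent_kernel_Spec π
        let S := ShortComplex.mk (kernel.ι π) π (kernel.condition π)
        have hS : S.ShortExact :=
          { exact := ShortComplex.exact_of_f_is_kernel S (kernelIsKernel π) }
        have hfree : IsoShifts τ (J.obj ((singleFunctor _ 0).obj (SheafOfModules.free.{u} (R := (Spec R).ringCatSheaf) P))) := by
          let A : P → DCoh.D (Spec R) := fun _ => O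
          haveI := QCoprod.preservesColimitsOfShape_Q (A := (Spec R).Modules) P
          haveI : PreservesColimitsOfShape (Discrete P) (CochainComplex.singleFunctor (Spec R).Modules 0) :=
            inferInstanceAs (PreservesColimitsOfShape (Discrete P)
              (HomologicalComplex.single (Spec R).Modules (ComplexShape.up ℤ) 0))
          haveI : PreservesColimitsOfShape (Discrete P) (singleFunctor (Spec R).Modules 0) :=
            preservesColimitsOfShape_of_natIso (DerivedCategory.singleFunctorIsoCompQ (Spec R).Modules 0).symm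
          exact (hsum' A 0 (fun _ => inferInstanceAs (DerivedCategory.IsGE O 0))
            (fun _ => ProjFormula.isQCohD_single_structure (Spec R) 0) fun _ => hσ).of_iso τ
            (J.mapIso (PreservesCoproduct.iso (singleFunctor (Spec R).Modules 0)
              (fun _ : P => Coh.structureModule (Spec R))).symm)
        have := isoAbove_obj₃ τ hF hG (T := J.mapTriangle.obj hS.singleTriangle)
          (J.map_distinguished _ hS.singleTriangle_distinguished) (n := (N₀ : ℤ) + N + 1 - (m + 1 : ℕ))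
          (hq _ hK) (by push_cast; rw [show (N₀ : ℤ) + N + 1 - (m + 1) + 1 = N₀ + N + 1 - m by omega]; exact ih _ hK)
          hfree
        exact this
    intro M hM
    refine isoShifts_of_isoAbove τ (hq M hM) fun n k j L' e => ?_
    obtain ⟨m, hm⟩ : ∃ m : ℕ, (N₀ : ℤ) + N + 1 - m ≤ n := ⟨((N₀ : ℤ) + N + 1 - n).toNat, by omega⟩
    exact ⟨fun h => (key m M hM k j L' e).1 (by omega), fun h => (key m M hM k j L' e).2 (by omega)⟩
  -- bounded objects
  have hbdd : ∀ (m : ℕ) (d : ℤ) (M : DCoh.D (Spec R)), DCoh.IsQCohD M → M.IsGE d → M.IsLE (d + m) →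
      IsoShifts τ (J.obj M) := by
    intro m
    induction m with
    | zero =>
      intro d M hM hge hle
      haveI := hge
      haveI : M.IsLE d := by simpa using hle
      obtain ⟨P, ⟨e⟩⟩ := DerivedCategory.exists_iso_singleFunctor_obj_of_isGE_of_isLE M d
      have hP : Coh.IsQCoh P := QCohD.isQCoh_iso ((homologyFunctor _ d).mapIso e ≪≫
        (DerivedCategory.singleFunctorCompHomologyFunctorIso (Spec R).Modules d).app P) (hM d)
      exact ((hmod P hP).shift τ (-d)).of_iso τ ((J.commShiftIso (-d)).symm.app _ ≪≫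
        J.mapIso (((DerivedCategory.singleFunctors (Spec R).Modules).shiftIso (-d) d 0 (by omega)).app P ≪≫ e.symm))
    | succ m ih =>
      intro d M hM hge hle
      haveI := hge
      haveI := hle
      let X₁ := (t.truncLE (d + m)).obj M
      let X₃ := (t.truncGE (d + m + 1)).obj M
      have hT := t.triangleLEGE_distinguished (d + m) (d + m + 1) rfl M
      haveI : t.IsLE X₁ (d + m) := inferInstance
      haveI : t.IsGE X₁ d := inferInstance
      haveI : t.IsGE X₃ (d + m + 1) := inferInstance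
      haveI : t.IsLE X₃ (d + m + 1) := by
        haveI : t.IsLE M (d + m + 1) := by
          have : d + (m + 1 : ℕ) = d + m + 1 := by push_cast; omega
          exact this ▸ hle
        exact inferInstance
      have hX₁ : DCoh.IsQCohD X₁ := isQCohD_truncLE M hM _
      have hX₃ : DCoh.IsQCohD X₃ := QCohD.AffineUnit.isQCohD_obj₃ (T := (t.triangleLEGE (d + m) (d + m + 1) rfl).obj M) hT hX₁ hM
      exact hmid (J.map_distinguished _ hT) (ih d X₁ hX₁ inferInstance inferInstance)
        (ih (d + 1) X₃ hX₃ (t.isGE_of_ge X₃ (d + 1) (d + m + 1) (by omega))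
          (t.isLE_of_le X₃ (d + m + 1) (d + 1 + m) (by omega)))
  -- bounded below objects
  have hbelow : ∀ (d : ℤ) (M : DCoh.D (Spec R)), DCoh.IsQCohD M → M.IsGE d → IsoShifts τ (J.obj M) := by
    intro d M hM hd
    haveI := hd
    let E : ℕ → DCoh.D (Spec R) := fun n => (t.truncLE (d + n)).obj M
    haveI : HasColimitsOfShape (Discrete ℕ) (DCoh.D (Spec R)) :=
      hasColimitsOfShape_of_equivalence (Discrete.equivalence (Equiv.ulift.{u} : ULift.{u} ℕ ≃ ℕ))
    have hE := isHocolim_of_eventually E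
      (fun n => (t.natTransTruncLEOfLE (d + n) (d + (n + 1 : ℕ)) (by omega)).app M)
      (fun n => (t.truncLEι (d + n)).app M) (fun n => t.natTransTruncLEOfLE_ι_app _ _ _ M)
      fun j => ⟨(j - d).toNat, fun n hn => isIso_homologyMap_truncLEι M (d + n) j (by omega)⟩
    obtain ⟨c', hc'⟩ := hE
    have hEn : ∀ n, DCoh.IsQCohD (E n) := fun n => isQCohD_truncLE M hM _
    have hsumE : IsoShifts τ (J.obj (∐ E)) :=
      (hsum' (fun n : ULift.{u} ℕ => E n.down) d (fun n => inferInstanceAs (t.IsGE ((t.truncLE (d + n.down)).obj M) d))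
        (fun n => hEn n.down) fun n => hbdd n.down d _ (hEn n.down) (inferInstanceAs (t.IsGE ((t.truncLE (d + n.down)).obj M) d))
          (inferInstanceAs (t.IsLE ((t.truncLE (d + n.down)).obj M) (d + n.down)))).of_iso τ
        (J.mapIso (Sigma.whiskerEquiv (Equiv.ulift.{u} : ULift.{u} ℕ ≃ ℕ) (fun _ => Iso.refl _)))
    exact hcone (J.map_distinguished _ hc') hsumE hsumE
  obtain ⟨C, p, e, he, hC⟩ := h2 L.obj c L.property hL
  have hLs : IsoShifts τ L.obj := hcone (inv_rot_of_distTriang _ (inv_rot_of_distTriang _ he))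
    ((hbelow c _ (QCohD.isQCohD_rd _ L.property) (isGE_rd' v L.obj c hL)).shift τ (-1)) (hC.shift τ (-1))
  exact hLs.2 0 L ⟨((shiftFunctorZero (DCoh.D Y) ℤ).app L.obj).symm⟩

end Groth.Agent.LeadBrown
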