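import Groth.Agent.LeadBrown.SelfHom
import Groth.Agent.LeadBrown.DetectIso
import Groth.Agent.H16Derived.Dual.PerfQCoh
import Groth.Agent.H16Derived.BaseChange.Finiteness

/-!
# `RHom(a O, a O) ≅ O` from duality on perfect objects
-/

set_option autoImplicit false
set_option linter.style.haveILetI false
set_option linter.unusedSectionVars false

universe u

open CategoryTheory CategoryTheory.Limits AlgebraicGeometry CategoryTheory.Pretriangulated

attribute [local instance] HasDerivedCategory.standard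

namespace Groth.Agent.LeadBrown

open Groth.Agent.H16Derived Groth.Agent.H16Derived.QCohD
open Groth.Agent.H16Derived.KFlat.Stalk (lpullRpushAdj hasLpull)
open Groth.Agent.H16Derived.Dual (T R adjR ro one oneIso rmap Rmap rightUnit w θ isIso_w isIso_θ isPerfect_ro)

variable {X Y : Scheme.{u}}

theorem rmap_eq_Rmap {k k' : DCoh.D X} (φ : k ⟶ k') : rmap φ = Rmap φ (one X) := rfl

theorem w_naturality {k k' : DCoh.D X} (φ : k ⟶ k') : φ ≫ w k' = w k ≫ rmap (rmap φ) := by
  apply ((adjR (ro k')).homEquiv _ _).symm.injective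
  rw [rmap_eq_Rmap (rmap φ), Dual.comp_Rmap, Adjunction.homEquiv_naturality_left_symm, w, w,
    Equiv.symm_apply_apply, Equiv.symm_apply_apply]
  exact Dual.zev_naturality φ

theorem θ_naturality_left (m : DCoh.D X) {k k' : DCoh.D X} (φ : k ⟶ k') :
    ((T X).obj m).map (rmap φ) ≫ θ k m = θ k' m ≫ Rmap φ m := by
  apply ((adjR k).homEquiv _ _).symm.injective
  have h1 := Dual.th_naturality (((T X).obj m).obj (ro k')) m φ (𝟙 _)
  rw [Category.id_comp, Dual.th_eq, Dual.th_eq, Category.id_comp] at h1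
  rw [Dual.comp_Rmap]
  exact h1

theorem rmap_bijective {k k' : DCoh.D X} (hk : DCoh.IsPerfect k) (hk' : DCoh.IsPerfect k') :
    Function.Bijective fun y : k ⟶ k' => rmap y := by
  have inj : ∀ {a b : DCoh.D X}, DCoh.IsPerfect b → Function.Injective fun y : a ⟶ b => rmap y := by
    intro a b hb y y' h
    haveI := isIso_w hb
    exact (cancel_mono (w b)).1 (by rw [w_naturality, w_naturality]; exact congrArg (fun z => w a ≫ rmap z) h)
  refine ⟨inj hk', fun z => ?_⟩
  haveI := isIso_w hk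
  haveI := isIso_w hk'
  refine ⟨w k ≫ rmap z ≫ inv (w k'), inj (isPerfect_ro hk) ?_⟩
  have h := w_naturality (w k ≫ rmap z ≫ inv (w k'))
  simp only [Category.assoc, IsIso.inv_hom_id, Category.comp_id] at h
  exact ((cancel_epi (w k)).1 h).symm

variable (f : X ⟶ Y) [DCoh.HasRpush f] [DCoh.HasLpull f]

theorem lax_naturality_left {Q Q' : DCoh.D X} (q : Q' ⟶ Q) (N : DCoh.D X) :
    tm ((DCoh.Rpush f).map q) (𝟙 ((DCoh.Rpush f).obj N)) ≫ lax f Q N =
      lax f Q' N ≫ (DCoh.Rpush f).map (tm q (𝟙 N)) := by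
  apply ((lpullRpushAdj f).homEquiv _ _).symm.injective
  rw [Adjunction.homEquiv_naturality_left_symm, Adjunction.homEquiv_naturality_right_symm, lax, lax,
    Equiv.symm_apply_apply, Equiv.symm_apply_apply, Category.assoc, cT_tm_assoc, tm_comp, tm_comp]
  refine congrArg (fun z => (cT f _ _).hom ≫ z) ?_
  rw [CategoryTheory.Functor.map_id, Category.id_comp, Category.comp_id]
  exact congrArg (fun z => tm z _) ((lpullRpushAdj f).counit.naturality q)

theorem alphaR_naturality_left {Q Q' : DCoh.D X} (q : Q' ⟶ Q) {L : DCoh.D X} {K : DCoh.D Y}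
    (t : (DCoh.Rpush f).obj L ⟶ K) :
    (DCoh.Rpush f).map (Rmap q L) ≫ alphaR f Q' t = alphaR f Q t ≫ Rmap ((DCoh.Rpush f).map q) K := by
  apply ((adjS _).homEquiv _ _).symm.injective
  rw [comp_Rmap_S, adjS_symm_eq, Functor.map_comp, Category.assoc, alphaR_evS,
    reassoc_of% lax_naturality_right f Q' (Rmap q L), ← Functor.map_comp_assoc, Rmap_evS, Functor.map_comp,
    Category.assoc]
  rw [alphaR, Equiv.symm_apply_apply, app_eq_tm, app_eq_tm, reassoc_of% lax_naturality_left f q]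

variable [CompactSpace X] [QuasiSeparatedSpace X] [CompactSpace Y] [QuasiSeparatedSpace Y]

/-- If `Rf_*` keeps perfect objects, `RHom(ω, ω) ≅ O` for `ω` with the universal trace. -/
theorem nonempty_one_iso_R_of_trace (hf : DCoh.RpushPreservesQCoh f)
    (hperf : ∀ E : DCoh.D X, DCoh.IsPerfect E → DCoh.IsPerfect ((DCoh.Rpush f).obj E)) {ω : DCoh.D X}
    (hω : DCoh.IsQCohD ω) (hR : DCoh.IsQCohD ((R ω).obj ω)) (t : (DCoh.Rpush f).obj ω ⟶ one Y)
    (ht : ∀ V : DCoh.D X, DCoh.IsQCohD V →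
      Function.Bijective fun x : V ⟶ ω => (DCoh.Rpush f).map x ≫ t) :
    Nonempty (one X ≅ (R ω).obj ω) := by
  obtain ⟨e₀⟩ := nonempty_lpull_single f 0
  let c : (DCoh.Lpull f).obj (one Y) ≅ one X := (DCoh.Lpull f).mapIso oneIso.symm ≪≫ e₀ ≪≫ oneIso
  let i : ro (one Y) ≅ one Y := (rOneIso Y).app (one Y)
  let E₁ : ∀ P : DCoh.D X, (P ⟶ one X) ≃ (one X ⟶ ro P) := fun P =>
    (((rightUnit (X := X)).app P).symm.homCongr (Iso.refl (one X))).trans ((adjS P).homEquiv (one X) (one X))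
  let E₂ : ∀ Z : DCoh.D X, (one X ⟶ Z) ≃ (one Y ⟶ (DCoh.Rpush f).obj Z) := fun Z =>
    (c.symm.homCongr (Iso.refl Z)).trans ((lpullRpushAdj f).homEquiv _ _)
  let Q : DCoh.D X → DCoh.D Y := fun P => (DCoh.Rpush f).obj (ro P)
  let V : DCoh.D X → DCoh.D X := fun P => (R (ro P)).obj ω
  have hV : ∀ P, DCoh.IsPerfect P → DCoh.IsQCohD (V P) := fun P hP =>
    isQCohD_R_perfect (isPerfect_ro hP) hω
  have hα : ∀ P, DCoh.IsPerfect P → IsIso (alphaR f (ro P) t) := fun P hP =>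
    isIso_alphaR f (Dual.isQCohD_of_isPerfect (isPerfect_ro hP)) t ht (hf _ (hV P hP))
      (isQCohD_R_perfect (hperf _ (isPerfect_ro hP)) (Dual.isQCohD_of_isPerfect (isPerfect_one' Y)))
  let g₃ : ∀ P, (one Y ⟶ Q P) → (ro (Q P) ⟶ one Y) := fun P y => rmap y ≫ i.hom
  have hg₃ : ∀ P, DCoh.IsPerfect P → Function.Bijective (g₃ P) := fun P hP =>
    ((Iso.refl _).homCongr i).bijective.comp
      (rmap_bijective (isPerfect_one' Y) (hperf _ (isPerfect_ro hP))) |> fun h => by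
      convert h using 1
      funext y
      simp [g₃]
  let g₄ : ∀ P, (ro (Q P) ⟶ one Y) → ((DCoh.Rpush f).obj (V P) ⟶ one Y) := fun P z => alphaR f (ro P) t ≫ z
  have hg₄ : ∀ P, DCoh.IsPerfect P → Function.Bijective (g₄ P) := fun P hP =>
    haveI := hα P hP
    ⟨fun z z' h => (cancel_epi _).1 h, fun v => ⟨inv (alphaR f (ro P) t) ≫ v, by simp [g₄]⟩⟩
  let g₅ : ∀ P, (V P ⟶ ω) → ((DCoh.Rpush f).obj (V P) ⟶ one Y) := fun P v => (DCoh.Rpush f).map v ≫ t
  let μ : ∀ P, ((T X).obj ω).obj P ⟶ V P := fun P => ((T X).obj ω).map (w P) ≫ θ (ro P) ω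
  have hμ : ∀ P, DCoh.IsPerfect P → IsIso (μ P) := fun P hP =>
    haveI := isIso_w hP
    haveI := isIso_θ (isPerfect_ro hP) ω
    inferInstance
  let G : ∀ P, (P ⟶ one X) → (P ⟶ (R ω).obj ω) → Prop := fun P x u =>
    ∃ v : V P ⟶ ω, g₅ P v = g₄ P (g₃ P (E₂ _ (E₁ P x))) ∧ u = (adjS ω).homEquiv P ω (μ P ≫ v)
  have htot : ∀ P, DCoh.IsPerfect P → ∀ x, ∃! u, G P x u := fun P hP x => by
    obtain ⟨v, hv⟩ := (ht _ (hV P hP)).2 (g₄ P (g₃ P (E₂ _ (E₁ P x))))
    refine ⟨_, ⟨v, hv, rfl⟩, ?_⟩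
    rintro _ ⟨v', hv', rfl⟩
    rw [(ht _ (hV P hP)).1 (hv'.trans hv.symm)]
  have hnat : ∀ {P' P : DCoh.D X} (p : P' ⟶ P) (x : P ⟶ one X) (u : P ⟶ (R ω).obj ω),
      G P x u → G P' (p ≫ x) (p ≫ u) := by
    rintro P' P p x _ ⟨v, hv, rfl⟩
    refine ⟨Rmap (rmap p) ω ≫ v, ?_, ?_⟩
    · have h1 : E₁ P' (p ≫ x) = E₁ P x ≫ rmap p := by
        apply ((adjS P').homEquiv _ _).symm.injective
        rw [rmap_eq_Rmap, comp_Rmap_S]
        simp only [E₁, Equiv.trans_apply, Equiv.symm_apply_apply, Iso.homCongr_apply, Iso.refl_hom,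
          Category.comp_id, Iso.symm_inv, Iso.app_hom]
        exact (reassoc_of% ((rightUnit (X := X)).hom.naturality p)) x |>.symm
      have h2 : ∀ {Z Z' : DCoh.D X} (s : one X ⟶ Z) (q : Z ⟶ Z'),
          E₂ Z' (s ≫ q) = E₂ Z s ≫ (DCoh.Rpush f).map q := fun s q => by
        simp only [E₂, Equiv.trans_apply, Iso.homCongr_apply, Iso.refl_hom, Category.comp_id,
          ← Adjunction.homEquiv_naturality_right, Category.assoc]
      show (DCoh.Rpush f).map (_ ≫ v) ≫ t = alphaR f _ t ≫ rmap _ ≫ i.hom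
      rw [h1, h2, Dual.rmap_comp, Category.assoc, Functor.map_comp, Category.assoc,
        show (DCoh.Rpush f).map v ≫ t = _ from hv, rmap_eq_Rmap ((DCoh.Rpush f).map _),
        ← reassoc_of% alphaR_naturality_left f (rmap p) t]
    · rw [← Adjunction.homEquiv_naturality_left]
      refine congrArg _ ?_
      rw [← Category.assoc, ← Category.assoc (μ P')]
      refine congrArg (fun z => z ≫ v) ?_
      show ((T X).obj ω).map p ≫ ((T X).obj ω).map (w P) ≫ θ (ro P) ω = (((T X).obj ω).map (w P') ≫ θ _ ω) ≫ _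
      rw [← Functor.map_comp_assoc, w_naturality, Functor.map_comp, Category.assoc, Category.assoc,
        θ_naturality_left]
  obtain ⟨u, hu, -⟩ := htot (one X) (isPerfect_one' X) (𝟙 _)
  haveI : IsIso u := by
    refine isIso_of_bijective_postcomp (Dual.isQCohD_of_isPerfect (isPerfect_one' X)) hR u
      fun P hP => ?_
    have key : ∀ x : P ⟶ one X, G P x (x ≫ u) := fun x => by simpa using hnat x (𝟙 _) u hu
    haveI := hμ P hP
    have hb : Function.Bijective fun x => g₄ P (g₃ P (E₂ _ (E₁ P x))) :=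
      (hg₄ P hP).comp ((hg₃ P hP).comp ((E₂ _).bijective.comp (E₁ P).bijective))
    refine ⟨fun x x' h => ?_, fun y => ?_⟩
    · obtain ⟨v, hv, e⟩ := key x
      obtain ⟨v', hv', e'⟩ := key x'
      have hvv := (cancel_epi (μ P)).1 (((adjS ω).homEquiv P ω).injective (e.symm.trans (h.trans e')))
      exact hb.1 (hv.symm.trans ((congrArg (g₅ P) hvv).trans hv'))
    · obtain ⟨x, hx⟩ := hb.2 (g₅ P (inv (μ P) ≫ ((adjS ω).homEquiv P ω).symm y))
      obtain ⟨v, hv, e⟩ := key x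
      have hvv := (ht _ (hV P hP)).1 (hv.trans hx)
      refine ⟨x, e.trans ?_⟩
      rw [hvv, IsIso.hom_inv_id_assoc, Equiv.apply_symm_apply]
  exact ⟨asIso u⟩

end Groth.Agent.LeadBrown
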