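import Groth.Agent.LeadBrown.BaseChange
import Groth.Prelude.Def_Dual3
import Mathlib.AlgebraicGeometry.Morphisms.Immersion

/-!
# Upper shriek through dominated compactifications
-/

set_option autoImplicit false
set_option linter.style.haveILetI false
set_option linter.unusedSectionVars false

universe u

open CategoryTheory CategoryTheory.Limits AlgebraicGeometry CategoryTheory.Pretriangulated

attribute [local instance] HasDerivedCategory.standard

namespace Groth.Agent.LeadBrown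

open Groth.Agent.H16Derived Groth.Agent.H16Derived.Thomason Groth.Agent.H16Derived.KFlat
open Groth.Agent.H16Derived.KFlat.Stalk (rd nonempty_rpushCompIso hasLpull)
attribute [local instance] hasCoproducts_D small_hom

/-- Restriction to a composite. -/
theorem nonempty_rdCompIso {A B C : Scheme.{u}} (k : A ⟶ B) (j : B ⟶ C) (l : A ⟶ C) [IsOpenImmersion k]
    [IsOpenImmersion j] [IsOpenImmersion l] (h : k ≫ j = l) :
    Nonempty (rd l ≅ rd j ⋙ rd k) := by
  subst h
  haveI := QCohD.hasRpush k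
  haveI := QCohD.hasRpush j
  haveI := QCohD.hasRpush (k ≫ j)
  obtain ⟨κ⟩ := nonempty_rpushCompIso k j
  exact ⟨(restrictRpushAdj (k ≫ j)).leftAdjointUniq
    (((restrictRpushAdj j).comp (restrictRpushAdj k)).ofNatIsoRight κ)⟩

/-- For an isomorphism `q`, restriction along `q` is fully faithful. -/
theorem faithful_rd_of_isIso {A B : Scheme.{u}} (q : A ⟶ B) [IsIso q] : (rd q).Faithful := by
  haveI := QCohD.hasRpush q
  let adj := restrictRpushAdj q
  haveI := isIso_restrictRpushAdj_counit q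
  haveI : ∀ E, IsIso (adj.unit.app E) := fun E => by
    obtain ⟨K, i, h, hT, hK⟩ := MVTri.exists_fibre adj E
    refine (Triangle.isZero₁_iff_isIso₂ _ hT).1 ?_
    refine isZero_of_suppIn_empty (((isZero_rd_iff q K).1 hK).mono ?_)
    intro y hy
    exact hy ⟨(inv q).base y, by rw [← Scheme.Hom.comp_apply, IsIso.inv_hom_id]; rfl⟩
  haveI : IsIso adj.unit := NatIso.isIso_of_isIso_app _
  exact adj.fullyFaithfulLOfIsIsoUnit.faithful

/-- The right adjoints of composites. -/
theorem nonempty_rightAdjoint_comp {A B C : Scheme.{u}} (p : A ⟶ B) (g : B ⟶ C) [DCoh.HasRpush p]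
    [DCoh.HasRpush g] [DCoh.HasRpush (p ≫ g)] (hp : DCoh.RpushPreservesQCoh p)
    (hg : DCoh.RpushPreservesQCoh g) (hpg : DCoh.RpushPreservesQCoh (p ≫ g))
    {ap : DCoh.DQCoh B ⥤ DCoh.DQCoh A} {ag : DCoh.DQCoh C ⥤ DCoh.DQCoh B}
    {apg : DCoh.DQCoh C ⥤ DCoh.DQCoh A} (adjp : DCoh.RpushQ p hp ⊣ ap) (adjg : DCoh.RpushQ g hg ⊣ ag)
    (adjpg : DCoh.RpushQ (p ≫ g) hpg ⊣ apg) : Nonempty (apg ≅ ag ⋙ ap) := by
  obtain ⟨κ⟩ := nonempty_rpushCompIso p g
  let e : DCoh.RpushQ p hp ⋙ DCoh.RpushQ g hg ≅ DCoh.RpushQ (p ≫ g) hpg :=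
    NatIso.ofComponents (fun K => (ObjectProperty.ι _).preimageIso (κ.app K.obj))
      (fun {K K'} k => (ObjectProperty.ι _).map_injective (by
        simp only [Functor.map_comp, Functor.preimageIso_hom, Functor.map_preimage]
        exact κ.hom.naturality k.hom))
  exact ⟨adjpg.rightAdjointUniq ((adjp.comp adjg).ofNatIsoLeft e)⟩

section

variable {Z W : Scheme.{u}} [IsNoetherian W] {p : Z ⟶ W} [IsProper p] [DCoh.HasRpush p]
  {hp : DCoh.RpushPreservesQCoh p} {a : DCoh.DQCoh W ⥤ DCoh.DQCoh Z} (adj : DCoh.RpushQ p hp ⊣ a)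
  {U : Scheme.{u}} (j : U ⟶ W) [IsOpenImmersion j] (j' : U ⟶ Z) [IsOpenImmersion j']
  (w : j' ≫ p = j) (hrange : Set.range j'.base = p.base ⁻¹' Set.range j.base)

include adj w hrange in
/-- Where `p` is an isomorphism, `a` does nothing. -/
theorem nonempty_rd_rightAdjoint_iso [QuasiCompact j] [QuasiCompact j'] :
    ∃ (φ : ∀ L : DCoh.DQCoh W, (rd j').obj (a.obj L).obj ⟶ (rd j).obj L.obj),
      (∀ (L L' : DCoh.DQCoh W) (k : L ⟶ L'),
        (rd j').map (a.map k).hom ≫ φ L' = φ L ≫ (rd j).map k.hom) ∧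
      ∀ (L : DCoh.DQCoh W) (c : ℤ), L.obj.IsGE c → IsIso (φ L) := by
  haveI : CompactSpace Z := QuasiCompact.compactSpace_of_compactSpace p
  haveI : QuasiSeparatedSpace Z := quasiSeparatedSpace_of_quasiSeparated p
  haveI := QCohD.hasRpush (𝟙 U)
  haveI := QCohD.hasRpush j
  haveI := QCohD.hasRpush j'
  have w' : j' ≫ p = 𝟙 U ≫ j := by rw [Category.id_comp, w]
  obtain ⟨c⟩ := nonempty_rdCompIso (𝟙 U) j j (Category.id_comp j)
  let adjI := restrictRpushAdj (𝟙 U)
  haveI := isIso_restrictRpushAdj_counit (𝟙 U)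
  haveI := faithful_rd_of_isIso (𝟙 U)
  let T := trV adj j j' (𝟙 U) w' hrange
  let φ : ∀ L : DCoh.DQCoh W, (rd j').obj (a.obj L).obj ⟶ (rd j).obj L.obj := fun L =>
    inv (adjI.counit.app _) ≫ (rd (𝟙 U)).map (T L) ≫ c.inv.app L.obj
  refine ⟨φ, fun L L' k => ?_, fun L n hn => ?_⟩
  · simp only [φ, Category.assoc]
    rw [← cancel_epi (adjI.counit.app _), IsIso.hom_inv_id_assoc]
    refine ((Category.assoc _ _ _).symm.trans (congrArg (· ≫ _)
      (adjI.counit.naturality ((rd j').map (a.map k).hom)).symm)).trans ?_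
    refine ((Category.assoc _ _ _).trans (congrArg (_ ≫ ·) (IsIso.hom_inv_id_assoc _ _))).trans ?_
    refine (((rd (𝟙 U)).map_comp_assoc _ _ _).symm.trans (congrArg (fun t => (rd (𝟙 U)).map t ≫ _)
      (trV_naturality adj j j' (𝟙 U) w' hrange k))).trans ?_
    rw [Functor.map_comp, Category.assoc]
    exact congrArg (_ ≫ ·) (c.inv.naturality k.hom)
  · let B₀ : DCoh.DQCoh U := ⟨(rd j').obj (a.obj L).obj, QCohD.isQCohD_rd _ (a.obj L).property⟩
    let T₀ : DCoh.DQCoh U := ⟨(rd j).obj L.obj, QCohD.isQCohD_rd _ L.property⟩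
    let φ₀ : B₀ ⟶ T₀ := ObjectProperty.homMk (φ L)
    have hu := univ_of_isGE adj j j' (𝟙 U) w' hrange L n hn
    have hb : ∀ B : DCoh.DQCoh U, Function.Bijective fun g : B ⟶ B₀ => g ≫ φ₀ := fun B => by
      obtain ⟨hi, hs⟩ := hu B.obj B.property
      have key : ∀ g : B.obj ⟶ B₀.obj, g ≫ φ L =
          inv (adjI.counit.app _) ≫ (rd (𝟙 U)).map ((DCoh.Rpush (𝟙 U)).map g ≫ T L) ≫ c.inv.app L.obj := fun g => by
        simp only [φ, Functor.map_comp, Category.assoc]
        rw [← cancel_epi (adjI.counit.app B.obj), IsIso.hom_inv_id_assoc]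
        exact ((Category.assoc _ _ _).symm.trans (congrArg (· ≫ _) (adjI.counit.naturality g).symm)).trans
          ((Category.assoc _ _ _).trans (congrArg (_ ≫ ·) (IsIso.hom_inv_id_assoc _ _)))
      constructor
      · intro g g' h
        refine ObjectProperty.hom_ext _ (hi ?_)
        have h' : g.hom ≫ φ L = g'.hom ≫ φ L := congrArg (fun z => z.hom) h
        rw [key, key] at h'
        exact (rd (𝟙 U)).map_injective ((cancel_mono (c.inv.app L.obj)).1 ((cancel_epi _).1 h'))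
      · intro h
        haveI : IsIso adjI.unit := by
          haveI : ∀ E, IsIso (adjI.unit.app E) := fun E => by
            haveI := isIso_rd_map_unit (𝟙 U) E
            obtain ⟨K, i, x, hT, hK⟩ := MVTri.exists_fibre adjI E
            refine (Triangle.isZero₁_iff_isIso₂ _ hT).1 ?_
            have hK' := (isZero_rd_iff (𝟙 U) K).1 hK
            exact isZero_of_suppIn_empty (SuppIn.mono (S := (Set.range (𝟙 U : U ⟶ U).base)ᶜ) (fun y hy => hy ⟨y, rfl⟩) hK')
          exact NatIso.isIso_of_isIso_app _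
        haveI := adjI.fullyFaithfulLOfIsIsoUnit.full
        obtain ⟨g, hg⟩ := hs ((rd (𝟙 U)).preimage (adjI.counit.app B.obj ≫ h.hom ≫ c.hom.app L.obj))
        refine ⟨ObjectProperty.homMk g, ObjectProperty.hom_ext _ ?_⟩
        show g ≫ φ L = h.hom
        rw [key]
        rw [show (DCoh.Rpush (𝟙 U)).map g ≫ T L = _ from hg]
        rw [Functor.map_preimage]
        simp
        exact Category.comp_id _
    haveI : IsIso φ₀ := by
      obtain ⟨s, hs⟩ := (hb T₀).2 (𝟙 T₀)
      exact ⟨s, (hb B₀).1 (show (φ₀ ≫ s) ≫ φ₀ = 𝟙 B₀ ≫ φ₀ by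
        rw [Category.assoc, show s ≫ φ₀ = 𝟙 T₀ from hs, Category.comp_id, Category.id_comp]), hs⟩
    exact inferInstanceAs (IsIso ((ObjectProperty.ι _).map φ₀))

end

section Closure

/-- A dense open subscheme which is the image of a section of a separated morphism over `U`. -/
theorem range_eq_preimage {Z W U : Scheme.{u}} (p : Z ⟶ W) [IsSeparated p] (j : U ⟶ W) [IsOpenImmersion j]
    (j' : U ⟶ Z) [IsOpenImmersion j'] [IsDominant j'] (w : j' ≫ p = j) :
    Set.range j'.base = p.base ⁻¹' Set.range j.base := by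
  let s : U ⟶ pullback p j := pullback.lift j' (𝟙 U) (by simpa using w)
  haveI : IsClosedImmersion (s ≫ pullback.snd p j) := by
    rw [show s ≫ pullback.snd p j = 𝟙 U from pullback.lift_snd _ _ _]; infer_instance
  haveI : IsClosedImmersion s := IsClosedImmersion.of_comp s (pullback.snd p j)
  have hs : s ≫ pullback.fst p j = j' := pullback.lift_fst _ _ _
  have hr : Set.range (pullback.fst p j).base = p.base ⁻¹' Set.range j.base :=
    IsOpenImmersion.range_pullbackFst j p
  have hd : DenseRange s.base := by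
    rw [DenseRange, dense_iff_inter_open]
    rintro O hO ⟨x, hx⟩
    have hO' : IsOpen ((pullback.fst p j).base '' O) :=
      (pullback.fst p j).isOpenEmbedding.isOpenMap O hO
    obtain ⟨y, hy, u, hu⟩ := (dense_iff_inter_open.1 (IsDominant.denseRange (f := j')) _ hO' ⟨_, x, hx, rfl⟩)
    obtain ⟨o, ho, hoy⟩ := hy
    refine ⟨o, ho, u, (pullback.fst p j).isOpenEmbedding.injective ?_⟩
    rw [← Scheme.Hom.comp_apply, hs, hu, hoy]
  have hsurj : Set.range s.base = Set.univ := by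
    rw [← s.isClosedEmbedding.isClosed_range.closure_eq]
    exact hd.closure_range
  rw [← hr]
  refine Set.Subset.antisymm ?_ ?_
  · rintro _ ⟨u, rfl⟩
    exact ⟨s.base u, by rw [← Scheme.Hom.comp_apply, hs]⟩
  · rintro _ ⟨z, rfl⟩
    obtain ⟨u, rfl⟩ := hsurj.symm ▸ Set.mem_univ z
    exact ⟨u, by rw [← Scheme.Hom.comp_apply, hs]⟩

end Closure

section Shriek

variable {X Y : Scheme.{u}} [IsNoetherian Y] {f : X ⟶ Y}

/-- Refining a compactification does not change `a(-)|_X` on bounded below objects. -/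
theorem nonempty_shriek_iso (c : DEt.Compactification f) [DCoh.HasRpush c.fbar]
    {hc : DCoh.RpushPreservesQCoh c.fbar} {a : DCoh.DQCoh Y ⥤ DCoh.DQCoh c.Xbar}
    (adj : DCoh.RpushQ c.fbar hc ⊣ a) {Z : Scheme.{u}} (p : Z ⟶ c.Xbar) [IsProper p]
    (jZ : X ⟶ Z) [IsOpenImmersion jZ] [IsDominant jZ] (w : jZ ≫ p = c.j)
    [DCoh.HasRpush (p ≫ c.fbar)] {hz : DCoh.RpushPreservesQCoh (p ≫ c.fbar)}
    {aZ : DCoh.DQCoh Y ⥤ DCoh.DQCoh Z} (adjZ : DCoh.RpushQ (p ≫ c.fbar) hz ⊣ aZ) :
    Nonempty (Dual3.bddι Y ⋙ aZ ⋙ ObjectProperty.ι _ ⋙ rd jZ ≅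
      haveI := c.isOpenImmersion
      Dual3.bddι Y ⋙ a ⋙ ObjectProperty.ι _ ⋙ rd c.j) := by
  haveI := c.isOpenImmersion
  haveI := c.isProper
  haveI := QCohD.hasRpush p
  haveI : CompactSpace c.Xbar := QuasiCompact.compactSpace_of_compactSpace c.fbar
  haveI : QuasiSeparatedSpace c.Xbar := quasiSeparatedSpace_of_quasiSeparated c.fbar
  haveI : IsLocallyNoetherian c.Xbar := LocallyOfFiniteType.isLocallyNoetherian c.fbar
  haveI : IsNoetherian c.Xbar := { }
  haveI : CompactSpace Z := QuasiCompact.compactSpace_of_compactSpace p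
  haveI : QuasiSeparatedSpace Z := quasiSeparatedSpace_of_quasiSeparated p
  haveI : IsLocallyNoetherian Z := LocallyOfFiniteType.isLocallyNoetherian p
  haveI : IsNoetherian Z := { }
  have hp : DCoh.RpushPreservesQCoh p := fun K hK => QCohD.isQCohD_rpush p hK
  haveI := isLeftAdjoint_rpushQ p hp
  let ap := (DCoh.RpushQ p hp).rightAdjoint
  have adjp : DCoh.RpushQ p hp ⊣ ap := Adjunction.ofIsLeftAdjoint _
  obtain ⟨e⟩ := nonempty_rightAdjoint_comp p c.fbar hp hc hz adjp adj adjZ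
  obtain ⟨φ, hnat, hiso⟩ := nonempty_rd_rightAdjoint_iso adjp c.j jZ w (range_eq_preimage p c.j jZ w)
  let F := Dual3.bddι Y
  have hψ : ∀ K, IsIso (φ (a.obj (F.obj K))) := fun K => by
    obtain ⟨n, hn⟩ := K.property
    obtain ⟨m, hm⟩ := exists_isGE adj K.obj n hn
    exact hiso _ m hm
  refine ⟨Functor.isoWhiskerLeft F (Functor.isoWhiskerRight e (ObjectProperty.ι _ ⋙ rd jZ)) ≪≫
    NatIso.ofComponents (fun K => @asIso _ _ _ _ (φ (a.obj (F.obj K))) (hψ K)) ?_⟩
  intro K K' k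
  exact hnat _ _ (a.map (F.map k))

end Shriek

end Groth.Agent.LeadBrown
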