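import Groth.Agent.LeadBrown.SupportNoeth
import Groth.Agent.H16Derived.Thomason.IsoTransport

/-!
# The right adjoint of `Rp_*` and restriction to opens
-/

set_option autoImplicit false
set_option linter.style.haveILetI false
set_option linter.unusedSectionVars false

universe u

open CategoryTheory CategoryTheory.Limits AlgebraicGeometry CategoryTheory.Pretriangulated

attribute [local instance] HasDerivedCategory.standard

namespace Groth.Agent.LeadBrown

open Groth.Agent.H16Derived Groth.Agent.H16Derived.Thomason Groth.Agent.H16Derived.KFlat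
open Groth.Agent.H16Derived.KFlat.Stalk (rd rpushCommShift rpush_isTriangulated nonempty_rpushCompIso
  nonempty_restrictD_rpush_iso hasLpull)
attribute [local instance] hasCoproducts_D small_hom

/-- Restriction kills exactly the objects supported off the image. -/
theorem isZero_rd_iff {U X : Scheme.{u}} (j : U ⟶ X) [IsOpenImmersion j] (E : DCoh.D X) :
    IsZero ((rd j).obj E) ↔ SuppIn (Set.range j.base)ᶜ E := by
  constructor
  · intro h i y hy hy'
    obtain ⟨x, rfl⟩ := hy'
    have h1 := (mem_support_rd j E i x).2 hy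
    rw [support_eq_empty_of_isZero (M := DCoh.HD ((rd j).obj E) i)
      ((DerivedCategory.homologyFunctor U.Modules i).map_isZero h)] at h1
    exact h1
  · intro h
    exact isZero_of_suppIn_empty fun i x hx => h i ((mem_support_rd j E i x).1 hx) ⟨x, rfl⟩

/-- Restriction preserves lower bounds. -/
theorem isGE_rd' {U X : Scheme.{u}} (j : U ⟶ X) [IsOpenImmersion j] (E : DCoh.D X) (n : ℤ) (hE : E.IsGE n) :
    ((rd j).obj E).IsGE n := by
  haveI := hE
  rw [DerivedCategory.isGE_iff]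
  intro i hi
  refine (Thomason.isZero_hd_iff _ i).2 (Set.eq_empty_iff_forall_notMem.2 fun x hx => ?_)
  have h1 := (mem_support_rd j E i x).1 hx
  rw [support_eq_empty_of_isZero (DerivedCategory.isZero_of_isGE E n i hi)] at h1
  exact h1

variable {Z W : Scheme.{u}} {p : Z ⟶ W} [DCoh.HasRpush p] {hp : DCoh.RpushPreservesQCoh p}
  {a : DCoh.DQCoh W ⥤ DCoh.DQCoh Z} (adj : DCoh.RpushQ p hp ⊣ a)

include adj in
/-- Maps into the values of `a` killed in the next degree come from the previous one. -/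
theorem exists_factor_map {Q₁ Q R : DCoh.DQCoh W} (u : Q₁ ⟶ Q) (v : Q ⟶ R)
    (d : R.obj ⟶ Q₁.obj⟦(1 : ℤ)⟧) (hd : Triangle.mk u.hom v.hom d ∈ distTriang (DCoh.D W))
    {B : DCoh.D Z} (hB : DCoh.IsQCohD B) (g : B ⟶ (a.obj Q).obj) (hg : g ≫ (a.map v).hom = 0) :
    ∃ g' : B ⟶ (a.obj Q₁).obj, g = g' ≫ (a.map u).hom := by
  haveI := hasLpull p
  letI := rpushCommShift p
  haveI := rpush_isTriangulated p
  obtain ⟨ψ, hψ⟩ := Triangle.coyoneda_exact₂ _ hd (homEquivD adj B hB Q g) (by
    refine (homEquivD_map adj hB v g).symm.trans ?_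
    rw [hg, ← zero_comp (X := B) (f := (0 : B ⟶ (a.obj R).obj)), homEquivD_comp adj hB hB, Functor.map_zero,
      zero_comp]
    rfl)
  refine ⟨(homEquivD adj B hB Q₁).symm ψ, (homEquivD adj B hB Q).injective ?_⟩
  rw [homEquivD_map]
  exact hψ.trans (congrArg (· ≫ u.hom) ((homEquivD adj B hB Q₁).apply_symm_apply ψ).symm)

variable {V ZV : Scheme.{u}} (j : V ⟶ W) [IsOpenImmersion j] (j' : ZV ⟶ Z) [IsOpenImmersion j']
  (q : ZV ⟶ V) [DCoh.HasRpush q] [DCoh.HasRpush j] [DCoh.HasRpush j']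
  (w : j' ≫ p = q ≫ j) (hrange : Set.range j'.base = p.base ⁻¹' Set.range j.base)

include w in
theorem nonempty_compIso :
    Nonempty (DCoh.Rpush j' ⋙ DCoh.Rpush p ≅ DCoh.Rpush q ⋙ DCoh.Rpush j) := by
  haveI := QCohD.hasRpush (j' ≫ p)
  haveI := QCohD.hasRpush (q ≫ j)
  obtain ⟨κ⟩ := nonempty_rpushCompIso j' p
  obtain ⟨κ'⟩ := nonempty_rpushCompIso q j
  have h' : Nonempty (DCoh.Rpush (j' ≫ p) ≅ DCoh.Rpush (q ≫ j)) := by
    simp only [w]; exact ⟨Iso.refl _⟩
  exact ⟨κ ≪≫ h'.some ≪≫ κ'.symm⟩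

include hrange in
theorem isZero_rd_rpush {A : DCoh.D Z} (hA : IsZero ((rd j').obj A)) :
    IsZero ((rd j).obj ((DCoh.Rpush p).obj A)) := by
  let V' := j.opensRange
  haveI := QCohD.hasRpush (p ∣_ V')
  obtain ⟨e⟩ := nonempty_restrictD_rpush_iso p V'
  letI := rpushCommShift (p ∣_ V')
  haveI := rpush_isTriangulated (p ∣_ V')
  refine (isZero_rd_iff j _).2 ((suppIn_compl_iff V' _).2 ?_)
  refine IsZero.of_iso (Functor.map_isZero (DCoh.Rpush (p ∣_ V')) ?_) (e.app A)
  refine (suppIn_compl_iff (p ⁻¹ᵁ V') A).1 ?_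
  have h := (isZero_rd_iff j' A).1 hA
  rw [hrange] at h
  exact h

/-- The comparison `(Rp_* A)|_V ⟶ Rq_* (A|_{Z_V})`. -/
noncomputable def bcRd : DCoh.Rpush p ⋙ rd j ⟶ rd j' ⋙ DCoh.Rpush q where
  app A := (rd j).map ((DCoh.Rpush p).map ((restrictRpushAdj j').unit.app A) ≫
    (nonempty_compIso j j' q w).some.hom.app ((rd j').obj A)) ≫
      (restrictRpushAdj j).counit.app _
  naturality A A' g := by
    let ν := (nonempty_compIso j j' q w).some
    have h1 : (DCoh.Rpush p).map g ≫ (DCoh.Rpush p).map ((restrictRpushAdj j').unit.app A') ≫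
          ν.hom.app ((rd j').obj A') =
        ((DCoh.Rpush p).map ((restrictRpushAdj j').unit.app A) ≫ ν.hom.app ((rd j').obj A)) ≫
          (DCoh.Rpush j).map ((DCoh.Rpush q).map ((rd j').map g)) := by
      refine Eq.trans ?_ (Category.assoc _ _ _).symm
      refine Eq.trans ?_ (congrArg (_ ≫ ·) (ν.hom.naturality ((rd j').map g)))
      rw [← Functor.map_comp_assoc]
      refine Eq.trans ?_ ((congrArg (· ≫ _) ((DCoh.Rpush p).map_comp _ _)).trans (Category.assoc _ _ _))
      exact congrArg (fun t => (DCoh.Rpush p).map t ≫ _) ((restrictRpushAdj j').unit.naturality g)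
    show (rd j).map ((DCoh.Rpush p).map g) ≫ _ = (_ ≫ _) ≫ (DCoh.Rpush q).map ((rd j').map g)
    rw [← Functor.map_comp_assoc, h1, Functor.map_comp, Category.assoc, Category.assoc]
    exact congrArg (_ ≫ ·) ((restrictRpushAdj j).counit.naturality _)

include hrange in
theorem isIso_bcRd (A : DCoh.D Z) : IsIso ((bcRd (p := p) j j' q w).app A) := by
  haveI := isIso_restrictRpushAdj_counit j
  haveI := isIso_restrictRpushAdj_counit j'
  haveI := hasLpull p
  letI := rpushCommShift p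
  haveI := rpush_isTriangulated p
  haveI : IsIso ((rd j).map ((DCoh.Rpush p).map ((restrictRpushAdj j').unit.app A))) := by
    obtain ⟨K, i, h, hT, hK⟩ := MVTri.exists_fibre (restrictRpushAdj j') A
    exact (Triangle.isZero₁_iff_isIso₂ _ ((rd j).map_distinguished _ ((DCoh.Rpush p).map_distinguished _ hT))).1
      (isZero_rd_rpush j j' hrange hK)
  show IsIso (_ ≫ _)
  rw [Functor.map_comp]
  infer_instance

/-- The trace `Rq_* (a L|_{Z_V}) ⟶ L|_V`. -/
noncomputable def trV (L : DCoh.DQCoh W) :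
    (DCoh.Rpush q).obj ((rd j').obj (a.obj L).obj) ⟶ (rd j).obj L.obj :=
  haveI := isIso_bcRd (p := p) j j' q w hrange (a.obj L).obj
  inv ((bcRd (p := p) j j' q w).app (a.obj L).obj) ≫
    (rd j).map (homEquivD adj (a.obj L).obj (a.obj L).property L (𝟙 _))

theorem trV_naturality {L L' : DCoh.DQCoh W} (k : L ⟶ L') :
    (DCoh.Rpush q).map ((rd j').map (a.map k).hom) ≫ trV adj j j' q w hrange L' =
      trV adj j j' q w hrange L ≫ (rd j).map k.hom := by
  haveI := isIso_bcRd (p := p) j j' q w hrange (a.obj L).obj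
  haveI := isIso_bcRd (p := p) j j' q w hrange (a.obj L').obj
  simp only [trV]
  rw [← cancel_epi ((bcRd (p := p) j j' q w).app (a.obj L).obj), Category.assoc, IsIso.hom_inv_id_assoc,
    ← Functor.map_comp]
  refine ((Category.assoc _ _ _).symm.trans (congrArg (· ≫ _)
    ((bcRd (p := p) j j' q w).naturality (a.map k).hom).symm)).trans ?_
  refine ((Category.assoc _ _ _).trans (congrArg (_ ≫ ·) (IsIso.hom_inv_id_assoc _ _))).trans ?_
  refine ((rd j).map_comp _ _).symm.trans (congrArg (rd j).map ?_)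
  rw [← homEquivD_map adj (a.obj L).property k, Category.id_comp,
    ← homEquivD_comp adj (a.obj L').property (a.obj L).property, Category.comp_id]

/-- `Z_V ⟶ V` corepresentation property of `(a L)|_{Z_V}`. -/
def Univ (L : DCoh.DQCoh W) : Prop :=
  ∀ B : DCoh.D ZV, DCoh.IsQCohD B → Function.Bijective fun g : B ⟶ (rd j').obj (a.obj L).obj =>
    (DCoh.Rpush q).map g ≫ trV adj j j' q w hrange L

variable [QuasiCompact j'] [QuasiCompact j] [CompactSpace Z] [QuasiSeparatedSpace Z]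

theorem univ_of_rpush (L : DCoh.DQCoh W) (M : DCoh.D V) (hL : L.obj = (DCoh.Rpush j).obj M) :
    Univ adj j j' q w hrange L := by
  haveI := hasLpull p
  letI := rpushCommShift p
  haveI := rpush_isTriangulated p
  haveI := isIso_restrictRpushAdj_counit j
  haveI := isIso_restrictRpushAdj_counit j'
  let A := (a.obj L).obj
  have hA : DCoh.IsQCohD A := (a.obj L).property
  let adjY := restrictRpushAdj j
  let adjX := restrictRpushAdj j'
  haveI : QuasiSeparated j' := inferInstance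
  haveI : CompactSpace ZV := QuasiCompact.compactSpace_of_compactSpace j'
  haveI : QuasiSeparatedSpace ZV := quasiSeparatedSpace_of_quasiSeparated j'
  let η := adjX.unit.app A
  haveI hη : IsIso η := by
    obtain ⟨K, i, δ, hK, hK0⟩ := MVTri.exists_fibre adjX A
    have hKq : DCoh.IsQCohD K := QCohD.AffineUnit.isQCohD_obj₃ (inv_rot_of_distTriang _ (inv_rot_of_distTriang _ hK))
      (QCohD.HomVanish.isQCohD_shift hA (-1))
      (QCohD.HomVanish.isQCohD_shift (QCohD.isQCohD_rpush j' (QCohD.isQCohD_rd _ hA)) (-1))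
    have hv : ∀ x : (DCoh.Rpush p).obj K ⟶ L.obj, x = 0 := fun x => by
      have h := MVTri.hom_to_rightAdjoint_eq_zero adjY (isZero_rd_rpush j j' hrange hK0) (x ≫ eqToHom hL)
      exact (cancel_mono (eqToHom hL)).1 (h.trans zero_comp.symm)
    have hi : i = 0 := (homEquivD adj K hKq L).injective ((hv _).trans (hv _).symm)
    have hi' : i⟦(1 : ℤ)⟧' = 0 := by rw [hi]; exact Functor.map_zero _ _ _
    obtain ⟨s, hs⟩ := Triangle.coyoneda_exact₁ _ hK (𝟙 (K⟦(1 : ℤ)⟧))
      (by show 𝟙 _ ≫ i⟦(1 : ℤ)⟧' = 0; rw [hi', comp_zero])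
    have hs0 : s = 0 := MVTri.hom_to_rightAdjoint_eq_zero adjX (MVTri.isZero_map_shift hK0 1) s
    refine (Triangle.isZero₁_iff_isIso₂ _ hK).1 ?_
    have h1 : IsZero (K⟦(1 : ℤ)⟧) := (IsZero.iff_id_eq_zero _).2 (by
      refine hs.trans ?_
      rw [hs0, zero_comp]
      rfl)
    exact (Functor.map_isZero (shiftFunctor _ (-1 : ℤ)) h1).of_iso
      ((shiftFunctorCompIsoId (DCoh.D Z) (1 : ℤ) (-1) (by omega)).app K).symm
  intro B hB
  let ν := (nonempty_compIso (p := p) j j' q w).some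
  have hB' : DCoh.IsQCohD ((DCoh.Rpush j').obj B) := QCohD.isQCohD_rpush j' hB
  let T := trV adj j j' q w hrange L
  -- the composite of the bijections
  let E₁ : (B ⟶ (rd j').obj A) → ((DCoh.Rpush j').obj B ⟶ A) := fun g => (DCoh.Rpush j').map g ≫ inv η
  let E₂ : ((DCoh.Rpush j').obj B ⟶ A) → ((DCoh.Rpush j).obj ((DCoh.Rpush q).obj B) ⟶ L.obj) :=
    fun g => ν.inv.app B ≫ homEquivD adj _ hB' L g
  let E₃ : ((DCoh.Rpush j).obj ((DCoh.Rpush q).obj B) ⟶ L.obj) → ((DCoh.Rpush q).obj B ⟶ (rd j).obj L.obj) :=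
    fun g => inv (adjY.counit.app _) ≫ (rd j).map g
  have hE₁ : Function.Bijective E₁ := by
    constructor
    · intro g g' h
      exact adjX.fullyFaithfulROfIsIsoCounit.map_injective ((cancel_mono (inv η)).1 h)
    · intro g
      obtain ⟨g₀, hg₀⟩ : ∃ g₀ : B ⟶ (rd j').obj A, (DCoh.Rpush j').map g₀ = g ≫ η :=
        ⟨adjX.fullyFaithfulROfIsIsoCounit.preimage (g ≫ η), adjX.fullyFaithfulROfIsIsoCounit.map_preimage (g ≫ η)⟩
      exact ⟨g₀, by simp [E₁, hg₀]⟩
  have hE₂ : Function.Bijective E₂ := by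
    refine ⟨fun g g' h => (homEquivD adj _ hB' L).injective ((cancel_epi (ν.inv.app B)).1 h), fun g => ?_⟩
    refine ⟨(homEquivD adj _ hB' L).symm (ν.hom.app B ≫ g), ?_⟩
    simp only [E₂, Equiv.apply_symm_apply]
    exact Iso.inv_hom_id_app_assoc ν B g
  have hE₃ : Function.Bijective E₃ := by
    constructor
    · intro g g' h
      have h1 : (rd j).map g = (rd j).map g' := (cancel_epi _).1 h
      have key : ∀ g : (DCoh.Rpush j).obj ((DCoh.Rpush q).obj B) ⟶ L.obj, (adjY.homEquiv _ M).symm (g ≫ eqToHom hL) =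
          (rd j).map g ≫ (rd j).map (eqToHom hL) ≫ adjY.counit.app M := fun g => by
        rw [Adjunction.homEquiv_counit, Functor.map_comp, Category.assoc]
      exact (cancel_mono (eqToHom hL)).1 ((adjY.homEquiv _ M).symm.injective (by rw [key, key, h1]))
    · intro h
      obtain ⟨g, hg⟩ : ∃ g : (DCoh.Rpush j).obj ((DCoh.Rpush q).obj B) ⟶ L.obj,
          (rd j).map g = adjY.counit.app _ ≫ h := by
        let g := adjY.homEquiv ((DCoh.Rpush j).obj ((DCoh.Rpush q).obj B)) M
          (adjY.counit.app _ ≫ h ≫ (rd j).map (eqToHom hL) ≫ adjY.counit.app M) ≫ eqToHom hL.symm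
        refine ⟨g, (cancel_mono ((rd j).map (eqToHom hL) ≫ adjY.counit.app M)).1 ?_⟩
        have h1 : (adjY.homEquiv _ M).symm (g ≫ eqToHom hL) =
            (rd j).map g ≫ (rd j).map (eqToHom hL) ≫ adjY.counit.app M := by
          rw [Adjunction.homEquiv_counit, Functor.map_comp, Category.assoc]
        refine h1.symm.trans (Eq.trans ?_ (Category.assoc _ _ _).symm)
        refine (congrArg (adjY.homEquiv _ M).symm ?_).trans ((adjY.homEquiv _ M).symm_apply_apply _)
        simp [g]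
      refine ⟨g, ?_⟩
      show inv _ ≫ (rd j).map g = h
      rw [hg]
      exact IsIso.inv_hom_id_assoc _ h
  convert hE₃.comp (hE₂.comp hE₁) using 1
  funext g
  simp only [Function.comp_apply, E₁, E₂, E₃]
  -- compare on `A`
  haveI := isIso_bcRd (p := p) j j' q w hrange A
  let e := homEquivD adj A hA L (𝟙 A)
  have h2 : homEquivD adj _ hB' L ((DCoh.Rpush j').map g ≫ inv η) =
      (DCoh.Rpush p).map ((DCoh.Rpush j').map g ≫ inv η) ≫ e := by
    rw [← homEquivD_comp adj hA hB', Category.comp_id]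
  rw [h2, ← cancel_epi (adjY.counit.app ((DCoh.Rpush q).obj B)), IsIso.hom_inv_id_assoc]
  refine ((Category.assoc _ _ _).symm.trans (congrArg (· ≫ _) (adjY.counit.naturality ((DCoh.Rpush q).map g)).symm)).trans ?_
  simp only [trV, Functor.map_comp, Category.assoc]
  have hb : (bcRd (p := p) j j' q w).app A =
      (rd j).map ((DCoh.Rpush p).map η ≫ ν.hom.app ((rd j').obj A)) ≫ adjY.counit.app _ := rfl
  have h3 : adjY.counit.app ((DCoh.Rpush q).obj ((rd j').obj A)) ≫ inv ((bcRd (p := p) j j' q w).app A) =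
      (rd j).map (ν.inv.app ((rd j').obj A) ≫ (DCoh.Rpush p).map (inv η)) := by
    rw [IsIso.comp_inv_eq, hb, ← Functor.map_comp_assoc]
    simp
  rw [← Category.assoc (adjY.counit.app _), h3]
  simp only [← Functor.map_comp, ← Category.assoc]
  refine ((rd j).map_comp _ _).symm.trans (congrArg (rd j).map ?_)
  rw [Functor.map_comp]
  simp only [Category.assoc]
  exact ((Category.assoc _ _ _).symm.trans (congrArg (· ≫ _) (ν.inv.naturality g))).trans (Category.assoc _ _ _)

include adj hrange in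
/-- `(a η)|_{Z_V}` is invertible. -/
theorem isIso_rd_map {Q₁ Q R C : DCoh.DQCoh W} (u : Q₁ ⟶ Q) (v : Q ⟶ R) (t : R ⟶ C)
    (d : R.obj ⟶ Q₁.obj⟦(1 : ℤ)⟧) (hd : Triangle.mk u.hom v.hom d ∈ distTriang (DCoh.D W))
    (e : C.obj ⟶ Q.obj⟦(1 : ℤ)⟧) (he : Triangle.mk v.hom t.hom e ∈ distTriang (DCoh.D W))
    (h₁ : IsZero ((rd j').obj (a.obj Q₁).obj)) (h₃ : IsZero ((rd j').obj (a.obj C).obj)) :
    IsIso ((rd j').map (a.map v).hom) := by
  have hz : ∀ {B P : DCoh.DQCoh W} (k : B ⟶ P) {F : DCoh.D Z} (i : F ⟶ (a.obj B).obj)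
      (x : (a.obj P).obj ⟶ F⟦(1 : ℤ)⟧),
      Triangle.mk i (a.map k).hom x ∈ distTriang (DCoh.D Z) → DCoh.IsQCohD F ∧ i ≫ (a.map k).hom = 0 := by
    intro B P k F i x hx
    exact ⟨QCohD.AffineUnit.isQCohD_obj₃ (inv_rot_of_distTriang _ (inv_rot_of_distTriang _ hx))
      (QCohD.HomVanish.isQCohD_shift (a.obj B).property (-1)) (QCohD.HomVanish.isQCohD_shift (a.obj P).property (-1)),
      comp_distTriang_mor_zero₁₂ _ hx⟩
  obtain ⟨F, i, x, hx⟩ := distinguished_cocone_triangle₁ (a.map v).hom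
  obtain ⟨hF, hi⟩ := hz v i x hx
  obtain ⟨g, hg⟩ := exists_factor_map adj u v d hd hF i hi
  have hi0 : (rd j').map i = 0 := by
    rw [hg, Functor.map_comp, h₁.eq_of_tgt ((rd j').map g) 0, zero_comp]
  obtain ⟨F', i', x', hx'⟩ := distinguished_cocone_triangle₁ (a.map t).hom
  obtain ⟨hF', hi'⟩ := hz t i' x' hx'
  obtain ⟨g', hg'⟩ := exists_factor_map adj v t e he hF' i' hi'
  haveI hi'0 : IsIso ((rd j').map i') :=
    (Triangle.isZero₃_iff_isIso₁ _ ((rd j').map_distinguished _ hx')).1 h₃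
  haveI : Mono ((rd j').map (a.map v).hom) := by
    refine Preadditive.mono_of_cancel_zero _ fun {P} k hk => ?_
    obtain ⟨y, hy⟩ := Triangle.coyoneda_exact₂ _ ((rd j').map_distinguished _ hx) k hk
    rw [hy]
    exact (congrArg (y ≫ ·) hi0).trans comp_zero
  haveI : IsSplitEpi ((rd j').map (a.map v).hom) :=
    IsSplitEpi.mk' ⟨inv ((rd j').map i') ≫ (rd j').map g', by
      rw [Category.assoc, ← Functor.map_comp, ← hg', IsIso.inv_hom_id]⟩
  exact isIso_of_mono_of_isSplitEpi _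

variable [IsNoetherian W] [IsProper p] [QuasiSeparated j]

include adj in
/-- **Base change to an open, for bounded below objects.** -/
theorem univ_of_isGE (L : DCoh.DQCoh W) (c : ℤ) (hL : L.obj.IsGE c) :
    Univ adj j j' q w hrange L := by
  haveI := isIso_restrictRpushAdj_counit j
  haveI := hL
  let η := (restrictRpushAdj j).unit.app L.obj
  let R : DCoh.DQCoh W := ⟨(DCoh.Rpush j).obj ((rd j).obj L.obj),
    QCohD.isQCohD_rpush j (QCohD.isQCohD_rd _ L.property)⟩
  haveI := isGE_rd' j L.obj c hL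
  haveI hR : R.obj.IsGE c := Stalk.isGE_rpush j _ c
  obtain ⟨C, t, e, he⟩ := distinguished_cocone_triangle η
  let C' : DCoh.DQCoh W := ⟨C, QCohD.AffineUnit.isQCohD_obj₃ he L.property R.property⟩
  let C₁ : DCoh.DQCoh W := ⟨C⟦(-1 : ℤ)⟧, QCohD.HomVanish.isQCohD_shift C'.property _⟩
  let t₀ := DerivedCategory.TStructure.t (C := W.Modules)
  haveI hC : t₀.IsGE C (c - 1) := t₀.isGE₂ _ (rot_of_distTriang _ he) _
    (t₀.isGE_of_ge R.obj (c - 1) c (by omega))
    (haveI : t₀.IsGE (L.obj⟦(1 : ℤ)⟧) (c - 1) := t₀.isGE_shift L.obj c 1 (c - 1) (by omega)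
     this)
  haveI hC₁ : t₀.IsGE C₁.obj c := t₀.isGE_shift C (c - 1) (-1) c (by omega)
  have hz : IsZero ((rd j).obj C) :=
    (Triangle.isZero₃_iff_isIso₁ _ ((rd j).map_distinguished _ he)).2 (isIso_rd_map_unit j L.obj)
  have hz₁ : IsZero ((rd j).obj C₁.obj) := MVTri.isZero_map_shift hz (-1)
  have hT : IsClosed (Set.range j.base)ᶜ := j.isOpenEmbedding.isOpen_range.isClosed_compl
  have hk : ∀ (K : DCoh.DQCoh W) (n : ℤ), K.obj.IsGE n → IsZero ((rd j).obj K.obj) →
      IsZero ((rd j').obj (a.obj K).obj) := fun K n hn h => by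
    refine (isZero_rd_iff j' _).2 ?_
    rw [hrange]
    exact suppIn_obj_of_isGE adj K n hn hT ((isZero_rd_iff j _).1 h)
  let ηQ : L ⟶ R := ObjectProperty.homMk η
  haveI : IsIso ((rd j').map (a.map ηQ).hom) :=
    isIso_rd_map adj j j' hrange (Q₁ := C₁) (C := C') (ObjectProperty.homMk _) ηQ (ObjectProperty.homMk t)
      _ (inv_rot_of_distTriang _ he) e he (hk C₁ c hC₁ hz₁) (hk C' (c - 1) hC hz)
  haveI : IsIso ((rd j).map η) := isIso_rd_map_unit j L.obj
  intro B hB
  have hu := univ_of_rpush adj j j' q w hrange R _ rfl B hB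
  have hn := trV_naturality adj j j' q w hrange ηQ
  constructor
  · intro g g' h
    apply (cancel_mono ((rd j').map (a.map ηQ).hom)).1
    apply hu.1
    simp only [Functor.map_comp, Category.assoc, hn]
    exact ((Category.assoc _ _ _).symm.trans (congrArg (· ≫ _) h)).trans (Category.assoc _ _ _)
  · intro φ
    obtain ⟨g, hg⟩ := hu.2 (φ ≫ (rd j).map η)
    refine ⟨g ≫ inv ((rd j').map (a.map ηQ).hom), ?_⟩
    rw [← cancel_mono ((rd j).map η)]
    refine Eq.trans ?_ hg
    show ((DCoh.Rpush q).map _ ≫ _) ≫ (rd j).map ηQ.hom = _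
    rw [Category.assoc, ← hn, ← Functor.map_comp_assoc, Category.assoc, IsIso.inv_hom_id, Category.comp_id]

end Groth.Agent.LeadBrown
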