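import Groth.Agent.LeadBrown.Coherent
import Groth.Agent.LeadBrown.CopTensor
import Groth.Agent.S1824
import Groth.Agent.S3600
import Groth.Agent.S19040
import Groth.Agent.H22Alg.PnBC
import Groth.Agent.H22Alg.RegSheaf
import Groth.Agent.H26Smooth.ProjSmooth
import Groth.Agent.H16Derived.PnD.Unit

/-!
# `f^!` in a chart: a closed subscheme of an affine open of projective space
-/

set_option autoImplicit false
set_option linter.style.haveILetI false
set_option linter.unusedSectionVars false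

universe u

open CategoryTheory CategoryTheory.Limits AlgebraicGeometry CategoryTheory.Pretriangulated

attribute [local instance] HasDerivedCategory.standard

namespace Groth.Agent.LeadBrown

open Groth.Agent.H16Derived Groth.Agent.H16Derived.Thomason Groth.Agent.H16Derived.KFlat
open Groth.Agent.H16Derived.KFlat.Stalk (rd hasLpull)
open DerivedCategory.TStructure (t)

variable {X Y : Scheme.{u}}

/-- Bounded-above objects stay so under `a` for the projection of projective space. -/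
theorem exists_isLE_rightAdjoint_projSpace (n : ℕ) (R : Type u) [CommRing R] [IsNoetherianRing R]
    [DCoh.HasRpush (CohB1.ProjSpace.toSpec n R)] {hp : DCoh.RpushPreservesQCoh (CohB1.ProjSpace.toSpec n R)}
    {a : DCoh.DQCoh (Spec (CommRingCat.of R)) ⥤ DCoh.DQCoh (CohB1.ProjSpace n R)}
    (adj : DCoh.RpushQ (CohB1.ProjSpace.toSpec n R) hp ⊣ a) (K : DCoh.DQCoh (Spec (CommRingCat.of R)))
    (d : ℤ) (hd : K.obj.IsLE d) : ∃ d' : ℤ, (a.obj K).obj.IsLE d' := by
  let p := CohB1.ProjSpace.toSpec n R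
  haveI := H27Weil.isProper_toSpec n R
  haveI := H26Smooth.smooth_toSpec n R
  haveI : IsProper p := inferInstance
  haveI : CompactSpace (CohB1.ProjSpace n R) := QuasiCompact.compactSpace_of_compactSpace p
  haveI : QuasiSeparatedSpace (CohB1.ProjSpace n R) := quasiSeparatedSpace_of_quasiSeparated p
  haveI := hasLpull p
  let O : DCoh.DQCoh (Spec (CommRingCat.of R)) := ⟨Dual.one _, Dual.isQCohD_of_isPerfect
    (KFlat.Stalk.isPerfect_of_iso Dual.oneIso (PnD.isPerfect_one _))⟩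
  obtain ⟨eω⟩ := S1824.result n R hp a adj O ⟨Dual.oneIso.symm⟩
  let E := DerivedCategory.Q.objPreimage (a.obj O).obj
  let eE : DerivedCategory.Q.obj E ≅ (a.obj O).obj := DerivedCategory.Q.objObjPreimageIso _
  haveI := KFlat.Stalk.hasLTensorCx E
  haveI : ∀ J : Type u, PreservesColimitsOfShape (Discrete J) a :=
    fun J => S3600.result _ _ p hp a adj J
  obtain ⟨φ⟩ := nonempty_rightAdjoint_iso_lpull_tensor adj O (Iso.refl _) E eE
  haveI := hd
  haveI := KFlat.Stalk.isLE_lpull p K.obj d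
  let T := (Twist.twistProjSpace n R (-((n : ℤ) + 1)))
  haveI : ((DCoh.inD (CohB1.ProjSpace n R) T)⟦(n : ℤ)⟧).IsLE (-(n : ℤ)) :=
    t.isLE_shift _ 0 (n : ℤ) (-(n : ℤ)) (by omega)
  haveI : (DCoh.toD _ E).IsLE (-(n : ℤ)) := t.isLE_of_iso (eω.symm ≪≫ eE.symm) _
  haveI := Thomason.isLE_ltensorCx E (-(n : ℤ)) (C := (DCoh.Lpull p).obj K.obj) d
  exact ⟨d + -(n : ℤ), @CategoryTheory.Triangulated.TStructure.isLE_of_iso _ _ _ _ _ _ _ t _ _ (φ.app K).symm _ ‹_›⟩

/-- A chart of `f^!`, with the relative dimension of the smooth scheme. -/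
theorem exists_local_model'' [IsNoetherian X] [IsNoetherian Y] {f : X ⟶ Y} (c : DEt.Compactification f)
    [DCoh.HasRpush c.fbar] {hc : DCoh.RpushPreservesQCoh c.fbar} {a : DCoh.DQCoh Y ⥤ DCoh.DQCoh c.Xbar}
    (adj : DCoh.RpushQ c.fbar hc ⊣ a) (x : X) :
    ∃ (U : Scheme.{u}) (j : U ⟶ X) (_ : IsOpenImmersion j) (W : Scheme.{u}) (i : U ⟶ W) (g : W ⟶ Y)
      (_ : IsAffine W) (_ : IsNoetherian W) (_ : IsClosedImmersion i) (_ : Smooth g),
      x ∈ Set.range j.base ∧ i ≫ g = j ≫ f ∧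
      (∃ (R : Type u) (_ : CommRing R) (_ : IsNoetherianRing R) (v : Spec (CommRingCat.of R) ⟶ Y) (_ : IsOpenImmersion v),
        Set.range g.base ⊆ Set.range v.base) ∧
      ∃ (_ : DCoh.HasRpush i) (hi : DCoh.RpushPreservesQCoh i) (b : DCoh.DQCoh W ⥤ DCoh.DQCoh U)
        (_ : DCoh.RpushQ i hi ⊣ b) (N : ℕ) (n : ℤ), n = (N : ℤ) ∧ SmoothOfRelativeDimension N g ∧
        ∀ (K : DCoh.DQCoh Y) (c₀ : ℤ), K.obj.IsGE c₀ →
          ∃ (M : DCoh.DQCoh W) (lo : ℤ), M.obj.IsGE lo ∧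
            Nonempty ((rd j).obj (haveI := c.isOpenImmersion; (rd c.j).obj (a.obj K).obj) ≅ (b.obj M).obj) ∧
            (∀ d : ℤ, K.obj.IsLE d → ∃ d' : ℤ, M.obj.IsLE d') ∧
            (Nonempty (K.obj ≅ DCoh.inD Y (Coh.structureModule Y)) →
              Nonempty (M.obj ≅ (DCoh.inD W (Coh.structureModule W))⟦n⟧)) := by
  haveI := c.isOpenImmersion
  haveI := c.isProper
  haveI : CompactSpace c.Xbar := QuasiCompact.compactSpace_of_compactSpace c.fbar
  haveI : QuasiSeparatedSpace c.Xbar := quasiSeparatedSpace_of_quasiSeparated c.fbar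
  haveI : LocallyOfFiniteType f := c.fac ▸ inferInstance
  -- an affine chart of the base
  obtain ⟨V, hV, hxV, -⟩ := exists_isAffineOpen_mem_and_subset (x := f x) (U := (⊤ : Y.Opens)) trivial
  let R : Type u := Γ(Y, V)
  haveI : IsNoetherianRing R := IsLocallyNoetherian.component_noetherian ⟨V, hV⟩
  let S : Scheme.{u} := Spec (CommRingCat.of R)
  let v : S ⟶ Y := hV.fromSpec
  haveI : IsOpenImmersion v := inferInstanceAs (IsOpenImmersion hV.fromSpec)
  haveI : IsNoetherian S := inferInstance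
  haveI : QuasiCompact v := quasiCompact_of_compactSpace v
  have hvr : Set.range v.base = (V : Set Y) := hV.range_fromSpec
  let Zb := pullback c.fbar v
  let pr : Zb ⟶ c.Xbar := pullback.fst c.fbar v
  let q : Zb ⟶ S := pullback.snd c.fbar v
  haveI : CompactSpace Zb := QuasiCompact.compactSpace_of_compactSpace q
  haveI : IsLocallyNoetherian Zb := LocallyOfFiniteType.isLocallyNoetherian q
  haveI : IsNoetherian Zb := { }
  haveI : QuasiCompact pr := quasiCompact_of_compactSpace pr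
  haveI := QCohD.hasRpush q
  have hq : DCoh.RpushPreservesQCoh q := fun K hK => QCohD.isQCohD_rpush q hK
  haveI := isLeftAdjoint_rpushQ q hq
  let aq := (DCoh.RpushQ q hq).rightAdjoint
  have adjq : DCoh.RpushQ q hq ⊣ aq := Adjunction.ofIsLeftAdjoint _
  -- an affine chart of the source
  obtain ⟨U₀, hU₀, hxU₀, hU₀V⟩ := exists_isAffineOpen_mem_and_subset (x := x) (U := f ⁻¹ᵁ V) hxV
  haveI : IsAffine (U₀ : Scheme.{u}) := hU₀
  haveI : IsNoetherian (U₀ : Scheme.{u}) := { }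
  let u₀ : (U₀ : Scheme.{u}) ⟶ S := IsOpenImmersion.lift v (U₀.ι ≫ f) (by
    rw [hvr]; rintro _ ⟨z, rfl⟩; exact hU₀V z.2)
  have hu₀ : u₀ ≫ v = U₀.ι ≫ f := IsOpenImmersion.lift_fac _ _ _
  haveI : LocallyOfFiniteType u₀ := by
    haveI : LocallyOfFiniteType (u₀ ≫ v) := by rw [hu₀]; infer_instance
    exact locallyOfFiniteType_of_comp u₀ v
  obtain ⟨n, i₁, hi₁, hiq⟩ := H11Ample.exists_immersion_projSpaceOver u₀
    (H11Ample.isQuasiAffine_iff_isAmple.1 (inferInstance : (U₀ : Scheme.{u}).IsQuasiAffine))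
  haveI := hi₁
  obtain ⟨φ, hφ⟩ := H22Alg.PnBC.isPullback_projSpaceOver (n := n) R
  let P := CohB1.ProjSpace n R
  let p : P ⟶ S := CohB1.ProjSpace.toSpec n R
  haveI : IsProper p := H27Weil.isProper_toSpec n R
  haveI : Smooth p := H26Smooth.smooth_toSpec n R
  haveI : CompactSpace P := QuasiCompact.compactSpace_of_compactSpace p
  haveI : QuasiSeparatedSpace P := quasiSeparatedSpace_of_quasiSeparated p
  haveI : IsLocallyNoetherian P := LocallyOfFiniteType.isLocallyNoetherian p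
  haveI : IsNoetherian P := { }
  let i₀ : (U₀ : Scheme.{u}) ⟶ P := i₁ ≫ φ.hom
  haveI : IsImmersion i₀ := inferInstanceAs (IsImmersion (i₁ ≫ φ.hom))
  have hi₀ : i₀ ≫ p = u₀ := by rw [Category.assoc, hφ, hiq]
  haveI : QuasiCompact i₀ := quasiCompact_of_compactSpace i₀
  -- a small affine open of projective space
  let T := Twist.twistProjSpace n R (-((n : ℤ) + 1))
  let x₀ : (U₀ : Scheme.{u}) := ⟨x, hxU₀⟩
  obtain ⟨B, e₀, hxB, he₀⟩ := H11Ample.exists_gen (H22Alg.RegSheaf.isInvertible_twistProjSpace n R (-((n : ℤ) + 1))) (i₀.base x₀)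
  obtain ⟨W₀, hW₀, hxW₀, hW₀le⟩ := exists_isAffineOpen_mem_and_subset (U := i₀.coborderRange ⊓ B) (x := i₀.base x₀)
    ⟨subset_coborder ⟨x₀, rfl⟩, hxB⟩
  obtain ⟨τ⟩ := H11Tilde.nonempty_iso_structureModule T W₀
    (T.presheaf.map (homOfLE (hW₀le.trans inf_le_right)).op e₀) fun W' hW' => (he₀.res _).bijective hW'
  haveI : IsAffine (W₀ : Scheme.{u}) := hW₀
  haveI : IsNoetherian (W₀ : Scheme.{u}) := { }
  let U₁ := i₀ ⁻¹ᵁ W₀
  let iW : (U₁ : Scheme.{u}) ⟶ W₀ := i₀ ∣_ W₀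
  haveI : CompactSpace (U₁ : Scheme.{u}) := isCompact_iff_compactSpace.1 (TopologicalSpace.NoetherianSpace.isCompact _)
  haveI : IsNoetherian (U₁ : Scheme.{u}) := { }
  haveI : IsClosedImmersion iW := by
    haveI : IsImmersion iW := inferInstance
    refine IsClosedImmersion.of_isPreimmersion _ ?_
    have h1 : Set.range iW.base = W₀.ι.base ⁻¹' Set.range i₀.base := by
      ext w
      constructor
      · rintro ⟨z, rfl⟩
        exact ⟨U₁.ι.base z, congr($((morphismRestrict_ι i₀ W₀).symm).base z)⟩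
      · rintro ⟨z, hz⟩
        have hzU : z ∈ U₁ := by show i₀.base z ∈ W₀; rw [hz]; exact w.2
        exact ⟨⟨z, hzU⟩, W₀.ι.isOpenEmbedding.injective
          ((congr($(morphismRestrict_ι i₀ W₀).base ⟨z, hzU⟩)).trans hz)⟩
    rw [h1, show W₀.ι.base ⁻¹' Set.range i₀.base = W₀.ι.base ⁻¹' closure (Set.range i₀.base) from ?_]
    · exact isClosed_closure.preimage W₀.ι.continuous
    refine Set.Subset.antisymm (Set.preimage_mono subset_closure) fun w hw => ?_
    by_contra hn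
    exact (hW₀le w.2).1 ⟨hw, hn⟩
  -- its compactification in projective space
  let Z := i₀.image
  let ι : Z ⟶ P := i₀.imageι
  let j₂ : (U₀ : Scheme.{u}) ⟶ Z := i₀.toImage
  haveI : IsProper (ι ≫ p) := inferInstance
  haveI : CompactSpace Z := QuasiCompact.compactSpace_of_compactSpace (ι ≫ p)
  haveI : QuasiSeparatedSpace Z := quasiSeparatedSpace_of_quasiSeparated (ι ≫ p)
  haveI := QCohD.hasRpush ι
  haveI := QCohD.hasRpush p
  haveI := QCohD.hasRpush (ι ≫ p)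
  have hι : DCoh.RpushPreservesQCoh ι := fun K hK => QCohD.isQCohD_rpush ι hK
  have hp : DCoh.RpushPreservesQCoh p := fun K hK => QCohD.isQCohD_rpush p hK
  have hg : DCoh.RpushPreservesQCoh (ι ≫ p) := fun K hK => QCohD.isQCohD_rpush (ι ≫ p) hK
  haveI := isLeftAdjoint_rpushQ ι hι
  haveI := isLeftAdjoint_rpushQ p hp
  haveI := isLeftAdjoint_rpushQ (ι ≫ p) hg
  have adjι := Adjunction.ofIsLeftAdjoint (DCoh.RpushQ ι hι)
  have adjp := Adjunction.ofIsLeftAdjoint (DCoh.RpushQ p hp)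
  have adjg := Adjunction.ofIsLeftAdjoint (DCoh.RpushQ (ι ≫ p) hg)
  obtain ⟨ec⟩ := nonempty_rightAdjoint_comp ι p hι hp hg adjι adjp adjg
  -- the closed immersion into the chart
  haveI := QCohD.hasRpush iW
  have hiW : DCoh.RpushPreservesQCoh iW := fun K hK => QCohD.isQCohD_rpush iW hK
  haveI := isLeftAdjoint_rpushQ iW hiW
  have adjW := Adjunction.ofIsLeftAdjoint (DCoh.RpushQ iW hiW)
  -- the compactifications
  let j₁ : (U₀ : Scheme.{u}) ⟶ Zb := pullback.lift (U₀.ι ≫ c.j) u₀ (by rw [Category.assoc, c.fac, hu₀])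
  have hj₁ : j₁ ≫ pr = U₀.ι ≫ c.j := pullback.lift_fst _ _ _
  haveI : IsOpenImmersion j₁ := by
    haveI : IsOpenImmersion (j₁ ≫ pr) := by rw [hj₁]; infer_instance
    exact IsOpenImmersion.of_comp j₁ pr
  haveI : IsProper q := inferInstance
  let c₁ : DEt.Compactification u₀ :=
    { Xbar := Zb, j := j₁, fbar := q, isOpenImmersion := inferInstance, isProper := inferInstance
      fac := pullback.lift_snd _ _ _ }
  let c₂ : DEt.Compactification u₀ :=
    { Xbar := Z, j := j₂, fbar := ι ≫ p, isOpenImmersion := inferInstance, isProper := inferInstance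
      fac := by rw [← Category.assoc, Scheme.Hom.toImage_imageι, hi₀] }
  haveI : DCoh.HasRpush c₁.fbar := ‹DCoh.HasRpush q›
  haveI : DCoh.HasRpush c₂.fbar := ‹DCoh.HasRpush (ι ≫ p)›
  obtain ⟨ei⟩ := nonempty_shriekC_independent c₁ c₂ (h₁ := hq) (h₂ := hg) adjq adjg
  -- base change to the charts
  obtain ⟨θY, -, hθY⟩ := exists_bc adj v pr adjq (pullback.condition)
    (IsOpenImmersion.range_pullbackFst _ _)
    (fun L => ⟨(rd v).obj L.obj, QCohD.isQCohD_rd v L.property⟩) fun L => rfl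
  let jW : (U₁ : Scheme.{u}) ⟶ Z := U₁.ι ≫ j₂
  haveI : QuasiCompact jW := quasiCompact_of_compactSpace jW
  haveI : QuasiCompact W₀.ι := quasiCompact_of_compactSpace W₀.ι
  have hjW : jW ≫ ι = iW ≫ W₀.ι := by
    rw [Category.assoc, Scheme.Hom.toImage_imageι, morphismRestrict_ι]
  have hrW : Set.range jW.base = ι.base ⁻¹' Set.range W₀.ι.base := by
    ext z
    constructor
    · rintro ⟨w, rfl⟩
      exact ⟨iW.base w, congr($(hjW.symm).base w)⟩
    · intro hz
      rw [Set.mem_preimage, Scheme.Opens.range_ι] at hz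
      have hcl : ι.base z ∈ closure (Set.range i₀.base) := by
        have h1 : z ∈ closure (Set.range j₂.base) := by
          rw [(j₂.denseRange).closure_range]; trivial
        have h2 := image_closure_subset_closure_image ι.continuous ⟨z, h1, rfl⟩
        refine closure_mono ?_ h2
        rintro _ ⟨_, ⟨w, rfl⟩, rfl⟩
        exact ⟨w, congr($((Scheme.Hom.toImage_imageι i₀).symm).base w)⟩
      obtain ⟨w, hw⟩ : ι.base z ∈ Set.range i₀.base := by
        by_contra hn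
        exact (hW₀le hz).1 ⟨hcl, hn⟩
      have hwU : w ∈ U₁ := by show i₀.base w ∈ W₀; rw [hw]; exact hz
      refine ⟨⟨w, hwU⟩, ι.isClosedEmbedding.injective ?_⟩
      exact (congr($(Scheme.Hom.toImage_imageι i₀).base w)).trans hw
  obtain ⟨θW, -, hθW⟩ := exists_bc adjι W₀.ι jW adjW hjW hrW
    (fun L => ⟨(rd W₀.ι).obj L.obj, QCohD.isQCohD_rd W₀.ι L.property⟩) fun L => rfl
  -- the chart
  haveI hsm : Smooth (W₀.ι ≫ p ≫ v) := inferInstance
  have hrd : SmoothOfRelativeDimension n (W₀.ι ≫ p ≫ v) := by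
    haveI : SmoothOfRelativeDimension n p := S19040.smoothOfRelDim_toSpec n R
    haveI : SmoothOfRelativeDimension (0 + (n + 0)) (W₀.ι ≫ p ≫ v) := inferInstance
    simpa using ‹SmoothOfRelativeDimension (0 + (n + 0)) (W₀.ι ≫ p ≫ v)›
  refine ⟨U₁, U₁.ι ≫ U₀.ι, inferInstance, W₀, iW, W₀.ι ≫ p ≫ v, inferInstance, inferInstance, inferInstance,
    hsm, ⟨⟨x₀, hxW₀⟩, rfl⟩, ?_, ⟨R, inferInstance, inferInstance, v, inferInstance, ?_⟩, inferInstance, hiW, _, adjW, n, (n : ℤ), rfl, hrd, fun K c₀ hc₀ => ?_⟩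
  · simp only [iW, morphismRestrict_ι_assoc, Category.assoc]
    rw [← Category.assoc i₀ p, hi₀, hu₀]
  · rintro _ ⟨w, rfl⟩
    exact ⟨(W₀.ι ≫ p).base w, rfl⟩
  haveI := hθY K c₀ hc₀
  let KV : DCoh.DQCoh S := ⟨(rd v).obj K.obj, QCohD.isQCohD_rd v K.property⟩
  have hKV : KV.obj.IsGE c₀ := isGE_rd' v K.obj c₀ hc₀
  let Mp := (DCoh.RpushQ p hp).rightAdjoint.obj KV
  obtain ⟨lo, hlo⟩ := exists_isGE adjp KV c₀ hKV
  haveI := hθW Mp lo hlo
  refine ⟨⟨(rd W₀.ι).obj Mp.obj, QCohD.isQCohD_rd W₀.ι Mp.property⟩, lo, isGE_rd' W₀.ι Mp.obj lo hlo, ⟨?_⟩,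
    fun d hd => ?_, fun hK => ?_⟩
  · let A := (a.obj K).obj
    let F := (aq.obj KV).obj
    let G := ((DCoh.RpushQ (ι ≫ p) hg).rightAdjoint.obj KV).obj
    let s₁ : (rd (U₁.ι ≫ U₀.ι)).obj ((rd c.j).obj A) ≅ (rd U₁.ι).obj ((rd U₀.ι).obj ((rd c.j).obj A)) :=
      Stalk.rdComp U₁.ι U₀.ι _ rfl _
    let s₂ : (rd U₀.ι).obj ((rd c.j).obj A) ≅ (rd j₁).obj ((rd pr).obj A) :=
      (Stalk.rdComp U₀.ι c.j _ rfl A).symm ≪≫ Stalk.rdComp j₁ pr _ hj₁ A
    let s₃ : (rd j₁).obj ((rd pr).obj A) ≅ (rd j₂).obj G :=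
      (rd j₁).mapIso (asIso (θY K)) ≪≫ ei.app ⟨KV, c₀, hKV⟩
    exact s₁ ≪≫ (rd U₁.ι).mapIso (s₂ ≪≫ s₃) ≪≫ (Stalk.rdComp U₁.ι j₂ jW rfl G).symm ≪≫
      (rd jW).mapIso ((ObjectProperty.ι _).mapIso (ec.app KV)) ≪≫ asIso (θW Mp)
  · haveI := hd
    haveI := Stalk.isLE_rd v K.obj d
    obtain ⟨d', hd'⟩ := exists_isLE_rightAdjoint_projSpace n R adjp KV d ‹_›
    haveI := hd'
    exact ⟨d', Stalk.isLE_rd W₀.ι _ d'⟩
  · obtain ⟨eK⟩ := hK
    let eV : KV.obj ≅ DCoh.inD S (Coh.structureModule S) := (rd v).mapIso eK ≪≫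
      ((Scheme.Modules.restrictFunctor v).mapDerivedCategorySingleFunctor 0).app (Coh.structureModule Y) ≪≫
        (DerivedCategory.singleFunctor S.Modules 0).mapIso (Scheme.Modules.restrictUnitIso v)
    obtain ⟨eω⟩ := S1824.result n R hp _ adjp KV ⟨eV⟩
    exact ⟨(rd W₀.ι).mapIso eω ≪≫ ((rd W₀.ι).commShiftIso (n : ℤ)).app _ ≪≫
      (shiftFunctor _ (n : ℤ)).mapIso
        (((Scheme.Modules.restrictFunctor W₀.ι).mapDerivedCategorySingleFunctor 0).app T ≪≫
          (DerivedCategory.singleFunctor _ 0).mapIso τ)⟩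

/-- A chart of `f^!`: `(f^!K)|_U` is the right adjoint of a closed immersion into a smooth affine scheme
over an affine open of `Y`. -/
theorem exists_local_model' [IsNoetherian X] [IsNoetherian Y] {f : X ⟶ Y} (c : DEt.Compactification f)
    [DCoh.HasRpush c.fbar] {hc : DCoh.RpushPreservesQCoh c.fbar} {a : DCoh.DQCoh Y ⥤ DCoh.DQCoh c.Xbar}
    (adj : DCoh.RpushQ c.fbar hc ⊣ a) (x : X) :
    ∃ (U : Scheme.{u}) (j : U ⟶ X) (_ : IsOpenImmersion j) (W : Scheme.{u}) (i : U ⟶ W) (g : W ⟶ Y)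
      (_ : IsAffine W) (_ : IsNoetherian W) (_ : IsClosedImmersion i) (_ : Smooth g),
      x ∈ Set.range j.base ∧ i ≫ g = j ≫ f ∧
      (∃ (R : Type u) (_ : CommRing R) (_ : IsNoetherianRing R) (v : Spec (CommRingCat.of R) ⟶ Y) (_ : IsOpenImmersion v),
        Set.range g.base ⊆ Set.range v.base) ∧
      ∃ (_ : DCoh.HasRpush i) (hi : DCoh.RpushPreservesQCoh i) (b : DCoh.DQCoh W ⥤ DCoh.DQCoh U)
        (_ : DCoh.RpushQ i hi ⊣ b) (n : ℤ),
        ∀ (K : DCoh.DQCoh Y) (c₀ : ℤ), K.obj.IsGE c₀ →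
          ∃ (M : DCoh.DQCoh W) (lo : ℤ), M.obj.IsGE lo ∧
            Nonempty ((rd j).obj (haveI := c.isOpenImmersion; (rd c.j).obj (a.obj K).obj) ≅ (b.obj M).obj) ∧
            (∀ d : ℤ, K.obj.IsLE d → ∃ d' : ℤ, M.obj.IsLE d') ∧
            (Nonempty (K.obj ≅ DCoh.inD Y (Coh.structureModule Y)) →
              Nonempty (M.obj ≅ (DCoh.inD W (Coh.structureModule W))⟦n⟧)) := by
  obtain ⟨U, j, hj, W, i, g, hW, hWN, hi, hg, hx, w, hR, hi', hq, b, adjb, N, n, -, -, h⟩ :=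
    exists_local_model'' c adj x
  exact ⟨U, j, hj, W, i, g, hW, hWN, hi, hg, hx, w, hR, hi', hq, b, adjb, n, h⟩

/-- A chart of `f^!`: `(f^!K)|_U` is the right adjoint of a closed immersion into a smooth affine `Y`-scheme. -/
theorem exists_local_model [IsNoetherian X] [IsNoetherian Y] {f : X ⟶ Y} (c : DEt.Compactification f)
    [DCoh.HasRpush c.fbar] {hc : DCoh.RpushPreservesQCoh c.fbar} {a : DCoh.DQCoh Y ⥤ DCoh.DQCoh c.Xbar}
    (adj : DCoh.RpushQ c.fbar hc ⊣ a) (x : X) :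
    ∃ (U : Scheme.{u}) (j : U ⟶ X) (_ : IsOpenImmersion j) (W : Scheme.{u}) (i : U ⟶ W) (g : W ⟶ Y)
      (_ : IsAffine W) (_ : IsNoetherian W) (_ : IsClosedImmersion i) (_ : Smooth g),
      x ∈ Set.range j.base ∧ i ≫ g = j ≫ f ∧
      ∃ (_ : DCoh.HasRpush i) (hi : DCoh.RpushPreservesQCoh i) (b : DCoh.DQCoh W ⥤ DCoh.DQCoh U)
        (_ : DCoh.RpushQ i hi ⊣ b) (n : ℤ),
        ∀ (K : DCoh.DQCoh Y) (c₀ : ℤ), K.obj.IsGE c₀ →
          ∃ (M : DCoh.DQCoh W) (lo : ℤ), M.obj.IsGE lo ∧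
            Nonempty ((rd j).obj (haveI := c.isOpenImmersion; (rd c.j).obj (a.obj K).obj) ≅ (b.obj M).obj) ∧
            (∀ d : ℤ, K.obj.IsLE d → ∃ d' : ℤ, M.obj.IsLE d') ∧
            (Nonempty (K.obj ≅ DCoh.inD Y (Coh.structureModule Y)) →
              Nonempty (M.obj ≅ (DCoh.inD W (Coh.structureModule W))⟦n⟧)) := by
  obtain ⟨U, j, hj, W, i, g, hW, hWN, hi, hg, hx, w, -, h⟩ := exists_local_model' c adj x
  exact ⟨U, j, hj, W, i, g, hW, hWN, hi, hg, hx, w, h⟩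

end Groth.Agent.LeadBrown
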