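import Groth.Agent.H16Derived.BaseChange.Main
import Groth.Agent.H26Tor.BaseChange

/-!
# Tor independence for schemes flat over a base
-/

set_option autoImplicit false
set_option linter.style.haveILetI false
set_option linter.unusedSectionVars false
set_option backward.isDefEq.respectTransparency false

universe u

open CategoryTheory CategoryTheory.Limits AlgebraicGeometry TensorProduct MonoidalCategory

namespace Groth.Agent.LeadBrown

open Groth.Agent.H16Derived.BaseChange (TI flat_hom_of_comp)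

/-- Base change of flat modules is acyclic. -/
theorem subsingleton_tor_flatOver (R A R' A' B : Type u) [CommRing R] [CommRing A] [CommRing R'] [CommRing A']
    [CommRing B] [Algebra R A] [Module.Flat R A] [Algebra R R'] [Algebra A B] [Algebra R B] [IsScalarTower R A B]
    [Module.Flat R B] [Algebra (A ⊗[R] R') A'] [Module.Flat (A ⊗[R] R') A'] [Algebra A A']
    [IsScalarTower A (A ⊗[R] R') A'] (n : ℕ) (hn : 0 < n) : Subsingleton (DRing.Tor A n A' B) := by
  obtain ⟨k, rfl⟩ := Nat.exists_eq_succ_of_ne_zero hn.ne'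
  have step1 : ∀ m : ℕ, IsZero (((Tor (ModuleCat.{u} A) (m + 1)).obj (ModuleCat.of A (A ⊗[R] R'))).obj
      (ModuleCat.of A B)) := fun m => by
    obtain ⟨L⟩ : Nonempty (ProjectiveResolution (ModuleCat.of R R')) := HasProjectiveResolution.out
    obtain ⟨σ, hσ⟩ := H26Tor.exists_semilinear_tor_left (A := R) (A' := A) B L (fun i => by
      rw [HomologicalComplex.exactAt_iff_isZero_homology]
      exact (H1CAlg.isZero_Tor_of_flat (ModuleCat.of R A) (ModuleCat.of R R') i).of_iso
        (L.isoLeftDerivedObj ((tensoringLeft (ModuleCat.{u} R)).obj (ModuleCat.of R A)) (i + 1)).symm) (m + 1)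
    haveI : Subsingleton (((Tor (ModuleCat.{u} R) (m + 1)).obj (ModuleCat.of R R')).obj (ModuleCat.of R B)) := by
      obtain ⟨e⟩ := H3CAlg.TorComm.nonempty_iso (m + 1) (ModuleCat.of R R') (ModuleCat.of R B)
      exact ModuleCat.subsingleton_of_isZero
        ((H1CAlg.isZero_Tor_of_flat (ModuleCat.of R B) (ModuleCat.of R R') m).of_iso e)
    let e : (ModuleCat.extendScalars (algebraMap R A)).obj (ModuleCat.of R R') ≅ ModuleCat.of A (A ⊗[R] R') :=
      (H26Tor.extendEquiv (A' := A) (ModuleCat.of R R')).symm.toModuleIso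
    haveI := hσ.2.subsingleton
    exact (ModuleCat.isZero_of_subsingleton _).of_iso
      (((Tor (ModuleCat.{u} A) (m + 1)).mapIso e).app (ModuleCat.of A B)).symm
  obtain ⟨F⟩ : Nonempty (ProjectiveResolution (ModuleCat.of A B)) := HasProjectiveResolution.out
  obtain ⟨σ, hσ⟩ := H26Tor.exists_semilinear_tor_right (A := A) (A' := A ⊗[R] R') A' F (fun i => by
    rw [HomologicalComplex.exactAt_iff_isZero_homology]
    exact (step1 i).of_iso
      (F.isoLeftDerivedObj ((tensoringLeft (ModuleCat.{u} A)).obj (ModuleCat.of A (A ⊗[R] R'))) (i + 1)).symm) (k + 1)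
  haveI := ModuleCat.subsingleton_of_isZero (H1CAlg.isZero_Tor_of_flat (ModuleCat.of (A ⊗[R] R') A')
    ((ModuleCat.extendScalars (algebraMap A (A ⊗[R] R'))).obj (ModuleCat.of A B)) k)
  exact hσ.1.subsingleton

/-- **Base change of a scheme flat over an affine base is Tor independent of a morphism flat over the base.** -/
theorem ti_of_flatOver {R R' : CommRingCat.{u}} (φ₀ : R ⟶ R') {W U W' : Scheme.{u}} (g : W ⟶ Spec R) [Flat g]
    (i : U ⟶ W) [Flat (i ≫ g)] (gW : W' ⟶ W) (g' : W' ⟶ Spec R') (hsq : IsPullback gW g' g (Spec.map φ₀)) :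
    TI i gW := by
  intro A A' B a a' b _ _ _ φ ψ h1 h2 n hn
  let α : R ⟶ A := Spec.preimage (a ≫ g)
  let β : R' ⟶ A' := Spec.preimage (a' ≫ g')
  have hα : Spec.map α = a ≫ g := Spec.map_preimage _
  have hβ : Spec.map β = a' ≫ g' := Spec.map_preimage _
  have hflatA : α.hom.Flat := by
    haveI : Flat (Spec.map α) := hα ▸ inferInstance
    exact Flat.SpecMap_iff.1 inferInstance
  have hflatB : (α ≫ ψ).hom.Flat := by
    haveI : Flat (Spec.map (α ≫ ψ)) := by
      rw [Spec.map_comp, hα, ← Category.assoc, h2, Category.assoc]; infer_instance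
    exact Flat.SpecMap_iff.1 inferInstance
  have hc : φ₀ ≫ β = α ≫ φ := Spec.map_injective (by
    rw [Spec.map_comp, Spec.map_comp, hα, hβ, Category.assoc, ← hsq.w, ← Category.assoc, ← h1, Category.assoc])
  algebraize [α.hom, φ₀.hom, ψ.hom, φ.hom, (α ≫ ψ).hom, (α ≫ φ).hom]
  haveI : IsScalarTower R A B := IsScalarTower.of_algebraMap_eq' rfl
  haveI : IsScalarTower R A A' := IsScalarTower.of_algebraMap_eq' rfl
  let βa : R' →ₐ[R] A' := ⟨β.hom, fun r => congrArg (fun t : R ⟶ A' => t r) hc⟩
  let μ : A ⊗[R] R' →ₐ[A] A' :=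
    Algebra.TensorProduct.lift (Algebra.ofId A A') βa fun _ _ => mul_comm _ _
  letI : Algebra (A ⊗[R] R') A' := μ.toRingHom.toAlgebra
  haveI : IsScalarTower A (A ⊗[R] R') A' := IsScalarTower.of_algebraMap_eq fun r => (μ.commutes r).symm
  haveI : Module.Flat R B := hflatB
  haveI : Module.Flat (A ⊗[R] R') A' := by
    let P := Spec (CommRingCat.of (A ⊗[R] R'))
    let il : A ⟶ CommRingCat.of (A ⊗[R] R') := CommRingCat.ofHom Algebra.TensorProduct.includeLeftRingHom
    let ir : R' ⟶ CommRingCat.of (A ⊗[R] R') :=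
      CommRingCat.ofHom (Algebra.TensorProduct.includeRight (R := R) (A := A) (B := R')).toRingHom
    have hP : IsPullback (Spec.map il) (Spec.map ir) (Spec.map α) (Spec.map φ₀) :=
      isPullback_SpecMap_of_isPushout _ _ _ _ (CommRingCat.isPushout_tensorProduct R A R')
    let p : P ⟶ W' := hsq.lift (Spec.map il ≫ a) (Spec.map ir) (by rw [Category.assoc, ← hα, hP.w])
    have hp1 : p ≫ gW = Spec.map il ≫ a := hsq.lift_fst _ _ _
    have hp2 : p ≫ g' = Spec.map ir := hsq.lift_snd _ _ _
    have hpb : IsPullback (Spec.map il) p a gW :=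
      IsPullback.of_bot (by rw [hp2, ← hα]; exact hP) hp1.symm hsq
    haveI : IsOpenImmersion p := MorphismProperty.of_isPullback hpb (inferInstanceAs (IsOpenImmersion a))
    let μc : CommRingCat.of (A ⊗[R] R') ⟶ A' := CommRingCat.ofHom μ.toRingHom
    have e1 : il ≫ μc = φ := CommRingCat.hom_ext (RingHom.ext fun r => by
      show μ (r ⊗ₜ 1) = φ r
      rw [Algebra.TensorProduct.lift_tmul]; simp; rfl)
    have e2 : ir ≫ μc = β := CommRingCat.hom_ext (RingHom.ext fun r => by
      show μ (1 ⊗ₜ r) = β r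
      rw [Algebra.TensorProduct.lift_tmul]; simp; rfl)
    have hμ : Spec.map μc ≫ p = a' := by
      apply hsq.hom_ext
      · rw [Category.assoc, hp1, ← Category.assoc, ← Spec.map_comp, e1, h1]
      · rw [Category.assoc, hp2, ← Spec.map_comp, e2, hβ]
    haveI : IsOpenImmersion (Spec.map μc ≫ p) := by rw [hμ]; infer_instance
    haveI : IsOpenImmersion (Spec.map μc) := IsOpenImmersion.of_comp _ p
    exact (Flat.SpecMap_iff (f := μc)).1 inferInstance
  exact subsingleton_tor_flatOver R A R' A' B n hn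

end Groth.Agent.LeadBrown
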