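import Groth.Agent.LeadBrown.ShriekPerfect
import Groth.Agent.LeadBrown.DualizingLocal
import Groth.Agent.LeadBrown.TIFlatOver
import Groth.Agent.LeadBrown.RelPerfectFP
import Groth.Agent.H16Derived.Exchange.ProperPerf
import Groth.Agent.H02CA.SmoothRegular
import Groth.Agent.H4DR.Dualizing.GorensteinFibre
import Groth.Agent.H4DR.Dualizing.Gorenstein
import Groth.Agent.H16Derived.RelTensor.Chart

/-!
# The fibres of `f^!O` for flat `f` are dualizing
-/

set_option autoImplicit false
set_option linter.style.haveILetI false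
set_option linter.unusedSectionVars false
set_option backward.isDefEq.respectTransparency false
set_option maxHeartbeats 1000000

universe u

open CategoryTheory CategoryTheory.Limits AlgebraicGeometry

attribute [local instance] HasDerivedCategory.standard

namespace Groth.Agent.LeadBrown

open Groth.Agent.H16Derived Groth.Agent.H16Derived.KFlat
open Groth.Agent.H16Derived.KFlat.Stalk (rd rdComp hasLpull)
open DerivedCategory.TStructure (t)

variable [∀ (U V : Scheme.{u}) (j : U ⟶ V) [IsOpenImmersion j], PreservesFiniteLimits (Scheme.Modules.restrictFunctor j)]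
  [∀ (R : CommRingCat.{u}), PreservesFiniteLimits (tilde.functor R)]

/-- A smooth affine scheme over a field: `O[n]` is dualizing. -/
theorem isDualizingSch_smooth_field {k : Type u} [Field k] {W : Scheme.{u}} [IsAffine W]
    (g : W ⟶ Spec (CommRingCat.of k)) [Smooth g] (n : ℤ) (M : DCoh.D W)
    (eM : M ≅ (DCoh.inD W (Coh.structureModule W))⟦n⟧) : Dual2.IsDualizingSch W M := by
  let A : Type u := Γ(W, ⊤)
  let j : Spec (CommRingCat.of A) ⟶ W := W.isoSpec.inv
  let φ : CommRingCat.of k ⟶ CommRingCat.of A := Spec.preimage (j ≫ g)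
  haveI : Smooth (Spec.map φ) := by rw [Spec.map_preimage]; infer_instance
  letI := φ.hom.toAlgebra
  haveI hs : Algebra.Smooth k A := (HasRingHomProperty.Spec_iff (P := @Smooth)).1 ‹Smooth (Spec.map φ)›
  haveI : IsRegularRing k := inferInstance
  haveI := H02CA.isRegularRing_of_smooth k A
  haveI : IsNoetherianRing A := Algebra.FiniteType.isNoetherianRing k A
  have hdual : Dual.IsDualizing A (Dual.inD A A) := H4DR.Dualizing.isDualizing_self_of_regular
    (H4DR.Dualizing.ringKrullDim_lt_top_of_finiteType (A := k) (by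
      rw [ringKrullDim_eq_zero_of_field]; exact WithBot.coe_lt_coe.2 (ENat.natCast_lt_top 0)))
    fun p => IsRegularRing.isRegularLocalRing_localization p.asIdeal
  haveI : IsLocallyNoetherian W := LocallyOfFiniteType.isLocallyNoetherian g
  refine isDualizingSch_of_cover M fun x => ⟨A, inferInstance, j, inferInstance,
    ⟨W.isoSpec.hom.base x, congr($(W.isoSpec.hom_inv_id).base x)⟩, (Dual.inD A A)⟦n⟧,
    H4DR.Dualizing.isDualizing_shift hdual n, ⟨?_⟩⟩
  exact (rd j).mapIso eM ≪≫ ((rd j).commShiftIso n).app _ ≪≫ (shiftFunctor _ n).mapIso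
    (((Scheme.Modules.restrictFunctor j).mapDerivedCategorySingleFunctor 0).app (Coh.structureModule W) ≪≫
      (DerivedCategory.singleFunctor _ 0).mapIso (Scheme.Modules.restrictUnitIso j) ≪≫
      H4RepDual.tildeUnit.symm) ≪≫ (((DCoh.tildeD (CommRingCat.of A)).commShiftIso n).app _).symm

variable {X Y : Scheme.{u}} [IsNoetherian X] [IsNoetherian Y] {f : X ⟶ Y}

/-- **The fibres of `f^!O`.** -/
theorem isDualizingSch_lpull_fibre [Flat f] [LocallyOfFinitePresentation f] (hf : MoreMor.IsPerfectMor f)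
    (c : DEt.Compactification f) [DCoh.HasRpush c.fbar] {hc : DCoh.RpushPreservesQCoh c.fbar}
    {a : DCoh.DQCoh Y ⥤ DCoh.DQCoh c.Xbar} (adj : DCoh.RpushQ c.fbar hc ⊣ a) (O : DCoh.DQCoh Y)
    (eO : O.obj ≅ DCoh.inD Y (Coh.structureModule Y)) (y : Y) [DCoh.HasLpull (f.fiberι y)] :
    Dual2.IsDualizingSch (f.fiber y)
      ((DCoh.Lpull (f.fiberι y)).obj (haveI := c.isOpenImmersion; (rd c.j).obj (a.obj O).obj)) := by
  haveI := c.isOpenImmersion
  haveI : IsLocallyNoetherian (f.fiber y) :=
    haveI : LocallyOfFiniteType (f.fiberToSpecResidueField y) :=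
      inferInstanceAs (LocallyOfFiniteType (pullback.snd f (Y.fromSpecResidueField y)))
    LocallyOfFiniteType.isLocallyNoetherian (f.fiberToSpecResidueField y)
  refine isDualizingSch_of_cover _ fun z => ?_
  obtain ⟨U, j, hj, W, i, g, _, _, _, _, ⟨x, hx⟩, w, ⟨R, _, _, v, _, hgv⟩, _, hi', b, adjb, n, H⟩ :=
    exists_local_model' c adj ((f.fiberι y).base z)
  haveI := hj
  obtain ⟨M, l, hl, ⟨eU⟩, -, hM⟩ := H O 0 (t.isGE_of_iso eO.symm 0)
  obtain ⟨eM⟩ := hM ⟨eO⟩
  have hxy : g.base (i.base x) = y := by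
    have h1 : (i ≫ g).base x = (j ≫ f).base x := by rw [w]
    exact h1.trans ((congrArg f.base hx).trans (by
      have h2 : (f.fiberι y).base z ∈ Set.range (f.fiberι y).base := ⟨z, rfl⟩
      rw [Scheme.Hom.range_fiberι] at h2
      exact h2))
  -- the base, affine
  let gS : W ⟶ Spec (CommRingCat.of R) := IsOpenImmersion.lift v g hgv
  have hgS : gS ≫ v = g := IsOpenImmersion.lift_fac _ _ _
  haveI : Smooth gS := by
    haveI : Smooth (gS ≫ v) := by rw [hgS]; infer_instance
    exact MorphismProperty.of_postcomp (W := @Smooth) (W' := @IsOpenImmersion) gS v inferInstance inferInstance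
  let η : Spec (Y.residueField y) ⟶ Spec (CommRingCat.of R) :=
    IsOpenImmersion.lift v (Y.fromSpecResidueField y) (by
      rw [Scheme.range_fromSpecResidueField, Set.singleton_subset_iff, ← hxy]
      exact hgv ⟨_, rfl⟩)
  have hη : η ≫ v = Y.fromSpecResidueField y := IsOpenImmersion.lift_fac _ _ _
  haveI : Flat (i ≫ gS) := by
    haveI : Flat ((i ≫ gS) ≫ v) := by rw [Category.assoc, hgS, w]; infer_instance
    exact MorphismProperty.of_postcomp (W := @Flat) (W' := @IsOpenImmersion) (i ≫ gS) v inferInstance inferInstance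
  -- the chart of the fibre
  let W' := pullback gS η
  let gW : W' ⟶ W := pullback.fst gS η
  let g' : W' ⟶ Spec (Y.residueField y) := pullback.snd gS η
  have hW : IsPullback gW g' gS η := IsPullback.of_hasPullback _ _
  haveI : IsAffine W' := inferInstanceAs (IsAffine (pullback gS η))
  haveI : IsLocallyNoetherian W' := LocallyOfFiniteType.isLocallyNoetherian g'
  haveI : IsNoetherian W' := { }
  haveI : Smooth g' := inferInstanceAs (Smooth (pullback.snd gS η))
  let U' := pullback i gW
  let pU : U' ⟶ U := pullback.fst i gW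
  let i' : U' ⟶ W' := pullback.snd i gW
  have hU : IsPullback pU i' i gW := IsPullback.of_hasPullback _ _
  haveI : IsClosedImmersion i' := inferInstanceAs (IsClosedImmersion (pullback.snd i gW))
  haveI : IsAffine U := isAffine_of_isAffineHom i
  haveI : IsAffine U' := isAffine_of_isAffineHom i'
  haveI : IsLocallyNoetherian U' := LocallyOfFiniteType.isLocallyNoetherian i'
  haveI : CompactSpace U := inferInstance
  haveI : QuasiSeparatedSpace U := inferInstance
  have hηv : IsPullback η (𝟙 _) v (η ≫ v) := by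
    have h1 : IsPullback η (𝟙 _) (𝟙 (Spec (CommRingCat.of R))) η := IsPullback.of_vert_isIso ⟨by simp⟩
    have h2 : IsPullback (𝟙 (Spec (CommRingCat.of R))) (𝟙 _) v v := IsKernelPair.id_of_mono v
    simpa using h1.paste_horiz h2
  have hfU : IsPullback pU (i' ≫ g') (j ≫ f) (Y.fromSpecResidueField y) := by
    have h1 := (hU.paste_vert hW).paste_vert hηv
    rw [Category.assoc i' g', Category.comp_id, hη, Category.assoc i gS, hgS, w] at h1
    exact h1
  have hF : IsPullback (f.fiberι y) (f.fiberToSpecResidueField y) f (Y.fromSpecResidueField y) :=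
    IsPullback.of_hasPullback _ _
  let e : U' ⟶ f.fiber y := hF.lift (pU ≫ j) (i' ≫ g') (by rw [Category.assoc, hfU.w])
  have he1 : e ≫ f.fiberι y = pU ≫ j := hF.lift_fst _ _ _
  have he2 : e ≫ f.fiberToSpecResidueField y = i' ≫ g' := hF.lift_snd _ _ _
  have hpe : IsPullback pU e j (f.fiberι y) := IsPullback.of_bot (by rw [he2]; exact hfU) he1.symm hF
  haveI : IsOpenImmersion e := MorphismProperty.of_isPullback hpe hj
  obtain ⟨u, hu⟩ : z ∈ Set.range e.base := by
    obtain ⟨u₀, hu₀⟩ : z ∈ Set.range (pullback.snd j (f.fiberι y)).base := by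
      rw [Scheme.Pullback.range_snd]; exact ⟨x, hx⟩
    exact ⟨hpe.isoPullback.inv.base u₀, (congr($(hpe.isoPullback_inv_snd).base u₀)).trans hu₀⟩
  -- the base change
  haveI := QCohD.hasRpush i'
  haveI : QuasiCompact gW := quasiCompact_of_compactSpace gW
  haveI : QuasiCompact pU := quasiCompact_of_compactSpace pU
  haveI := QCohD.hasRpush gW
  haveI := QCohD.hasRpush pU
  haveI := hasLpull gW
  haveI := hasLpull pU
  have hi'' : DCoh.RpushPreservesQCoh i' := fun K hK => QCohD.isQCohD_rpush i' hK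
  have hgW : DCoh.RpushPreservesQCoh gW := fun K hK => QCohD.isQCohD_rpush gW hK
  have hpU : DCoh.RpushPreservesQCoh pU := fun K hK => QCohD.isQCohD_rpush pU hK
  have hLW : Dual3.LpullPreservesQCoh gW := fun K hK => QCohD.isQCohD_lpull gW hK
  have hLU : Dual3.LpullPreservesQCoh pU := fun K hK => QCohD.isQCohD_lpull pU hK
  haveI := isLeftAdjoint_rpushQ i' hi''
  let adj' := Adjunction.ofIsLeftAdjoint (DCoh.RpushQ i' hi'')
  let φ₀ : CommRingCat.of R ⟶ Y.residueField y := Spec.preimage η
  have hTI := ti_of_flatOver φ₀ gS i gW g' (by rw [Spec.map_preimage]; exact hW)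
  obtain ⟨e₁, hbp, -, hβ⟩ := exists_bcAdjoint hU hTI hi' hi'' adjb adj'
    (adjQ gW hLW hgW) (adjQ pU hLU hpU)
  have hpi : MoreMor.IsPerfectMor i := S1510.result i g (w.symm ▸ S1508.result j f (S7172.result j) hf)
  let β : (Dual3.LpullQ pU hLU).obj (b.obj M) ⟶ (DCoh.RpushQ i' hi'').rightAdjoint.obj ((Dual3.LpullQ gW hLW).obj M) :=
    haveI := hbp (b.obj M)
    adj'.homEquiv _ _ (inv (Dual3.bcPush e₁ (adjQ gW hLW hgW) (adjQ pU hLU hpU) (b.obj M)) ≫
      (Dual3.LpullQ gW hLW).map (adjb.counit.app M))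
  haveI : IsIso β := hβ M
    (fun Q hQ => hw_of_perfect (fun E hE => Exchange.isPerfect_rpush_of_perfectMor i hpi hE) M.property Q hQ) β (by
      haveI := hbp (b.obj M)
      exact (congrArg (Dual3.bcPush e₁ (adjQ gW hLW hgW) (adjQ pU hLU hpU) (b.obj M) ≫ ·)
        ((adj'.homEquiv_counit _ _ _).symm.trans (Equiv.symm_apply_apply _ _))).trans (IsIso.hom_inv_id_assoc _ _))
  -- dualizing on the chart
  obtain ⟨e₂⟩ := RelTensor.nonempty_lpull_one gW n
  have hW' : Dual2.IsDualizingSch W' ((Dual3.LpullQ gW hLW).obj M).obj :=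
    isDualizingSch_smooth_field (k := Y.residueField y) g' n _ ((DCoh.Lpull gW).mapIso eM ≪≫ e₂)
  have hU' := H4RepDual.isDualizingSch_rightAdjoint i' (hf := hi'') adj' _ hW'
  let A : Type u := Γ(U', ⊤)
  let k : Spec (CommRingCat.of A) ⟶ U' := U'.isoSpec.inv
  obtain ⟨ω, hω, ⟨eω⟩⟩ := hU' A k
  haveI : IsOpenImmersion (k ≫ e) := inferInstance
  haveI := hasLpull pU
  obtain ⟨e₃⟩ := QCohD.lpull_factor (f.fiberι y) e pU j he1.symm ((rd c.j).obj (a.obj O).obj)
  refine ⟨A, inferInstance, k ≫ e, inferInstance, ⟨U'.isoSpec.hom.base u, ?_⟩, ω, hω, ⟨?_⟩⟩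
  · rw [← hu]
    exact congr(e.base ($(U'.isoSpec.hom_inv_id).base u))
  · exact rdComp k e _ rfl _ ≪≫ (rd k).mapIso (e₃ ≪≫ (DCoh.Lpull pU).mapIso eU ≪≫
      (ObjectProperty.ι _).mapIso (asIso β)) ≪≫ eω

end Groth.Agent.LeadBrown
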