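import Groth.Agent.LeadBrown.ProjLineBase
import Groth.Agent.LeadBrown.ShiftTensor
import Groth.Agent.LeadBrown.ShriekTensor
import Groth.Agent.H27Weil.Geometry
import Groth.Agent.H8Props.PseudoCoh.PerfectMor
import Groth.Agent.H06Unram.AffineSpaceSmooth
import Groth.Agent.H16Derived.BaseChange.Finiteness
import Groth.Agent.H16Derived.RelTensor.Chart
import Groth.Agent.S1824

/-!
# `f^! = Lf^*[1]` for the affine line
-/

set_option autoImplicit false
set_option linter.style.haveILetI false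
set_option linter.unusedSectionVars false
set_option backward.isDefEq.respectTransparency false

universe u

open CategoryTheory CategoryTheory.Limits AlgebraicGeometry

attribute [local instance] HasDerivedCategory.standard

namespace Groth.Agent.LeadBrown

open Groth.Agent.H16Derived
open Groth.Agent.H16Derived.KFlat.Stalk (rd rdComp hasLpull lpullCommShift)

/-- The projection of the affine line. -/
noncomputable abbrev line (Y : Scheme.{u}) : 𝔸(I₁.{u}; Y) ⟶ Y := 𝔸(I₁.{u}; Y) ↘ Y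

/-- **`f^!O = O[1]` for the affine line**, through the compactification pulled back from `P¹` over `ℤ`. -/
theorem exists_compactification_line (Y : Scheme.{u}) [IsNoetherian Y] :
    ∃ (c : DEt.Compactification (line Y)) (_ : DCoh.HasRpush c.fbar) (hc : DCoh.RpushPreservesQCoh c.fbar)
      (a : DCoh.DQCoh Y ⥤ DCoh.DQCoh c.Xbar) (_ : DCoh.RpushQ c.fbar hc ⊣ a) (O : DCoh.DQCoh Y)
      (_ : O.obj ≅ DCoh.inD Y (Coh.structureModule Y)),
      Nonempty ((haveI := c.isOpenImmersion; (rd c.j).obj (a.obj O).obj) ≅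
        (DCoh.inD 𝔸(I₁.{u}; Y) (Coh.structureModule 𝔸(I₁.{u}; Y)))⟦(1 : ℤ)⟧) := by
  let R : Type u := ULift.{u} ℤ
  let S := Spec (CommRingCat.of R)
  haveI : IsNoetherianRing R := isNoetherianRing_of_ringEquiv ℤ ULift.ringEquiv.symm
  let t : Y ⟶ S := specULiftZIsTerminal.from Y
  obtain ⟨j₀, hj₀, hw₀, hrg⟩ := exists_chart_line R
  obtain ⟨tw⟩ := nonempty_twist_restrict_chart R j₀ hrg
  let P₀ := CohB1.ProjSpace 1 R
  let π : P₀ ⟶ S := CohB1.ProjSpace.toSpec 1 R
  haveI : IsProper π := H27Weil.isProper_toSpec 1 R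
  haveI : Smooth π := H26Smooth.smooth_toSpec 1 R
  haveI : Flat π := inferInstance
  let P := pullback π t
  let pr : P ⟶ P₀ := pullback.fst π t
  let q : P ⟶ Y := pullback.snd π t
  let mt := AffineSpace.map I₁.{u} t
  let j : 𝔸(I₁.{u}; Y) ⟶ P := pullback.lift (mt ≫ j₀) (line Y) (by
    rw [Category.assoc, hw₀]
    exact AffineSpace.map_over t)
  have hj1 : j ≫ pr = mt ≫ j₀ := pullback.lift_fst _ _ _
  have hj2 : j ≫ q = line Y := pullback.lift_snd _ _ _
  have hsq : IsPullback mt j j₀ pr :=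
    IsPullback.of_bot (by rw [hj2, hw₀]; exact AffineSpace.isPullback_map t) hj1.symm (IsPullback.of_hasPullback π t)
  haveI : IsOpenImmersion j := MorphismProperty.of_isPullback hsq hj₀
  haveI : IsProper q := inferInstance
  let c : DEt.Compactification (line Y) := ⟨P, j, q, inferInstance, inferInstance, hj2⟩
  haveI : CompactSpace P₀ := QuasiCompact.compactSpace_of_compactSpace π
  haveI : QuasiSeparatedSpace P₀ := quasiSeparatedSpace_of_quasiSeparated π
  haveI : CompactSpace P := QuasiCompact.compactSpace_of_compactSpace q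
  haveI : QuasiSeparatedSpace P := quasiSeparatedSpace_of_quasiSeparated q
  haveI : QuasiCompact t := quasiCompact_of_compactSpace t
  haveI : QuasiSeparated t := (quasiSeparated_iff_quasiSeparatedSpace t).2 inferInstance
  haveI : QuasiCompact pr := quasiCompact_of_compactSpace pr
  haveI : QuasiSeparated pr := (quasiSeparated_iff_quasiSeparatedSpace pr).2 inferInstance
  haveI : CompactSpace 𝔸(I₁.{u}; Y) := QuasiCompact.compactSpace_of_compactSpace (line Y)
  haveI : QuasiCompact j₀ := quasiCompact_of_compactSpace j₀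
  haveI : QuasiCompact j := quasiCompact_of_compactSpace j
  haveI := QCohD.hasRpush π
  haveI := QCohD.hasRpush q
  haveI := QCohD.hasRpush t
  haveI := QCohD.hasRpush pr
  haveI := QCohD.hasRpush j₀
  haveI := QCohD.hasRpush j
  haveI := hasLpull t
  haveI := hasLpull pr
  haveI := hasLpull mt
  have hπ : DCoh.RpushPreservesQCoh π := fun K hK => QCohD.isQCohD_rpush π hK
  have hq : DCoh.RpushPreservesQCoh q := fun K hK => QCohD.isQCohD_rpush q hK
  have ht : DCoh.RpushPreservesQCoh t := fun K hK => QCohD.isQCohD_rpush t hK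
  have hpr : DCoh.RpushPreservesQCoh pr := fun K hK => QCohD.isQCohD_rpush pr hK
  have hLt : Dual3.LpullPreservesQCoh t := fun K hK => QCohD.isQCohD_lpull t hK
  have hLpr : Dual3.LpullPreservesQCoh pr := fun K hK => QCohD.isQCohD_lpull pr hK
  haveI := isLeftAdjoint_rpushQ π hπ
  haveI := isLeftAdjoint_rpushQ q hq
  have adjπ := Adjunction.ofIsLeftAdjoint (DCoh.RpushQ π hπ)
  have adjq := Adjunction.ofIsLeftAdjoint (DCoh.RpushQ q hq)
  obtain ⟨e, hθ, -, hβ⟩ := exists_bcAdjoint (IsPullback.of_hasPullback π t)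
    (BaseChange.ti_of_flat π t) hπ hq adjπ adjq (adjQ t hLt ht) (adjQ pr hLpr hpr)
  let O₀ : DCoh.DQCoh S := ⟨DCoh.inD S (Coh.structureModule S), ProjFormula.isQCohD_single_structure S 0⟩
  haveI := hθ ((DCoh.RpushQ π hπ).rightAdjoint.obj O₀)
  let β := adjq.homEquiv _ _ (inv (Dual3.bcPush e (adjQ t hLt ht) (adjQ pr hLpr hpr)
      ((DCoh.RpushQ π hπ).rightAdjoint.obj O₀)) ≫ (Dual3.LpullQ t hLt).map (adjπ.counit.app O₀))
  haveI : IsIso β := hβ O₀ (fun Q hQ => by
      have hk : DCoh.IsPerfect ((DCoh.Rpush π).obj Q) := BaseChange.isPerfect_rpush π hQ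
      exact ⟨isIso_wR t hk _, isQCohD_R_perfect hk O₀.property⟩) β
    ((congrArg (Dual3.bcPush e _ _ _ ≫ ·)
      ((adjq.homEquiv_counit _ _ _).symm.trans (Equiv.symm_apply_apply _ _))).trans (IsIso.hom_inv_id_assoc _ _))
  let O := (Dual3.LpullQ t hLt).obj O₀
  letI := lpullCommShift t
  obtain ⟨o₀⟩ := RelTensor.nonempty_lpull_one t 0
  let eO : O.obj ≅ DCoh.inD Y (Coh.structureModule Y) :=
    (DCoh.Lpull t).mapIso ((shiftFunctorZero (DCoh.D S) ℤ).app _).symm ≪≫ o₀ ≪≫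
      (shiftFunctorZero (DCoh.D Y) ℤ).app _
  obtain ⟨ω⟩ := S1824.result 1 R hπ _ adjπ O₀ ⟨Iso.refl _⟩
  obtain ⟨σ⟩ := nonempty_rd_lpull_sq j₀ j mt pr hj1.symm
  obtain ⟨o₁⟩ := RelTensor.nonempty_lpull_one mt 1
  refine ⟨c, ‹_›, hq, _, adjq, O, eO, ⟨?_⟩⟩
  exact (rd j).mapIso ((ObjectProperty.ι _).mapIso (asIso β).symm) ≪≫
    (σ.app ((DCoh.RpushQ π hπ).rightAdjoint.obj O₀).obj).symm ≪≫
    (DCoh.Lpull mt).mapIso ((rd j₀).mapIso ω ≪≫ ((rd j₀).commShiftIso ((1 : ℕ) : ℤ)).app _ ≪≫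
      (shiftFunctor _ ((1 : ℕ) : ℤ)).mapIso
        (((Scheme.Modules.restrictFunctor j₀).mapDerivedCategorySingleFunctor 0).app _ ≪≫
          (DerivedCategory.singleFunctor _ 0).mapIso tw)) ≪≫ o₁

/-- **`f^! ≅ Lf^*[1]` for the affine line.** -/
theorem nonempty_shriek_line (Y : Scheme.{u}) [IsNoetherian Y] [IsNoetherian 𝔸(I₁.{u}; Y)]
    (c : DEt.Compactification (line Y)) [DCoh.HasRpush c.fbar] {hc : DCoh.RpushPreservesQCoh c.fbar}
    {a : DCoh.DQCoh Y ⥤ DCoh.DQCoh c.Xbar} (adj : DCoh.RpushQ c.fbar hc ⊣ a) [DCoh.HasLpull (line Y)] :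
    Nonempty (Dual3.bddι Y ⋙ a ⋙ ObjectProperty.ι _ ⋙ (haveI := c.isOpenImmersion; rd c.j) ≅
      Dual3.bddι Y ⋙ ObjectProperty.ι _ ⋙ DCoh.Lpull (line Y) ⋙ shiftFunctor (DCoh.D 𝔸(I₁.{u}; Y)) (1 : ℤ)) := by
  haveI := c.isOpenImmersion
  haveI : Smooth (line Y) := H06Unram.smooth_affineSpace_over I₁.{u} Y
  have hperf : MoreMor.IsPerfectMor (line Y) := H8Props.PseudoCoh.isPerfectMor_of_flat _
  obtain ⟨c₂, _, hc₂, a₂, adj₂, O, eO, ⟨e⟩⟩ := exists_compactification_line Y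
  haveI := c₂.isOpenImmersion
  obtain ⟨ind⟩ := nonempty_shriekC_independent c c₂ adj adj₂
  haveI : O.obj.IsGE 0 := DerivedCategory.TStructure.t.isGE_of_iso eO.symm 0
  let X := 𝔸(I₁.{u}; Y)
  let E : CochainComplex X.Modules ℤ := Dual.S X 1
  let σ := (DerivedCategory.Q (C := X.Modules)).commShiftIso (1 : ℤ)
  let eE : DCoh.toD X E ≅ (rd c.j).obj (a.obj O).obj :=
    σ.app (Dual.S₀ X) ≪≫ (shiftFunctor _ (1 : ℤ)).mapIso Dual.oneIso.symm ≪≫ e.symm ≪≫
      (ind.app ⟨O, 0, ‹_›⟩).symm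
  haveI := KFlat.Stalk.hasLTensorCx E
  obtain ⟨φ⟩ := nonempty_shriek_iso_lpull_tensor hperf c adj O (eO ≪≫ Dual.oneIso) E eE
  exact ⟨φ ≪≫ Functor.isoWhiskerLeft (Dual3.bddι Y ⋙ ObjectProperty.ι _ ⋙ DCoh.Lpull (line Y))
    ((Dual.ltensorCxIsoT E).symm ≪≫ TFlipShiftIso X 1)⟩

end Groth.Agent.LeadBrown
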