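import Groth.Agent.LeadBrown.KoszulAdjoint
import Groth.Agent.LeadBrown.LocalModel
import Groth.Agent.LeadBrown.CompShriek
import Groth.Agent.H8Props.KoszImm.LCI
import Groth.Agent.H05EGA4.SkNoEmbedded
import Groth.Agent.H13CInt.Koszul
import Groth.Agent.H29Slice.KoszulReg

/-!
# `f^!O` is invertible for local complete intersection morphisms
-/

set_option autoImplicit false
set_option linter.style.haveILetI false
set_option linter.unusedSectionVars false
set_option backward.isDefEq.respectTransparency false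

universe u

open CategoryTheory CategoryTheory.Limits AlgebraicGeometry RingTheory.Sequence

attribute [local instance] HasDerivedCategory.standard

namespace Groth.Agent.LeadBrown

open Groth.Agent.H16Derived
open Groth.Agent.H16Derived.KFlat.Stalk (rd rdComp)

section Ring

variable {A : Type u} [CommRing A]

theorem regMod_of_isWeaklyRegular : ∀ (l : List A) (I : Ideal A), IsWeaklyRegular (A ⧸ I) l → RegMod l I
  | [], _, _ => trivial
  | f :: l, I, h => by
    obtain ⟨h1, h2⟩ := H29Slice.regular_mod_cons f l I h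
    exact ⟨h1, regMod_of_isWeaklyRegular l _ h2⟩

theorem RegMod.map_equiv {B : Type u} [CommRing B] (e : A ≃+* B) :
    ∀ (l : List A) (I : Ideal A), RegMod l I → RegMod (l.map e) (I.map e.toRingHom)
  | [], _, _ => trivial
  | f :: l, I, ⟨h1, h2⟩ => by
    refine ⟨fun a ha => ?_, ?_⟩
    · obtain ⟨a, rfl⟩ := e.surjective a
      rw [← map_mul] at ha
      obtain ⟨z, hz, hze⟩ := (Ideal.mem_map_iff_of_surjective _ e.surjective).1 ha
      exact Ideal.mem_map_of_mem _ (h1 a (e.injective hze ▸ hz))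
    · have := RegMod.map_equiv e l (I ⊔ Ideal.span {f}) h2
      rwa [Ideal.map_sup, Ideal.map_span, Set.image_singleton] at this

/-- A Koszul-regular sequence in a prime becomes a regular sequence near it. -/
theorem exists_regMod_away [IsNoetherianRing A] (P : Ideal A) [P.IsPrime] (l : List A)
    (hl : LCI.IsKoszulRegularSeq A l) (hP : ∀ f ∈ l, f ∈ P) :
    ∃ g ∉ P, ∀ (B : Type u) [CommRing B] [Algebra A B] [IsLocalization.Away g B],
      RegMod (l.map (algebraMap A B)) ⊥ := by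
  let L := Localization.AtPrime P
  let l' := l.map (algebraMap A L)
  have h1 := H29Slice.isH1Regular_of_isKoszulRegular (H17.KoszulBC.isKoszulRegularSeq_map L hl)
  have h2 : CInt.KoszulH1Zero l'.get L := fun m hm => by
    refine Submodule.span_mono ?_ (h1 m (Eq.trans (Finset.sum_congr rfl fun i _ => mul_comm _ _) hm))
    rintro v ⟨i, j, rfl⟩
    exact ⟨i, j, 1, by rw [← Pi.single_smul', ← Pi.single_smul', smul_eq_mul, smul_eq_mul, mul_one, mul_one]⟩
  have h3 : IsWeaklyRegular L l' := by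
    have := H13CInt.isWeaklyRegular_of_koszulH1Zero (M := L) l'.get (fun i => IsLocalRing.maximalIdeal_le_jacobson ⊥ ?_) h2
    · rwa [List.ofFn_get] at this
    · obtain ⟨a, ha, hai⟩ := List.mem_map.1 (List.get_mem l' i)
      rw [← hai]
      exact (IsLocalization.AtPrime.to_map_mem_maximal_iff L P a).2 (hP a ha)
  have h4 : IsWeaklyRegular L l := (isWeaklyRegular_map_algebraMap_iff L L l).1 h3
  have h5 : IsWeaklyRegular (LocalizedModule P.primeCompl A) l :=
    (LinearEquiv.isWeaklyRegular_congr (IsLocalizedModule.iso P.primeCompl (Algebra.linearMap A L)) l).2 h4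
  obtain ⟨g, hg, h6⟩ := H05EGA4.SkNoEmbedded.exists_isWeaklyRegular_away P l h5
  refine ⟨g, hg, fun B _ _ _ => regMod_of_isWeaklyRegular _ _ ?_⟩
  have h7 : IsWeaklyRegular B l :=
    (LinearEquiv.isWeaklyRegular_congr (IsLocalizedModule.iso (Submonoid.powers g) (Algebra.linearMap A B)) l).1
      ((isWeaklyRegular_map_algebraMap_iff (Localization.Away g) _ l).1 h6)
  exact (LinearEquiv.isWeaklyRegular_congr (Submodule.quotEquivOfEqBot (⊥ : Ideal B) rfl) _).2
    ((isWeaklyRegular_map_algebraMap_iff B B l).2 h7)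

end Ring

/-- A Koszul-regular closed immersion is locally cut out by a regular sequence. -/
theorem exists_regular_chart {U W : Scheme.{u}} [IsNoetherian W] (i : U ⟶ W) [IsClosedImmersion i] (u : U)
    (h : RegImm.IsRegularImmersionAt .koszul i u) :
    ∃ (D : W.Opens), IsAffineOpen D ∧ i u ∈ D ∧ ∃ l : List Γ((D : Scheme.{u}), ⊤),
      RegMod l ⊥ ∧ RingHom.ker (i ∣_ D).appTop.hom = Ideal.ofList l := by
  obtain ⟨V, huV, -, hcl, rs, hrs, hker⟩ :=
    H17.RegDescent.exists_chart_le (k := RegImm.Kind.koszul) (by decide) i u h ⊤ trivial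
  haveI : IsNoetherianRing Γ(W, V.1) := IsLocallyNoetherian.component_noetherian V
  let P := (V.2.primeIdealOf ⟨i u, huV⟩).asIdeal
  have hP : ∀ f ∈ rs, f ∈ P := fun f hf => by
    by_contra hfP
    have hmem : u ∈ U.basicOpen (i.app V.1 f) :=
      (Scheme.preimage_basicOpen i f).le ((H8Props.KoszImm.mem_basicOpen_iff_notMem V (i u) huV f).2 hfP)
    rw [RingHom.mem_ker.1 (hker ▸ Ideal.subset_span hf : f ∈ RingHom.ker (i.app V.1).hom),
      Scheme.basicOpen_zero] at hmem
    exact hmem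
  obtain ⟨g, hg, hreg⟩ := exists_regMod_away P rs hrs hP
  let D : W.affineOpens := W.affineBasicOpen g
  obtain ⟨-, -, hkD⟩ := H17.KoszComp.chart_restrict i V D (W.basicOpen_le g) hcl hrs hker
  letI : Algebra Γ(W, V.1) Γ(W, D.1) := (W.presheaf.map (homOfLE (W.basicOpen_le g)).op).hom.toAlgebra
  haveI : IsLocalization.Away g Γ(W, D.1) := V.2.isLocalization_basicOpen g
  let e : Γ(W, D.1) ≃+* Γ((D.1 : Scheme.{u}), ⊤) := D.1.topIso.commRingCatIsoToRingEquiv.symm
  have hr := RegMod.map_equiv e _ _ (hreg Γ(W, D.1))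
  rw [Ideal.map_bot] at hr
  refine ⟨D.1, D.2, (H8Props.KoszImm.mem_basicOpen_iff_notMem V (i u) huV g).2 hg, _, hr, ?_⟩
  have h1 : RingHom.ker (i ∣_ D.1).appTop.hom =
      (RingHom.ker (i.app D.1).hom).comap e.symm.toRingHom := by
    ext x
    simp only [RingHom.mem_ker, Ideal.mem_comap]
    have hx : (i ∣_ D.1).appTop x = (i ⁻¹ᵁ D.1).topIso.inv (i.app D.1 (D.1.topIso.hom x)) := by
      rw [← CommRingCat.comp_apply, ← CommRingCat.comp_apply]
      refine congrArg (fun φ : Γ((D.1 : Scheme.{u}), ⊤) ⟶ Γ((i ⁻¹ᵁ D.1 : Scheme.{u}), ⊤) => φ x) ?_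
      rw [morphismRestrict_appTop]
      simp only [Scheme.Opens.topIso_hom, Scheme.Opens.topIso_inv]
      rw [i.naturality_assoc, ← U.presheaf.map_comp]
      rfl
    show (i ∣_ D.1).appTop x = 0 ↔ i.app D.1 (D.1.topIso.hom x) = 0
    rw [hx]
    exact map_eq_zero_iff _ ((i ⁻¹ᵁ D.1).topIso.commRingCatIsoToRingEquiv.symm.injective)
  rw [h1, hkD]
  refine Eq.trans ?_ (Ideal.map_ofList _ _)
  exact (Ideal.map_comap_of_equiv _).symm

/-- **`f^!O` is invertible for a local complete intersection morphism.** -/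
theorem isInvertibleD_shriek {X Y : Scheme.{u}} [IsNoetherian X] [IsNoetherian Y] {f : X ⟶ Y}
    (hf : Dual3.IsLCIMor f) (c : DEt.Compactification f) [DCoh.HasRpush c.fbar]
    {hc : DCoh.RpushPreservesQCoh c.fbar} {a : DCoh.DQCoh Y ⥤ DCoh.DQCoh c.Xbar}
    (adj : DCoh.RpushQ c.fbar hc ⊣ a) (O : DCoh.DQCoh Y) (eO : O.obj ≅ oX Y) (x : X) :
    ∃ (U : X.Opens) (n : ℤ), x ∈ U ∧
      Nonempty ((rd U.ι).obj (haveI := c.isOpenImmersion; (rd c.j).obj (a.obj O).obj) ≅
        (oX (U : Scheme.{u}))⟦n⟧) := by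
  haveI := c.isOpenImmersion
  obtain ⟨U, j, hj, W, i, g, hW, hWN, hi, hg, ⟨u, hu⟩, w, -, hr, hiQ, b, adjb, n, H⟩ := exists_local_model' c adj x
  haveI : O.obj.IsGE 0 := DerivedCategory.TStructure.t.isGE_of_iso eO.symm 0
  obtain ⟨M, lo, hlo, ⟨eM⟩, -, hM⟩ := H O 0 ‹_›
  obtain ⟨eMO⟩ := hM ⟨eO⟩
  obtain ⟨V₀, V, e, hxV, hLCI⟩ := hf x
  have hk : Synt.IsKoszulAt (j ≫ f) u :=
    (H8Props.KoszImm.isKoszulAt_open_iff j f u).2 ((show j u = x from hu) ▸
      (H8Props.KoszImm.isKoszulAt_chart_iff f V₀.2 V.2 e).2 hLCI x hxV)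
  obtain ⟨D, hD, huD, l, hl, hker⟩ := exists_regular_chart i u
    (H8Props.KoszImm.regAt_of_isKoszulAt (j ≫ f) i g w u hk)
  haveI : IsAffine (D : Scheme.{u}) := hD
  haveI : IsNoetherian (D : Scheme.{u}) := { }
  let U' := i ⁻¹ᵁ D
  let iD : (U' : Scheme.{u}) ⟶ D := i ∣_ D
  haveI : CompactSpace U := QuasiCompact.compactSpace_of_compactSpace i
  haveI : QuasiSeparatedSpace U := quasiSeparatedSpace_of_quasiSeparated i
  haveI : IsClosedImmersion iD := IsZariskiLocalAtTarget.restrict (P := @IsClosedImmersion) hi D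
  haveI : CompactSpace (U' : Scheme.{u}) := QuasiCompact.compactSpace_of_compactSpace iD
  haveI : QuasiSeparatedSpace (U' : Scheme.{u}) := quasiSeparatedSpace_of_quasiSeparated iD
  haveI := QCohD.hasRpush iD
  have hiD : DCoh.RpushPreservesQCoh iD := fun K hK => QCohD.isQCohD_rpush iD hK
  haveI := isLeftAdjoint_rpushQ iD hiD
  have adjD := Adjunction.ofIsLeftAdjoint (DCoh.RpushQ iD hiD)
  haveI : QuasiCompact D.ι := quasiCompact_of_compactSpace D.ι
  haveI : QuasiCompact U'.ι := quasiCompact_of_compactSpace U'.ι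
  have hrange : Set.range U'.ι.base = i.base ⁻¹' Set.range D.ι.base := by
    rw [Scheme.Opens.range_ι, Scheme.Opens.range_ι]; rfl
  obtain ⟨θ, -, hθ⟩ := exists_bc adjb D.ι U'.ι adjD (morphismRestrict_ι i D).symm hrange
    (fun L => ⟨(rd D.ι).obj L.obj, QCohD.isQCohD_rd D.ι L.property⟩) fun L => rfl
  haveI := hθ M lo hlo
  obtain ⟨e₁⟩ := nonempty_rightAdjoint_regular iD adjD l hl hker n
    ⟨(rd D.ι).obj M.obj, QCohD.isQCohD_rd D.ι M.property⟩
    ((rd D.ι).mapIso eMO ≪≫ ((rd D.ι).commShiftIso n).app _ ≪≫ (CategoryTheory.shiftFunctor _ n).mapIso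
      (((Scheme.Modules.restrictFunctor D.ι).mapDerivedCategorySingleFunctor 0).app _ ≪≫
        (DerivedCategory.singleFunctor _ 0).mapIso (Scheme.Modules.restrictUnitIso D.ι)))
  let jj : (U' : Scheme.{u}) ⟶ X := U'.ι ≫ j
  let K := (rd c.j).obj (a.obj O).obj
  let e₂ : (rd jj).obj K ≅ (oX (U' : Scheme.{u}))⟦n - l.length⟧ :=
    rdComp U'.ι j jj rfl K ≪≫ (rd U'.ι).mapIso eM ≪≫ asIso (θ M) ≪≫ e₁
  let φ := jj.isoOpensRange.inv
  exact ⟨jj.opensRange, n - l.length, ⟨⟨u, huD⟩, hu⟩,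
    ⟨rdComp φ jj _ jj.isoOpensRange_inv_comp K ≪≫ (rd φ).mapIso e₂ ≪≫ ((rd φ).commShiftIso _).app _ ≪≫
      (CategoryTheory.shiftFunctor _ _).mapIso
        (((Scheme.Modules.restrictFunctor φ).mapDerivedCategorySingleFunctor 0).app _ ≪≫
          (DerivedCategory.singleFunctor _ 0).mapIso (Scheme.Modules.restrictUnitIso φ))⟩⟩

end Groth.Agent.LeadBrown
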