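import Groth.Agent.LeadBrown.Fin
import Groth.Agent.H16Derived.QCohD.Perfect
import Groth.Agent.H16Derived.QCohD.Affine
import Groth.Agent.H16Derived.Dual.PseudoCoh
import Groth.Agent.H10Coh.AmpleVanishing
import Groth.Agent.H10Coh.Proper
import Groth.Agent.H10Coh.FinType

/-!
# Morphism modules on affine Noetherian schemes
-/

set_option autoImplicit false
set_option linter.style.haveILetI false
set_option linter.unusedSectionVars false

universe u

open CategoryTheory CategoryTheory.Limits AlgebraicGeometry CategoryTheory.Pretriangulated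
open DerivedCategory (singleFunctor homologyFunctor)

attribute [local instance] HasDerivedCategory.standard

namespace Groth.Agent.LeadBrown

open Groth.Agent.H16Derived Groth.Agent.H10Coh
open Groth.Agent.H17.ExtRegVanish (mulEnd res)
open Groth.Agent.H16Derived.QCohD (θ θ_comp bijective_θ_affine freeShEquiv_comp freeShTopIso)

variable {X : Scheme.{u}}

theorem freeShEquiv_add (U : X.Opens) {M : X.Modules} (f g : freeSh U ⟶ M) :
    freeShEquiv U M (f + g) = freeShEquiv U M f + freeShEquiv U M g := by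
  have h := freeShEquiv_comp U (biprod.lift f g) (biprod.desc (𝟙 M) (𝟙 M))
  rw [biprod.lift_desc, Category.comp_id, Category.comp_id] at h
  have h1 := freeShEquiv_comp U (biprod.lift f g) biprod.fst
  have h2 := freeShEquiv_comp U (biprod.lift f g) biprod.snd
  rw [biprod.lift_fst] at h1
  rw [biprod.lift_snd] at h2
  rw [h, h1, h2, biprod.desc_eq, Category.comp_id, Category.comp_id]
  rfl

variable [IsAffine X] [IsNoetherian X]

/-- Finitely many generators in one degree. -/
theorem fin_single (K : DCoh.D X) (hK : DCoh.IsCohD K) (m : ℤ) :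
    Fin' (RingHom.id Γ(X, ⊤)) ((singleFunctor X.Modules m).obj (freeSh (⊤ : X.Opens))) K := by
  let P : DCoh.D X := (singleFunctor X.Modules m).obj (freeSh (⊤ : X.Opens))
  let H := DCoh.HD K m
  have hb := (freeShEquiv ⊤ H).bijective.comp
    (bijective_θ_affine (K := K) (fun i => (hK i).1) (isAffineOpen_top X) m)
  haveI : Module.Finite Γ(X, ⊤) Γ(H, ⊤) :=
    ((isCoh_iff_finite_sections H).1 (hK m)).2 ⊤ (isAffineOpen_top X)
  let F : (P ⟶ K) →+ Γ(H, ⊤) := AddMonoidHom.mk' (fun g => freeShEquiv ⊤ H (θ (freeSh ⊤) m g)) fun a b => by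
    rw [θ, θ, θ, Functor.map_add, Preadditive.comp_add, freeShEquiv_add]
  let e := AddEquiv.ofBijective F hb
  letI := homModule (RingHom.id Γ(X, ⊤)) P K
  have he : ∀ (r : Γ(X, ⊤)) (g : P ⟶ K), e (r • g) = r • e g := fun r g => by
    show freeShEquiv ⊤ H (θ (freeSh ⊤) m (g ≫ (mu r).app K)) = r • freeShEquiv ⊤ H (θ (freeSh ⊤) m g)
    rw [θ_comp, freeShEquiv_comp]
    refine (congrArg (fun t : H ⟶ H => t.app ⊤ _) (hd_mu r K m)).trans ?_
    exact congrArg (· • freeShEquiv ⊤ H (θ (freeSh ⊤) m g)) (show res ⊤ r = r by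
      rw [res, Subsingleton.elim (homOfLE (le_top : (⊤ : X.Opens) ≤ ⊤)).op (𝟙 _), CategoryTheory.Functor.map_id]
      rfl)
  show Module.Finite Γ(X, ⊤) (P ⟶ K)
  refine finite_of_semilinear (RingHom.id Γ(X, ⊤)) e.symm.toAddMonoidHom (fun r s => ?_) e.symm.surjective
  refine e.injective ?_
  show e (e.symm (r • s)) = e (r • e.symm s)
  rw [he, e.apply_symm_apply, e.apply_symm_apply]

theorem isCohD_single (m : ℤ) :
    DCoh.IsCohD ((singleFunctor X.Modules m).obj (freeSh (⊤ : X.Opens))) := fun i => by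
  rcases eq_or_ne i m with rfl | h
  · exact isCoh_of_iso ((DerivedCategory.singleFunctorCompHomologyFunctorIso X.Modules i).app _ ≪≫
      freeShTopIso).symm (isCoh_structureModule' X)
  · rcases lt_or_gt_of_ne h with h | h
    · exact Dual.isCoh_isZero (DerivedCategory.isZero_of_isGE _ m i h)
    · exact Dual.isCoh_isZero (DerivedCategory.isZero_of_isLE _ m i h)

/-- The inductive step on the number of generators. -/
theorem fin_of_span (K : DCoh.D X) (hK : DCoh.IsCohD K) (b : ℤ)
    (H₀ : ∀ P : DCoh.D X, DCoh.IsCohD P → P.IsLE (b - 1) → Fin' (RingHom.id Γ(X, ⊤)) P K) (k : ℕ) :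
    ∀ (P : DCoh.D X), DCoh.IsCohD P → P.IsLE b → ∀ s : Fin k → Γ(DCoh.HD P b, ⊤),
      Submodule.span Γ(X, ⊤) (Set.range s) = ⊤ → Fin' (RingHom.id Γ(X, ⊤)) P K := by
  induction k with
  | zero =>
    intro P hP hb s hs
    haveI := hb
    haveI : (DCoh.HD P b).IsQuasicoherent := (hP b).1
    have hz : IsZero (DCoh.HD P b) := by
      refine Tw.isZero_of_qcoh_cover _ (fun _ : Unit => (⊤ : X.Opens)) (fun _ => isAffineOpen_top X)
        (fun _ => ⟨(), trivial⟩) fun _ => ⟨fun x y => ?_⟩
      rw [Set.range_eq_empty, Submodule.span_empty] at hs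
      exact ((Submodule.mem_bot _).1 (hs ▸ Submodule.mem_top : x ∈ (⊥ : Submodule Γ(X, ⊤) _))).trans
        ((Submodule.mem_bot _).1 (hs ▸ Submodule.mem_top : y ∈ (⊥ : Submodule Γ(X, ⊤) _))).symm
    refine H₀ P hP ((DerivedCategory.isLE_iff _ _).2 fun i hi => ?_)
    rcases eq_or_ne i b with rfl | h
    · exact hz
    · exact DerivedCategory.isZero_of_isLE _ b i (by omega)
  | succ k ih =>
    intro P hP hb s hs
    haveI := hb
    let G : DCoh.D X := (singleFunctor X.Modules b).obj (freeSh (⊤ : X.Opens))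
    obtain ⟨α, hα⟩ := (bijective_θ_affine (K := P) (fun i => (hP i).1) (isAffineOpen_top X) b).2
      ((freeShEquiv ⊤ (DCoh.HD P b)).symm (s 0))
    obtain ⟨C, g, d, hT⟩ := distinguished_cocone_triangle α
    let T := Triangle.mk α g d
    have hG : DCoh.IsCohD G := isCohD_single b
    have hC : DCoh.IsCohD C :=
      Dual.isCohD_obj₂ (T := T.rotate) (rot_of_distTriang _ hT) hP (Dual.isCohD_shift hG 1)
    have hGz : ∀ i, b < i → IsZero (DCoh.HD G i) := fun i hi => DerivedCategory.isZero_of_isLE _ b i hi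
    have hCb : C.IsLE b := (DerivedCategory.isLE_iff _ _).2 fun i hi =>
      (DerivedCategory.HomologySequence.exact₃ T hT i (i + 1) rfl).isZero_of_both_zeros
        ((DerivedCategory.isZero_of_isLE P b i hi).eq_of_src _ _)
        ((hGz (i + 1) (by omega)).eq_of_tgt _ _)
    let φ : DCoh.HD P b ⟶ DCoh.HD C b := (homologyFunctor X.Modules b).map g
    haveI : Epi φ := (DerivedCategory.HomologySequence.epi_homologyMap_mor₂_iff T hT b (b + 1) rfl).2
      ((hGz (b + 1) (by omega)).eq_of_tgt _ _)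
    haveI : (DCoh.HD P b).IsQuasicoherent := (hP b).1
    haveI : (DCoh.HD C b).IsQuasicoherent := (hC b).1
    have hsurj := surjective_app_of_epi φ (isAffineOpen_top X)
    have h0 : φ.app ⊤ (s 0) = 0 := by
      have hz : α ≫ g = 0 := comp_distTriang_mor_zero₁₂ T hT
      have h1 : (freeShEquiv ⊤ (DCoh.HD P b)).symm (s 0) ≫ φ = 0 := by
        rw [← hα, ← θ_comp, hz, QCohD.θ_zero]
      have h2 := freeShEquiv_comp ⊤ ((freeShEquiv ⊤ (DCoh.HD P b)).symm (s 0)) φ
      rw [h1, Equiv.apply_symm_apply] at h2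
      refine h2.symm.trans ?_
      have h3 := freeShEquiv_add ⊤ (0 : freeSh (⊤ : X.Opens) ⟶ DCoh.HD C b) 0
      rw [add_zero] at h3
      exact left_eq_add.1 h3
    haveI : IsNoetherianRing Γ(X, ⊤) := IsLocallyNoetherian.component_noetherian ⟨⊤, isAffineOpen_top X⟩
    refine Fin'.ext_src _ hT K (fin_single K hK b) (ih C hC hCb (fun j => φ.app ⊤ (s j.succ)) ?_)
    refine Submodule.eq_top_iff'.2 fun y => ?_
    obtain ⟨x, rfl⟩ := hsurj y
    have hx : x ∈ Submodule.span Γ(X, ⊤) (Set.range s) := by rw [hs]; trivial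
    induction hx using Submodule.span_induction with
    | mem x hx =>
      obtain ⟨j, rfl⟩ := hx
      refine Fin.cases ?_ (fun j => Submodule.subset_span ⟨j, rfl⟩) j
      rw [h0]
      exact Submodule.zero_mem _
    | zero => rw [map_zero]; exact Submodule.zero_mem _
    | add x y _ _ hx hy => rw [map_add]; exact Submodule.add_mem _ hx hy
    | smul a x _ hx => rw [Scheme.Modules.Hom.app_smul]; exact Submodule.smul_mem _ _ hx

/-- Maps from a bounded above to a bounded below coherent object form a finite module. -/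
theorem fin_affine (K : DCoh.D X) (hK : DCoh.IsCohD K) (c : ℤ) [K.IsGE c] :
    ∀ (b : ℤ) (P : DCoh.D X), DCoh.IsCohD P → P.IsLE b → Fin' (RingHom.id Γ(X, ⊤)) P K := by
  suffices h : ∀ (n : ℕ) (b : ℤ), b - c < n → ∀ P : DCoh.D X, DCoh.IsCohD P → P.IsLE b →
      Fin' (RingHom.id Γ(X, ⊤)) P K from fun b => h ((b - c).toNat + 1) b (by omega)
  intro n
  induction n with
  | zero =>
    intro b hb P _ hPb
    haveI := hPb
    exact fin_of_subsingleton _ P K ⟨fun f g =>
      ((DerivedCategory.TStructure.t).zero_of_isLE_of_isGE f b c (by omega) ‹_› ‹_›).trans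
        ((DerivedCategory.TStructure.t).zero_of_isLE_of_isGE g b c (by omega) ‹_› ‹_›).symm⟩
  | succ n ih =>
    intro b hb P hP hPb
    haveI : Module.Finite Γ(X, ⊤) Γ(DCoh.HD P b, ⊤) :=
      ((isCoh_iff_finite_sections _).1 (hP b)).2 ⊤ (isAffineOpen_top X)
    obtain ⟨k, s, hs⟩ := Module.Finite.exists_fin (R := Γ(X, ⊤)) (M := Γ(DCoh.HD P b, ⊤))
    exact fin_of_span K hK b (ih (b - 1) (by omega)) k P hP hPb s hs

end Groth.Agent.LeadBrown
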