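import Groth.Agent.LeadBrown.TwMu
import Groth.Agent.H11Sym.InvertibleInverse
import Groth.Agent.H11Ample.Twist
import Groth.Agent.H11Ample.UnitIso
import Groth.Agent.H16Derived.Dual.PseudoCoh

/-!
# Objects with finite modules of morphisms from all bounded coherent objects
-/

set_option autoImplicit false
set_option linter.style.haveILetI false
set_option linter.unusedSectionVars false
set_option backward.isDefEq.respectTransparency false

universe u

open CategoryTheory CategoryTheory.Limits AlgebraicGeometry CategoryTheory.Pretriangulated Opposite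

attribute [local instance] HasDerivedCategory.standard

namespace Groth.Agent.LeadBrown

open Groth.Agent.H16Derived Groth.Agent.H16Derived.GenAmple
open Groth.Agent.H16Derived.Thomason (KC kc_shift)

variable {X : Scheme.{u}} {R : Type u} [CommRing R]

/-- Morphisms from bounded coherent objects form finite modules. -/
def AllFin (ρ : R →+* Γ(X, ⊤)) (E : DCoh.D X) : Prop :=
  ∀ P : DCoh.D X, KC P → Fin' ρ P E

variable {ρ : R →+* Γ(X, ⊤)}

theorem AllFin.shift {E : DCoh.D X} (h : AllFin ρ E) (n : ℤ) : AllFin ρ (E⟦n⟧) := fun P hP => by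
  let e : (P⟦-n⟧)⟦n⟧ ≅ P := (shiftFunctorCompIsoId (DCoh.D X) (-n) n (by omega)).app P
  refine (h _ (kc_shift (-n) hP)).of_surjective ρ ρ
    (AddMonoidHom.mk' (fun g => e.inv ≫ g⟦n⟧') fun a b => by rw [Functor.map_add, Preadditive.comp_add])
    (fun r g => ?_) fun g => ?_
  · simp only [AddMonoidHom.mk'_apply, Functor.map_comp, Category.assoc]
    exact congrArg (fun t => e.inv ≫ g⟦n⟧' ≫ t) (mu_shift (ρ r) E n).symm
  · obtain ⟨g', hg'⟩ := (shiftFunctor (DCoh.D X) n).map_surjective (e.hom ≫ g)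
    exact ⟨g', by simp [hg']⟩

/-- Cones. -/
theorem AllFin.obj₂ [IsNoetherianRing R] {T : Triangle (DCoh.D X)} (hT : T ∈ distTriang (DCoh.D X))
    (h₁ : AllFin ρ T.obj₁) (h₃ : AllFin ρ T.obj₃) : AllFin ρ T.obj₂ := fun P hP => by
  letI := homModule ρ P T.obj₁
  letI := homModule ρ P T.obj₂
  letI := homModule ρ P T.obj₃
  haveI : Module.Finite R (P ⟶ T.obj₁) := h₁ P hP
  haveI : Module.Finite R (P ⟶ T.obj₃) := h₃ P hP
  let f : (P ⟶ T.obj₁) →ₗ[R] (P ⟶ T.obj₂) :=
    { toFun := fun g => g ≫ T.mor₁, map_add' := fun a b => Preadditive.add_comp _ _ _ a b T.mor₁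
      map_smul' := fun r g => (Category.assoc _ _ _).trans ((congrArg (g ≫ ·) (mu_naturality (ρ r) T.mor₁).symm).trans
        (Category.assoc _ _ _).symm) }
  let g : (P ⟶ T.obj₂) →ₗ[R] (P ⟶ T.obj₃) :=
    { toFun := fun g => g ≫ T.mor₂, map_add' := fun a b => Preadditive.add_comp _ _ _ a b T.mor₂
      map_smul' := fun r g => (Category.assoc _ _ _).trans ((congrArg (g ≫ ·) (mu_naturality (ρ r) T.mor₂).symm).trans
        (Category.assoc _ _ _).symm) }
  show Module.Finite R (P ⟶ T.obj₂)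
  haveI := isNoetherian_of_range_eq_ker f g (by
    ext x
    refine ⟨fun ⟨y, hy⟩ => ?_, fun hx => ?_⟩
    · subst hy
      show (y ≫ T.mor₁) ≫ T.mor₂ = 0
      rw [Category.assoc, comp_distTriang_mor_zero₁₂ _ hT, comp_zero]
    · obtain ⟨y, hy⟩ := Triangle.coyoneda_exact₂ _ hT x hx
      exact ⟨y, hy.symm⟩)
  exact Module.IsNoetherian.finite R _

variable {L : X.Modules} [PreservesFiniteLimits (tw L)] [PreservesFiniteColimits (tw L)]

theorem kc_td [IsLocallyNoetherian X] (hL : PicF.IsInvertible L) {P : DCoh.D X} (h : KC P) :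
    KC ((TD (L := L)).obj P) := by
  obtain ⟨hc, ⟨a, ha⟩, b, hb⟩ := h
  haveI : P.IsGE a := ha
  haveI : P.IsLE b := hb
  have key : ∀ i, ∃ k : (tw L).obj (DCoh.HD P i) ≅ DCoh.HD ((TD (L := L)).obj P) i, True := fun i =>
    ⟨(hd_sigD (L := L) 0 P i).choose, trivial⟩
  refine ⟨fun i => ?_, ⟨a, (DerivedCategory.isGE_iff _ _).2 fun i hi => ?_⟩,
    b, (DerivedCategory.isLE_iff _ _).2 fun i hi => ?_⟩
  · obtain ⟨k, -⟩ := key i
    exact H10Coh.isCoh_of_iso k (H11Ample.isCoh_tensor (hc i) hL)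
  · obtain ⟨k, -⟩ := key i
    exact ((tw L).map_isZero (DerivedCategory.isZero_of_isGE P a i hi)).of_iso k.symm
  · obtain ⟨k, -⟩ := key i
    exact ((tw L).map_isZero (DerivedCategory.isZero_of_isLE P b i hi)).of_iso k.symm

theorem nonempty_td_comp {L' : X.Modules} [PreservesFiniteLimits (tw L')] [PreservesFiniteColimits (tw L')]
    (e : CohB1.tensorMod L L' ≅ Coh.structureModule X) :
    Nonempty (TD (L := L) ⋙ TD (L := L') ≅ 𝟭 (DCoh.D X)) := by
  let Q : CochainComplex X.Modules ℤ ⥤ DCoh.D X := DerivedCategory.Q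
  let W := HomologicalComplex.quasiIso X.Modules (ComplexShape.up ℤ)
  let i : tw L ⋙ tw L' ≅ 𝟭 X.Modules := twCompIso L L' ≪≫
    (DCoh.tensorBi (X := X)).flip.mapIso e ≪≫ (asIso (sig (𝟙 (Coh.structureModule X)))).symm
  let α := (tw L).mapDerivedCategoryFactors
  let β := (tw L').mapDerivedCategoryFactors
  let A := (tw L).mapHomologicalComplex (ComplexShape.up ℤ)
  let B := (tw L').mapHomologicalComplex (ComplexShape.up ℤ)
  letI : Localization.Lifting Q W Q (𝟭 (DCoh.D X)) := ⟨Functor.rightUnitor _⟩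
  letI : Localization.Lifting Q W ((A ⋙ B) ⋙ Q) (TD (L := L) ⋙ TD (L := L')) :=
    ⟨(Functor.associator _ _ _).symm ≪≫ Functor.isoWhiskerRight α _ ≪≫ Functor.associator _ _ _ ≪≫
      Functor.isoWhiskerLeft A β ≪≫ (Functor.associator _ _ _).symm⟩
  let j : (A ⋙ B) ⋙ Q ≅ Q := NatIso.ofComponents
    (fun C => Q.mapIso (HomologicalComplex.Hom.isoOfComponents (fun k => i.app (C.X k))
      fun k l _ => (i.hom.naturality (C.d k l)).symm))
    fun f => (Q.map_comp _ _).symm.trans ((congrArg Q.map (HomologicalComplex.Hom.ext (funext fun k =>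
      i.hom.naturality (f.f k)))).trans (Q.map_comp _ _))
  exact ⟨Localization.liftNatIso Q W ((A ⋙ B) ⋙ Q) Q (TD (L := L) ⋙ TD (L := L')) (𝟭 _) j⟩

/-- Twisting preserves the finiteness property. -/
theorem AllFin.td [IsNoetherianRing R] [IsLocallyNoetherian X] (hL : PicF.IsInvertible L) {E : DCoh.D X}
    (h : AllFin ρ E) : AllFin ρ ((TD (L := L)).obj E) := fun P hP => by
  obtain ⟨L', hL', ⟨e⟩⟩ := H11Sym.exists_inverse hL
  obtain ⟨_, _⟩ := exact_tw (L := L') hL'
  obtain ⟨ι₁⟩ := nonempty_td_comp (L := L) (L' := L') (H11Ample.tensorCommIso L L' ≪≫ e)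
  obtain ⟨ι₂⟩ := nonempty_td_comp (L := L') (L' := L) e
  haveI : (TD (L := L')).Faithful := by
    haveI : (TD (L := L') ⋙ TD (L := L)).Faithful := Functor.Faithful.of_iso ι₂.symm
    exact Functor.Faithful.of_comp (TD (L := L')) (TD (L := L))
  refine (h _ (kc_td hL' hP)).of_injective ρ ρ
    (AddMonoidHom.mk' (fun g => (TD (L := L')).map g ≫ ι₁.hom.app E) fun a b => by
      rw [Functor.map_add]; exact Preadditive.add_comp _ _ _ _ _ _)
    (fun r g => ?_) fun a b hab => ?_
  · simp only [AddMonoidHom.mk'_apply, Functor.map_comp, Category.assoc]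
    rw [td_mu]
    exact congrArg ((TD (L := L')).map g ≫ ·) (mu_naturality (ρ r) (ι₁.hom.app E)).symm
  · exact (TD (L := L')).map_injective ((cancel_mono (ι₁.hom.app E)).1 hab)

end Groth.Agent.LeadBrown
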