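import Groth.Agent.LeadBrown.RHomPull
import Groth.Agent.H16Derived.ProjFormula.ClosedImm
import Groth.Agent.H16Derived.ExactRightAdj
import Groth.Agent.H8Props.RpushAffine
import Groth.Agent.H17.PushColim

/-!
# `i_* RHom(O_Z, -) ≅ RHom(i_* O_Z, -)` for a closed immersion
-/

set_option autoImplicit false
set_option linter.style.haveILetI false
set_option linter.unusedSectionVars false

universe u

open CategoryTheory CategoryTheory.Limits CategoryTheory.Functor AlgebraicGeometry

attribute [local instance] HasDerivedCategory.standard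

namespace Groth.Agent.LeadBrown

open Groth.Agent.H16Derived Groth.Agent.H16Derived.QCohD Groth.Agent.H16Derived.KFlat
open Groth.Agent.H16Derived.KFlat.Stalk (lpullRpushAdj)
open Groth.Agent.H16Derived.ProjFormula (pushCx pullCx)
open Groth.Agent.H16Derived.Dual (T R one εSnd isIso_ε)

variable {Z X : Scheme.{u}} (i : Z ⟶ X) [IsClosedImmersion i]
  [PreservesFiniteLimits (Scheme.Modules.pushforward i)] [PreservesFiniteColimits (Scheme.Modules.pushforward i)]
  [DCoh.HasLpull i]

/-- `i_* O` in `D(X)`. -/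
noncomputable abbrev pushOne : DCoh.D X := DerivedCategory.Q.obj ((pushCx i).obj (Dual.S₀ Z))

/-- The K-flat resolution, in K-flat complexes. -/
noncomputable def resK (X : Scheme.{u}) : CochainComplex X.Modules ℤ ⥤ (KFlat.Stalk.kflat X).FullSubcategory :=
  ObjectProperty.lift _ (KFlat.Stalk.res (X := X)) KFlat.Stalk.isKFlat_res

/-- `pushD` on complexes. -/
noncomputable def pushDQNat : DerivedCategory.Q ⋙ Dual3.pushD i ≅ pushCx i ⋙ DerivedCategory.Q :=
  (Scheme.Modules.pushforward i).mapDerivedCategoryFactors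

/-- The unit on the left. -/
noncomputable def leftUnitD (Z : Scheme.{u}) : (T Z).obj (one Z) ≅ 𝟭 (DCoh.D Z) :=
  (tSwap (one Z)).symm ≪≫ Dual.rightUnit Z

theorem isIso_εSnd {Z : Scheme.{u}} (K L : CochainComplex Z.Modules ℤ) (h : KFlat.Stalk.kflat Z L) :
    IsIso ((εSnd K).app L) :=
  isIso_ε K L (Or.inr h)

/-- The projection formula on K-flat complexes. -/
noncomputable def prjKflat :
    (KFlat.Stalk.kflat X).ι ⋙ DerivedCategory.Q ⋙ (T X).obj (pushOne i) ≅
      (KFlat.Stalk.kflat X).ι ⋙ DerivedCategory.Q ⋙ DCoh.Lpull i ⋙ Dual3.pushD i :=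
  NatIso.ofComponents
    (fun P =>
      haveI := isIso_εSnd ((pushCx i).obj (Dual.S₀ Z)) P.obj P.property
      haveI := isIso_εSnd (Dual.S₀ Z) ((pullCx i).obj P.obj) (KFlat.Stalk.isKFlat_pullback i P.property)
      haveI := ProjFormula.isIso_Ψ_of_isClosedImmersion i (Dual.S₀ Z) P.obj
      asIso ((εSnd ((pushCx i).obj (Dual.S₀ Z))).app P.obj) ≪≫
        DerivedCategory.Q.mapIso (asIso (ProjFormula.Ψ i (Dual.S₀ Z) P.obj)) ≪≫
        ((pushDQNat i).app _).symm ≪≫
        (Dual3.pushD i).mapIso ((asIso ((εSnd (Dual.S₀ Z)).app ((pullCx i).obj P.obj))).symm ≪≫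
          (leftUnitD Z).app (DerivedCategory.Q.obj ((pullCx i).obj P.obj)) ≪≫
          ((KFlat.Stalk.lpullIso i).app P).symm))
    (fun {P P'} φ => by
      simp only [Iso.trans_hom, Iso.symm_hom, Functor.mapIso_hom, asIso_hom, asIso_inv, Functor.comp_map,
        Iso.app_hom, Iso.app_inv, Functor.map_comp, Category.assoc, ObjectProperty.ι_map]
      have h1 := (εSnd ((pushCx i).obj (Dual.S₀ Z))).naturality φ.hom
      simp only [Functor.comp_map] at h1
      rw [reassoc_of% h1, ← Functor.map_comp_assoc, ProjFormula.Ψ_naturality, Functor.map_comp_assoc]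
      have h2 := (pushDQNat i).inv.naturality
        (((tot (DCoh.tensorBi (X := Z))) (Dual.S₀ Z)).map ((pullCx i).map φ.hom))
      simp only [Functor.comp_map] at h2
      rw [reassoc_of% h2]
      simp only [← Functor.map_comp]
      refine congrArg (fun z => _ ≫ _ ≫ _ ≫ (Dual3.pushD i).map z) ?_
      haveI := isIso_εSnd (Dual.S₀ Z) ((pullCx i).obj P.obj) (KFlat.Stalk.isKFlat_pullback i P.property)
      haveI := isIso_εSnd (Dual.S₀ Z) ((pullCx i).obj P'.obj) (KFlat.Stalk.isKFlat_pullback i P'.property)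
      have h3 := (εSnd (Dual.S₀ Z)).naturality ((pullCx i).map φ.hom)
      simp only [Functor.comp_map] at h3
      rw [← cancel_epi ((εSnd (Dual.S₀ Z)).app ((pullCx i).obj P.obj)), ← reassoc_of% h3,
        IsIso.hom_inv_id_assoc, IsIso.hom_inv_id_assoc]
      have h4 := (leftUnitD Z).hom.naturality (DerivedCategory.Q.map ((pullCx i).map φ.hom))
      simp only [Functor.id_map] at h4
      erw [reassoc_of% h4]
      exact congrArg (fun z => _ ≫ z) ((KFlat.Stalk.lpullIso i).inv.naturality φ))

/-- `Q ≅ res ⋙ Q`. -/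
noncomputable def resQ (X : Scheme.{u}) :
    resK X ⋙ (KFlat.Stalk.kflat X).ι ⋙ DerivedCategory.Q ≅ DerivedCategory.Q :=
  NatIso.ofComponents
    (fun G =>
      @asIso _ _ _ _ (DerivedCategory.Q.map ((KFlat.Stalk.resψ (X := X)).app G))
        (Localization.inverts DerivedCategory.Q (HomologicalComplex.quasiIso X.Modules (ComplexShape.up ℤ)) _
          (KFlat.Stalk.quasiIso_resψ G)))
    (fun g => by
      simp only [asIso_hom, Functor.comp_map]
      rw [← Functor.map_comp]
      refine ((congrArg DerivedCategory.Q.map ((KFlat.Stalk.resψ (X := X)).naturality g)).trans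
        (DerivedCategory.Q.map_comp _ _)))

/-- The projection formula for all objects. -/
noncomputable def prjClosed : (T X).obj (pushOne i) ≅ DCoh.Lpull i ⋙ Dual3.pushD i :=
  Localization.liftNatIso DerivedCategory.Q (HomologicalComplex.quasiIso X.Modules (ComplexShape.up ℤ))
    (DerivedCategory.Q ⋙ (T X).obj (pushOne i)) (DerivedCategory.Q ⋙ DCoh.Lpull i ⋙ Dual3.pushD i) _ _
    (isoWhiskerRight (resQ X).symm _ ≪≫ isoWhiskerLeft (resK X) (prjKflat i) ≪≫
      isoWhiskerRight (resQ X) (DCoh.Lpull i ⋙ Dual3.pushD i))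

variable [DCoh.HasRpush i] {G : DCoh.D X ⥤ DCoh.D Z} (adjG : Dual3.pushD i ⊣ G)

/-- `i_* RHom(O_Z, -) ≅ RHom(i_* O_Z, -)`. -/
noncomputable def rpushHomOIso : G ⋙ DCoh.Rpush i ≅ R (pushOne i) :=
  (((lpullRpushAdj i).comp adjG).ofNatIsoLeft (prjClosed i).symm).rightAdjointUniq (adjS (pushOne i))

end Groth.Agent.LeadBrown
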