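import Mathlib.Algebra.DirectSum.Module
import Mathlib.RingTheory.Polynomial.Basic
import Mathlib.RingTheory.Finiteness.Basic
import Mathlib.RingTheory.Adjoin.Basic

/-!
# Generation in bounded degree of graded modules given degree by degree
-/

set_option autoImplicit false
set_option linter.unusedSectionVars false
set_option linter.style.haveILetI false

universe u v w

open scoped DirectSum

namespace Groth.Agent.LeadBrown.GradedGen

variable {R : Type u} [CommRing R] {σ : Type w}

section

variable {N : ℕ → Type v} [∀ d, AddCommGroup (N d)] [∀ d, Module R (N d)]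

/-- Commuting operators of degree one. -/
def Comm (A : σ → ∀ d, N d →ₗ[R] N (d + 1)) : Prop :=
  ∀ i j d x, A i (d + 1) (A j d x) = A j (d + 1) (A i d x)

/-- A family of submodules is generated in bounded degree. -/
def GenSub (A : σ → ∀ d, N d →ₗ[R] N (d + 1)) (W : ∀ d, Submodule R (N d)) : Prop :=
  ∃ D, ∀ d, D ≤ d → W (d + 1) ≤ ⨆ i, (W d).map (A i d)

variable (A : σ → ∀ d, N d →ₗ[R] N (d + 1))

/-- An operator on the direct sum. -/
noncomputable def op (i : σ) : Module.End R (⨁ d, N d) :=
  DirectSum.toModule R ℕ (⨁ d, N d) fun d => (DirectSum.lof R ℕ N (d + 1)).comp (A i d)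

theorem op_lof (i : σ) (d : ℕ) (x : N d) :
    op A i (DirectSum.lof R ℕ N d x) = DirectSum.lof R ℕ N (d + 1) (A i d x) :=
  DirectSum.toModule_lof R d x

theorem op_comm (hc : Comm A) (i j : σ) : op A i * op A j = op A j * op A i :=
  DirectSum.linearMap_ext R fun d => LinearMap.ext fun x => by
    show op A i (op A j (DirectSum.lof R ℕ N d x)) = op A j (op A i (DirectSum.lof R ℕ N d x))
    rw [op_lof, op_lof, op_lof, op_lof, hc]

theorem op_apply (i : σ) (m : ⨁ d, N d) (d : ℕ) :
    (op A i m) (d + 1) = A i d (m d) ∧ (op A i m) 0 = 0 := by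
  induction m using DirectSum.induction_on with
  | zero => simp
  | of k x =>
    change (op A i (DirectSum.lof R ℕ N k x)) (d + 1) = A i d (DirectSum.lof R ℕ N k x d) ∧
      (op A i (DirectSum.lof R ℕ N k x)) 0 = 0
    rw [op_lof]
    refine ⟨?_, DirectSum.of_eq_of_ne _ _ _ (by omega)⟩
    rcases eq_or_ne k d with rfl | h
    · rw [DirectSum.lof_apply, DirectSum.lof_apply]
    · rw [DirectSum.lof_eq_of, DirectSum.lof_eq_of, DirectSum.of_eq_of_ne _ _ _ (by omega),
        DirectSum.of_eq_of_ne _ _ _ h.symm, map_zero]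
  | add x y hx hy =>
    refine ⟨?_, ?_⟩
    · simp only [map_add, DirectSum.add_apply, hx.1, hy.1]
    · simp only [map_add, DirectSum.add_apply, hx.2, hy.2, add_zero]

variable [IsNoetherianRing R] [Finite σ]

/-- Stable subfamilies of families generated in bounded degree are generated in bounded degree. -/
theorem genSub_of_le (hc : Comm A) (hfin : ∀ d, Module.Finite R (N d)) (hgen : GenSub A fun _ => ⊤)
    (W : ∀ d, Submodule R (N d)) (hW : ∀ i d, (W d).map (A i d) ≤ W (d + 1)) : GenSub A W := by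
  classical
  let s : Set (Module.End R (⨁ d, N d)) := Set.range (op A)
  have hs : ∀ a ∈ s, ∀ b ∈ s, a * b = b * a := by
    rintro _ ⟨i, rfl⟩ _ ⟨j, rfl⟩
    exact op_comm A hc i j
  letI := Algebra.adjoinCommRingOfComm R hs
  let φ : MvPolynomial σ R →ₐ[R] Module.End R (⨁ d, N d) :=
    (Algebra.adjoin R s).val.comp (MvPolynomial.aeval fun i => ⟨op A i, Algebra.subset_adjoin ⟨i, rfl⟩⟩)
  have hX : ∀ i, φ (MvPolynomial.X i) = op A i := fun i => by simp [φ]
  have hC : ∀ r : R, φ (MvPolynomial.C r) = r • (1 : Module.End R (⨁ d, N d)) := fun r => by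
    rw [← MvPolynomial.algebraMap_eq, AlgHom.commutes, Algebra.algebraMap_eq_smul_one]
  letI : Module (MvPolynomial σ R) (⨁ d, N d) := Module.compHom _ φ.toRingHom
  have smul_X : ∀ (i : σ) m, (MvPolynomial.X i : MvPolynomial σ R) • m = op A i m := fun i m => by
    show φ (MvPolynomial.X i) m = _
    rw [hX]
  have smul_C : ∀ (r : R) m, (MvPolynomial.C r : MvPolynomial σ R) • m = r • m := fun r m => by
    show φ (MvPolynomial.C r) m = _
    rw [hC]
    rfl
  obtain ⟨D₀, hD₀⟩ := hgen
  choose G hG using fun d => (hfin d).fg_top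
  let S : Submodule (MvPolynomial σ R) (⨁ d, N d) :=
    Submodule.span _ (⋃ d ∈ Finset.range (D₀ + 1), (DirectSum.lof R ℕ N d) '' (G d : Set (N d)))
  have hmem : ∀ (d : ℕ) (x : N d), DirectSum.lof R ℕ N d x ∈ S := by
    intro d
    induction d with
    | zero =>
      intro x
      have hx : x ∈ Submodule.span R (G 0 : Set (N 0)) := by rw [hG 0]; trivial
      induction hx using Submodule.span_induction with
      | mem y hy => exact Submodule.subset_span (Set.mem_biUnion (Finset.mem_range.2 (Nat.succ_pos _)) ⟨y, hy, rfl⟩)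
      | zero => rw [map_zero]; exact S.zero_mem
      | add y z _ _ hy hz => rw [map_add]; exact S.add_mem hy hz
      | smul r y _ hy => rw [map_smul, ← smul_C]; exact S.smul_mem _ hy
    | succ d ih =>
      intro x
      rcases lt_or_ge d D₀ with h | h
      · have hx : x ∈ Submodule.span R (G (d + 1) : Set (N (d + 1))) := by rw [hG]; trivial
        induction hx using Submodule.span_induction with
        | mem y hy => exact Submodule.subset_span (Set.mem_biUnion (Finset.mem_range.2 (by omega)) ⟨y, hy, rfl⟩)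
        | zero => rw [map_zero]; exact S.zero_mem
        | add y z _ _ hy hz => rw [map_add]; exact S.add_mem hy hz
        | smul r y _ hy => rw [map_smul, ← smul_C]; exact S.smul_mem _ hy
      · have hx := hD₀ d h (Submodule.mem_top : x ∈ (⊤ : Submodule R (N (d + 1))))
        refine Submodule.iSup_induction _ (motive := fun y => DirectSum.lof R ℕ N (d + 1) y ∈ S) hx ?_ ?_ ?_
        · rintro i _ ⟨y, -, rfl⟩
          rw [← op_lof, ← smul_X]
          exact S.smul_mem _ (ih y)
        · rw [map_zero]; exact S.zero_mem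
        · intro y z hy hz; rw [map_add]; exact S.add_mem hy hz
  haveI : Module.Finite (MvPolynomial σ R) (⨁ d, N d) := by
    refine ⟨?_⟩
    have hS : S = ⊤ := Submodule.eq_top_iff'.2 fun m => by
      induction m using DirectSum.induction_on with
      | zero => exact S.zero_mem
      | of k x => exact hmem k x
      | add x y hx hy => exact S.add_mem hx hy
    rw [← hS]
    refine Submodule.fg_span ?_
    exact Set.Finite.biUnion (Finset.finite_toSet _) fun d _ => ((G d).finite_toSet).image _
  let V : ℕ →o Submodule (MvPolynomial σ R) (⨁ d, N d) :=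
    ⟨fun D => Submodule.span _ (⋃ d ∈ Finset.range (D + 1), (DirectSum.lof R ℕ N d) '' (W d : Set (N d))),
      fun a b hab => Submodule.span_mono (Set.biUnion_subset_biUnion_left fun d hd => by
        have := Finset.mem_range.1 hd
        exact Finset.mem_range.2 (by omega))⟩
  obtain ⟨D, hD⟩ := monotone_stabilizes_iff_noetherian.2 inferInstance V
  refine ⟨D, fun d hd x hx => ?_⟩
  have hxV : DirectSum.lof R ℕ N (d + 1) x ∈ V D := by
    rw [hD (d + 1) (by omega)]
    exact Submodule.subset_span (Set.mem_biUnion (Finset.mem_range.2 (by omega)) ⟨x, hx, rfl⟩)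
  let Q : (⨁ d, N d) → Prop := fun m =>
    ∀ e, m e ∈ W e ∧ (D ≤ e → m (e + 1) ∈ ⨆ i, (W e).map (A i e))
  have hQadd : ∀ a b, Q a → Q b → Q (a + b) := fun a b ha hb e =>
    ⟨(W e).add_mem (ha e).1 (hb e).1, fun he => Submodule.add_mem _ ((ha e).2 he) ((hb e).2 he)⟩
  have hQsmul : ∀ (p : MvPolynomial σ R) m, Q m → Q (p • m) := by
    intro p
    induction p using MvPolynomial.induction_on with
    | C r =>
      intro m hm e
      rw [smul_C]
      exact ⟨(W e).smul_mem _ (hm e).1, fun he => Submodule.smul_mem _ _ ((hm e).2 he)⟩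
    | add p q hp hq => intro m hm; rw [add_smul]; exact hQadd _ _ (hp m hm) (hq m hm)
    | mul_X p i hp =>
      intro m hm
      rw [mul_smul, smul_X]
      refine hp _ fun e => ⟨?_, fun _ => ?_⟩
      · cases e with
        | zero => rw [(op_apply A i m 0).2]; exact (W 0).zero_mem
        | succ e => rw [(op_apply A i m e).1]; exact hW i e ⟨_, (hm e).1, rfl⟩
      · rw [(op_apply A i m e).1]
        exact Submodule.mem_iSup_of_mem i ⟨_, (hm e).1, rfl⟩
  have hQ : ∀ m ∈ V D, Q m := by
    intro m hm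
    induction hm using Submodule.span_induction with
    | mem y hy =>
      obtain ⟨k, hk, w, hw, rfl⟩ := Set.mem_iUnion₂.1 hy
      intro e
      have hk' := Finset.mem_range.1 hk
      refine ⟨?_, fun he => ?_⟩
      · rcases eq_or_ne k e with rfl | h
        · rw [DirectSum.lof_apply]; exact hw
        · rw [DirectSum.lof_eq_of, DirectSum.of_eq_of_ne _ _ _ h.symm]; exact (W e).zero_mem
      · rw [DirectSum.lof_eq_of, DirectSum.of_eq_of_ne _ _ _ (by omega)]; exact Submodule.zero_mem _
    | zero => exact fun e => ⟨(W e).zero_mem, fun _ => Submodule.zero_mem _⟩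
    | add y z _ _ hy hz => exact hQadd y z hy hz
    | smul p y _ hy => exact hQsmul p y hy
  have := (hQ _ hxV d).2 hd
  rwa [DirectSum.lof_apply] at this

end

/-- The extension step. -/
theorem genSub_of_ext [IsNoetherianRing R] [Finite σ] {M N : ℕ → Type v} [∀ d, AddCommGroup (M d)]
    [∀ d, Module R (M d)] [∀ d, AddCommGroup (N d)] [∀ d, Module R (N d)]
    (A : σ → ∀ d, M d →ₗ[R] M (d + 1)) (B : σ → ∀ d, N d →ₗ[R] N (d + 1)) (hB : Comm B)
    (hfin : ∀ d, Module.Finite R (N d)) (hgen : GenSub B fun _ => ⊤)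
    (f : ∀ d, M (d + 1) →ₗ[R] N d) (hf : ∀ i d x, f (d + 1) (A i (d + 1) x) = B i d (f d x))
    (j : σ) (hker : ∀ d, LinearMap.ker (f d) ≤ LinearMap.range (A j d)) :
    GenSub A fun _ => ⊤ := by
  obtain ⟨D, hD⟩ := genSub_of_le B hB hfin hgen (fun d => LinearMap.range (f d)) fun i d => by
    rintro _ ⟨_, ⟨x, rfl⟩, rfl⟩
    exact ⟨A i (d + 1) x, hf i d x⟩
  refine ⟨D + 1, fun d hd x _ => ?_⟩
  obtain ⟨e, rfl⟩ : ∃ e, d = e + 1 := ⟨d - 1, by omega⟩
  have h1 : f (e + 1) x ∈ (⨆ i, Submodule.map (A i (e + 1)) ⊤).map (f (e + 1)) := by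
    rw [Submodule.map_iSup]
    refine SetLike.le_def.1 (iSup_mono fun i => ?_) (hD e (by omega) ⟨x, rfl⟩)
    rintro _ ⟨_, ⟨y, rfl⟩, rfl⟩
    exact ⟨A i (e + 1) y, ⟨y, trivial, rfl⟩, hf i e y⟩
  obtain ⟨y, hy, hyx⟩ := h1
  obtain ⟨z, hz⟩ := hker (e + 1) (show x - y ∈ LinearMap.ker (f (e + 1)) by
    rw [LinearMap.mem_ker, map_sub, hyx, sub_self])
  have : x = y + A j (e + 1) z := by rw [hz]; abel
  rw [this]
  exact Submodule.add_mem _ hy (Submodule.mem_iSup_of_mem j ⟨z, trivial, rfl⟩)

end Groth.Agent.LeadBrown.GradedGen
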