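import Groth.Agent.LeadBrown.AllFin
import Groth.Agent.LeadBrown.GradedGen
import Groth.Agent.LeadBrown.AffineFin

/-!
# A criterion of coherence through twisted morphism modules
-/

set_option autoImplicit false
set_option linter.style.haveILetI false
set_option linter.unusedSectionVars false
set_option backward.isDefEq.respectTransparency false

universe u

open CategoryTheory CategoryTheory.Limits AlgebraicGeometry CategoryTheory.Pretriangulated Opposite
open DerivedCategory (singleFunctor homologyFunctor)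

attribute [local instance] HasDerivedCategory.standard

namespace Groth.Agent.LeadBrown

open Groth.Agent.H16Derived Groth.Agent.H16Derived.GenAmple Groth.Agent.H10Coh
open Groth.Agent.H16Derived.KFlat.Stalk (rd structurePullbackIso)
open Groth.Agent.H16Derived.Thomason (KC)
open Groth.Agent.H16Derived.QCohD (θ θ_comp bijective_θ_affine freeShEquiv_comp freeShTopIso)
open Groth.Agent.LeadBrown.GradedGen (GenSub Comm)

variable {X : Scheme.{u}}

/-- The test objects. -/
noncomputable abbrev testO (X : Scheme.{u}) (m : ℤ) : DCoh.D X :=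
  (singleFunctor X.Modules m).obj (freeSh (⊤ : X.Opens))

theorem kc_testO [IsLocallyNoetherian X] (m : ℤ) : KC (testO X m) := by
  refine ⟨fun i => ?_, ⟨m, inferInstanceAs (DerivedCategory.IsGE _ m)⟩, m, inferInstanceAs (DerivedCategory.IsLE _ m)⟩
  rcases eq_or_ne i m with rfl | h
  · exact isCoh_of_iso ((DerivedCategory.singleFunctorCompHomologyFunctorIso X.Modules i).app _ ≪≫
      freeShTopIso).symm (isCoh_structureModule' X)
  · rcases lt_or_gt_of_ne h with h | h
    · exact Dual.isCoh_isZero (DerivedCategory.isZero_of_isGE _ m i h)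
    · exact Dual.isCoh_isZero (DerivedCategory.isZero_of_isLE _ m i h)

/-- On an affine scheme finite morphism modules give finite sections. -/
theorem finite_sections_of_fin [IsAffine X] {E : DCoh.D X} (hE : DCoh.IsQCohD E) (m : ℤ)
    (h : Fin' (RingHom.id Γ(X, ⊤)) (testO X m) E) :
    Module.Finite Γ(X, ⊤) Γ(DCoh.HD E m, ⊤) := by
  let H := DCoh.HD E m
  letI := homModule (RingHom.id Γ(X, ⊤)) (testO X m) E
  haveI : Module.Finite Γ(X, ⊤) (testO X m ⟶ E) := h
  let F : (testO X m ⟶ E) →+ Γ(H, ⊤) := AddMonoidHom.mk' (fun g => freeShEquiv ⊤ H (θ (freeSh ⊤) m g)) fun a b => by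
    rw [θ, θ, θ, Functor.map_add, Preadditive.comp_add, freeShEquiv_add]
  refine finite_of_semilinear (RingHom.id Γ(X, ⊤)) F (fun r g => ?_)
    ((freeShEquiv ⊤ H).bijective.comp (bijective_θ_affine hE (isAffineOpen_top X) m)).2
  show freeShEquiv ⊤ H (θ (freeSh ⊤) m (g ≫ (mu r).app E)) = r • freeShEquiv ⊤ H (θ (freeSh ⊤) m g)
  rw [θ_comp, freeShEquiv_comp]
  refine (congrArg (fun t : H ⟶ H => t.app ⊤ _) (hd_mu r E m)).trans ?_
  exact congrArg (· • freeShEquiv ⊤ H (θ (freeSh ⊤) m g)) (show H17.ExtRegVanish.res ⊤ r = r by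
    rw [H17.ExtRegVanish.res, Subsingleton.elim (homOfLE (le_top : (⊤ : X.Opens) ≤ ⊤)).op (𝟙 _),
      CategoryTheory.Functor.map_id]
    rfl)

variable {R : Type u} [CommRing R] {ρ : R →+* Γ(X, ⊤)} {L : X.Modules}
  [PreservesFiniteLimits (tw L)] [PreservesFiniteColimits (tw L)]

theorem allFin_tn [IsNoetherianRing R] [IsLocallyNoetherian X] (hL : PicF.IsInvertible L) :
    ∀ (d : ℕ) {E : DCoh.D X}, AllFin ρ E → AllFin ρ ((TN (L := L) d).obj E)
  | 0, _, h => h
  | d + 1, _, h => allFin_tn hL d (h.td hL)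

/-- Multiplication by a section in the twisted morphism modules. -/
noncomputable def mult (ρ : R →+* Γ(X, ⊤)) (s : Coh.structureModule X ⟶ L) (P E : DCoh.D X) (d : ℕ) :
    letI := homModule ρ P ((TN (L := L) d).obj E)
    letI := homModule ρ P ((TN (L := L) (d + 1)).obj E)
    (P ⟶ (TN (L := L) d).obj E) →ₗ[R] (P ⟶ (TN (L := L) (d + 1)).obj E) :=
  letI := homModule ρ P ((TN (L := L) d).obj E)
  letI := homModule ρ P ((TN (L := L) (d + 1)).obj E)
  { toFun := fun g => g ≫ (TN (L := L) d).map ((sigD s).app E)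
    map_add' := fun a b => Preadditive.add_comp _ _ _ a b _
    map_smul' := fun r g => (Category.assoc _ _ _).trans ((congrArg (g ≫ ·)
      (mu_naturality (ρ r) ((TN (L := L) d).map ((sigD s).app E))).symm).trans (Category.assoc _ _ _).symm) }

variable {σ : Type} [Finite σ] (s : σ → (Coh.structureModule X ⟶ L))

/-- The twisted morphism modules are generated in bounded degree. -/
def Gen (ρ : R →+* Γ(X, ⊤)) (P E : DCoh.D X) : Prop :=
  letI := fun d : ℕ => homModule ρ P ((TN (L := L) d).obj E)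
  GenSub (N := fun d => P ⟶ (TN (L := L) d).obj E) (fun i => mult ρ (s i) P E) fun _ => ⊤

theorem sig_comm (hL : PicF.IsInvertible L) (a b : Coh.structureModule X ⟶ L) (E : DCoh.D X) :
    (sigD b).app E ≫ (TD (L := L)).map ((sigD a).app E) =
      (sigD a).app E ≫ (TD (L := L)).map ((sigD b).app E) := by
  rw [td_sigD hL]
  exact (sigD a).naturality ((sigD b).app E)

variable [IsNoetherianRing R] [IsLocallyNoetherian X] [CompactSpace X]

theorem isZero_tn : ∀ (d : ℕ) {E : DCoh.D X}, IsZero E → IsZero ((TN (L := L) d).obj E)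
  | 0, _, h => h
  | d + 1, _, h => isZero_tn d ((TD (L := L)).map_isZero h)

theorem isZero_rd_td (hL : PicF.IsInvertible L) (a : Coh.structureModule X ⟶ L) {E : DCoh.D X}
    (h : IsZero ((rd (ns a).ι).obj E)) : IsZero ((rd (ns a).ι).obj ((TD (L := L)).obj E)) :=
  haveI := isIso_rd_sigD a hL E
  h.of_iso (asIso ((rd (ns a).ι).map ((sigD a).app E))).symm

theorem isQCohD_td (hL : PicF.IsInvertible L) {E : DCoh.D X} (h : DCoh.IsQCohD E) :
    DCoh.IsQCohD ((TD (L := L)).obj E) := fun i =>
  QCohD.isQCoh_iso (hd_sigD (L := L) 0 E i).choose (H11Ample.isQCoh_tensor (h i) hL)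

/-- The induction over the sections. -/
theorem gen_of_allFin (hL : PicF.IsInvertible L) (hcov : ∀ x : X, ∃ i, x ∈ ns (s i)) (S : Finset σ) :
    ∀ E : DCoh.D X, DCoh.IsQCohD E → AllFin ρ E → (∀ i ∉ S, IsZero ((rd (ns (s i)).ι).obj E)) →
      ∀ m, Gen s ρ (testO X m) E := by
  classical
  induction S using Finset.induction_on with
  | empty =>
    intro E _ _ hz m
    have hE : IsZero E := isZero_of_cover (fun i => ns (s i)) hcov fun i => hz i (Finset.notMem_empty i)
    refine ⟨0, fun d _ x _ => ?_⟩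
    letI := homModule ρ (testO X m) ((TN (L := L) (d + 1)).obj E)
    have hd : IsZero ((TN (L := L) (d + 1)).obj E) := isZero_tn (d + 1) hE
    rw [show x = 0 from hd.eq_of_tgt _ _]
    exact Submodule.zero_mem _
  | insert j S _ ih =>
    intro E hq hfin hz m
    obtain ⟨C, g, δ, hT⟩ := distinguished_cocone_triangle ((sigD (s j)).app E)
    let T := Triangle.mk ((sigD (s j)).app E) g δ
    have hqC : DCoh.IsQCohD C := QCohD.AffineUnit.isQCohD_obj₃ hT hq (isQCohD_td hL hq)
    have hfC : AllFin ρ C := AllFin.obj₂ (T := T.rotate) (rot_of_distTriang _ hT) (hfin.td hL) (hfin.shift 1)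
    have hzC : ∀ i ∉ S, IsZero ((rd (ns (s i)).ι).obj C) := fun i hi => by
      have hT' := (rd (ns (s i)).ι).map_distinguished T hT
      rcases eq_or_ne i j with rfl | hij
      · exact (Triangle.isZero₃_iff_isIso₁ _ hT').2 (isIso_rd_sigD (s i) hL E)
      · have h1 := hz i (by simp [hij, hi])
        have h2 := isZero_rd_td hL (s i) h1
        exact (Triangle.isZero₃_iff_isIso₁ _ hT').2 ⟨0, h1.eq_of_src _ _, h2.eq_of_src _ _⟩
    letI := fun d : ℕ => homModule ρ (testO X m) ((TN (L := L) d).obj E)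
    letI := fun d : ℕ => homModule ρ (testO X m) ((TN (L := L) d).obj C)
    let f : ∀ d, (testO X m ⟶ (TN (L := L) (d + 1)).obj E) →ₗ[R] (testO X m ⟶ (TN (L := L) d).obj C) := fun d =>
      { toFun := fun x => x ≫ (TN (L := L) d).map g
        map_add' := fun a b => Preadditive.add_comp _ _ _ a b _
        map_smul' := fun r x => (Category.assoc _ _ _).trans ((congrArg (x ≫ ·)
          (mu_naturality (ρ r) ((TN (L := L) d).map g)).symm).trans (Category.assoc _ _ _).symm) }
    refine GradedGen.genSub_of_ext (M := fun d => testO X m ⟶ (TN (L := L) d).obj E)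
      (N := fun d => testO X m ⟶ (TN (L := L) d).obj C) (fun i => mult ρ (s i) _ E) (fun i => mult ρ (s i) _ C)
      (fun i k d x => ?_) (fun d => allFin_tn hL d hfC _ (kc_testO m)) (ih C hqC hfC hzC m) f
      (fun i d x => ?_) j fun d x hx => ?_
    · show (x ≫ (TN (L := L) d).map ((sigD (s k)).app C)) ≫ (TN (L := L) d).map ((TD (L := L)).map ((sigD (s i)).app C)) =
        (x ≫ (TN (L := L) d).map ((sigD (s i)).app C)) ≫ (TN (L := L) d).map ((TD (L := L)).map ((sigD (s k)).app C))
      rw [Category.assoc, Category.assoc, ← Functor.map_comp, ← Functor.map_comp, sig_comm hL]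
    · show (x ≫ (TN (L := L) d).map ((TD (L := L)).map ((sigD (s i)).app E))) ≫
          (TN (L := L) d).map ((TD (L := L)).map g) =
        (x ≫ (TN (L := L) d).map g) ≫ (TN (L := L) d).map ((sigD (s i)).app C)
      refine (Category.assoc _ _ _).trans (Eq.trans ?_ (Category.assoc _ _ _).symm)
      refine congrArg (x ≫ ·) ((((TN (L := L) d)).map_comp _ _).symm.trans
        ((congrArg (TN (L := L) d).map ?_).trans ((TN (L := L) d).map_comp _ _)))
      rw [td_sigD hL]
      exact ((sigD (s i)).naturality g).symm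
    · obtain ⟨y, hy⟩ := (ptri_TN (L := L) d).exact hT x hx
      exact ⟨y, hy.symm⟩

/-- Restricting the multiplications to an open where one section generates. -/
theorem rd_tn_rel (hL : PicF.IsInvertible L) (a b : Coh.structureModule X ⟶ L) (V : X.Opens) (c : Γ(X, V))
    (h : ∀ (W : X.Opens) (hW : W ≤ V), SecTwist.val b W = X.presheaf.map (homOfLE hW).op c • SecTwist.val a W) :
    ∀ (d : ℕ) (E : DCoh.D X), (rd V.ι).map ((TN (L := L) d).map ((sigD b).app E)) =
      (rd V.ι).map ((TN (L := L) d).map ((sigD a).app E)) ≫ (mu (V.topIso.inv c)).app _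
  | 0, E => rd_sigD_rel a b V c h E
  | d + 1, E => by
    show (rd V.ι).map ((TN (L := L) d).map ((TD (L := L)).map ((sigD b).app E))) = _
    rw [td_sigD hL, rd_tn_rel hL a b V c h d ((TD (L := L)).obj E)]
    show _ = (rd V.ι).map ((TN (L := L) d).map ((TD (L := L)).map ((sigD a).app E))) ≫ _
    rw [td_sigD hL]
    rfl

theorem sN_succ' (a : Coh.structureModule X ⟶ L) (d : ℕ) (E : DCoh.D X) :
    (sN a (d + 1)).app E = (sN a d).app E ≫ (TN (L := L) d).map ((sigD a).app E) :=
  (sN a d).naturality ((sigD a).app E)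

variable [QuasiSeparatedSpace X]

/-- Finiteness of morphism modules on a basic affine open. -/
theorem fin_rd (hL : PicF.IsInvertible L) (hcov : ∀ x : X, ∃ i, x ∈ ns (s i)) {E : DCoh.D X}
    (hq : DCoh.IsQCohD E) (hfin : AllFin ρ E) (a : σ) (hU : IsAffineOpen (ns (s a))) (m : ℤ) :
    Fin' (RingHom.id Γ((ns (s a) : Scheme.{u}), ⊤)) ((rd (ns (s a)).ι).obj (testO X m))
      ((rd (ns (s a)).ι).obj E) := by
  classical
  cases nonempty_fintype σ
  let U := ns (s a)
  let F := rd U.ι
  let P := testO X m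
  obtain ⟨D, hD⟩ := gen_of_allFin (ρ := ρ) s hL hcov Finset.univ E hq hfin (fun i hi => absurd (Finset.mem_univ i) hi) m
  haveI := fun d => isIso_rd_sN (s a) hL d E
  let Ψ : ∀ d, (P ⟶ (TN (L := L) d).obj E) →+ (F.obj P ⟶ F.obj E) := fun d =>
    AddMonoidHom.mk' (fun g => F.map g ≫ inv (F.map ((sN (s a) d).app E))) fun g g' => by
      rw [Functor.map_add]; exact Preadditive.add_comp _ _ _ _ _ _
  have hsurj : ∀ h : F.obj P ⟶ F.obj E, ∃ d g, Ψ d g = h := by
    intro h
    have hP : DCoh.IsPerfect P := by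
      have hO : DCoh.IsPerfect (DCoh.inD X (Coh.structureModule X)) :=
        KFlat.Stalk.isPerfect_inD fun x => ⟨⊤, 1, trivial, ⟨(Scheme.Modules.restrictFunctorIsoPullback (⊤ : X.Opens).ι).app _ ≪≫
          structurePullbackIso (⊤ : X.Opens).ι ≪≫
          (coproductUniqueIso fun _ : Fin 1 => Coh.structureModule (↑(⊤ : X.Opens) : Scheme.{u})).symm⟩⟩
      exact KFlat.Stalk.isPerfect_of_iso ((shiftFunctor (DCoh.D X) (-m)).mapIso
          ((singleFunctor X.Modules 0).mapIso freeShTopIso.symm) ≪≫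
        ((DerivedCategory.singleFunctors X.Modules).shiftIso (-m) m 0 (by omega)).app _)
        (KFlat.Stalk.isPerfect_shift hO (-m))
    haveI := Thomason.quasiCompact_ι U hU.isCompact
    haveI := QCohD.hasRpush U.ι
    let adj := Thomason.restrictRpushAdj U.ι
    let gh : P ⟶ (DCoh.Rpush U.ι).obj (F.obj E) := adj.homEquiv _ _ h
    obtain ⟨C, δ, w, hT⟩ := distinguished_cocone_triangle (adj.unit.app E)
    have hC : Off (s a) C := by
      refine ⟨QCohD.AffineUnit.isQCohD_obj₃ hT hq (QCohD.isQCohD_rpush U.ι (QCohD.isQCohD_rd U.ι hq)), fun i => ?_⟩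
      have hz : IsZero (F.obj C) :=
        (Triangle.isZero₃_iff_isIso₁ _ (F.map_distinguished _ hT)).2 (Thomason.isIso_rd_map_unit U.ι E)
      obtain ⟨e⟩ := MVPush.nonempty_hd_restrict_iso U C i
      exact ((DerivedCategory.homologyFunctor _ i).map_isZero hz).of_iso e.symm
    let z : P⟦(0 : ℤ)⟧ ≅ P := (shiftFunctorZero (DCoh.D X) ℤ).app P
    obtain ⟨N, hN⟩ := kl_of_isPerfect (s a) hL hP 0 C hC (z.hom ≫ gh ≫ δ)
    rw [Category.assoc] at hN
    have hN' := (cancel_epi z.hom).1 (hN.trans comp_zero.symm)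
    obtain ⟨g, hg⟩ : ∃ g : P ⟶ (TN (L := L) N).obj E,
        gh ≫ (sN (s a) N).app _ = g ≫ (TN (L := L) N).map (adj.unit.app E) := by
      refine (ptri_TN N).exact hT _ ?_
      have hn : δ ≫ (sN (s a) N).app C = (sN (s a) N).app _ ≫ (TN (L := L) N).map δ := (sN (s a) N).naturality δ
      rw [Category.assoc]
      exact ((congrArg (gh ≫ ·) hn.symm).trans (Category.assoc _ _ _).symm).trans hN'
    refine ⟨N, g, ?_⟩
    haveI := Thomason.isIso_rd_map_unit U.ι E
    have h1 : F.map gh = h ≫ F.map (adj.unit.app E) := by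
      have h3 : F.map gh ≫ adj.counit.app _ = h :=
        (Adjunction.homEquiv_counit adj _ _ gh).symm.trans ((adj.homEquiv _ _).symm_apply_apply h)
      have h4 : F.map (adj.unit.app E) ≫ adj.counit.app _ = 𝟙 _ := adj.left_triangle_components E
      haveI : IsIso (adj.counit.app (F.obj E)) := IsIso.of_isIso_fac_left h4
      rw [← cancel_mono (adj.counit.app (F.obj E)), h3, Category.assoc, h4]
      exact (Category.comp_id _).symm
    have h2 := congrArg F.map hg
    rw [Functor.map_comp, Functor.map_comp, h1, Category.assoc, ← Functor.map_comp,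
      show adj.unit.app E ≫ (sN (s a) N).app _ = (sN (s a) N).app E ≫ (TN (L := L) N).map (adj.unit.app E)
        from (sN (s a) N).naturality _, Functor.map_comp, ← Category.assoc] at h2
    haveI : IsIso (F.map ((TN (L := L) N).map (adj.unit.app E))) := by
      have hn : F.map (adj.unit.app E) ≫ F.map ((sN (s a) N).app _) =
          F.map ((sN (s a) N).app E) ≫ F.map ((TN (L := L) N).map (adj.unit.app E)) := by
        rw [← Functor.map_comp, ← Functor.map_comp]
        exact congrArg F.map ((sN (s a) N).naturality _)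
      haveI := isIso_rd_sN (s a) hL N ((DCoh.Rpush U.ι).obj (F.obj E))
      exact IsIso.of_isIso_fac_left hn.symm
    show F.map g ≫ inv (F.map ((sN (s a) N).app E)) = h
    rw [IsIso.comp_inv_eq]
    exact ((cancel_mono _).1 h2).symm
  have hc : ∀ i, ∃ c : Γ(X, U), ∀ (W : X.Opens) (hW : W ≤ U),
      SecTwist.val (s i) W = X.presheaf.map (homOfLE hW).op c • SecTwist.val (s a) W := fun i => by
    have he := H11Ample.isGen_gen (L := L) (SecTwist.val (s a) ⊤)
    rw [val_res] at he
    obtain ⟨c, hc⟩ := H11Ample.exists_coeff he (SecTwist.val (s i) U)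
    refine ⟨c, fun W hW => ?_⟩
    have h2 := congrArg (L.presheaf.map (homOfLE hW).op) hc
    rw [Scheme.Modules.map_smul] at h2
    exact (SecTwist.map_val (s i) (homOfLE hW)).symm.trans
      (h2.trans (congrArg (X.presheaf.map (homOfLE hW).op c • ·) (SecTwist.map_val (s a) (homOfLE hW))))
  choose c hc using hc
  letI := homModule (RingHom.id Γ((U : Scheme.{u}), ⊤)) (F.obj P) (F.obj E)
  have hstep : ∀ (d : ℕ) (i : σ) (g : P ⟶ (TN (L := L) d).obj E),
      Ψ (d + 1) (mult ρ (s i) P E d g) = U.topIso.inv (c i) • Ψ d g := by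
    intro d i g
    show F.map (g ≫ (TN (L := L) d).map ((sigD (s i)).app E)) ≫ inv (F.map ((sN (s a) (d + 1)).app E)) =
      (F.map g ≫ inv (F.map ((sN (s a) d).app E))) ≫ (mu (U.topIso.inv (c i))).app (F.obj E)
    rw [Functor.map_comp, rd_tn_rel hL (s a) (s i) U (c i) (hc i)]
    simp only [Category.assoc]
    refine congrArg (F.map g ≫ ·) ?_
    rw [← mu_naturality, ← Category.assoc]
    refine congrArg (· ≫ _) ?_
    rw [IsIso.comp_inv_eq, IsIso.eq_inv_comp, ← Functor.map_comp, sN_succ']
  letI := fun d : ℕ => homModule ρ P ((TN (L := L) d).obj E)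
  have hsmul : ∀ (d : ℕ) (r : R) (g : P ⟶ (TN (L := L) d).obj E),
      Ψ d (r • g) = U.ι.appTop (ρ r) • Ψ d g := by
    intro d r g
    show F.map (g ≫ (mu (ρ r)).app _) ≫ inv (F.map ((sN (s a) d).app E)) =
      (F.map g ≫ inv (F.map ((sN (s a) d).app E))) ≫ (mu (U.ι.appTop (ρ r))).app (F.obj E)
    rw [Functor.map_comp, rd_mu, Category.assoc, Category.assoc]
    exact congrArg (F.map g ≫ ·) (mu_naturality _ _).symm
  choose G hG using fun d => (allFin_tn hL d hfin P (kc_testO m) :
    Module.Finite R (P ⟶ (TN (L := L) d).obj E)).fg_top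
  let S : Submodule Γ((U : Scheme.{u}), ⊤) (F.obj P ⟶ F.obj E) :=
    Submodule.span _ (⋃ d ∈ Finset.range (D + 1), Ψ d '' (G d : Set (P ⟶ (TN (L := L) d).obj E)))
  have hmem : ∀ (d : ℕ) (g : P ⟶ (TN (L := L) d).obj E), Ψ d g ∈ S := by
    intro d
    induction d using Nat.strong_induction_on with
    | _ d ih =>
      intro g
      rcases le_or_gt d D with hd | hd
      · have hg : g ∈ Submodule.span R (G d : Set (P ⟶ (TN (L := L) d).obj E)) := by rw [hG]; trivial
        induction hg using Submodule.span_induction with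
        | mem y hy => exact Submodule.subset_span (Set.mem_biUnion (Finset.mem_range.2 (by omega)) ⟨y, hy, rfl⟩)
        | zero => rw [map_zero]; exact S.zero_mem
        | add y z _ _ hy hz => rw [map_add]; exact S.add_mem hy hz
        | smul r y _ hy => rw [hsmul]; exact S.smul_mem _ hy
      · obtain ⟨e, rfl⟩ : ∃ e, d = e + 1 := ⟨d - 1, by omega⟩
        refine Submodule.iSup_induction _ (motive := fun y => Ψ (e + 1) y ∈ S)
          (hD e (by omega) (Submodule.mem_top : g ∈ _)) ?_ ?_ ?_
        · rintro i _ ⟨y, -, rfl⟩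
          rw [hstep]
          exact S.smul_mem _ (ih e (by omega) y)
        · rw [map_zero]; exact S.zero_mem
        · intro y z hy hz; rw [map_add]; exact S.add_mem hy hz
  show Module.Finite _ (F.obj P ⟶ F.obj E)
  refine ⟨?_⟩
  have hS : S = ⊤ := Submodule.eq_top_iff'.2 fun h => by
    obtain ⟨d, g, rfl⟩ := hsurj h
    exact hmem d g
  rw [← hS]
  exact Submodule.fg_span (Set.Finite.biUnion (Finset.finite_toSet _) fun d _ => (G d).finite_toSet.image _)

/-- Coherence from the finiteness of the morphism modules. -/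
theorem isCohD_of_allFin (hL : PicF.IsInvertible L) {τ : Type} [Finite τ] (t : τ → (Coh.structureModule X ⟶ L))
    (hcov : ∀ x : X, ∃ i, x ∈ ns (t i)) (haff : ∀ i, IsAffineOpen (ns (t i))) {E : DCoh.D X}
    (hq : DCoh.IsQCohD E) (hfin : AllFin ρ E) : DCoh.IsCohD E := by
  intro m
  refine ⟨hq m, (@isFT_isFP_of_affineCover _ _ (hq m) (ULift.{u} τ) (fun i => ns (t i.down)) ?_
    (fun i => haff i.down) fun i => ?_).1⟩
  · exact TopologicalSpace.IsOpenCover.mk (top_unique fun x _ => TopologicalSpace.Opens.mem_iSup.2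
      (let ⟨i, hi⟩ := hcov x; ⟨⟨i⟩, hi⟩))
  · let U := ns (t i.down)
    haveI : IsAffine (U : Scheme.{u}) := haff i.down
    let R' := Scheme.Modules.restrictFunctor U.ι
    let e : (rd U.ι).obj (testO X m) ≅ testO (U : Scheme.{u}) m :=
      (R'.mapDerivedCategorySingleFunctor m).app _ ≪≫
        (singleFunctor (U : Scheme.{u}).Modules m).mapIso (R'.mapIso freeShTopIso ≪≫
          (Scheme.Modules.restrictFunctorIsoPullback U.ι).app _ ≪≫ structurePullbackIso U.ι ≪≫ freeShTopIso.symm)
    have h1 := finite_sections_of_fin (QCohD.isQCohD_rd U.ι hq) m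
      ((fin_rd (ρ := ρ) t hL hcov hq hfin i.down (haff i.down) m).of_iso _ e (Iso.refl _))
    obtain ⟨k⟩ := MVPush.nonempty_hd_restrict_iso U E m
    have h2 : Module.Finite Γ((U : Scheme.{u}), ⊤) Γ((DCoh.HD E m).restrict U.ι, ⊤) :=
      finite_of_semilinear (RingHom.id _) (k.hom.app ⊤).hom
        (fun a z => Scheme.Modules.Hom.app_smul k.hom a z)
        fun n => ⟨k.inv.app ⊤ n, congr($(congrArg (fun f => Scheme.Modules.Hom.app f ⊤) k.inv_hom_id) n)⟩
    have h3 := (finite_restrict_iff U.ι (DCoh.HD E m) ⊤).1 h2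
    exact finite_of_eq (DCoh.HD E m) (Scheme.Opens.ι_image_top U) h3

end Groth.Agent.LeadBrown
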