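import Groth.Agent.LeadBrown.CopTensor
import Groth.Agent.LeadBrown.PerfTensor

/-!
# `a RHom(k, K) ≅ RHom(Lf^*k, aK)`
-/

set_option autoImplicit false
set_option linter.style.haveILetI false
set_option linter.unusedSectionVars false
set_option backward.isDefEq.respectTransparency false

universe u

open CategoryTheory CategoryTheory.Limits AlgebraicGeometry

attribute [local instance] HasDerivedCategory.standard

namespace Groth.Agent.LeadBrown

open Groth.Agent.H16Derived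
open Groth.Agent.H16Derived.Dual (T R adjR)

variable {X Y : Scheme.{u}} {f : X ⟶ Y} [DCoh.HasRpush f] [DCoh.HasLpull f]
  [CompactSpace X] [QuasiSeparatedSpace X] [CompactSpace Y] [QuasiSeparatedSpace Y]
  {hf : DCoh.RpushPreservesQCoh f} {a : DCoh.DQCoh Y ⥤ DCoh.DQCoh X} (adj : DCoh.RpushQ f hf ⊣ a)
  {k : DCoh.D Y} (hk : DCoh.IsQCohD k) (K : DCoh.DQCoh Y) (hR : DCoh.IsQCohD ((R k).obj K.obj))

/-- The adjoint equivalence behind `a RHom(k, K) ≅ RHom(Lf^*k, aK)`. -/
noncomputable def dualEquiv (V : DCoh.DQCoh X) :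
    (V ⟶ a.obj ⟨(R k).obj K.obj, hR⟩) ≃ (V.obj ⟶ (R ((DCoh.Lpull f).obj k)).obj (a.obj K).obj) :=
  haveI := isIso_prj f V.property hk
  (adj.homEquiv V ⟨(R k).obj K.obj, hR⟩).symm.trans
    (({ toFun := fun φ => φ.hom
        invFun := fun φ => ObjectProperty.homMk φ
        left_inv := fun _ => rfl
        right_inv := fun _ => rfl } :
        ((DCoh.RpushQ f hf).obj V ⟶ ⟨(R k).obj K.obj, hR⟩) ≃ ((DCoh.Rpush f).obj V.obj ⟶ (R k).obj K.obj)).trans
    (((adjR k).homEquiv _ _).symm.trans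
      (((asIso (prj f V.obj k)).homCongr (Iso.refl K.obj)).trans
        ((homEquivD adj _ (isQCohD_T V.property (QCohD.isQCohD_lpull f hk)) K).symm.trans
          ((adjR ((DCoh.Lpull f).obj k)).homEquiv _ _)))))

theorem dualEquiv_naturality {V V' : DCoh.DQCoh X} (g : V' ⟶ V) (x : V ⟶ a.obj ⟨(R k).obj K.obj, hR⟩) :
    dualEquiv adj hk K hR V' (g ≫ x) = g.hom ≫ dualEquiv adj hk K hR V x := by
  haveI := isIso_prj f V.property hk
  haveI := isIso_prj f V'.property hk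
  simp only [dualEquiv, Equiv.trans_apply, Equiv.coe_fn_mk]
  refine Eq.trans (congrArg ((adjR ((DCoh.Lpull f).obj k)).homEquiv _ _) ?_) (Adjunction.homEquiv_naturality_left _ _ _)
  apply (homEquivD adj _ (isQCohD_T V'.property (QCohD.isQCohD_lpull f hk)) K).injective
  show _ = homEquivD adj _ _ K (((T X).map g.hom).app ((DCoh.Lpull f).obj k) ≫ _)
  rw [homEquivD_comp adj (isQCohD_T V.property (QCohD.isQCohD_lpull f hk)), Equiv.apply_symm_apply,
    Equiv.apply_symm_apply]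
  show inv (prj f V'.obj k) ≫ _ ≫ 𝟙 K.obj = (DCoh.Rpush f).map _ ≫ inv (prj f V.obj k) ≫ _ ≫ 𝟙 K.obj
  rw [Category.comp_id, Category.comp_id, IsIso.inv_comp_eq, ← Category.assoc (prj f V'.obj k),
    ← prj_naturality_left, Category.assoc, IsIso.hom_inv_id_assoc]
  refine (congrArg (fun z => ((adjR k).homEquiv _ _).symm z.hom) (adj.homEquiv_naturality_left_symm g x)).trans ?_
  exact (adjR k).homEquiv_naturality_left_symm _ _

include adj hk in
/-- **`a RHom(k, K) ≅ RHom(Lf^*k, aK)`.** -/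
theorem nonempty_rightAdjoint_R (hR' : DCoh.IsQCohD ((R ((DCoh.Lpull f).obj k)).obj (a.obj K).obj)) :
    Nonempty ((a.obj ⟨(R k).obj K.obj, hR⟩).obj ≅ (R ((DCoh.Lpull f).obj k)).obj (a.obj K).obj) := by
  let A := a.obj ⟨(R k).obj K.obj, hR⟩
  let B : DCoh.DQCoh X := ⟨_, hR'⟩
  let e := dualEquiv adj hk K hR
  let φ : A.obj ⟶ B.obj := e A (𝟙 A)
  have key : ∀ (V : DCoh.DQCoh X) (x : V ⟶ A), x.hom ≫ φ = e V x := fun V x =>
    (dualEquiv_naturality adj hk K hR x (𝟙 A)).symm.trans (congrArg (e V) (Category.comp_id x))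
  let ψ : B ⟶ A := (e B).symm (𝟙 B.obj)
  have h1 : ψ.hom ≫ φ = 𝟙 B.obj := (key B ψ).trans (Equiv.apply_symm_apply _ _)
  have h2 : ObjectProperty.homMk φ ≫ ψ = 𝟙 A := by
    apply (e A).injective
    rw [← key A, ← key A]
    show (φ ≫ ψ.hom) ≫ φ = 𝟙 A.obj ≫ φ
    rw [Category.assoc, h1, Category.comp_id, Category.id_comp]
  exact ⟨⟨φ, ψ.hom, congrArg (fun z => z.hom) h2, h1⟩⟩

end Groth.Agent.LeadBrown
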