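import Groth.Agent.LeadBrown.DualityPull
import Groth.Agent.LeadBrown.Adjoint
import Groth.Agent.LeadBrown.RSheafHomQCoh
import Groth.Agent.LeadBrown.ShriekBC
import Groth.Agent.H4RSH.GlobalBidual
import Groth.Agent.H4RSH.BoundedInjective

/-!
# `f^! = D_X ∘ Lf^* ∘ D_Y`
-/

set_option autoImplicit false
set_option linter.style.haveILetI false
set_option linter.unusedSectionVars false
set_option backward.isDefEq.respectTransparency false
set_option synthInstance.maxHeartbeats 400000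
set_option maxHeartbeats 1000000

universe u

open CategoryTheory CategoryTheory.Limits AlgebraicGeometry
open DerivedCategory.TStructure (t)

attribute [local instance] HasDerivedCategory.standard

namespace Groth.Agent.LeadBrown

open Groth.Agent.H16Derived Groth.Agent.H16Derived.Dual
open Groth.Agent.H16Derived.KFlat.Stalk (rd rdComp hasLpull homologyRdIso)

/-- The dual of a bounded below coherent object is bounded above. -/
theorem exists_isLE_R_dualizing {Y : Scheme.{u}} [IsNoetherian Y]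
    [∀ (U : Scheme.{u}) (j : U ⟶ Y) [IsOpenImmersion j], PreservesFiniteLimits (Scheme.Modules.restrictFunctor j)]
    [∀ (R : CommRingCat.{u}), PreservesFiniteLimits (tilde.functor R)]
    {K k : DCoh.D Y} (hK : Dual2.IsDualizingSch Y K) (hk : DCoh.IsCohD k) (c : ℤ) (hc : k.IsGE c) :
    ∃ b : ℤ, ((R k).obj K).IsLE b := by
  have key : ∀ x : Y, ∃ (b : ℤ) (V : Y.Opens), x ∈ V ∧ ∀ i, b < i →
      IsZero ((Scheme.Modules.restrictFunctor V.ι).obj (DCoh.HD ((R k).obj K) i)) := fun x => by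
    obtain ⟨A, iA, j, hj, hx, ω, M, hω, hM, ⟨eω⟩, ⟨eM⟩⟩ := H4RSH.exists_chart hK hk x
    haveI := hω.isNoetherianRing
    obtain ⟨F, hF, ⟨eF⟩⟩ := H4RSH.exists_dual_ex M ω hM (H4RSH.hfid hω)
    obtain ⟨a', b', J, hv, hJ, ⟨eJ⟩⟩ := H4DR.Ext.fid_iff.1 (H4DR.Ext.fid_iff.2 (H4RSH.hfid hω))
    haveI := QCohD.hasRpush j
    haveI := hasLpull j
    let ρ := rdIsoLpull j
    haveI := H4RSH.isIso_wR j k K
    let eE : (rd j).obj ((R k).obj K) ≅ (DCoh.tildeD (CommRingCat.of A)).obj F :=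
      ρ.app _ ≪≫ asIso (wR j k K) ≪≫ (Dual.RIso ((ρ.app k).symm ≪≫ eM)).app _ ≪≫
        (R _).mapIso ((ρ.app K).symm ≪≫ eω) ≪≫ eF
    haveI := hc
    haveI hMge : ((DCoh.tildeD (CommRingCat.of A)).obj M).IsGE c :=
      haveI := isGE_rd' j k c hc
      t.isGE_of_iso eM c
    haveI := (QCohD.full_faithful (CommRingCat.of A)).2
    have hMl : ∀ l, l < c → Subsingleton (Dual.HD A M l) := fun l hl => by
      have h := (DerivedCategory.isZero_of_isGE _ c l hl).of_iso (KFlat.Stalk.hdTilde M l).symm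
      exact ModuleCat.subsingleton_of_isZero
        (M := (DerivedCategory.homologyFunctor (ModuleCat.{u} A) l).obj M)
        ((IsZero.iff_id_eq_zero _).2 ((tilde.functor (CommRingCat.of A)).map_injective (h.eq_of_src _ _)))
    refine ⟨b' - c, j.opensRange, hx, fun i hi => ?_⟩
    have hz : IsZero ((Scheme.Modules.restrictFunctor j).obj (DCoh.HD ((R k).obj K) i)) := by
      haveI : Subsingleton (Dual.HD A F i) := by
        haveI := H4DR.Ext.subsingleton_ex_of_GE hMl hv hJ eJ (i := i) (by omega)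
        exact (hF i).some.injective.subsingleton
      refine IsZero.of_iso ?_ ((homologyRdIso j _ i).symm ≪≫
        (DerivedCategory.homologyFunctor _ i).mapIso eE ≪≫ KFlat.Stalk.hdTilde F i)
      exact (tilde.functor (CommRingCat.of A)).map_isZero (ModuleCat.isZero_of_iff_subsingleton.2 ‹_›)
    exact ((Scheme.Modules.restrictFunctor j.isoOpensRange.inv).map_isZero hz).of_iso
      ((Scheme.Modules.restrictFunctorCongr j.isoOpensRange_inv_comp).symm.app _ ≪≫
        (Scheme.Modules.restrictFunctorComp j.isoOpensRange.inv j).app _)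
  choose b V hxV hb using key
  obtain ⟨s, hs⟩ := (isCompact_univ (X := ↥Y)).elim_finite_subcover (fun x => (V x : Set Y))
    (fun x => (V x).isOpen) fun x _ => Set.mem_iUnion.2 ⟨x, hxV x⟩
  obtain ⟨B, hB⟩ := (s.image b).exists_le
  refine ⟨B, (DerivedCategory.isLE_iff _ B).2 fun i hi =>
    KFlat.Stalk.isZero_of_isZero_restrict fun x => ?_⟩
  obtain ⟨y, hy, hxy⟩ := Set.mem_iUnion₂.1 (hs (Set.mem_univ x))
  exact ⟨V y, hxy, hb y i (lt_of_le_of_lt (hB _ (Finset.mem_image_of_mem b hy)) hi)⟩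

variable {X Y : Scheme.{u}} [IsNoetherian X] [IsNoetherian Y] {f : X ⟶ Y}
  [∀ (U V : Scheme.{u}) (j : U ⟶ V) [IsOpenImmersion j], PreservesFiniteLimits (Scheme.Modules.restrictFunctor j)]
  [∀ (R : CommRingCat.{u}), PreservesFiniteLimits (tilde.functor R)]

/-- `f^! M ≅ RHom(Lf^* RHom(M, K), f^! K)`. -/
theorem nonempty_shriek_duality (c : DEt.Compactification f) [DCoh.HasRpush c.fbar]
    {hc : DCoh.RpushPreservesQCoh c.fbar} {a : DCoh.DQCoh Y ⥤ DCoh.DQCoh c.Xbar}
    (adj : DCoh.RpushQ c.fbar hc ⊣ a) [DCoh.HasLpull f] (K : DCoh.DQCoh Y) (c₀ : ℤ) (hKge : K.obj.IsGE c₀)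
    (hK : Dual2.IsDualizingSch Y K.obj) (M : DCoh.DQCoh Y) (c₁ : ℤ) (hMge : M.obj.IsGE c₁)
    (hM : DCoh.IsCohD M.obj) :
    Nonempty ((haveI := c.isOpenImmersion; (rd c.j).obj (a.obj M).obj) ≅
      (R ((DCoh.Lpull f).obj ((R M.obj).obj K.obj))).obj
        (haveI := c.isOpenImmersion; (rd c.j).obj (a.obj K).obj)) := by
  haveI := c.isOpenImmersion
  haveI := c.isProper
  haveI : CompactSpace c.Xbar := QuasiCompact.compactSpace_of_compactSpace c.fbar
  haveI : QuasiSeparatedSpace c.Xbar := quasiSeparatedSpace_of_quasiSeparated c.fbar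
  haveI := hasLpull c.fbar
  haveI : QuasiCompact c.j := quasiCompact_of_compactSpace c.j
  haveI := QCohD.hasRpush c.j
  haveI := hasLpull c.j
  let k : DCoh.D Y := (R M.obj).obj K.obj
  have hkc : DCoh.IsCohD k := H4RSH.isCohD_R hK hM
  have hkq : DCoh.IsQCohD k := fun i => (hkc i).1
  haveI := H4RSH.isIso_η hK hM
  let eη : M.obj ≅ (R k).obj K.obj := asIso (H4RSH.η K.obj M.obj)
  have hR : DCoh.IsQCohD ((R k).obj K.obj) := QCohD.isQCohD_iso eη M.property
  obtain ⟨b, hb⟩ := exists_isLE_R_dualizing hK hM c₁ hMge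
  obtain ⟨m, hm⟩ := exists_isGE adj K c₀ hKge
  have hR' : DCoh.IsQCohD ((R ((DCoh.Lpull c.fbar).obj k)).obj (a.obj K).obj) := fun i => by
    haveI := hm
    haveI := hb
    exact isQCoh_hd_R (m - i - 1)
      (KFlat.Stalk.isPseudoCoherentD_lpull c.fbar (Dual.isPseudoCoherentD_of_isCohD b hkc _))
      (a.obj K).property m i (by omega)
  obtain ⟨e⟩ := nonempty_rightAdjoint_R adj hkq K hR hR'
  obtain ⟨u⟩ := BaseChange.IsLp.unique ((BaseChange.isLp_self c.fbar).comp (BaseChange.isLp_self c.j) |>.congr c.fac)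
    (BaseChange.isLp_self f)
  let ρ := rdIsoLpull c.j
  haveI := H4RSH.isIso_wR c.j ((DCoh.Lpull c.fbar).obj k) (a.obj K).obj
  exact ⟨(rd c.j).mapIso ((ObjectProperty.ι DCoh.IsQCohD).mapIso
      (a.mapIso (ObjectProperty.isoMk _ eη : M ≅ ⟨_, hR⟩)) ≪≫ e) ≪≫ ρ.app _ ≪≫
    asIso (wR c.j ((DCoh.Lpull c.fbar).obj k) (a.obj K).obj) ≪≫ (Dual.RIso (u.app k).symm).app _ ≪≫
    (R _).mapIso (ρ.app _).symm⟩

end Groth.Agent.LeadBrown
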