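import Groth.Agent.LeadBrown.Scalar
import Groth.Agent.LeadBrown.Adjoint
import Groth.Agent.H16Derived.Exchange.ProperRel
import Groth.Agent.H16Derived.KFlat.PerfNoeth
import Groth.Agent.H16Derived.Thomason.CohExtend
import Mathlib.RingTheory.Finiteness.Basic
import Mathlib.RingTheory.Noetherian.Basic

/-!
# Finiteness of morphism modules
-/

set_option autoImplicit false
set_option linter.style.haveILetI false
set_option linter.unusedSectionVars false

universe u

open CategoryTheory CategoryTheory.Limits AlgebraicGeometry CategoryTheory.Pretriangulated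

attribute [local instance] HasDerivedCategory.standard

namespace Groth.Agent.LeadBrown

open Groth.Agent.H16Derived Groth.Agent.H16Derived.KFlat
open Groth.Agent.H17.ExtRegVanish (mulEnd res)

variable {X Y : Scheme.{u}}

theorem mulEnd_add' (a b : Γ(X, ⊤)) (M : X.Modules) : mulEnd (a + b) M = mulEnd a M + mulEnd b M := by
  refine Scheme.Modules.hom_ext _ _ fun W => ?_
  ext m
  show res W (a + b) • m = res W a • m + res W b • m
  rw [res, res, res, map_add, add_smul]

theorem mu_ext {a : Γ(X, ⊤)} (T : ∀ E : DCoh.D X, E ⟶ E)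
    (hT : ∀ {E F : DCoh.D X} (φ : E ⟶ F), φ ≫ T F = T E ≫ φ)
    (h : ∀ C : CochainComplex X.Modules ℤ, T (DerivedCategory.Q.obj C) = DerivedCategory.Q.map (muC a C))
    (E : DCoh.D X) : T E = (mu a).app E := by
  let e := DerivedCategory.Q.objObjPreimageIso E
  rw [← cancel_epi e.hom]
  refine (hT e.hom).trans ?_
  rw [h, ← mu_Q]
  exact (mu_naturality a e.hom).symm

theorem mu_add (a b : Γ(X, ⊤)) (E : DCoh.D X) :
    (mu (a + b)).app E = (mu a).app E + (mu b).app E := by
  refine (mu_ext (a := a + b) (fun E => (mu a).app E + (mu b).app E) ?_ ?_ E).symm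
  · intro E F φ
    exact (Preadditive.comp_add _ _ _ φ _ _).trans
      ((congrArg₂ (· + ·) (mu_naturality a φ) (mu_naturality b φ)).trans (Preadditive.add_comp _ _ _ _ _ φ).symm)
  · intro C
    rw [mu_Q, mu_Q]
    refine ((DerivedCategory.Q).map_add).symm.trans (congrArg _ ?_)
    exact HomologicalComplex.Hom.ext (funext fun i => (mulEnd_add' a b (C.X i)).symm)

theorem mu_mul (a b : Γ(X, ⊤)) (E : DCoh.D X) :
    (mu (b * a)).app E = (mu a).app E ≫ (mu b).app E := by
  refine (mu_ext (a := b * a) (fun E => (mu a).app E ≫ (mu b).app E) ?_ ?_ E).symm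
  · intro E F φ
    exact (Category.assoc _ _ _).symm.trans ((congrArg (· ≫ _) (mu_naturality a φ)).trans
      ((Category.assoc _ _ _).trans ((congrArg (_ ≫ ·) (mu_naturality b φ)).trans (Category.assoc _ _ _).symm)))
  · intro C
    rw [mu_Q, mu_Q]
    refine ((DerivedCategory.Q).map_comp _ _).symm.trans (congrArg _ ?_)
    exact HomologicalComplex.Hom.ext (funext fun i => mulEnd_comp a b (C.X i))

theorem mu_one (E : DCoh.D X) : (mu (1 : Γ(X, ⊤))).app E = 𝟙 E := by
  refine (mu_ext (a := (1 : Γ(X, ⊤))) (fun E => 𝟙 E) ?_ ?_ E).symm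
  · intro E F φ
    exact (Category.comp_id _).trans (Category.id_comp _).symm
  · intro C
    refine (DerivedCategory.Q.map_id C).symm.trans (congrArg _ ?_)
    exact HomologicalComplex.Hom.ext (funext fun i => (mulEnd_one (C.X i)).symm)

theorem mu_zero (E : DCoh.D X) : (mu (0 : Γ(X, ⊤))).app E = 0 := by
  have h := mu_add (0 : Γ(X, ⊤)) 0 E
  rw [add_zero] at h
  exact left_eq_add.1 h

/-- Global functions act on objects. -/
noncomputable def muHom (E : DCoh.D X) : Γ(X, ⊤) →+* CategoryTheory.End E where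
  toFun a := (mu a).app E
  map_one' := mu_one E
  map_mul' a b := mu_mul b a E
  map_zero' := mu_zero E
  map_add' a b := mu_add a b E

variable {R : Type u} [CommRing R]

/-- The module of morphisms. -/
@[instance_reducible]
noncomputable def homModule (ρ : R →+* Γ(X, ⊤)) (P E : DCoh.D X) : Module R (P ⟶ E) :=
  Module.compHom (P ⟶ E) ((muHom E).comp ρ)

theorem smul_eq (ρ : R →+* Γ(X, ⊤)) (P E : DCoh.D X) (r : R) (g : P ⟶ E) :
    letI := homModule ρ P E
    r • g = g ≫ (mu (ρ r)).app E := rfl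

/-- The morphisms form a finite module. -/
def Fin' (ρ : R →+* Γ(X, ⊤)) (P E : DCoh.D X) : Prop :=
  letI := homModule ρ P E
  Module.Finite R (P ⟶ E)

variable (ρ : R →+* Γ(X, ⊤))

/-- Transfer along surjections compatible with the actions. -/
theorem Fin'.of_surjective {X' : Scheme.{u}} (ρ' : R →+* Γ(X', ⊤)) {P E : DCoh.D X} {P' E' : DCoh.D X'}
    (h : Fin' ρ P E) (F : (P ⟶ E) →+ (P' ⟶ E'))
    (hF : ∀ (r : R) g, F (g ≫ (mu (ρ r)).app E) = F g ≫ (mu (ρ' r)).app E')
    (hs : Function.Surjective F) : Fin' ρ' P' E' := by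
  letI := homModule ρ P E
  letI := homModule ρ' P' E'
  haveI : Module.Finite R (P ⟶ E) := h
  exact Module.Finite.of_surjective
    ({ toFun := F, map_add' := map_add F, map_smul' := fun r g => hF r g } : (P ⟶ E) →ₗ[R] (P' ⟶ E')) hs

/-- Transfer along injections compatible with the actions. -/
theorem Fin'.of_injective [IsNoetherianRing R] {X' : Scheme.{u}} (ρ' : R →+* Γ(X', ⊤)) {P E : DCoh.D X}
    {P' E' : DCoh.D X'} (h : Fin' ρ' P' E') (F : (P ⟶ E) →+ (P' ⟶ E'))
    (hF : ∀ (r : R) g, F (g ≫ (mu (ρ r)).app E) = F g ≫ (mu (ρ' r)).app E')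
    (hs : Function.Injective F) : Fin' ρ P E := by
  letI := homModule ρ P E
  letI := homModule ρ' P' E'
  haveI : Module.Finite R (P' ⟶ E') := h
  exact Module.Finite.of_injective
    ({ toFun := F, map_add' := map_add F, map_smul' := fun r g => hF r g } : (P ⟶ E) →ₗ[R] (P' ⟶ E')) hs

theorem fin_of_subsingleton (P E : DCoh.D X) (h : Subsingleton (P ⟶ E)) : Fin' ρ P E := by
  letI := homModule ρ P E
  haveI := h
  exact Module.Finite.of_finite

/-- Isomorphic objects. -/
theorem Fin'.of_iso {P P' E E' : DCoh.D X} (h : Fin' ρ P E) (e : P ≅ P') (e' : E ≅ E') : Fin' ρ P' E' :=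
  h.of_surjective ρ ρ (AddMonoidHom.mk' (fun g => e.inv ≫ g ≫ e'.hom) fun a b => by
      rw [Preadditive.add_comp, Preadditive.comp_add])
    (fun r g => by
      simp only [AddMonoidHom.mk'_apply, Category.assoc]
      exact congrArg (fun t => e.inv ≫ g ≫ t) (mu_naturality (ρ r) e'.hom).symm)
    fun g => ⟨e.hom ≫ g ≫ e'.inv, by simp⟩

/-- Extensions in the source. -/
theorem Fin'.ext_src [IsNoetherianRing R] {T : Triangle (DCoh.D X)} (hT : T ∈ distTriang (DCoh.D X))
    (E : DCoh.D X) (h₁ : Fin' ρ T.obj₁ E) (h₃ : Fin' ρ T.obj₃ E) : Fin' ρ T.obj₂ E := by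
  letI := homModule ρ T.obj₁ E
  letI := homModule ρ T.obj₂ E
  letI := homModule ρ T.obj₃ E
  haveI : Module.Finite R (T.obj₁ ⟶ E) := h₁
  haveI : Module.Finite R (T.obj₃ ⟶ E) := h₃
  let f : (T.obj₃ ⟶ E) →ₗ[R] (T.obj₂ ⟶ E) :=
    { toFun := fun g => T.mor₂ ≫ g, map_add' := fun a b => Preadditive.comp_add _ _ _ _ a b,
      map_smul' := fun r g => (Category.assoc _ _ _).symm }
  let g : (T.obj₂ ⟶ E) →ₗ[R] (T.obj₁ ⟶ E) :=
    { toFun := fun g => T.mor₁ ≫ g, map_add' := fun a b => Preadditive.comp_add _ _ _ _ a b,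
      map_smul' := fun r g => (Category.assoc _ _ _).symm }
  show Module.Finite R (T.obj₂ ⟶ E)
  haveI := isNoetherian_of_range_eq_ker f g (by
    ext x
    refine ⟨fun ⟨y, hy⟩ => ?_, fun hx => ?_⟩
    · subst hy
      show T.mor₁ ≫ T.mor₂ ≫ y = 0
      rw [← Category.assoc, comp_distTriang_mor_zero₁₂ _ hT, zero_comp]
    · obtain ⟨y, hy⟩ := Triangle.yoneda_exact₂ _ hT x hx
      exact ⟨y, hy.symm⟩)
  exact Module.IsNoetherian.finite R _

/-- Along a proper morphism, through the adjunction. -/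
theorem Fin'.of_adj {f : X ⟶ Y} [DCoh.HasRpush f] {hf : DCoh.RpushPreservesQCoh f}
    {a : DCoh.DQCoh Y ⥤ DCoh.DQCoh X} (adj : DCoh.RpushQ f hf ⊣ a) (ρY : R →+* Γ(Y, ⊤))
    {P : DCoh.D X} (hP : DCoh.IsQCohD P) (K : DCoh.DQCoh Y)
    (h : Fin' ρY ((DCoh.Rpush f).obj P) K.obj) : Fin' ((f.appTop.hom).comp ρY) P (a.obj K).obj := by
  haveI := Stalk.hasLpull f
  letI := Stalk.rpushCommShift f
  haveI := Stalk.rpush_isTriangulated f
  let e := homEquivD adj P hP K
  let F : ((DCoh.Rpush f).obj P ⟶ K.obj) →+ (P ⟶ (a.obj K).obj) :=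
    AddMonoidHom.mk' e.symm fun u v => e.injective (by
      rw [homEquivD_add, Equiv.apply_symm_apply, Equiv.apply_symm_apply, Equiv.apply_symm_apply])
  refine h.of_surjective ρY _ F (fun r g => ?_) e.symm.surjective
  simp only [F, AddMonoidHom.mk'_apply]
  show e.symm (g ≫ (mu (ρY r)).app K.obj) = e.symm g ≫ (mu (f.appTop (ρY r))).app (a.obj K).obj
  refine e.injective ((e.apply_symm_apply _).trans ?_)
  refine Eq.trans ?_ (congrArg e (mu_naturality (f.appTop (ρY r)) (e.symm g)).symm)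
  refine Eq.trans ?_ (homEquivD_comp adj hP hP _ K _).symm
  refine (mu_naturality (ρY r) g).trans ?_
  rw [rpush_mu]
  exact congrArg (_ ≫ ·) (e.apply_symm_apply g).symm

end Groth.Agent.LeadBrown
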