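import Groth.Agent.H16Derived.Thomason.Cells
import Mathlib.CategoryTheory.Triangulated.Functor

/-!
# A Brown representability theorem relative to a class of objects

Let `Φ : D ⥤ D'` be a triangulated functor which commutes with the small sums of objects in a class `P`,
where `P` is generated by a set of relatively compact objects. Then for every `Y : D'` the functor
`Z ↦ (Φ.obj Z ⟶ Y)` on `P` is represented by an object of `P`.
-/

set_option autoImplicit false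
set_option linter.style.haveILetI false
set_option linter.unusedSectionVars false

universe v w w' u u'

open CategoryTheory CategoryTheory.Limits CategoryTheory.Pretriangulated
open Groth.Agent.H16Derived.QCohD Groth.Agent.H16Derived.Thomason

namespace Groth.Agent.LeadBrown

variable {D : Type u} [Category.{w} D] [Preadditive D] [HasZeroObject D] [HasShift D ℤ]
  [∀ n : ℤ, (shiftFunctor D n).Additive] [Pretriangulated D] [HasCoproducts.{v} D]
  {D' : Type u'} [Category.{w'} D'] [Preadditive D'] [HasZeroObject D'] [HasShift D' ℤ]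
  [∀ n : ℤ, (shiftFunctor D' n).Additive] [Pretriangulated D'] [HasCoproducts.{v} D']
  (Φ : D ⥤ D') [Φ.CommShift ℤ] [Φ.IsTriangulated]

/-- `Φ` commutes with small sums of objects in `P`. -/
def SumPres (P : D → Prop) : Prop :=
  ∀ (κ : Type v) (W : κ → D), (∀ k, P (W k)) → IsIso (Sigma.desc fun k => Φ.map (Sigma.ι W k))

section Sums

variable {Φ} {P : D → Prop} (hΦ : SumPres.{v} Φ P) {κ : Type v} (W : κ → D) (hW : ∀ k, P (W k))
include hΦ hW

theorem exists_desc {Y : D'} (c : ∀ k, Φ.obj (W k) ⟶ Y) :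
    ∃ d : Φ.obj (∐ W) ⟶ Y, ∀ k, Φ.map (Sigma.ι W k) ≫ d = c k := by
  haveI := hΦ κ W hW
  refine ⟨inv (Sigma.desc fun k => Φ.map (Sigma.ι W k)) ≫ Sigma.desc c, fun k => ?_⟩
  have h : Sigma.ι (fun k => Φ.obj (W k)) k =
      Φ.map (Sigma.ι W k) ≫ inv (Sigma.desc fun k => Φ.map (Sigma.ι W k)) := by
    rw [IsIso.eq_comp_inv, Sigma.ι_desc]
  rw [← Category.assoc, ← h, Sigma.ι_desc]

theorem sum_hom_ext {Y : D'} (a b : Φ.obj (∐ W) ⟶ Y)
    (h : ∀ k, Φ.map (Sigma.ι W k) ≫ a = Φ.map (Sigma.ι W k) ≫ b) : a = b := by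
  haveI := hΦ κ W hW
  refine (cancel_epi (Sigma.desc fun k => Φ.map (Sigma.ι W k))).1 (Sigma.hom_ext _ _ fun k => ?_)
  rw [Sigma.ι_desc_assoc, Sigma.ι_desc_assoc, h]

end Sums

/-- `F` represents `Φ.obj - ⟶ Y` at `Z`. -/
def Rep {F : D} {Y : D'} (e : Φ.obj F ⟶ Y) (Z : D) : Prop :=
  Function.Bijective fun f : Z ⟶ F => Φ.map f ≫ e

variable {Φ}

theorem Rep.of_iso {F : D} {Y : D'} {e : Φ.obj F ⟶ Y} {Z Z' : D} (i : Z ≅ Z') (h : Rep Φ e Z) :
    Rep Φ e Z' := by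
  refine ⟨fun f f' hf => (cancel_epi i.hom).1 (h.1 ?_), fun φ => ?_⟩
  · simp only [Functor.map_comp, Category.assoc] at hf ⊢
    rw [hf]
  · obtain ⟨f, hf⟩ := h.2 (Φ.map i.hom ≫ φ)
    refine ⟨i.inv ≫ f, ?_⟩
    simp only at hf ⊢
    rw [Functor.map_comp, Category.assoc, hf, ← Category.assoc, ← Φ.map_comp, i.inv_hom_id, Φ.map_id,
      Category.id_comp]

/-- The three out of two property for `Rep`. -/
theorem Rep.cone {F : D} {Y : D'} {e : Φ.obj F ⟶ Y} (T : Triangle D) (hT : T ∈ distTriang D)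
    (hA : Rep Φ e T.obj₁) (hB : Rep Φ e T.obj₂) (hA' : Rep Φ e (T.obj₁⟦(1 : ℤ)⟧))
    (hB' : Rep Φ e (T.obj₂⟦(1 : ℤ)⟧)) : Rep Φ e T.obj₃ := by
  have key : ∀ c : T.obj₃ ⟶ F, Φ.map c ≫ e = 0 → c = 0 := by
    intro c hc
    have h1 : T.mor₂ ≫ c = 0 := hB.1 (by
      simp only
      rw [Functor.map_comp, Category.assoc, hc, comp_zero, Functor.map_zero, zero_comp])
    obtain ⟨a, ha⟩ := Triangle.yoneda_exact₃ _ hT c h1
    have h2 : Φ.map T.mor₃ ≫ (Φ.map a ≫ e) = 0 := by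
      rw [← Category.assoc, ← Φ.map_comp, ← ha, hc]
    obtain ⟨ψ, hψ⟩ := Triangle.yoneda_exact₂ _
      (Φ.map_distinguished _ (rot_of_distTriang _ (rot_of_distTriang _ hT))) (Φ.map a ≫ e) h2
    obtain ⟨b, hb⟩ := hB'.2 ψ
    simp only at hb
    let r : T.obj₁⟦(1 : ℤ)⟧ ⟶ T.obj₂⟦(1 : ℤ)⟧ := T.rotate.rotate.mor₂
    have hψ' : Φ.map a ≫ e = Φ.map r ≫ ψ := hψ
    have hb' : Φ.map b ≫ e = ψ := hb
    have h3 : a = r ≫ b := hA'.1 (by
      simp only
      rw [hψ', ← hb', ← Category.assoc, ← Φ.map_comp])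
    have h4 : T.mor₃ ≫ r = 0 :=
      comp_distTriang_mor_zero₁₂ _ (rot_of_distTriang _ (rot_of_distTriang _ hT))
    rw [ha, h3]
    exact (Category.assoc _ _ _).symm.trans ((congrArg (· ≫ b) h4).trans zero_comp)
  refine ⟨fun c c' hcc => sub_eq_zero.1 (key _ ?_), fun φ => ?_⟩
  · simp only at hcc
    rw [Functor.map_sub, Preadditive.sub_comp, hcc, sub_self]
  · obtain ⟨b, hb⟩ := hB.2 (Φ.map T.mor₂ ≫ φ)
    simp only at hb
    have h1 : T.mor₁ ≫ b = 0 := hA.1 (by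
      simp only
      rw [Functor.map_comp, Category.assoc, hb, ← Category.assoc, ← Φ.map_comp,
        comp_distTriang_mor_zero₁₂ _ hT, Functor.map_zero, zero_comp, Functor.map_zero, zero_comp])
    obtain ⟨c, hc⟩ := Triangle.yoneda_exact₂ _ hT b h1
    have h2 : Φ.map T.mor₂ ≫ (φ - Φ.map c ≫ e) = 0 := by
      rw [Preadditive.comp_sub, sub_eq_zero, ← hb, ← Category.assoc, ← Φ.map_comp, ← hc]
    obtain ⟨ψ, hψ⟩ := Triangle.yoneda_exact₂ _ (Φ.map_distinguished _ (rot_of_distTriang _ hT))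
      (φ - Φ.map c ≫ e) h2
    obtain ⟨a, ha⟩ := hA'.2 ψ
    simp only at ha
    refine ⟨c + T.mor₃ ≫ a, ?_⟩
    simp only [Functor.map_add, Preadditive.add_comp, Functor.map_comp, Category.assoc, ha]
    have h3 : φ - Φ.map c ≫ e = Φ.map T.mor₃ ≫ ψ := hψ
    rw [← h3]
    abel

variable (Φ) {ι : Type v} (σ : ι → D)

/-- A tower of objects over the functor `Φ.obj - ⟶ Y` on which `σ` is adapted. -/
structure HTel (Y : D') where
  F : ℕ → D
  e : ∀ n, Φ.obj (F n) ⟶ Y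
  t : ∀ n, F n ⟶ F (n + 1)
  w : ∀ n, Φ.map (t n) ≫ e (n + 1) = e n
  kill : ∀ (n : ℕ) (i : ι) (f : σ i ⟶ F n), Φ.map f ≫ e n = 0 → f ≫ t n = 0
  surj : ∀ (i : ι) (φ : Φ.obj (σ i) ⟶ Y), ∃ c, Φ.map c ≫ e 0 = φ

variable [hsmall : ∀ (i : ι) (Z : D), Small.{v} (σ i ⟶ Z)]
  [hsmall' : ∀ (i : ι) (Y : D'), Small.{v} (Φ.obj (σ i) ⟶ Y)]

variable {P : D → Prop} (hP : Loc.{v} P) (hΦ : SumPres.{v} Φ P) (hσ : ∀ i, P (σ i))
include hP hΦ hσ

theorem exists_step {Y : D'} (p : {F : D // P F}) (e : Φ.obj p.1 ⟶ Y) :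
    ∃ (q : {F : D // P F}) (e' : Φ.obj q.1 ⟶ Y) (t : p.1 ⟶ q.1), Φ.map t ≫ e' = e ∧
      ∀ (i : ι) (f : σ i ⟶ p.1), Φ.map f ≫ e = 0 → f ≫ t = 0 := by
  let κ := Σ i, Shrink.{v} {f : σ i ⟶ p.1 // Φ.map f ≫ e = 0}
  let g : (∐ fun k : κ => σ k.1) ⟶ p.1 := Sigma.desc fun k => ((equivShrink _).symm k.2).1
  obtain ⟨F', t, δ, hT⟩ := distinguished_cocone_triangle g
  have hg : Φ.map g ≫ e = 0 := sum_hom_ext hΦ _ (fun k : κ => hσ k.1) _ _ fun k => by
    rw [← Category.assoc, ← Φ.map_comp, Sigma.ι_desc, comp_zero]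
    exact ((equivShrink _).symm k.2).2
  obtain ⟨e', he'⟩ := Triangle.yoneda_exact₂ _ (Φ.map_distinguished _ hT) e hg
  refine ⟨⟨F', hP.cone _ hT (hP.sum _ _ fun k => hσ k.1) p.2⟩, e', t, he'.symm, fun i f hf => ?_⟩
  have h1 : Sigma.ι (fun k : κ => σ k.1) ⟨i, equivShrink _ ⟨f, hf⟩⟩ ≫ g = f := by
    rw [Sigma.ι_desc, Equiv.symm_apply_apply]
  rw [← h1, Category.assoc]
  exact (congrArg (_ ≫ ·) (comp_distTriang_mor_zero₁₂ _ hT)).trans comp_zero

theorem exists_htel (Y : D') : ∃ T : HTel Φ σ Y, ∀ n, P (T.F n) := by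
  choose q e' t hw hk using fun p : (F : {F : D // P F}) × (Φ.obj F.1 ⟶ Y) =>
    exists_step Φ σ hP hΦ hσ p.1 p.2
  let κ := Σ i, Shrink.{v} (Φ.obj (σ i) ⟶ Y)
  obtain ⟨d, hd⟩ := exists_desc hΦ (fun k : κ => σ k.1) (fun k => hσ k.1)
    (fun k => (equivShrink _).symm k.2)
  let Z : ℕ → (F : {F : D // P F}) × (Φ.obj F.1 ⟶ Y) := fun n =>
    Nat.rec ⟨⟨∐ fun k : κ => σ k.1, hP.sum _ _ fun k => hσ k.1⟩, d⟩ (fun _ p => ⟨q p, e' p⟩) n
  refine ⟨⟨fun n => (Z n).1.1, fun n => (Z n).2, fun n => t (Z n), fun n => hw (Z n),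
    fun n => hk (Z n), fun i φ => ⟨Sigma.ι (fun k : κ => σ k.1) ⟨i, equivShrink _ φ⟩, ?_⟩⟩,
    fun n => (Z n).1.2⟩
  exact (hd _).trans (Equiv.symm_apply_apply _ _)

omit hP hΦ hσ in
theorem eq_zero_of_fixed (F : ℕ → D) (t : ∀ n, F n ⟶ F (n + 1)) (hF : ∀ n, P (F n)) {A : D}
    (hA : FinSupp.Holds.{v} P A) (a : A ⟶ ∐ fun n : ULift.{v} ℕ => F n.down)
    (h : a ≫ (Sigma.desc fun n : ULift.{v} ℕ =>
      t n.down ≫ Sigma.ι (fun n : ULift.{v} ℕ => F n.down) ⟨n.down + 1⟩) = a) : a = 0 := by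
  classical
  let X : ULift.{v} ℕ → D := fun n => F n.down
  have hproj : ∀ (n m : ℕ) (hnm : n ≠ m),
      Sigma.ι X ⟨n⟩ ≫ FinSupp.proj X ⟨m⟩ = 0 := fun n m hnm => by
    rw [FinSupp.proj, Sigma.ι_desc, dif_neg (fun hh => hnm (congrArg ULift.down hh))]
  have hproj' : ∀ n : ℕ, Sigma.ι X ⟨n⟩ ≫ FinSupp.proj X ⟨n⟩ = 𝟙 _ := fun n => by
    rw [FinSupp.proj, Sigma.ι_desc, dif_pos rfl, eqToHom_refl]
  have hm : ∀ m : ℕ, a ≫ FinSupp.proj X ⟨m⟩ = 0 := fun m => by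
    induction m with
    | zero =>
      rw [← h, Category.assoc]
      refine (congrArg (a ≫ ·) ?_).trans comp_zero
      exact Sigma.hom_ext _ _ fun n => by
        rw [Sigma.ι_desc_assoc, comp_zero, Category.assoc, hproj _ _ (Nat.succ_ne_zero _), comp_zero]
    | succ m ih =>
      rw [← h, Category.assoc]
      have h1 : (Sigma.desc fun n : ULift.{v} ℕ => t n.down ≫ Sigma.ι X ⟨n.down + 1⟩) ≫
          FinSupp.proj X ⟨m + 1⟩ = FinSupp.proj X ⟨m⟩ ≫ t m := Sigma.hom_ext _ _ fun n => by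
        obtain ⟨n⟩ := n
        rw [Sigma.ι_desc_assoc, Category.assoc]
        by_cases hnm : n = m
        · subst hnm
          rw [hproj', ← Category.assoc, hproj', Category.comp_id, Category.id_comp]
        · rw [hproj _ _ (fun hh => hnm (Nat.succ_injective hh)), ← Category.assoc, hproj _ _ hnm,
            comp_zero, zero_comp]
      exact (congrArg (a ≫ ·) h1).trans (by rw [← Category.assoc, ih, zero_comp])
  obtain ⟨s, hs⟩ := hA (ULift.{v} ℕ) X (fun n => hF n.down) a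
  rw [eq_sum_ι X a s hs]
  exact Finset.sum_eq_zero fun k _ => by rw [hm k.down, zero_comp]

/-- The telescope of a tower. -/
theorem HTel.exists_colim {Y : D'} (S : HTel Φ σ Y) (hS : ∀ n, P (S.F n))
    (hcomp : ∀ i, FinSupp.Holds.{v} P (σ i))
    (hshift : ∀ i (k : ℤ), ∃ j, Nonempty (σ j ≅ (σ i)⟦k⟧)) :
    ∃ (F : D) (e : Φ.obj F ⟶ Y), P F ∧ ∀ i, Rep Φ e (σ i) := by
  let X : ULift.{v} ℕ → D := fun n => S.F n.down
  let sh : (∐ X) ⟶ ∐ X := Sigma.desc fun n => S.t n.down ≫ Sigma.ι X ⟨n.down + 1⟩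
  obtain ⟨F, a, δ, hT⟩ := distinguished_cocone_triangle (𝟙 (∐ X) - sh)
  obtain ⟨E', hE⟩ := exists_desc hΦ X (fun n => hS n.down) fun n => S.e n.down
  have hE' : Φ.map (𝟙 (∐ X) - sh) ≫ E' = 0 := sum_hom_ext hΦ X (fun n => hS n.down) _ _ fun n => by
    rw [comp_zero, ← Category.assoc, ← Φ.map_comp, Preadditive.comp_sub, Category.comp_id,
      Sigma.ι_desc, Functor.map_sub, Preadditive.sub_comp, Functor.map_comp, Category.assoc, hE, hE]
    exact sub_eq_zero.2 (S.w n.down).symm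
  obtain ⟨e, he⟩ := Triangle.yoneda_exact₂ _ (Φ.map_distinguished _ hT) E' hE'
  have he' : Φ.map a ≫ e = E' := he.symm
  let an : ∀ n, S.F n ⟶ F := fun n => Sigma.ι X ⟨n⟩ ≫ a
  have han : ∀ n, Φ.map (an n) ≫ e = S.e n := fun n => by
    simp only [an, Functor.map_comp, Category.assoc, he']
    exact hE ⟨n⟩
  have hsh : ∀ n, S.t n ≫ an (n + 1) = an n := fun n => by
    have h0 : (𝟙 (∐ X) - sh) ≫ a = 0 := comp_distTriang_mor_zero₁₂ _ hT
    have h1 := congrArg (Sigma.ι X ⟨n⟩ ≫ ·) h0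
    simp only [sh, Preadditive.sub_comp, Preadditive.comp_sub, Category.id_comp, comp_zero,
      Sigma.ι_desc_assoc, Category.assoc, sub_eq_zero] at h1
    exact h1.symm
  have hle : ∀ n N, n ≤ N → ∃ τ : S.F n ⟶ S.F N, τ ≫ an N = an n := fun n N h => by
    induction h with
    | refl => exact ⟨𝟙 _, Category.id_comp _⟩
    | step _ ih =>
      obtain ⟨τ, hτ⟩ := ih
      exact ⟨τ ≫ S.t _, by rw [Category.assoc, hsh, hτ]⟩
  refine ⟨F, e, hP.cone _ hT (hP.sum _ _ fun n => hS _) (hP.sum _ _ fun n => hS _),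
    fun i => ⟨?_, fun φ => ?_⟩⟩
  · suffices key : ∀ f : σ i ⟶ F, Φ.map f ≫ e = 0 → f = 0 by
      intro f f' hff
      refine sub_eq_zero.1 (key _ ?_)
      simp only at hff
      rw [Functor.map_sub, Preadditive.sub_comp, hff, sub_self]
    intro f hf
    have hδ : f ≫ δ = 0 := by
      obtain ⟨j, ⟨ej⟩⟩ := hshift i (-1)
      let w' : σ i ⟶ (∐ X)⟦(1 : ℤ)⟧ := f ≫ δ
      have hw : w' ≫ (𝟙 (∐ X) - sh)⟦(1 : ℤ)⟧' = 0 := by
        have h' : δ ≫ (𝟙 (∐ X) - sh)⟦(1 : ℤ)⟧' = 0 := comp_distTriang_mor_zero₃₁ _ hT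
        rw [Category.assoc, h', comp_zero]
      let c := shiftFunctorCompIsoId D (1 : ℤ) (-1) (by norm_num)
      let a' : σ j ⟶ ∐ X := ej.hom ≫ w'⟦(-1 : ℤ)⟧' ≫ c.hom.app _
      have ha' : a' ≫ (𝟙 _ - sh) = 0 := by
        simp only [a', Category.assoc]
        erw [← c.hom.naturality (𝟙 (∐ X) - sh)]
        rw [Functor.comp_map, ← Functor.map_comp_assoc, hw, Functor.map_zero, zero_comp, comp_zero]
      rw [Preadditive.comp_sub, Category.comp_id, sub_eq_zero] at ha'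
      have h0 := eq_zero_of_fixed S.F S.t hS (hcomp j) a' ha'.symm
      have h1 : w'⟦(-1 : ℤ)⟧' = 0 := by
        simpa [a'] using h0
      exact (shiftFunctor D (-1 : ℤ)).map_eq_zero_iff.1 h1
    obtain ⟨α, hα⟩ := Triangle.coyoneda_exact₃ _ hT f hδ
    change σ i ⟶ ∐ X at α
    obtain ⟨s, hs⟩ := hcomp i (ULift.{v} ℕ) X (fun n => hS n.down) α
    let N : ℕ := s.sup fun n => n.down
    obtain ⟨β, rfl⟩ : ∃ β : σ i ⟶ S.F N, β ≫ an N = f := by
      have hf' : f = (α : σ i ⟶ ∐ X) ≫ a := hα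
      rw [hf', eq_sum_ι X α s hs, Preadditive.sum_comp]
      have hle' : ∀ n ∈ s, ∃ τ : S.F n.down ⟶ S.F N, τ ≫ an N = an n.down := fun n hn =>
        hle _ _ (Finset.le_sup (f := fun n : ULift.{v} ℕ => n.down) hn)
      choose τ hτ using hle'
      refine ⟨∑ n ∈ s.attach, (α ≫ FinSupp.proj X n.1) ≫ τ n.1 n.2, ?_⟩
      rw [Preadditive.sum_comp, ← Finset.sum_attach (s := s)]
      refine Finset.sum_congr rfl fun n _ => ?_
      simp only [Category.assoc, hτ n.1 n.2, an]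
    rw [← hsh N, ← Category.assoc,
      S.kill N i β (by rwa [Functor.map_comp, Category.assoc, han] at hf), zero_comp]
  · obtain ⟨c, hc⟩ := S.surj i φ
    exact ⟨c ≫ an 0, by simp only; rw [Functor.map_comp, Category.assoc, han, hc]⟩

/-- Brown representability relative to `P`. -/
theorem exists_universal (hPsh : ∀ (Z : D) (n : ℤ), P Z → P (Z⟦n⟧))
    (hcomp : ∀ i, FinSupp.Holds.{v} P (σ i))
    (hshift : ∀ i (k : ℤ), ∃ j, Nonempty (σ j ≅ (σ i)⟦k⟧))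
    (hgen : ∀ Z, P Z → (∀ i (f : σ i ⟶ Z), f = 0) → IsZero Z) (Y : D') :
    ∃ (F : D) (e : Φ.obj F ⟶ Y), P F ∧ ∀ Z, P Z → Rep Φ e Z := by
  obtain ⟨S, hS⟩ := exists_htel Φ σ hP hΦ hσ Y
  obtain ⟨F, e, hF, hbij⟩ := HTel.exists_colim Φ σ hP hΦ hσ S hS hcomp hshift
  let Q : D → Prop := fun Z => P Z ∧ ∀ n : ℤ, Rep Φ e (Z⟦n⟧)
  have hQ : Loc.{v} Q :=
    { of_iso := fun i h => ⟨hP.of_iso i h.1, fun n => (h.2 n).of_iso ((shiftFunctor D n).mapIso i)⟩
      sum := fun κ W h => ⟨hP.sum κ W fun k => (h k).1, fun n => by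
        have hWn : ∀ k, P ((W k)⟦n⟧) := fun k => hPsh _ n (h k).1
        refine Rep.of_iso (asIso (sigmaComparison (shiftFunctor D n) W)) ⟨fun f f' hf => ?_, fun φ => ?_⟩
        · refine Sigma.hom_ext _ _ fun k => ((h k).2 n).1 ?_
          simp only [Functor.map_comp, Category.assoc] at hf ⊢
          rw [hf]
        · choose c hc using fun k => ((h k).2 n).2 (Φ.map (Sigma.ι (fun k => (W k)⟦n⟧) k) ≫ φ)
          refine ⟨Sigma.desc c, sum_hom_ext hΦ _ hWn _ _ fun k => ?_⟩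
          simp only
          rw [← Category.assoc, ← Φ.map_comp, Sigma.ι_desc]
          exact hc k⟩
      cone := fun T hT h₁ h₂ => ⟨hP.cone T hT h₁.1 h₂.1, fun n => by
        have h' := Triangle.shift_distinguished _ hT n
        have hsh : ∀ Z : D, (∀ m : ℤ, Rep Φ e (Z⟦m⟧)) → Rep Φ e ((Z⟦n⟧)⟦(1 : ℤ)⟧) := fun Z hZ =>
          (hZ (n + 1)).of_iso ((shiftFunctorAdd D n 1).app Z)
        exact Rep.cone _ h' (h₁.2 n) (h₂.2 n) (hsh _ h₁.2) (hsh _ h₂.2)⟩ }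
  have hQσ : ∀ i, Q (σ i) := fun i => ⟨hσ i, fun n => by
    obtain ⟨j, ⟨ej⟩⟩ := hshift i n
    exact (hbij j).of_iso ej⟩
  refine ⟨F, e, hF, fun Z hZ => ?_⟩
  exact ((induction σ P hP hσ hcomp hshift hgen hQ hQσ hZ).2 0).of_iso ((shiftFunctorZero D ℤ).app Z)

end Groth.Agent.LeadBrown
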