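import Groth.Agent.LeadBrown.KoszulHom
import Groth.Agent.LeadBrown.FiniteDual
import Groth.Agent.H16Derived.RelTensor.Chart

/-!
# The right adjoint of a Koszul-regular closed immersion at the structure sheaf
-/

set_option autoImplicit false
set_option linter.style.haveILetI false
set_option linter.unusedSectionVars false
set_option backward.isDefEq.respectTransparency false

universe u

open CategoryTheory CategoryTheory.Limits CategoryTheory.Pretriangulated AlgebraicGeometry

attribute [local instance] HasDerivedCategory.standard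

namespace Groth.Agent.LeadBrown

open Groth.Agent.H16Derived Groth.Agent.H16Derived.QCohD
open Groth.Agent.H16Derived.KFlat.Stalk (hasLpull lpullRpushAdj lpullCommShift rpushCommShift rpush_isTriangulated
  lpull_isTriangulated)

variable {U W : Scheme.{u}} [IsAffine W] (i : U ⟶ W) [IsClosedImmersion i] [DCoh.HasRpush i]

/-- The generator of `Ri_*O`. -/
theorem exists_gn_rpush :
    ∃ q : oX W ⟶ (DCoh.Rpush i).obj (oX U),
      Gn ((DCoh.Rpush i).obj (oX U)) (RingHom.ker i.appTop.hom) q := by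
  haveI : IsAffine U := isAffine_of_isAffineHom i
  haveI := hasLpull i
  letI := lpullCommShift i
  haveI := lpull_isTriangulated i
  letI := rpushCommShift i
  haveI := rpush_isTriangulated i
  let adj := lpullRpushAdj i
  let L := DCoh.Lpull i
  obtain ⟨e₀⟩ := RelTensor.nonempty_lpull_one i 0
  let eL : L.obj (oX W) ≅ oX U := L.mapIso ((shiftFunctorZero (DCoh.D W) ℤ).app (oX W)).symm ≪≫ e₀ ≪≫
    (shiftFunctorZero (DCoh.D U) ℤ).app (oX U)
  let q := adj.homEquiv _ _ eL.hom
  have hq : ∀ a : Γ(W, ⊤), adj.homEquiv _ _ (eL.hom ≫ (mu (i.appTop a)).app (oX U)) =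
      (mu a).app (oX W) ≫ q := fun a => by
    rw [Adjunction.homEquiv_naturality_right, rpush_mu i a]
    exact mu_naturality a _
  have h0 : adj.homEquiv _ _ (0 : L.obj (oX W) ⟶ oX U) = 0 := by
    rw [Adjunction.homEquiv_unit, Functor.map_zero, comp_zero]
  have hs : ∀ b : Γ(U, ⊤), ∃ a, i.appTop a = b := i.app_surjective ⊤ (isAffineOpen_top W)
  refine ⟨q, ⟨fun k hk φ => ?_, fun φ => ?_, fun a => ?_⟩⟩
  · obtain ⟨ek⟩ := RelTensor.nonempty_lpull_one i k
    apply (adj.homEquiv _ _).symm.injective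
    have h : ek.inv ≫ (adj.homEquiv _ _).symm φ ≫ (shiftFunctorZero (DCoh.D U) ℤ).inv.app (oX U) = 0 :=
      hom_oX_oX_eq_zero hk _
    rw [Preadditive.IsIso.comp_left_eq_zero, Preadditive.IsIso.comp_right_eq_zero] at h
    rw [h]
    exact (by rw [Adjunction.homEquiv_counit, Functor.map_zero, zero_comp] :
      (adj.homEquiv _ _).symm (0 : (oX W)⟦k⟧ ⟶ (DCoh.Rpush i).obj (oX U)) = 0).symm
  · obtain ⟨b, hb⟩ := (mu_oX_bijective (X := U)).2 (eL.inv ≫ (adj.homEquiv _ _).symm φ)
    obtain ⟨a, rfl⟩ := hs b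
    refine ⟨a, ?_⟩
    rw [← hq, show (mu (i.appTop a)).app (oX U) = _ from hb, Iso.hom_inv_id_assoc, Equiv.apply_symm_apply]
  · rw [RingHom.mem_ker, ← hq]
    constructor
    · intro h
      have h1 : eL.hom ≫ (mu (i.appTop a)).app (oX U) = 0 := (adj.homEquiv _ _).injective (h.trans h0.symm)
      rw [Preadditive.IsIso.comp_left_eq_zero] at h1
      exact (mu_oX_bijective (X := U)).1 (h1.trans mu_zero_oX₀.symm)
    · intro h
      rw [h, mu_zero_oX₀, comp_zero]
      exact h0

variable {hi : DCoh.RpushPreservesQCoh i} {b : DCoh.DQCoh W ⥤ DCoh.DQCoh U} (adj : DCoh.RpushQ i hi ⊣ b)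

include adj in
/-- **`i^!O_W ≅ O_U[-c]` for a regular sequence of length `c`.** -/
theorem nonempty_rightAdjoint_regular (l : List Γ(W, ⊤)) (hl : RegMod l ⊥)
    (hker : RingHom.ker i.appTop.hom = Ideal.ofList l) (n : ℤ) (M : DCoh.DQCoh W) (eM : M.obj ≅ (oX W)⟦n⟧) :
    Nonempty ((b.obj M).obj ≅ (oX U)⟦n - l.length⟧) := by
  haveI : IsAffine U := isAffine_of_isAffineHom i
  let Q := (DCoh.Rpush i).obj (oX U)
  obtain ⟨qQ, hQ⟩ := exists_gn_rpush i
  have hQq : DCoh.IsQCohD Q := hi _ (isQCohD_oX U)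
  have hμ : ∀ f ∈ l, (mu f).app Q = 0 := fun f hf => by
    have h0 : i.appTop f = 0 := RingHom.mem_ker.1 (hker ▸ Ideal.subset_span hf)
    rw [← rpush_mu, h0, mu_zero]
    haveI : (DCoh.Rpush i).Additive :=
      letI := rpushCommShift i
      haveI := Groth.Agent.H16Derived.KFlat.Stalk.rpush_isTriangulated i
      inferInstance
    exact (DCoh.Rpush i).map_zero _ _
  obtain ⟨E, q, x₀, g, hE, hq, hx₀, hg⟩ := exists_koszul (Q := Q) l ⊥ (oX W) 0 (𝟙 _) _ qQ (isQCohD_oX W)
    gn_base dl_base hl hμ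
  rw [bot_sup_eq] at hq hx₀
  erw [Category.id_comp] at hg
  haveI := hq.isIso (hker ▸ hQ) hE hQq g hg
  have hx := hx₀.of_iso (asIso g).symm
  generalize (asIso g).symm.hom ≫ x₀ = x at hx
  -- the candidate isomorphism
  letI := rpushCommShift i
  haveI := rpush_isTriangulated i
  let c : ℤ := 0 + l.length
  let σ : ∀ k : ℤ, (DCoh.Rpush i).obj ((oX U)⟦k⟧) ≅ Q⟦k⟧ := fun k => ((DCoh.Rpush i).commShiftIso k).app _
  have hs : ∀ k : ℤ, DCoh.IsQCohD ((oX U)⟦k⟧) := fun k => HomVanish.isQCohD_shift (isQCohD_oX U) k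
  let m := n - c
  let x' : Q⟦m⟧ ⟶ M.obj := x⟦m⟧' ≫ (sAdd (oX W) c m n (by omega)).hom ≫ eM.inv
  let Φ := fun k => homEquivD adj _ (hs k) M
  let y : (oX U)⟦m⟧ ⟶ (b.obj M).obj := (Φ m).symm ((σ m).hom ≫ x')
  suffices IsIso y by
    refine ⟨(asIso y).symm ≪≫ eqToIso ?_⟩
    rw [show m = n - l.length by omega]
  refine isIso_of_oX (hs m) (b.obj M).property y fun k => ?_
  by_cases hk : k = m
  · subst hk
    have key : ∀ a : Γ(W, ⊤), Φ m ((mu (i.appTop a)).app ((oX U)⟦m⟧) ≫ y) =
        (σ m).hom ≫ (x ≫ (mu a).app _)⟦m⟧' ≫ (sAdd (oX W) c m n (by omega)).hom ≫ eM.inv := fun a => by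
      rw [homEquivD_comp adj (hs m), show homEquivD adj _ (hs m) M y = _ from Equiv.apply_symm_apply _ _,
        rpush_mu, ← Category.assoc, ← mu_naturality, Category.assoc, mu_shift, Functor.map_comp]
      simp only [x', Category.assoc]
      rw [← Functor.map_comp_assoc, ← Functor.map_comp_assoc, ← mu_naturality]
    constructor
    · intro u v huv
      obtain ⟨s, hs'⟩ := (mu_oX_bijective (X := U)).2 ((shiftFunctor (DCoh.D U) m).preimage (u - v))
      obtain ⟨a, rfl⟩ := i.app_surjective ⊤ (isAffineOpen_top W) s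
      have h1 : u - v = (mu (i.appTop a)).app ((oX U)⟦m⟧) := by
        rw [mu_shift, show (mu (i.appTop a)).app (oX U) = _ from hs', Functor.map_preimage]
      have h2 : (mu (i.appTop a)).app ((oX U)⟦m⟧) ≫ y = 0 := by
        rw [← h1, Preadditive.sub_comp]
        exact sub_eq_zero.2 huv
      have h3 := key a
      rw [h2] at h3
      have h4 : Φ m 0 = 0 := by
        have := homEquivD_add adj (hs m) M 0 0
        rw [add_zero] at this
        exact add_eq_left.1 this.symm
      rw [h4, eq_comm, Preadditive.IsIso.comp_left_eq_zero, Preadditive.IsIso.comp_right_eq_zero,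
        Functor.map_eq_zero_iff] at h3
      rw [← sub_eq_zero, h1, RingHom.mem_ker.1 (hker ▸ (hx.ker a).1 h3), mu_zero]
    · intro φ
      obtain ⟨ψ, hψ⟩ := (shiftFunctor (DCoh.D W) m).map_surjective
        ((σ m).inv ≫ Φ m φ ≫ eM.hom ≫ (sAdd (oX W) c m n (by omega)).inv)
      obtain ⟨a, rfl⟩ := hx.surj ψ
      refine ⟨(mu (i.appTop a)).app _, (Φ m).injective ?_⟩
      show Φ m ((mu (i.appTop a)).app ((oX U)⟦m⟧) ≫ y) = Φ m φ
      rw [key, hψ]
      simp
  · refine ⟨fun u v _ => (hom_oX_oX_eq_zero hk u).trans (hom_oX_oX_eq_zero hk v).symm,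
      fun φ => ⟨0, ?_⟩⟩
    refine (zero_comp).trans ((Φ k).injective ?_)
    have h0 : ∀ z : Q⟦k⟧ ⟶ M.obj, z = 0 := fun z => by
      obtain ⟨ψ, hψ⟩ := (shiftFunctor (DCoh.D W) k).map_surjective
        (z ≫ eM.hom ≫ (sAdd (oX W) (n - k) k n (by omega)).inv)
      rw [hx.vanish (n - k) (by omega) ψ, Functor.map_zero] at hψ
      rw [← cancel_mono eM.hom, ← cancel_mono (sAdd (oX W) (n - k) k n (by omega)).inv, Category.assoc, ← hψ,
        zero_comp, zero_comp]
    rw [← cancel_epi (σ k).inv]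
    exact (h0 _).trans (h0 _).symm

end Groth.Agent.LeadBrown
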