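import Groth.Agent.LeadBrown.OneHom
import Groth.Agent.H16Derived.QCohD.AffineReflect

/-!
# Iterated cones of regular multiplications on the structure sheaf of an affine scheme
-/

set_option autoImplicit false
set_option linter.style.haveILetI false
set_option linter.unusedSectionVars false
set_option backward.isDefEq.respectTransparency false

universe u

open CategoryTheory CategoryTheory.Limits CategoryTheory.Pretriangulated AlgebraicGeometry

attribute [local instance] HasDerivedCategory.standard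

namespace Groth.Agent.LeadBrown

open Groth.Agent.H16Derived Groth.Agent.H16Derived.QCohD
open Groth.Agent.H17.ExtRegVanish

variable {X : Scheme.{u}}

theorem mulEnd_add (a b : Γ(X, ⊤)) (M : X.Modules) : mulEnd (a + b) M = mulEnd a M + mulEnd b M := by
  refine Scheme.Modules.hom_ext _ _ fun W => ?_
  ext m
  show res W (a + b) • m = res W a • m + res W b • m
  rw [res, res, res, map_add, add_smul]

theorem mu_add_oX (a b : Γ(X, ⊤)) (n : ℤ) :
    (mu (a + b)).app ((oX X)⟦n⟧) = (mu a).app ((oX X)⟦n⟧) + (mu b).app ((oX X)⟦n⟧) := by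
  simp only [mu_shift, mu_inD, mulEnd_add, Functor.map_add]

theorem mu_mul_oX (a b : Γ(X, ⊤)) (n : ℤ) :
    (mu (b * a)).app ((oX X)⟦n⟧) = (mu a).app ((oX X)⟦n⟧) ≫ (mu b).app ((oX X)⟦n⟧) := by
  simp only [mu_shift, mu_inD, ← Functor.map_comp, mulEnd_comp]

theorem mu_add_oX₀ (a b : Γ(X, ⊤)) : (mu (a + b)).app (oX X) = (mu a).app (oX X) + (mu b).app (oX X) := by
  simp only [mu_inD, mulEnd_add, Functor.map_add]

theorem mu_mul_oX₀ (a b : Γ(X, ⊤)) : (mu (b * a)).app (oX X) = (mu a).app (oX X) ≫ (mu b).app (oX X) := by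
  simp only [mu_inD, ← Functor.map_comp, mulEnd_comp]

theorem mu_one_oX₀ : (mu (1 : Γ(X, ⊤))).app (oX X) = 𝟙 _ := by
  rw [mu_inD, mulEnd_one, CategoryTheory.Functor.map_id]; rfl

theorem mulEnd_zero (M : X.Modules) : mulEnd (0 : Γ(X, ⊤)) M = 0 := by
  have h := mulEnd_add (0 : Γ(X, ⊤)) 0 M
  rw [add_zero] at h
  exact add_eq_left.1 h.symm

theorem mu_zero_oX₀ : (mu (0 : Γ(X, ⊤))).app (oX X) = 0 := by
  rw [mu_inD, mulEnd_zero, Functor.map_zero]

theorem mu_zero (E : DCoh.D X) : (mu (0 : Γ(X, ⊤))).app E = 0 := by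
  obtain ⟨C, ⟨e⟩⟩ : ∃ C : CochainComplex X.Modules ℤ, Nonempty (DerivedCategory.Q.obj C ≅ E) :=
    ⟨_, ⟨DerivedCategory.Q.objObjPreimageIso E⟩⟩
  have h : muC (0 : Γ(X, ⊤)) C = 0 := HomologicalComplex.Hom.ext (funext fun i => mulEnd_zero _)
  rw [← cancel_epi e.hom, mu_naturality, mu_Q, h, Functor.map_zero, zero_comp, comp_zero]

/-- Shifts add up. -/
noncomputable def sAdd (K : DCoh.D X) (a b c : ℤ) (h : a + b = c) : (K⟦a⟧)⟦b⟧ ≅ K⟦c⟧ :=
  ((shiftFunctorAdd' (DCoh.D X) a b c h).app K).symm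

/-- Every map `O[k] ⟶ E[1]` is a shift. -/
theorem exists_shift_lift (E : DCoh.D X) (k : ℤ) (ψ : (oX X)⟦k⟧ ⟶ E⟦(1 : ℤ)⟧) :
    ∃ χ : (oX X)⟦k - 1⟧ ⟶ E, ψ = (sAdd (oX X) (k - 1) 1 k (by omega)).inv ≫ χ⟦(1 : ℤ)⟧' := by
  obtain ⟨χ, hχ⟩ := (shiftFunctor (DCoh.D X) (1 : ℤ)).map_surjective
    ((sAdd (oX X) (k - 1) 1 k (by omega)).hom ≫ ψ)
  exact ⟨χ, by rw [hχ, Iso.inv_hom_id_assoc]⟩

/-- Every map `E[1] ⟶ O[k]` is a shift. -/
theorem exists_shift_desc (E : DCoh.D X) (k : ℤ) (ψ : E⟦(1 : ℤ)⟧ ⟶ (oX X)⟦k⟧) :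
    ∃ χ : E ⟶ (oX X)⟦k - 1⟧, ψ = χ⟦(1 : ℤ)⟧' ≫ (sAdd (oX X) (k - 1) 1 k (by omega)).hom := by
  obtain ⟨χ, hχ⟩ := (shiftFunctor (DCoh.D X) (1 : ℤ)).map_surjective
    (ψ ≫ (sAdd (oX X) (k - 1) 1 k (by omega)).inv)
  exact ⟨χ, by rw [hχ, Category.assoc, Iso.inv_hom_id, Category.comp_id]⟩

/-- A morphism bijective on maps out of the shifts of `O` is an isomorphism. -/
theorem isIso_of_oX [IsAffine X] {K L : DCoh.D X} (hK : DCoh.IsQCohD K) (hL : DCoh.IsQCohD L) (g : K ⟶ L)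
    (h : ∀ k : ℤ, Function.Bijective fun φ : (oX X)⟦k⟧ ⟶ K => φ ≫ g) : IsIso g := by
  obtain ⟨C, π, δ, hT⟩ := distinguished_cocone_triangle g
  have hC : IsZero C := PnD.isZero_of_orth_one (AffineUnit.isQCohD_obj₃ hT hK hL) fun k φ => by
    obtain ⟨χ, hχ⟩ := exists_shift_lift K k (φ ≫ δ)
    have h0 : χ ≫ g = 0 := by
      apply (shiftFunctor (DCoh.D X) (1 : ℤ)).map_injective
      rw [Functor.map_comp, Functor.map_zero, ← cancel_epi (sAdd (oX X) (k - 1) 1 k (by omega)).inv,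
        ← Category.assoc, ← hχ, Category.assoc, comp_zero]
      exact (congrArg (φ ≫ ·) (comp_distTriang_mor_zero₃₁ _ hT)).trans comp_zero
    have hz : φ ≫ δ = 0 := by
      rw [hχ, (h (k - 1)).1 (show χ ≫ g = 0 ≫ g by rw [h0, zero_comp]), Functor.map_zero, comp_zero]
    obtain ⟨w, rfl⟩ := Triangle.coyoneda_exact₃ _ hT φ hz
    obtain ⟨v, rfl⟩ := (h k).2 w
    rw [Category.assoc]
    exact (congrArg (v ≫ ·) (comp_distTriang_mor_zero₁₂ _ hT)).trans comp_zero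
  exact (Triangle.isZero₃_iff_isIso₁ _ hT).1 hC

/-- `q : O ⟶ E` generates `Hom(O, E)` with annihilator `I`, and `Hom(O[k], E) = 0` for `k ≠ 0`. -/
structure Gn (E : DCoh.D X) (I : Ideal Γ(X, ⊤)) (q : oX X ⟶ E) : Prop where
  vanish : ∀ k : ℤ, k ≠ 0 → ∀ φ : (oX X)⟦k⟧ ⟶ E, φ = 0
  surj : ∀ φ : oX X ⟶ E, ∃ a : Γ(X, ⊤), φ = (mu a).app (oX X) ≫ q
  ker : ∀ a : Γ(X, ⊤), (mu a).app (oX X) ≫ q = 0 ↔ a ∈ I

/-- `x : E ⟶ O[c]` generates `Hom(E, O[c])` with annihilator `I`, and `Hom(E, O[k]) = 0` for `k ≠ c`. -/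
structure Dl (E : DCoh.D X) (c : ℤ) (I : Ideal Γ(X, ⊤)) (x : E ⟶ (oX X)⟦c⟧) : Prop where
  vanish : ∀ k : ℤ, k ≠ c → ∀ φ : E ⟶ (oX X)⟦k⟧, φ = 0
  surj : ∀ φ : E ⟶ (oX X)⟦c⟧, ∃ a : Γ(X, ⊤), φ = x ≫ (mu a).app _
  ker : ∀ a : Γ(X, ⊤), x ≫ (mu a).app _ = 0 ↔ a ∈ I

theorem gn_base [IsAffine X] : Gn (oX X) ⊥ (𝟙 _) where
  vanish k hk φ := by
    rw [← cancel_mono ((shiftFunctorZero (DCoh.D X) ℤ).app (oX X)).inv, zero_comp]
    exact hom_oX_oX_eq_zero hk _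
  surj φ := by
    obtain ⟨a, rfl⟩ := (mu_oX_bijective (X := X)).2 φ
    exact ⟨a, (Category.comp_id _).symm⟩
  ker a := by
    erw [Category.comp_id]
    rw [Ideal.mem_bot]
    exact ⟨fun h => (mu_oX_bijective (X := X)).1 (h.trans mu_zero_oX₀.symm), fun h => h ▸ mu_zero_oX₀⟩

theorem dl_base [IsAffine X] : Dl (oX X) 0 ⊥ ((shiftFunctorZero (DCoh.D X) ℤ).app (oX X)).inv where
  vanish k hk φ := by
    rw [← cancel_epi ((shiftFunctorZero (DCoh.D X) ℤ).app (oX X)).hom, comp_zero]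
    exact hom_oX_oX_eq_zero (Ne.symm hk) _
  surj φ := by
    obtain ⟨a, ha⟩ := (mu_oX_bijective (X := X)).2 (φ ≫ ((shiftFunctorZero (DCoh.D X) ℤ).app (oX X)).hom)
    refine ⟨a, ?_⟩
    rw [mu_naturality, show (mu a).app (oX X) = _ from ha]
    simp
  ker a := by
    rw [mu_naturality, Preadditive.IsIso.comp_right_eq_zero, Ideal.mem_bot]
    exact ⟨fun h => (mu_oX_bijective (X := X)).1 (h.trans mu_zero_oX₀.symm), fun h => h ▸ mu_zero_oX₀⟩

variable {E E' : DCoh.D X} {I : Ideal Γ(X, ⊤)} {f : Γ(X, ⊤)} {π : E ⟶ E'} {δ : E' ⟶ E⟦(1 : ℤ)⟧}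

theorem gn_comm (q : oX X ⟶ E) (b f : Γ(X, ⊤)) :
    (mu (b * f)).app (oX X) ≫ q = ((mu b).app (oX X) ≫ q) ≫ (mu f).app E := by
  rw [mu_mul_oX₀, Category.assoc]
  exact (mu_naturality f _).symm

theorem dl_comm {c : ℤ} (x : E ⟶ (oX X)⟦c⟧) (b f : Γ(X, ⊤)) :
    x ≫ (mu (b * f)).app _ = (mu f).app E ≫ x ≫ (mu b).app _ := by
  rw [mu_mul_oX, ← Category.assoc, mu_naturality, Category.assoc]

/-- The generator passes to the cone of a regular multiplication. -/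
theorem Gn.step [IsAffine X] {q : oX X ⟶ E} (hq : Gn E I q)
    (hT : Triangle.mk ((mu f).app E) π δ ∈ distTriang (DCoh.D X)) (hf : ∀ a, f * a ∈ I → a ∈ I) :
    Gn E' (I ⊔ Ideal.span {f}) (q ≫ π) := by
  have low : ∀ k : ℤ, ∀ φ : (oX X)⟦k⟧ ⟶ E', φ ≫ δ = 0 := fun k φ => by
    obtain ⟨χ, hχ⟩ := exists_shift_lift E k (φ ≫ δ)
    have hχf : χ ≫ (mu f).app E = 0 := by
      apply (shiftFunctor (DCoh.D X) (1 : ℤ)).map_injective
      rw [Functor.map_comp, Functor.map_zero, ← cancel_epi (sAdd (oX X) (k - 1) 1 k (by omega)).inv,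
        ← Category.assoc, ← hχ, Category.assoc, comp_zero]
      exact (congrArg (φ ≫ ·) (comp_distTriang_mor_zero₃₁ _ hT)).trans comp_zero
    suffices χ = 0 by rw [hχ, this, Functor.map_zero, comp_zero]
    by_cases hk : k = 1
    · subst hk
      let z := (shiftFunctorZero' (DCoh.D X) ((1 : ℤ) - 1) (by omega)).app (oX X)
      obtain ⟨a, ha⟩ := hq.surj (z.inv ≫ χ)
      have h1 : (mu (f * a)).app (oX X) ≫ q = 0 := by
        rw [mul_comm, gn_comm, ← ha, Category.assoc, hχf]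
        exact comp_zero
      rw [← cancel_epi z.inv, comp_zero, ha]
      exact (hq.ker a).2 (hf a ((hq.ker _).1 h1))
    · exact hq.vanish (k - 1) (by omega) χ
  refine ⟨fun k hk φ => ?_, fun φ => ?_, fun a => ?_⟩
  · obtain ⟨w, rfl⟩ := Triangle.coyoneda_exact₃ _ hT φ (low k φ)
    rw [hq.vanish k hk w]
    exact zero_comp
  · let z := (shiftFunctorZero (DCoh.D X) ℤ).app (oX X)
    have h0 : φ ≫ δ = 0 := by
      rw [← cancel_epi z.hom, comp_zero, ← Category.assoc]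
      exact low 0 _
    obtain ⟨w, rfl⟩ := Triangle.coyoneda_exact₃ _ hT φ h0
    obtain ⟨a, rfl⟩ := hq.surj w
    exact ⟨a, Category.assoc _ _ _⟩
  · constructor
    · intro h
      obtain ⟨w, hw⟩ := Triangle.coyoneda_exact₂ _ hT ((mu a).app (oX X) ≫ q) (by rw [Category.assoc]; exact h)
      obtain ⟨b, rfl⟩ := hq.surj w
      replace hw : (mu a).app (oX X) ≫ q = (mu (b * f)).app (oX X) ≫ q := hw.trans (gn_comm q b f).symm
      have hd : (mu (a + (-(b * f)))).app (oX X) ≫ q = 0 := by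
        rw [mu_add_oX₀, Preadditive.add_comp, hw, ← Preadditive.add_comp, ← mu_add_oX₀, add_neg_cancel,
          mu_zero_oX₀, zero_comp]
      have hm := (hq.ker _).1 hd
      rw [show a = (a + (-(b * f))) + b * f by ring]
      exact add_mem (Ideal.mem_sup_left hm) (Ideal.mem_sup_right (Ideal.mem_span_singleton'.2 ⟨b, rfl⟩))
    · intro h
      obtain ⟨i, hi, j, hj, rfl⟩ := Submodule.mem_sup.1 h
      obtain ⟨b, rfl⟩ := Ideal.mem_span_singleton'.1 hj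
      have h0 : (mu f).app E ≫ π = 0 := comp_distTriang_mor_zero₁₂ _ hT
      have h1 : (mu (i + b * f)).app (oX X) ≫ q = ((mu b).app (oX X) ≫ q) ≫ (mu f).app E := by
        rw [mu_add_oX₀, Preadditive.add_comp, (hq.ker i).2 hi, zero_add, gn_comm]
      rw [← Category.assoc, h1, Category.assoc]
      exact (congrArg (_ ≫ ·) h0).trans comp_zero

/-- The cogenerator passes to the cone of a regular multiplication. -/
theorem Dl.step [IsAffine X] {c : ℤ} {x : E ⟶ (oX X)⟦c⟧} (hx : Dl E c I x)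
    (hT : Triangle.mk ((mu f).app E) π δ ∈ distTriang (DCoh.D X)) (hf : ∀ a, f * a ∈ I → a ∈ I) :
    Dl E' (c + 1) (I ⊔ Ideal.span {f}) (δ ≫ x⟦(1 : ℤ)⟧' ≫ (sAdd (oX X) c 1 (c + 1) rfl).hom) := by
  have low : ∀ (k : ℤ) (φ : E' ⟶ (oX X)⟦k⟧), π ≫ φ = 0 := fun k φ => by
    by_cases hk : k = c
    · subst hk
      obtain ⟨a, ha⟩ := hx.surj (π ≫ φ)
      have h1 : x ≫ (mu (f * a)).app _ = 0 := by
        have h0 : (mu f).app E ≫ π = 0 := comp_distTriang_mor_zero₁₂ _ hT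
        rw [mul_comm, dl_comm, ← ha]
        exact (Category.assoc _ _ _).symm.trans ((congrArg (· ≫ φ) h0).trans zero_comp)
      rw [ha]
      exact (hx.ker a).2 (hf a ((hx.ker _).1 h1))
    · exact hx.vanish k hk _
  let σ := sAdd (oX X) c 1 (c + 1) rfl
  have hσ : ∀ a, (δ ≫ x⟦(1 : ℤ)⟧' ≫ σ.hom) ≫ (mu a).app _ = δ ≫ (x ≫ (mu a).app _)⟦(1 : ℤ)⟧' ≫ σ.hom :=
    fun a => by
      simp only [Functor.map_comp, Category.assoc]
      rw [mu_naturality a σ.hom, mu_shift]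
  refine ⟨fun k hk φ => ?_, fun φ => ?_, fun a => ?_⟩
  · obtain ⟨ψ, rfl⟩ := Triangle.yoneda_exact₃ _ hT φ (low k φ)
    obtain ⟨χ, rfl⟩ := exists_shift_desc E k ψ
    rw [hx.vanish (k - 1) (by omega) χ, Functor.map_zero, zero_comp]
    exact comp_zero
  · obtain ⟨ψ, rfl⟩ := Triangle.yoneda_exact₃ _ hT φ (low _ φ)
    obtain ⟨χ, hχ⟩ := (shiftFunctor (DCoh.D X) (1 : ℤ)).map_surjective (ψ ≫ σ.inv)
    obtain ⟨a, rfl⟩ := hx.surj χ
    refine ⟨a, ?_⟩
    rw [hσ, hχ, Category.assoc, Iso.inv_hom_id, Category.comp_id]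
    rfl
  · rw [hσ]
    constructor
    · intro h
      obtain ⟨ω, hω⟩ := Triangle.yoneda_exact₃ _ (rot_of_distTriang _ hT)
        ((x ≫ (mu a).app _)⟦(1 : ℤ)⟧' ≫ σ.hom) h
      obtain ⟨χ, hχ⟩ := (shiftFunctor (DCoh.D X) (1 : ℤ)).map_surjective (ω ≫ σ.inv)
      obtain ⟨b, rfl⟩ := hx.surj χ
      have h2 : x ≫ (mu a).app _ = -((mu f).app E ≫ x ≫ (mu b).app _) := by
        apply (shiftFunctor (DCoh.D X) (1 : ℤ)).map_injective
        rw [Functor.map_neg, Functor.map_comp ((shiftFunctor (DCoh.D X) (1 : ℤ))) ((mu f).app E), hχ,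
          ← cancel_mono σ.hom, Preadditive.neg_comp, Category.assoc, Category.assoc, Iso.inv_hom_id,
          Category.comp_id]
        refine hω.trans ?_
        exact Preadditive.neg_comp _ _
      have h3 : x ≫ (mu (a + b * f)).app _ = 0 := by
        rw [mu_add_oX, Preadditive.comp_add, h2, dl_comm]
        exact neg_add_cancel _
      rw [show a = (a + b * f) + (-b) * f by ring]
      exact add_mem (Ideal.mem_sup_left ((hx.ker _).1 h3))
        (Ideal.mem_sup_right (Ideal.mem_span_singleton'.2 ⟨-b, rfl⟩))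
    · intro h
      obtain ⟨i, hi, j, hj, rfl⟩ := Submodule.mem_sup.1 h
      obtain ⟨b, rfl⟩ := Ideal.mem_span_singleton'.1 hj
      rw [mu_add_oX, Preadditive.comp_add, (hx.ker i).2 hi, zero_add, dl_comm, Functor.map_comp,
        Category.assoc, ← Category.assoc]
      have h0 : δ ≫ ((mu f).app E)⟦(1 : ℤ)⟧' = 0 := comp_distTriang_mor_zero₃₁ _ hT
      rw [h0, zero_comp]

/-- Regularity of a list modulo an ideal. -/
def RegMod {A : Type u} [CommRing A] : List A → Ideal A → Prop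
  | [], _ => True
  | f :: l, I => (∀ a, f * a ∈ I → a ∈ I) ∧ RegMod l (I ⊔ Ideal.span {f})

/-- The iterated cone, with a map to any object killed by the list. -/
theorem exists_koszul [IsAffine X] {Q : DCoh.D X} : ∀ (l : List Γ(X, ⊤)) (I : Ideal Γ(X, ⊤)) (E : DCoh.D X)
    (c : ℤ) (q : oX X ⟶ E) (x : E ⟶ (oX X)⟦c⟧) (g : E ⟶ Q), DCoh.IsQCohD E → Gn E I q → Dl E c I x →
    RegMod l I → (∀ f ∈ l, (mu f).app Q = 0) →
    ∃ (E' : DCoh.D X) (q' : oX X ⟶ E') (x' : E' ⟶ (oX X)⟦c + l.length⟧) (g' : E' ⟶ Q),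
      DCoh.IsQCohD E' ∧ Gn E' (I ⊔ Ideal.ofList l) q' ∧ Dl E' (c + l.length) (I ⊔ Ideal.ofList l) x' ∧
        q' ≫ g' = q ≫ g
  | [], I, E, c, q, x, g, hE, hq, hx, _, _ => by
    rw [show I ⊔ Ideal.ofList ([] : List Γ(X, ⊤)) = I by simp,
      show c + (([] : List Γ(X, ⊤)).length : ℤ) = c by simp]
    exact ⟨E, q, x, g, hE, hq, hx, rfl⟩
  | f :: l, I, E, c, q, x, g, hE, hq, hx, hl, hQ => by
    obtain ⟨E₁, π, δ, hT⟩ := distinguished_cocone_triangle ((mu f).app E)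
    obtain ⟨g₁, hg₁⟩ := Triangle.yoneda_exact₂ _ hT g (show (mu f).app E ≫ g = 0 by
      rw [← mu_naturality, hQ f List.mem_cons_self, comp_zero])
    obtain ⟨E', q', x', g', hE', hq', hx', hg'⟩ := exists_koszul l (I ⊔ Ideal.span {f}) E₁ (c + 1) (q ≫ π) _ g₁
      (AffineUnit.isQCohD_obj₃ hT hE hE) (hq.step hT hl.1) (hx.step hT hl.1) hl.2
      (fun f' hf' => hQ f' (List.mem_cons_of_mem _ hf'))
    have hI : I ⊔ Ideal.ofList (f :: l) = I ⊔ Ideal.span {f} ⊔ Ideal.ofList l := by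
      rw [Ideal.ofList_cons, sup_assoc]
    have hc : c + ((f :: l).length : ℤ) = c + 1 + (l.length : ℤ) := by
      simp only [List.length_cons, Nat.cast_add, Nat.cast_one]; ring
    rw [hI, hc]
    exact ⟨E', q', x', g', hE', hq', hx', hg'.trans ((Category.assoc _ _ _).trans (congrArg (q ≫ ·) hg₁.symm))⟩

/-- Two objects with compatible generators and the same annihilator are isomorphic. -/
theorem Gn.isIso [IsAffine X] {E' : DCoh.D X} {q : oX X ⟶ E} {q' : oX X ⟶ E'} (h : Gn E I q) (h' : Gn E' I q')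
    (hE : DCoh.IsQCohD E) (hE' : DCoh.IsQCohD E') (g : E ⟶ E') (hg : q ≫ g = q') : IsIso g := by
  refine isIso_of_oX hE hE' g fun k => ?_
  by_cases hk : k = 0
  · subst hk
    let z := (shiftFunctorZero (DCoh.D X) ℤ).app (oX X)
    constructor
    · intro a b hab
      obtain ⟨s, hs⟩ := h.surj (z.inv ≫ (a - b))
      have h0 : (mu s).app (oX X) ≫ q' = 0 := by
        rw [← hg, ← Category.assoc, ← hs, Category.assoc, Preadditive.sub_comp]
        simp only at hab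
        rw [hab, sub_self, comp_zero]
      rw [← sub_eq_zero, ← cancel_epi z.inv, comp_zero, hs]
      exact (h.ker s).2 ((h'.ker s).1 h0)
    · intro φ
      obtain ⟨s, hs⟩ := h'.surj (z.inv ≫ φ)
      refine ⟨z.hom ≫ (mu s).app (oX X) ≫ q, ?_⟩
      show (z.hom ≫ (mu s).app (oX X) ≫ q) ≫ g = φ
      rw [Category.assoc, Category.assoc, hg, ← hs, Iso.hom_inv_id_assoc]
  · exact ⟨fun a b _ => (h.vanish k hk a).trans (h.vanish k hk b).symm,
      fun φ => ⟨0, (zero_comp).trans (h'.vanish k hk φ).symm⟩⟩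

/-- Transport along an isomorphism. -/
theorem Dl.of_iso {E' : DCoh.D X} {c : ℤ} {x : E ⟶ (oX X)⟦c⟧} (hx : Dl E c I x) (e : E' ≅ E) :
    Dl E' c I (e.hom ≫ x) where
  vanish k hk φ := by rw [← cancel_epi e.inv, comp_zero]; exact hx.vanish k hk _
  surj φ := by
    obtain ⟨a, ha⟩ := hx.surj (e.inv ≫ φ)
    exact ⟨a, by rw [Category.assoc, ← ha, Iso.hom_inv_id_assoc]⟩
  ker a := by rw [Category.assoc, Preadditive.IsIso.comp_left_eq_zero]; exact hx.ker a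

end Groth.Agent.LeadBrown
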