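import Groth.Agent.LeadBrown.LpullCompChar

/-!
# Composition of derived inverse images is monoidal
-/

set_option autoImplicit false
set_option linter.style.haveILetI false

universe u

open CategoryTheory CategoryTheory.Limits CategoryTheory.Functor AlgebraicGeometry

attribute [local instance] HasDerivedCategory.standard

namespace Groth.Agent.LeadBrown

open Groth.Agent.H16Derived Groth.Agent.H16Derived.KFlat Groth.Agent.H16Derived.KFlat.Stalk
open Groth.Agent.H16Derived.ProjFormula (pull pullCx lam₀ isIso_lam₀ isIso_Qresψ)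

variable {X Y Z : Scheme.{u}}

set_option maxHeartbeats 800000 in
/-- Composition of derived inverse images commutes with tensor products. -/
theorem exists_lpullComp_monoidal (f : X ⟶ Y) (g : Y ⟶ Z) (l : X ⟶ Z) (hl : f ≫ g = l)
    [DCoh.HasLpull f] [DCoh.HasLpull g] [DCoh.HasLpull l] :
    ∃ κ : DCoh.Lpull g ⋙ DCoh.Lpull f ≅ DCoh.Lpull l, ∀ a b : DCoh.D Z,
      κ.hom.app ((Dual.T₂ Z).obj (a, b)) ≫ (lpullT₂ l).hom.app (a, b) =
        (DCoh.Lpull f).map ((lpullT₂ g).hom.app (a, b)) ≫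
          (lpullT₂ f).hom.app ((DCoh.Lpull g).obj a, (DCoh.Lpull g).obj b) ≫
          (Dual.T₂ X).map (Prod.mkHom (κ.hom.app a) (κ.hom.app b)) := by
  subst hl
  obtain ⟨κ, hκ⟩ := exists_lpullComp f g
  refine ⟨κ, ?_⟩
  let lhs : Dual.T₂ Z ⋙ DCoh.Lpull g ⋙ DCoh.Lpull f ⟶
      (DCoh.Lpull (f ≫ g)).prod (DCoh.Lpull (f ≫ g)) ⋙ Dual.T₂ X :=
    whiskerLeft (Dual.T₂ Z) κ.hom ≫ (lpullT₂ (f ≫ g)).hom
  let rhs : Dual.T₂ Z ⋙ DCoh.Lpull g ⋙ DCoh.Lpull f ⟶
      (DCoh.Lpull (f ≫ g)).prod (DCoh.Lpull (f ≫ g)) ⋙ Dual.T₂ X :=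
    (Functor.associator _ _ _).inv ≫ whiskerRight (lpullT₂ g).hom (DCoh.Lpull f) ≫
      (Functor.associator _ _ _).hom ≫ whiskerLeft ((DCoh.Lpull g).prod (DCoh.Lpull g)) (lpullT₂ f).hom ≫
      whiskerRight (NatTrans.prod κ.hom κ.hom :
        (DCoh.Lpull g ⋙ DCoh.Lpull f).prod (DCoh.Lpull g ⋙ DCoh.Lpull f) ⟶
          (DCoh.Lpull (f ≫ g)).prod (DCoh.Lpull (f ≫ g))) (Dual.T₂ X)
  suffices lhs = rhs by
    intro a b
    have h := NatTrans.congr_app this (a, b)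
    simp [lhs, rhs] at h
    exact h
  apply Localization.natTrans_ext (Dual.QQ Z) (Dual.qis₂ Z)
  intro P
  haveI : IsIso ((Dual.QQ Z).map ((Dual.res₂ψ Z).app P)) :=
    (isIso_prod_iff _ _).2 ⟨isIso_Q_map _ (quasiIso_resψ P.1), isIso_Q_map _ (quasiIso_resψ P.2)⟩
  rw [← cancel_epi ((Dual.T₂ Z ⋙ DCoh.Lpull g ⋙ DCoh.Lpull f).map ((Dual.QQ Z).map ((Dual.res₂ψ Z).app P)))]
  refine (lhs.naturality _).trans (Eq.trans ?_ (rhs.naturality _).symm)
  refine congrArg (· ≫ _) ?_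
  let R := (Dual.res₂ Z).obj P
  have k₁ : IsKFlat (DCoh.tensorBi (X := Z)) R.1 := isKFlat_res _
  have k₂ : IsKFlat (DCoh.tensorBi (X := Z)) R.2 := isKFlat_res _
  haveI := isIso_lam₀ (f ≫ g) R.1 k₁
  haveI := isIso_lam₀ (f ≫ g) R.2 k₂
  haveI := Dual.isIso_ε ((pullCx (f ≫ g)).obj R.1) ((pullCx (f ≫ g)).obj R.2)
    (Or.inr (isKFlat_pullback (f ≫ g) k₂))
  haveI : IsIso (Prod.mkHom ((lam₀ (f ≫ g)).app R.1) ((lam₀ (f ≫ g)).app R.2)) :=
    (isIso_prod_iff _ _).2 ⟨inferInstance, inferInstance⟩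
  rw [← cancel_mono ((Dual.T₂ X).map (Prod.mkHom ((lam₀ (f ≫ g)).app R.1) ((lam₀ (f ≫ g)).app R.2)) ≫
    (Dual.ε X).app ((pullCx (f ≫ g)).obj R.1, (pullCx (f ≫ g)).obj R.2))]
  let U := Functor.uncurry.obj (DCoh.tensorCx (X := Z))
  let UY := Functor.uncurry.obj (DCoh.tensorCx (X := Y))
  have c₁ := lpullT₂_char (f ≫ g) R
  have c₂ := lpullT₂_char g R
  have c₃ := lpullT₂_char f ((pullCx g).obj R.1, (pullCx g).obj R.2)
  have nκ := κ.hom.naturality ((Dual.ε Z).app R)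
  have nf := (lpullT₂ f).hom.naturality (Prod.mkHom ((lam₀ g).app R.1) ((lam₀ g).app R.2))
  have nε := (Dual.ε X).naturality (Prod.mkHom ((pullCxComp f g).hom.app R.1) ((pullCxComp f g).hom.app R.2))
  have n₀ := (lam₀ f).naturality ((pullTot₂Iso g).hom.app R)
  show (κ.hom.app _ ≫ (lpullT₂ (f ≫ g)).hom.app _) ≫ _ = (_ ≫ _ ≫ _ ≫ _ ≫ _) ≫ _
  simp only [Functor.associator_inv_app, Functor.associator_hom_app, whiskerRight_app, whiskerLeft_app,
    Category.assoc, Category.id_comp]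
  refine (congrArg (_ ≫ ·) c₁).trans ?_
  refine ((Category.assoc _ _ _).symm.trans ((congrArg (· ≫ _) nκ.symm).trans (Category.assoc _ _ _))).trans ?_
  refine (congrArg (_ ≫ ·) ((Category.assoc _ _ _).symm.trans ((congrArg (· ≫ _) (hκ (U.obj R))).trans
    ((Category.assoc _ _ _).trans (congrArg (_ ≫ ·) (Category.assoc _ _ _)))))).trans ?_
  -- the right-hand side
  refine Eq.trans ?_ (Category.id_comp _).symm
  let lg := Prod.mkHom ((lam₀ g).app R.1) ((lam₀ g).app R.2)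
  let lf := Prod.mkHom ((lam₀ f).app ((pullCx g).obj R.1)) ((lam₀ f).app ((pullCx g).obj R.2))
  let co := Prod.mkHom ((pullCxComp f g).hom.app R.1) ((pullCxComp f g).hom.app R.2)
  have s1 : (Dual.T₂ X).map (Prod.mkHom (κ.hom.app (DerivedCategory.Q.obj R.1)) (κ.hom.app (DerivedCategory.Q.obj R.2))) ≫
      (Dual.T₂ X).map (Prod.mkHom ((lam₀ (f ≫ g)).app R.1) ((lam₀ (f ≫ g)).app R.2)) ≫
        (Dual.ε X).app ((pullCx (f ≫ g)).obj R.1, (pullCx (f ≫ g)).obj R.2) =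
      (Dual.T₂ X).map (((DCoh.Lpull f).prod (DCoh.Lpull f)).map lg) ≫ (Dual.T₂ X).map lf ≫
        (Dual.ε X).app ((pullCx f).obj ((pullCx g).obj R.1), (pullCx f).obj ((pullCx g).obj R.2)) ≫
        (Dual.tensor₂ X).map co := by
    refine (Category.assoc _ _ _).symm.trans ((congrArg (· ≫ _) (((Dual.T₂ X).map_comp _ _).symm.trans
      (congrArg (Dual.T₂ X).map (show _ = ((DCoh.Lpull f).prod (DCoh.Lpull f)).map lg ≫ lf ≫ (Dual.QQ X).map co from
        Prod.ext (hκ R.1) (hκ R.2))))).trans ?_)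
    rw [Functor.map_comp, Functor.map_comp, Category.assoc, Category.assoc]
    exact congrArg (_ ≫ ·) (congrArg (_ ≫ ·) nε)
  refine Eq.trans ?_ (congrArg (fun t => (DCoh.Lpull f).map ((lpullT₂ g).hom.app ((Dual.QQ Z).obj R)) ≫
    (lpullT₂ f).hom.app ((DCoh.Lpull g).obj (DerivedCategory.Q.obj R.1), (DCoh.Lpull g).obj (DerivedCategory.Q.obj R.2)) ≫ t)
    s1).symm
  have s2 : ∀ {W : DCoh.D X} (t : _ ⟶ W),
      (lpullT₂ f).hom.app ((DCoh.Lpull g).obj (DerivedCategory.Q.obj R.1), (DCoh.Lpull g).obj (DerivedCategory.Q.obj R.2)) ≫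
        (Dual.T₂ X).map (((DCoh.Lpull f).prod (DCoh.Lpull f)).map lg) ≫ t =
      (DCoh.Lpull f).map ((Dual.T₂ Y).map lg) ≫
        (lpullT₂ f).hom.app ((Dual.QQ Y).obj ((pullCx g).obj R.1, (pullCx g).obj R.2)) ≫ t := fun t =>
    (Category.assoc _ _ _).symm.trans ((congrArg (· ≫ t) nf.symm).trans (Category.assoc _ _ _))
  refine Eq.trans ?_ (congrArg (fun t => (DCoh.Lpull f).map ((lpullT₂ g).hom.app ((Dual.QQ Z).obj R)) ≫ t) (s2 _)).symm
  have s3 : ∀ {W : DCoh.D X} (t : _ ⟶ W),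
      (lpullT₂ f).hom.app ((Dual.QQ Y).obj ((pullCx g).obj R.1, (pullCx g).obj R.2)) ≫ (Dual.T₂ X).map lf ≫
        (Dual.ε X).app ((pullCx f).obj ((pullCx g).obj R.1), (pullCx f).obj ((pullCx g).obj R.2)) ≫ t =
      (DCoh.Lpull f).map ((Dual.ε Y).app ((pullCx g).obj R.1, (pullCx g).obj R.2)) ≫
        (lam₀ f).app (UY.obj ((pullCx g).obj R.1, (pullCx g).obj R.2)) ≫
        DerivedCategory.Q.map ((pullTot₂Iso f).hom.app ((pullCx g).obj R.1, (pullCx g).obj R.2)) ≫ t := fun t => by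
    refine (congrArg (_ ≫ ·) (Category.assoc _ _ _).symm).trans ((Category.assoc _ _ _).symm.trans ?_)
    refine (congrArg (· ≫ t) c₃).trans ((Category.assoc _ _ _).trans (congrArg (_ ≫ ·) (Category.assoc _ _ _)))
  refine Eq.trans ?_ (congrArg (fun t => (DCoh.Lpull f).map ((lpullT₂ g).hom.app ((Dual.QQ Z).obj R)) ≫
    (DCoh.Lpull f).map ((Dual.T₂ Y).map lg) ≫ t) (s3 _)).symm
  have e2 : ∀ {W : DCoh.D X} (t : _ ⟶ W),
      (DCoh.Lpull f).map ((lpullT₂ g).hom.app ((Dual.QQ Z).obj R)) ≫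
        (DCoh.Lpull f).map ((Dual.T₂ Y).map lg) ≫
        (DCoh.Lpull f).map ((Dual.ε Y).app ((pullCx g).obj R.1, (pullCx g).obj R.2)) ≫ t =
      (DCoh.Lpull f).map ((DCoh.Lpull g).map ((Dual.ε Z).app R)) ≫
        (DCoh.Lpull f).map ((lam₀ g).app (U.obj R)) ≫
        (DCoh.Lpull f).map (DerivedCategory.Q.map ((pullTot₂Iso g).hom.app R)) ≫ t := fun t => by
    refine (congrArg (_ ≫ ·) ((Category.assoc _ _ _).symm.trans
      (congrArg (· ≫ t) ((DCoh.Lpull f).map_comp _ _).symm))).trans ?_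
    refine ((Category.assoc _ _ _).symm.trans (congrArg (· ≫ t) (((DCoh.Lpull f).map_comp _ _).symm.trans
      (congrArg (DCoh.Lpull f).map c₂)))).trans ?_
    simp only [Functor.map_comp, Category.assoc]
    rfl
  refine Eq.trans ?_ (e2 _).symm
  refine congrArg (_ ≫ ·) (congrArg (_ ≫ ·) ?_)
  refine Eq.trans ?_ ((Category.assoc _ _ _).symm.trans ((congrArg (· ≫ _) n₀).trans (Category.assoc _ _ _))).symm
  refine congrArg (_ ≫ ·) ?_
  show DerivedCategory.Q.map _ ≫ DerivedCategory.Q.map _ =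
    DerivedCategory.Q.map _ ≫ DerivedCategory.Q.map _ ≫ DerivedCategory.Q.map _
  simp only [← Functor.map_comp]
  exact congrArg DerivedCategory.Q.map (pullTot_comp f g R.1 R.2).symm

end Groth.Agent.LeadBrown
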