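import Groth.Agent.LeadBrown.RHomPull
import Groth.Agent.LeadBrown.LpullMonoidal
import Groth.Agent.H16Derived.BaseChange.Main

/-!
# `Rf_* RHom(Q, f^!K) ≅ RHom(Rf_* Q, K)` and base change for the lax structure of `Rf_*`
-/

set_option autoImplicit false
set_option linter.style.haveILetI false
set_option linter.unusedSectionVars false

universe u

open CategoryTheory CategoryTheory.Limits AlgebraicGeometry CategoryTheory.Pretriangulated

attribute [local instance] HasDerivedCategory.standard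

namespace Groth.Agent.LeadBrown

open Groth.Agent.H16Derived Groth.Agent.H16Derived.QCohD
open Groth.Agent.H16Derived.KFlat.Stalk (lpullRpushAdj hasLpull)
open Groth.Agent.H16Derived.Dual (T R T₂)
open Groth.Agent.H16Derived.BaseChange (bcApp bcApp_symm bcApp_naturality)

variable {X Y X' Y' : Scheme.{u}}

/-- The tensor product of two maps. -/
noncomputable abbrev tm {a a' b b' : DCoh.D X} (p : a ⟶ a') (q : b ⟶ b') :
    ((T X).obj a).obj b ⟶ ((T X).obj a').obj b' :=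
  (T₂ X).map (Prod.mkHom p q)

@[reassoc]
theorem tm_comp {a a' a'' b b' b'' : DCoh.D X} (p : a ⟶ a') (q : b ⟶ b') (p' : a' ⟶ a'') (q' : b' ⟶ b'') :
    tm p q ≫ tm p' q' = tm (p ≫ p') (q ≫ q') :=
  ((T₂ X).map_comp _ _).symm

instance isIso_tm {a a' b b' : DCoh.D X} (p : a ⟶ a') (q : b ⟶ b') [IsIso p] [IsIso q] : IsIso (tm p q) :=
  haveI : IsIso (Prod.mkHom p q) := (isIso_prod_iff _ _).2 ⟨inferInstance, inferInstance⟩
  Functor.map_isIso (T₂ X) _

theorem app_eq_tm {a a' : DCoh.D X} (p : a ⟶ a') (b : DCoh.D X) : ((T X).map p).app b = tm p (𝟙 b) := rfl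

theorem map_eq_tm (a : DCoh.D X) {b b' : DCoh.D X} (q : b ⟶ b') : ((T X).obj a).map q = tm (𝟙 a) q := rfl

variable (f : X ⟶ Y) [DCoh.HasRpush f] [DCoh.HasLpull f]

@[reassoc]
theorem cT_tm {a a' b b' : DCoh.D Y} (p : a ⟶ a') (q : b ⟶ b') :
    (DCoh.Lpull f).map (tm p q) ≫ (cT f a' b').hom =
      (cT f a b).hom ≫ tm ((DCoh.Lpull f).map p) ((DCoh.Lpull f).map q) :=
  (lpullT₂ f).hom.naturality (X := (a, b)) (Y := (a', b')) (Prod.mkHom p q)

/-- `Rf_*Q ⊗ Rf_*N ⟶ Rf_*(Q ⊗ N)`. -/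
noncomputable def lax (Q N : DCoh.D X) :
    ((T Y).obj ((DCoh.Rpush f).obj Q)).obj ((DCoh.Rpush f).obj N) ⟶
      (DCoh.Rpush f).obj (((T X).obj Q).obj N) :=
  (lpullRpushAdj f).homEquiv _ _ ((cT f ((DCoh.Rpush f).obj Q) ((DCoh.Rpush f).obj N)).hom ≫
    tm ((lpullRpushAdj f).counit.app Q) ((lpullRpushAdj f).counit.app N))

theorem map_comp_lax (Q N : DCoh.D X) {W : DCoh.D Y} (x : W ⟶ (DCoh.Rpush f).obj N) :
    ((T Y).obj ((DCoh.Rpush f).obj Q)).map x ≫ lax f Q N =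
      prj f Q W ≫ (DCoh.Rpush f).map (((T X).obj Q).map (((lpullRpushAdj f).homEquiv W N).symm x)) := by
  apply ((lpullRpushAdj f).homEquiv _ _).symm.injective
  rw [Adjunction.homEquiv_naturality_left_symm, lax, Equiv.symm_apply_apply,
    Adjunction.homEquiv_naturality_right_symm, prj, Equiv.symm_apply_apply, Adjunction.homEquiv_counit]
  simp only [map_eq_tm, app_eq_tm]
  rw [cT_tm_assoc, tm_comp, CategoryTheory.Functor.map_id, Category.id_comp]
  simp only [Category.assoc, tm_comp, Category.id_comp]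
  erw [Category.comp_id]

/-- The comparison `Rf_* RHom(Q, L) ⟶ RHom(Rf_* Q, K)` defined by a trace `Rf_* L ⟶ K`. -/
noncomputable def alphaR (Q : DCoh.D X) {L : DCoh.D X} {K : DCoh.D Y} (t : (DCoh.Rpush f).obj L ⟶ K) :
    (DCoh.Rpush f).obj ((R Q).obj L) ⟶ (R ((DCoh.Rpush f).obj Q)).obj K :=
  (adjS _).homEquiv _ _ (lax f Q ((R Q).obj L) ≫ (DCoh.Rpush f).map (evS Q L) ≫ t)

theorem alphaR_evS (Q : DCoh.D X) {L : DCoh.D X} {K : DCoh.D Y} (t : (DCoh.Rpush f).obj L ⟶ K) :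
    ((T Y).obj ((DCoh.Rpush f).obj Q)).map (alphaR f Q t) ≫ evS _ K =
      lax f Q ((R Q).obj L) ≫ (DCoh.Rpush f).map (evS Q L) ≫ t :=
  ((adjS _).homEquiv_counit _ _ _).symm.trans (Equiv.symm_apply_apply _ _)

/-- The duality isomorphism in sheafified form. -/
theorem isIso_alphaR [CompactSpace X] [QuasiSeparatedSpace X] [CompactSpace Y] [QuasiSeparatedSpace Y]
    {Q : DCoh.D X} (hQ : DCoh.IsQCohD Q) {L : DCoh.D X} {K : DCoh.D Y} (t : (DCoh.Rpush f).obj L ⟶ K)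
    (ht : ∀ V : DCoh.D X, DCoh.IsQCohD V →
      Function.Bijective fun x : V ⟶ L => (DCoh.Rpush f).map x ≫ t)
    (h₁ : DCoh.IsQCohD ((DCoh.Rpush f).obj ((R Q).obj L)))
    (h₂ : DCoh.IsQCohD ((R ((DCoh.Rpush f).obj Q)).obj K)) : IsIso (alphaR f Q t) := by
  have key : ∀ W : DCoh.D Y, DCoh.IsQCohD W → Function.Bijective
      fun x : W ⟶ (DCoh.Rpush f).obj ((R Q).obj L) => x ≫ alphaR f Q t := fun W hW => by
    haveI := isIso_prj f hQ hW
    let e₁ := ((lpullRpushAdj f).homEquiv W ((R Q).obj L)).symm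
    let e₂ := ((adjS Q).homEquiv ((DCoh.Lpull f).obj W) L).symm
    have h3 := ht (((T X).obj Q).obj ((DCoh.Lpull f).obj W)) (isQCohD_T hQ (isQCohD_lpull f hW))
    have h4 : Function.Bijective fun z : (DCoh.Rpush f).obj (((T X).obj Q).obj ((DCoh.Lpull f).obj W)) ⟶ K =>
        prj f Q W ≫ z :=
      ⟨fun z z' h => (cancel_epi _).1 h, fun w => ⟨inv (prj f Q W) ≫ w, by simp⟩⟩
    have e : (fun x : W ⟶ (DCoh.Rpush f).obj ((R Q).obj L) => x ≫ alphaR f Q t) =
        (adjS ((DCoh.Rpush f).obj Q)).homEquiv W K ∘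
          (fun z => prj f Q W ≫ z) ∘ (fun y => (DCoh.Rpush f).map y ≫ t) ∘ e₂ ∘ e₁ := by
      funext x
      apply ((adjS _).homEquiv _ _).symm.injective
      simp only [Function.comp_apply, Equiv.symm_apply_apply, e₁, e₂]
      rw [adjS_symm_eq, Functor.map_comp, Category.assoc, alphaR_evS, ← Category.assoc, map_comp_lax,
        adjS_symm_eq, Functor.map_comp]
      simp only [Category.assoc]
    rw [e]
    exact ((adjS _).homEquiv _ _).bijective.comp
      (h4.comp (h3.comp (e₂.bijective.comp e₁.bijective)))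
  obtain ⟨ψ, hψ⟩ := (key _ h₂).2 (𝟙 _)
  exact ⟨ψ, (key _ h₁).1 (by dsimp only at hψ ⊢; rw [Category.assoc, hψ, Category.comp_id, Category.id_comp]), hψ⟩

variable {f} {f' : X' ⟶ Y'} {g : Y' ⟶ Y} {g' : X' ⟶ X} [DCoh.HasRpush f'] [DCoh.HasLpull f']
  [DCoh.HasRpush g] [DCoh.HasLpull g] [DCoh.HasRpush g'] [DCoh.HasLpull g']

/-- A square of inverse images compatible with tensor products. -/
def IsMonoidalSq (χ : DCoh.Lpull g ⋙ DCoh.Lpull f' ≅ DCoh.Lpull f ⋙ DCoh.Lpull g') : Prop :=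
  ∀ a b : DCoh.D Y,
    χ.hom.app (((T Y).obj a).obj b) ≫ (DCoh.Lpull g').map (cT f a b).hom ≫ (cT g' _ _).hom =
      (DCoh.Lpull f').map (cT g a b).hom ≫ (cT f' _ _).hom ≫ tm (χ.hom.app a) (χ.hom.app b)

theorem exists_monoidalSq (w : g' ≫ f = f' ≫ g) :
    ∃ χ : DCoh.Lpull g ⋙ DCoh.Lpull f' ≅ DCoh.Lpull f ⋙ DCoh.Lpull g', IsMonoidalSq χ := by
  haveI := hasLpull (f' ≫ g)
  obtain ⟨κ₁, h₁⟩ := exists_lpullComp_monoidal f' g (f' ≫ g) rfl
  obtain ⟨κ₂, h₂⟩ := exists_lpullComp_monoidal g' f (f' ≫ g) w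
  refine ⟨κ₁ ≪≫ κ₂.symm, fun a b => ?_⟩
  rw [← cancel_mono (tm (κ₂.hom.app a) (κ₂.hom.app b))]
  simp only [Category.assoc, tm_comp, Iso.trans_hom, Iso.symm_hom, NatTrans.comp_app,
    Iso.inv_hom_id_app, Category.comp_id]
  refine Eq.trans ?_ (h₁ a b)
  refine congrArg (κ₁.hom.app _ ≫ ·) ?_
  exact (congrArg (κ₂.inv.app _ ≫ ·) (h₂ a b).symm).trans (Iso.inv_hom_id_app_assoc κ₂ _ _)

variable (χ : DCoh.Lpull g ⋙ DCoh.Lpull f' ≅ DCoh.Lpull f ⋙ DCoh.Lpull g')

/-- The base change map of a square of inverse images. -/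
noncomputable abbrev bcD (E : DCoh.D X) :
    (DCoh.Lpull g).obj ((DCoh.Rpush f).obj E) ⟶ (DCoh.Rpush f').obj ((DCoh.Lpull g').obj E) :=
  bcApp (lpullRpushAdj f) (lpullRpushAdj f') χ.hom E

/-- Base change is compatible with the lax structures of direct images. -/
theorem bcD_lax (hχ : IsMonoidalSq χ) (Q N : DCoh.D X) :
    tm (bcD χ Q) (bcD χ N) ≫ lax f' ((DCoh.Lpull g').obj Q) ((DCoh.Lpull g').obj N) =
      (cT g _ _).inv ≫ (DCoh.Lpull g).map (lax f Q N) ≫ bcD χ _ ≫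
        (DCoh.Rpush f').map (cT g' Q N).hom := by
  apply ((lpullRpushAdj f').homEquiv _ _).symm.injective
  rw [Adjunction.homEquiv_naturality_left_symm, lax, Equiv.symm_apply_apply, cT_tm_assoc, tm_comp,
    ← Adjunction.homEquiv_counit, ← Adjunction.homEquiv_counit]
  rw [Adjunction.homEquiv_naturality_left_symm, Adjunction.homEquiv_naturality_left_symm,
    Adjunction.homEquiv_naturality_right_symm]
  simp only [bcD, bcApp_symm]
  rw [← tm_comp]
  have h0 := hχ ((DCoh.Rpush f).obj Q) ((DCoh.Rpush f).obj N)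
  have hn := χ.hom.naturality (lax f Q N)
  simp only [Functor.comp_map] at hn
  simp only [Category.assoc]
  have hl : (DCoh.Lpull f).map (lax f Q N) ≫ (lpullRpushAdj f).counit.app (((T X).obj Q).obj N) =
      (cT f _ _).hom ≫ tm ((lpullRpushAdj f).counit.app Q) ((lpullRpushAdj f).counit.app N) :=
    ((lpullRpushAdj f).homEquiv_counit _ _ _).symm.trans (Equiv.symm_apply_apply _ _)
  rw [reassoc_of% hn, ← Functor.map_comp_assoc, hl, Functor.map_comp_assoc]
  erw [cT_tm g', reassoc_of% h0]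
  rw [← Functor.map_comp_assoc, Iso.inv_hom_id, CategoryTheory.Functor.map_id, Category.id_comp]

end Groth.Agent.LeadBrown
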