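import Groth.Agent.LeadBrown.PullTensorComp
import Groth.Agent.LeadBrown.LpullTensor2

/-!
# Defining properties of `lpullT₂` and of composition of derived inverse images
-/

set_option autoImplicit false
set_option linter.style.haveILetI false

universe u

open CategoryTheory CategoryTheory.Limits CategoryTheory.Functor AlgebraicGeometry

attribute [local instance] HasDerivedCategory.standard

namespace Groth.Agent.LeadBrown

open Groth.Agent.H16Derived Groth.Agent.H16Derived.KFlat Groth.Agent.H16Derived.KFlat.Stalk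
open Groth.Agent.H16Derived.ProjFormula (pull pullCx lam₀ isIso_lam₀ isIso_Qresψ)

variable {X Y Z : Scheme.{u}}

theorem lamRes_comp_lam₀ (f : X ⟶ Y) [DCoh.HasLpull f] (K : CochainComplex Y.Modules ℤ) :
    (lamRes f).hom.app K ≫ (lam₀ f).app K =
      DerivedCategory.Q.map ((pullCx f).map ((resψ (X := Y)).app K)) := by
  haveI := isIso_lam₀ f _ (isKFlat_res K)
  have h := (lam₀ f).naturality ((resψ (X := Y)).app K)
  simp only [lamRes, Iso.trans_hom, NatTrans.comp_app, Iso.symm_hom, asIso_inv, NatIso.isIso_inv_app,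
    whiskerLeft_app, asIso_hom, whiskerRight_app, Functor.leftUnitor_hom_app, Category.assoc]
  rw [IsIso.inv_comp_eq]
  exact (congrArg (_ ≫ ·) (Category.id_comp _)).trans h

set_option maxHeartbeats 800000 in
/-- The defining property of `lpullT₂`. -/
theorem lpullT₂_char (f : X ⟶ Y) [DCoh.HasLpull f]
    (P : CochainComplex Y.Modules ℤ × CochainComplex Y.Modules ℤ) :
    (lpullT₂ f).hom.app ((Dual.QQ Y).obj P) ≫ (Dual.T₂ X).map (Prod.mkHom ((lam₀ f).app P.1) ((lam₀ f).app P.2)) ≫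
        (Dual.ε X).app ((pullCx f).obj P.1, (pullCx f).obj P.2) =
      (DCoh.Lpull f).map ((Dual.ε Y).app P) ≫ (lam₀ f).app ((Functor.uncurry.obj (DCoh.tensorCx (X := Y))).obj P) ≫
        DerivedCategory.Q.map ((pullTot₂Iso f).hom.app P) := by
  let p := (pullCx f).prod (pullCx f)
  let U := Functor.uncurry.obj (DCoh.tensorCx (X := Y))
  haveI : IsIso ((Dual.ε X).app (p.obj ((Dual.res₂ Y).obj P))) := Dual.isIso_ε _ _
    (Or.inr (isKFlat_pullback f (isKFlat_res P.2)))
  have hiL : (Dual.T₂ X).map (Prod.mkHom ((lamRes f).hom.app P.1) ((lamRes f).hom.app P.2)) ≫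
      (Dual.T₂ X).map (Prod.mkHom ((lam₀ f).app P.1) ((lam₀ f).app P.2)) =
      (Dual.QQ X ⋙ Dual.T₂ X).map (p.map ((Dual.res₂ψ Y).app P)) := by
    rw [← Functor.map_comp]
    exact congrArg (Dual.T₂ X).map (Prod.ext (lamRes_comp_lam₀ f P.1) (lamRes_comp_lam₀ f P.2))
  have hε := (Dual.ε X).naturality (p.map ((Dual.res₂ψ Y).app P))
  have hπ := (pullTot₂Iso f).hom.naturality ((Dual.res₂ψ Y).app P)
  have hl := (lam₀ f).naturality (U.map ((Dual.res₂ψ Y).app P))
  haveI : IsIso ((Dual.QQ Y).map ((Dual.res₂ψ Y).app P)) :=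
    (isIso_prod_iff _ _).2 ⟨isIso_Q_map _ (quasiIso_resψ P.1), isIso_Q_map _ (quasiIso_resψ P.2)⟩
  have hr : Dual.isoRes.hom.app P ≫ (Dual.tensor₂ Y).map ((Dual.res₂ψ Y).app P) = (Dual.ε Y).app P := by
    have h := (Dual.ε Y).naturality ((Dual.res₂ψ Y).app P)
    simp only [Dual.isoRes, Iso.trans_hom, NatTrans.comp_app, Iso.symm_hom, asIso_inv, NatIso.isIso_inv_app,
      whiskerRight_app, asIso_hom, whiskerLeft_app, Category.assoc]
    rw [IsIso.inv_comp_eq]
    exact h.symm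
  have hd : (lpullT₂ f).hom.app ((Dual.QQ Y).obj P) =
      (DCoh.Lpull f).map (Dual.isoRes.hom.app P) ≫ (lam₀ f).app (U.obj ((Dual.res₂ Y).obj P)) ≫
        DerivedCategory.Q.map ((pullTot₂Iso f).hom.app ((Dual.res₂ Y).obj P)) ≫
        CategoryTheory.inv ((Dual.ε X).app (p.obj ((Dual.res₂ Y).obj P))) ≫
        (Dual.T₂ X).map (Prod.mkHom ((lamRes f).hom.app P.1) ((lamRes f).hom.app P.2)) := by
    simp only [lpullT₂, Localization.liftNatIso_hom]
    rw [Localization.liftNatTrans_app]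
    simp [Localization.Lifting.iso]
    rfl
  rw [hd]
  simp only [Category.assoc]
  rw [reassoc_of% hiL]
  refine (congrArg (fun t => _ ≫ _ ≫ _ ≫ CategoryTheory.inv ((Dual.ε X).app (p.obj ((Dual.res₂ Y).obj P))) ≫ t) hε).trans ?_
  rw [IsIso.inv_hom_id_assoc]
  refine Eq.trans ?_ (congrArg (fun t => (DCoh.Lpull f).map t ≫ _ ≫ _) hr)
  rw [Functor.map_comp, Category.assoc]
  refine congrArg (_ ≫ ·) ?_
  refine Eq.trans ?_ ((Category.assoc _ _ _).symm.trans ((congrArg (· ≫ _) hl).trans (Category.assoc _ _ _))).symm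
  refine congrArg (_ ≫ ·) ?_
  exact (DerivedCategory.Q.map_comp _ _).symm.trans
    ((congrArg DerivedCategory.Q.map hπ.symm).trans (DerivedCategory.Q.map_comp _ _))

/-- Composition of derived inverse images, with its defining property. -/
theorem exists_lpullComp (f : X ⟶ Y) (g : Y ⟶ Z) [DCoh.HasLpull f] [DCoh.HasLpull g] [DCoh.HasLpull (f ≫ g)] :
    ∃ κ : DCoh.Lpull g ⋙ DCoh.Lpull f ≅ DCoh.Lpull (f ≫ g), ∀ K : CochainComplex Z.Modules ℤ,
      κ.hom.app (DerivedCategory.Q.obj K) ≫ (lam₀ (f ≫ g)).app K =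
        (DCoh.Lpull f).map ((lam₀ g).app K) ≫ (lam₀ f).app ((pullCx g).obj K) ≫
          DerivedCategory.Q.map ((pullCxComp f g).hom.app K) := by
  let r := KFlat.Stalk.res (X := Z)
  haveI : ∀ C, IsIso ((whiskerLeft (r ⋙ pullCx g) (lam₀ f)).app C) :=
    fun C => isIso_lam₀ f _ (isKFlat_pullback g (isKFlat_res C))
  haveI := NatIso.isIso_of_isIso_app (whiskerLeft (r ⋙ pullCx g) (lam₀ f))
  let e : DerivedCategory.Q ⋙ DCoh.Lpull g ⋙ DCoh.Lpull f ≅ DerivedCategory.Q ⋙ DCoh.Lpull (f ≫ g) :=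
    (Functor.associator _ _ _).symm ≪≫ isoWhiskerRight (lamRes g).symm (DCoh.Lpull f) ≪≫
      (Functor.associator _ _ _ ≪≫ isoWhiskerLeft r (Functor.associator _ _ _) ≪≫ (Functor.associator _ _ _).symm) ≪≫
      asIso (whiskerLeft (r ⋙ pullCx g) (lam₀ f)) ≪≫
      (Functor.associator _ _ _ ≪≫ isoWhiskerLeft r ((Functor.associator _ _ _).symm ≪≫
        isoWhiskerRight (pullCxComp f g) DerivedCategory.Q)) ≪≫ lamRes (f ≫ g)
  refine ⟨Localization.liftNatIso DerivedCategory.Q (HomologicalComplex.quasiIso Z.Modules (ComplexShape.up ℤ))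
    (DerivedCategory.Q ⋙ DCoh.Lpull g ⋙ DCoh.Lpull f) (DerivedCategory.Q ⋙ DCoh.Lpull (f ≫ g))
    (DCoh.Lpull g ⋙ DCoh.Lpull f) (DCoh.Lpull (f ≫ g)) e, fun K => ?_⟩
  have h1 : (DCoh.Lpull f).map ((lamRes g).inv.app K) ≫ (lam₀ f).app ((pullCx g).obj (r.obj K)) ≫
      DerivedCategory.Q.map ((pullCxComp f g).hom.app (r.obj K)) ≫ (lamRes (f ≫ g)).hom.app K =
      (Localization.liftNatIso DerivedCategory.Q (HomologicalComplex.quasiIso Z.Modules (ComplexShape.up ℤ))
        (DerivedCategory.Q ⋙ DCoh.Lpull g ⋙ DCoh.Lpull f) (DerivedCategory.Q ⋙ DCoh.Lpull (f ≫ g))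
        (DCoh.Lpull g ⋙ DCoh.Lpull f) (DCoh.Lpull (f ≫ g)) e).hom.app
        (DerivedCategory.Q.obj K) := by
    simp [e, Localization.Lifting.iso]
    exact (congrArg (_ ≫ ·) (Category.id_comp _)).symm
  rw [← h1]
  simp only [Category.assoc]
  rw [lamRes_comp_lam₀]
  have hn := (lam₀ f).naturality ((pullCx g).map ((resψ (X := Z)).app K))
  have hc := (pullCxComp f g).hom.naturality ((resψ (X := Z)).app K)
  rw [← Functor.map_comp, ← hc, Functor.map_comp]
  refine (congrArg (_ ≫ ·) ((Category.assoc _ _ _).symm.trans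
    ((congrArg (· ≫ _) hn.symm).trans (Category.assoc _ _ _)))).trans ?_
  refine (Category.assoc _ _ _).symm.trans (congrArg (· ≫ _) ?_)
  refine ((DCoh.Lpull f).map_comp _ _).symm.trans (congrArg (DCoh.Lpull f).map ?_)
  rw [← cancel_epi ((lamRes g).hom.app K), lamRes_comp_lam₀]
  exact (lamRes g).hom_inv_id_app_assoc K _

end Groth.Agent.LeadBrown
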