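import Groth.Agent.H11Proj.ProjSpace
import Groth.Agent.H11Tilde.TwistInv
import Mathlib.AlgebraicGeometry.AffineSpace
import Groth.Prelude.Def_Twist2

/-!
# The affine line inside the projective line
-/

set_option autoImplicit false
set_option linter.style.haveILetI false

universe u

open CategoryTheory CategoryTheory.Limits AlgebraicGeometry MvPolynomial

namespace Groth.Agent.LeadBrown

open Groth.Agent.H11Proj.ProjSpace

/-- The index type of the coordinate. -/
abbrev I₁ : Type u := ULift.{u} (Fin 1)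

/-- The coordinate is the one that is not inverted. -/
def coordEquiv : I₁.{u} ≃ {j : Fin 2 // j ≠ 0} where
  toFun _ := ⟨1, by decide⟩
  invFun _ := ⟨0⟩
  left_inv := fun ⟨i⟩ => congrArg ULift.up (Subsingleton.elim _ _)
  right_inv := fun ⟨j, hj⟩ => Subtype.ext (by
    show (1 : Fin 2) = j
    omega)

variable (R : Type u) [CommRing R]

/-- The standard chart `A¹ ⟶ P¹`. -/
theorem exists_chart_line :
    ∃ j : 𝔸(I₁.{u}; Spec (CommRingCat.of R)) ⟶ CohB1.ProjSpace 1 R, IsOpenImmersion j ∧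
      j ≫ CohB1.ProjSpace.toSpec 1 R = 𝔸(I₁.{u}; Spec (CommRingCat.of R)) ↘ Spec (CommRingCat.of R) ∧
      Set.range j.base ⊆ SetLike.coe (Proj.basicOpen (CohB1.polyGrading 1 R) (X 0)) := by
  let e : MvPolynomial I₁.{u} R ≃+* HomogeneousLocalization.Away (CohB1.polyGrading 1 R) (X (0 : Fin 2)) :=
    (renameEquiv R coordEquiv).toRingEquiv.trans (RingEquiv.ofBijective _ (chartMap_bijective 1 R 0))
  let φ := Spec.map e.toCommRingCatIso.inv
  let ι := Proj.awayι (CohB1.polyGrading 1 R) (X 0) (X_mem 1 R 0) one_pos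
  haveI : IsIso φ := inferInstance
  haveI : IsOpenImmersion ι := inferInstanceAs (IsOpenImmersion (Proj.awayι _ _ _ _))
  haveI : IsOpenImmersion (φ ≫ ι) := @IsOpenImmersion.comp _ _ _ φ ι inferInstance ‹_›
  refine ⟨(AffineSpace.SpecIso I₁.{u} (CommRingCat.of R)).hom ≫ φ ≫ ι, @IsOpenImmersion.comp _ _ _ _ (φ ≫ ι) inferInstance ‹_›, ?_, ?_⟩
  · rw [Category.assoc, Category.assoc]
    show _ ≫ Spec.map e.toCommRingCatIso.inv ≫ Proj.awayι _ _ _ _ ≫ _ = _
    rw [awayι_toSpec, ← Spec.map_comp, ← Iso.eq_inv_comp, AffineSpace.SpecIso_inv_over]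
    congr 1
    refine CommRingCat.hom_ext (RingHom.ext fun r => ?_)
    show e.symm (chartMap 1 R 0 (C r)) = C r
    rw [RingEquiv.symm_apply_eq]
    exact (congrArg (chartMap 1 R 0) (rename_C _ r)).symm
  · rintro _ ⟨z, rfl⟩
    exact (Proj.opensRange_awayι (CohB1.polyGrading 1 R) (X 0) (X_mem 1 R 0) one_pos).le ⟨_, rfl⟩

/-- `O(-2)` is trivial on the chart. -/
theorem nonempty_twist_restrict_chart {U : Scheme.{u}} (j : U ⟶ CohB1.ProjSpace 1 R) [IsOpenImmersion j]
    (h : Set.range j.base ⊆ SetLike.coe (Proj.basicOpen (CohB1.polyGrading 1 R) (X 0))) :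
    Nonempty ((Scheme.Modules.restrictFunctor j).obj (Twist.twistProjSpace 1 R (-(((1 : ℕ) : ℤ) + 1))) ≅
      Coh.structureModule U) := by
  obtain ⟨e⟩ := H11Tilde.nonempty_twist_restrict_iso (CohB1.polyGrading 1 R) (X_mem 1 R 0) (-2) j.opensRange h
  exact ⟨(Scheme.Modules.restrictFunctorCongr j.isoOpensRange_hom_ι.symm ≪≫
      Scheme.Modules.restrictFunctorComp j.isoOpensRange.hom j.opensRange.ι).app _ ≪≫
    (Scheme.Modules.restrictFunctor j.isoOpensRange.hom).mapIso e ≪≫ Scheme.Modules.restrictUnitIso _⟩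

end Groth.Agent.LeadBrown
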