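import Groth.Agent.LeadBrown.LCIShriek
import Groth.Agent.H29Slice.RestrictKer

/-!
# Charts of regular immersions of fixed codimension, and the degree of `Δ^!`
-/

set_option autoImplicit false
set_option linter.style.haveILetI false
set_option linter.unusedSectionVars false
set_option backward.isDefEq.respectTransparency false
set_option maxHeartbeats 800000

universe u

open CategoryTheory CategoryTheory.Limits AlgebraicGeometry RingTheory.Sequence

attribute [local instance] HasDerivedCategory.standard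

namespace Groth.Agent.LeadBrown

open Groth.Agent.H16Derived
open Groth.Agent.H16Derived.KFlat.Stalk (rd rdComp)

/-- A regular immersion of codimension `n` is cut out by a regular sequence of length `n` inside any
neighbourhood. -/
theorem exists_regular_chart_codim {X P : Scheme.{u}} [IsNoetherian P] (i : X ⟶ P) [IsClosedImmersion i] {n : ℕ}
    (hi : RegImm.IsRegularImmersionOfCodim .regular n i) (x : X) (O : P.Opens) (hO : i x ∈ O) :
    ∃ D : P.Opens, IsAffineOpen D ∧ i x ∈ D ∧ D ≤ O ∧ ∃ l : List Γ((D : Scheme.{u}), ⊤), l.length = n ∧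
      RegMod l ⊥ ∧ RingHom.ker (i ∣_ D).appTop.hom = Ideal.ofList l := by
  obtain ⟨V, hxV, hcl, rs, hlen, hrs, hker⟩ := hi.2 x
  obtain ⟨g, hg, hxg⟩ := V.2.exists_basicOpen_le ⟨i x, hO⟩ hxV
  let D : P.affineOpens := P.affineBasicOpen g
  obtain ⟨-, hkD⟩ := H29Slice.restrict_baseChange (IsPullback.of_horiz_isIso ⟨by simp⟩ : IsPullback (𝟙 X) i i (𝟙 P))
    V.2 hcl D.2 (e := P.basicOpen_le g)
  have he : Scheme.Hom.appLE (𝟙 P) V.1 D.1 (P.basicOpen_le g) = P.presheaf.map (homOfLE (P.basicOpen_le g)).op := by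
    simp only [Scheme.Hom.appLE, Scheme.Hom.id_app]
    rfl
  rw [he, hker, Ideal.map_ofList] at hkD
  letI : Algebra Γ(P, V.1) Γ(P, D.1) := (P.presheaf.map (homOfLE (P.basicOpen_le g)).op).hom.toAlgebra
  haveI : IsLocalization.Away g Γ(P, D.1) := V.2.isLocalization_basicOpen g
  haveI : Module.Flat Γ(P, V.1) Γ(P, D.1) := IsLocalization.flat _ (Submonoid.powers g)
  have h7 : IsWeaklyRegular Γ(P, D.1) (rs.map (algebraMap Γ(P, V.1) Γ(P, D.1))) :=
    (hrs : IsRegular Γ(P, V.1) rs).toIsWeaklyRegular.of_flat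
  have h8 : RegMod (rs.map (algebraMap Γ(P, V.1) Γ(P, D.1))) (⊥ : Ideal Γ(P, D.1)) :=
    regMod_of_isWeaklyRegular _ _
      ((LinearEquiv.isWeaklyRegular_congr (Submodule.quotEquivOfEqBot (⊥ : Ideal Γ(P, D.1)) rfl) _).2 h7)
  let e : Γ(P, D.1) ≃+* Γ((D.1 : Scheme.{u}), ⊤) := D.1.topIso.commRingCatIsoToRingEquiv.symm
  have hr := RegMod.map_equiv e _ _ h8
  rw [Ideal.map_bot] at hr
  refine ⟨D.1, D.2, hxg, hg, _, ?_, hr, ?_⟩
  · rw [List.length_map, List.length_map, hlen]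
  · have h1 : RingHom.ker (i ∣_ D.1).appTop.hom =
        (RingHom.ker (i.app D.1).hom).comap e.symm.toRingHom := by
      ext z
      simp only [RingHom.mem_ker, Ideal.mem_comap]
      have hz : (i ∣_ D.1).appTop z = (i ⁻¹ᵁ D.1).topIso.inv (i.app D.1 (D.1.topIso.hom z)) := by
        rw [← CommRingCat.comp_apply, ← CommRingCat.comp_apply]
        refine congrArg (fun φ : Γ((D.1 : Scheme.{u}), ⊤) ⟶ Γ((i ⁻¹ᵁ D.1 : Scheme.{u}), ⊤) => φ z) ?_
        rw [morphismRestrict_appTop]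
        simp only [Scheme.Opens.topIso_hom, Scheme.Opens.topIso_inv]
        rw [i.naturality_assoc, ← X.presheaf.map_comp]
        rfl
      show (i ∣_ D.1).appTop z = 0 ↔ i.app D.1 (D.1.topIso.hom z) = 0
      rw [hz]
      exact map_eq_zero_iff _ ((i ⁻¹ᵁ D.1).topIso.commRingCatIsoToRingEquiv.symm.injective)
    rw [h1, hkD]
    refine Eq.trans ?_ (Ideal.map_ofList _ _)
    exact (Ideal.map_comap_of_equiv _).symm

/-- Different shifts of the structure sheaf of a nonempty affine scheme are not isomorphic. -/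
theorem eq_of_oX_iso {U : Scheme.{u}} [IsAffine U] [Nonempty U] {m n : ℤ} (e : (oX U)⟦m⟧ ≅ (oX U)⟦n⟧) :
    m = n := by
  by_contra h
  have h0 : IsZero ((oX U)⟦m⟧) := by
    rw [IsZero.iff_id_eq_zero, ← e.hom_inv_id, hom_oX_oX_eq_zero h e.hom, zero_comp]
  have h1 : IsZero (oX U) :=
    (Functor.map_isZero (shiftFunctor (DCoh.D U) (-m)) h0).of_iso (shiftShiftNeg (oX U) m).symm
  have h2 : (1 : Γ(U, ⊤)) = 0 := mu_oX_bijective.1 (h1.eq_of_src _ _)
  obtain ⟨x⟩ := ‹Nonempty U›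
  have h3 := congrArg (U.presheaf.germ ⊤ x trivial) h2
  rw [map_one, map_zero] at h3
  exact one_ne_zero h3

variable {X P : Scheme.{u}} [IsNoetherian P] (Δ : X ⟶ P) [IsClosedImmersion Δ] {n : ℕ}
  [DCoh.HasRpush Δ] {hΔ : DCoh.RpushPreservesQCoh Δ} {b : DCoh.DQCoh P ⥤ DCoh.DQCoh X}

/-- `Δ^!` lowers the shift by the codimension. -/
theorem eq_codim_of_rightAdjoint (adjb : DCoh.RpushQ Δ hΔ ⊣ b)
    (hi : RegImm.IsRegularImmersionOfCodim .regular n Δ) (F : DCoh.DQCoh P) (c : ℤ) (hc : F.obj.IsGE c)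
    (e : (b.obj F).obj ≅ oX X) (O : P.Opens) (m : ℤ) (eF : (rd O.ι).obj F.obj ≅ (oX (O : Scheme.{u}))⟦m⟧)
    (x : X) (hx : Δ x ∈ O) : m = n := by
  haveI : CompactSpace X := QuasiCompact.compactSpace_of_compactSpace Δ
  haveI : QuasiSeparatedSpace X := quasiSeparatedSpace_of_quasiSeparated Δ
  haveI : IsLocallyNoetherian X := LocallyOfFiniteType.isLocallyNoetherian Δ
  obtain ⟨D, hD, hxD, hDO, l, hlen, hl, hker⟩ := exists_regular_chart_codim Δ hi x O hx
  haveI : IsAffine (D : Scheme.{u}) := hD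
  haveI : IsNoetherian (D : Scheme.{u}) := { }
  let U' := Δ ⁻¹ᵁ D
  let iD : (U' : Scheme.{u}) ⟶ D := Δ ∣_ D
  haveI : IsClosedImmersion iD := IsZariskiLocalAtTarget.restrict (P := @IsClosedImmersion) ‹_› D
  haveI : IsAffine (U' : Scheme.{u}) := isAffine_of_isAffineHom iD
  haveI : Nonempty (U' : Scheme.{u}) := ⟨⟨x, hxD⟩⟩
  haveI := QCohD.hasRpush iD
  have hiD : DCoh.RpushPreservesQCoh iD := fun K hK => QCohD.isQCohD_rpush iD hK
  haveI := isLeftAdjoint_rpushQ iD hiD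
  have adjD := Adjunction.ofIsLeftAdjoint (DCoh.RpushQ iD hiD)
  haveI : QuasiCompact D.ι := quasiCompact_of_compactSpace D.ι
  haveI : QuasiCompact U'.ι := quasiCompact_of_compactSpace U'.ι
  have hrange : Set.range U'.ι.base = Δ.base ⁻¹' Set.range D.ι.base := by
    rw [Scheme.Opens.range_ι, Scheme.Opens.range_ι]; rfl
  obtain ⟨θ, -, hθ⟩ := exists_bc adjb D.ι U'.ι adjD (morphismRestrict_ι Δ D).symm hrange
    (fun L => ⟨(rd D.ι).obj L.obj, QCohD.isQCohD_rd D.ι L.property⟩) fun L => rfl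
  haveI := hθ F c hc
  let ρ := P.homOfLE hDO
  obtain ⟨e₁⟩ := nonempty_rightAdjoint_regular iD adjD l hl hker m
    ⟨(rd D.ι).obj F.obj, QCohD.isQCohD_rd D.ι F.property⟩
    (rdComp ρ O.ι D.ι (P.homOfLE_ι hDO) F.obj ≪≫ (rd ρ).mapIso eF ≪≫ ((rd ρ).commShiftIso m).app _ ≪≫
      (shiftFunctor _ m).mapIso (((Scheme.Modules.restrictFunctor ρ).mapDerivedCategorySingleFunctor 0).app _ ≪≫
        (DerivedCategory.singleFunctor _ 0).mapIso (Scheme.Modules.restrictUnitIso ρ)))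
  let e₂ : (oX (U' : Scheme.{u}))⟦(0 : ℤ)⟧ ≅ (oX (U' : Scheme.{u}))⟦m - l.length⟧ :=
    (shiftFunctorZero _ ℤ).app _ ≪≫ (((Scheme.Modules.restrictFunctor U'.ι).mapDerivedCategorySingleFunctor 0).app _ ≪≫
        (DerivedCategory.singleFunctor _ 0).mapIso (Scheme.Modules.restrictUnitIso U'.ι)).symm ≪≫
      (rd U'.ι).mapIso e.symm ≪≫ asIso (θ F) ≪≫ e₁
  have := eq_of_oX_iso e₂
  omega

end Groth.Agent.LeadBrown
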