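import Groth.Agent.LeadBrown.BCAdjointPC
import Groth.Agent.H16Derived.Dual.BiDual
import Groth.Agent.H16Derived.Dual.Main
import Groth.Agent.H16Derived.BaseChange.Finiteness
import Groth.Agent.H16Derived.PnD.Unit

/-!
# `Rf_* f^! O` sits in non-positive degrees for flat proper `f`
-/

set_option autoImplicit false
set_option linter.style.haveILetI false

universe u

open CategoryTheory CategoryTheory.Limits AlgebraicGeometry CategoryTheory.Pretriangulated

attribute [local instance] HasDerivedCategory.standard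

namespace Groth.Agent.LeadBrown

open Groth.Agent.H16Derived Groth.Agent.H16Derived.QCohD
open Groth.Agent.H16Derived.KFlat.Stalk (hasLpull isPerfect_iff isPerfect_of_iso exists_isLE_of_local isGE_rpush)
open Groth.Agent.H16Derived.Dual (T R ro one σ rightUnit isPerfect_ro isQCohD_of_isPerfect oneIso)
open DerivedCategory.TStructure (t)

/-- `f^!O` pushes forward into degrees `≤ 0`. -/
theorem isZero_hd_rpush_rightAdjoint_one {X Y : Scheme.{u}} [CompactSpace Y] [QuasiSeparatedSpace Y]
    [CompactSpace X] [QuasiSeparatedSpace X] (f : X ⟶ Y) [IsProper f] [Flat f] [LocallyOfFinitePresentation f]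
    [DCoh.HasRpush f] {hf : DCoh.RpushPreservesQCoh f} {a : DCoh.DQCoh Y ⥤ DCoh.DQCoh X}
    (adj : DCoh.RpushQ f hf ⊣ a) (O : DCoh.DQCoh Y) (eO : O.obj ≅ DCoh.inD Y (Coh.structureModule Y))
    (i : ℤ) (hi : 0 < i) : IsZero (DCoh.HD ((DCoh.Rpush f).obj (a.obj O).obj) i) := by
  haveI := hasLpull f
  let Q : DCoh.D X := one X
  have hQ : DCoh.IsPerfect Q := isPerfect_of_iso oneIso (PnD.isPerfect_one X)
  let K := (DCoh.Rpush f).obj Q
  have hK : DCoh.IsPerfect K := BaseChange.isPerfect_rpush f hQ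
  -- `R(one) = id`
  haveI : ((T X).flip.obj Q).IsEquivalence := Functor.isEquivalence_of_iso (rightUnit X).symm
  let eR : R Q ≅ 𝟭 (DCoh.D X) := (Dual.adjR Q).rightAdjointUniq (Adjunction.id.ofNatIsoLeft (rightUnit X).symm)
  haveI := isIso_alphaR f (isQCohD_of_isPerfect hQ) _ (universal_trace adj O)
    (hf _ (isQCohD_R_perfect hQ (a.obj O).property)) (isQCohD_R_perfect hK O.property)
  let P := ro K
  have hP : DCoh.IsPerfect P := isPerfect_ro hK
  let e₁ : (DCoh.Rpush f).obj (a.obj O).obj ≅ P :=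
    (DCoh.Rpush f).mapIso (eR.app _).symm ≪≫ asIso (alphaR f Q (adj.counit.app O).hom) ≪≫
      (R K).mapIso (eO ≪≫ oneIso)
  refine IsZero.of_iso ?_ ((DerivedCategory.homologyFunctor Y.Modules i).mapIso e₁)
  -- `P` is bounded above
  obtain ⟨b₀, hb₀⟩ := exists_isLE_of_local (K := P) fun x => by
    obtain ⟨V, hx, hV⟩ := (isPerfect_iff P).1 hP x
    obtain ⟨n, hn⟩ := (hV.hasApprox 0).exists_isLE
    exact ⟨V, n, hx, hn⟩
  suffices H : ∀ (k : ℕ) (j : ℤ), b₀ - k < j → 0 < j → IsZero (DCoh.HD P j) from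
    H (b₀ - i + 1).toNat i (by omega) hi
  intro k
  induction k with
  | zero => exact fun j hj _ => by haveI := hb₀; exact DerivedCategory.isZero_of_isLE P b₀ j (by omega)
  | succ k ih =>
    intro j hj hj0
    rcases lt_or_ge (b₀ - (k : ℤ)) j with h | h
    · exact ih j h hj0
    let N := (t.truncGE j).obj P
    let π : P ⟶ N := (t.truncGEπ j).app P
    haveI hN : N.IsGE j := inferInstanceAs (t.IsGE ((t.truncGE j).obj P) j)
    have hNq : DCoh.IsQCohD N := fun l => by
      rcases lt_or_ge l j with hl | hl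
      · exact QCohD.isQCoh_isZero _ (DerivedCategory.isZero_of_isGE N j l hl)
      · haveI := DTrunc.isIso_homology_truncGEπ P j l hl
        exact QCohD.isQCoh_iso (asIso ((DerivedCategory.homologyFunctor _ l).map π))
          (isQCohD_of_isPerfect hP l)
    -- `RHom(P, N)` lives in positive degrees
    haveI := isIso_prj f (isQCohD_of_isPerfect hQ) hNq
    haveI : IsIso (Dual.w K) := Dual.isIso_w hK
    let e₂ : (R P).obj N ≅ (DCoh.Rpush f).obj ((DCoh.Lpull f).obj N) :=
      (Dual.θIso hP N).symm ≪≫ ((T Y).obj N).mapIso (asIso (Dual.w K)).symm ≪≫ σ N K ≪≫ asIso (prj f Q N) ≪≫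
        (DCoh.Rpush f).mapIso (σ Q _ ≪≫ (rightUnit X).app _)
    haveI := isGE_lpull_flat f N j hN
    haveI : t.IsGE ((DCoh.Rpush f).obj ((DCoh.Lpull f).obj N)) j := isGE_rpush f _ j
    haveI hGE : ((R P).obj N).IsGE j := t.isGE_of_iso e₂.symm j
    haveI : (one Y).IsLE 0 := t.isLE_of_iso oneIso 0
    have h0 : ∀ y : one Y ⟶ (R P).obj N, y = 0 := fun y => t.zero y 0 j hj0
    have hπ : π = 0 := by
      have h2 : ∀ z : ((T Y).obj (one Y)).obj P ⟶ N, z = 0 := fun z => by
        apply ((Dual.adjR P).homEquiv _ _).injective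
        exact (h0 _).trans (h0 _).symm
      let u : ((T Y).obj (one Y)).obj P ≅ P := σ (one Y) P ≪≫ (rightUnit Y).app P
      exact (cancel_epi u.hom).1 ((h2 _).trans (h2 _).symm)
    haveI : IsIso ((DerivedCategory.homologyFunctor _ j).map π) := DTrunc.isIso_homology_truncGEπ P j j le_rfl
    rw [hπ, Functor.map_zero] at this
    rw [IsZero.iff_id_eq_zero]
    exact (cancel_mono (0 : DCoh.HD P j ⟶ DCoh.HD N j)).1 (by rw [comp_zero, comp_zero])

end Groth.Agent.LeadBrown
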