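import Groth.Agent.LeadBrown.Rigidity
import Groth.Agent.LeadBrown.ShriekBC
import Groth.Agent.LeadBrown.ShriekPerfect
import Groth.Agent.LeadBrown.BaseChange
import Groth.Agent.H16Derived.RGammaZ.Push

/-!
# Rigidity of `f^! O` for flat morphisms
-/

set_option autoImplicit false
set_option linter.style.haveILetI false
set_option linter.unusedSectionVars false

universe u

open CategoryTheory CategoryTheory.Limits CategoryTheory.Functor AlgebraicGeometry CategoryTheory.Pretriangulated

attribute [local instance] HasDerivedCategory.standard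

namespace Groth.Agent.LeadBrown

open Groth.Agent.H16Derived Groth.Agent.H16Derived.QCohD
open Groth.Agent.H16Derived.KFlat.Stalk (rd rdComp hasLpull rpushCommShift rpush_isTriangulated)
open DerivedCategory.TStructure (t)

variable {U X : Scheme.{u}}

theorem isZero_rd_of_range_empty (j : U ⟶ X) [IsOpenImmersion j] (h : Set.range j.base = ∅) (F : DCoh.D X) :
    IsZero ((rd j).obj F) :=
  (isZero_rd_iff j F).2 fun i y _ hy' => by rw [h] at hy'; exact hy'

theorem isIso_map_unit {C D : Type*} [Category C] [Category D] {F : C ⥤ D} {G : D ⥤ C} (adj : F ⊣ G)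
    [IsIso adj.counit] (M : C) : IsIso (F.map (adj.unit.app M)) := by
  have h := adj.left_triangle_components M
  exact ⟨adj.counit.app (F.obj M), h, by
    rw [← cancel_mono (adj.counit.app (F.obj M)), Category.assoc, h]
    exact (Category.comp_id _).trans (Category.id_comp _).symm⟩

/-- Objects vanishing off `U` see `M` through `M|_U`. -/
theorem bijective_rd_map [IsNoetherian X] (j : U ⟶ X) [IsOpenImmersion j] (U₂ : X.Opens)
    (hcov : ∀ x : X, x ∈ Set.range j.base ∨ x ∈ U₂) {A : DCoh.D X} (hA : IsZero ((rd U₂.ι).obj A)) (M : DCoh.D X) :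
    Function.Bijective fun x : A ⟶ M => (rd j).map x := by
  haveI : QuasiCompact j := inferInstance
  haveI := QCohD.hasRpush j
  let k := U₂.ι
  haveI : QuasiCompact k := inferInstance
  haveI := QCohD.hasRpush k
  let aj := Thomason.restrictRpushAdj j
  let ak := Thomason.restrictRpushAdj k
  haveI := Thomason.isIso_restrictRpushAdj_counit j
  haveI := Thomason.isIso_restrictRpushAdj_counit k
  obtain ⟨C, a, b, hT⟩ := distinguished_cocone_triangle (aj.unit.app M)
  haveI : IsIso ((rd j).map (aj.unit.app M)) := isIso_map_unit aj M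
  have hC : IsZero ((rd j).obj C) :=
    (Triangle.isZero₃_iff_isIso₁ _ ((rd j).map_distinguished _ hT)).2 ‹_›
  haveI : IsIso (ak.unit.app C) := by
    refine isIso_of_isIso_rd_cover _ fun x => ?_
    rcases hcov x with hx | hx
    · refine ⟨_, j, inferInstance, hx, isIso_of_source_target_iso_zero _ hC.isoZero (IsZero.isoZero ?_)⟩
      let V := j.opensRange
      have h1 : IsZero ((rd (k ⁻¹ᵁ V).ι).obj ((rd k).obj C)) := by
        refine IsZero.of_iso ?_ (rdComp (k ⁻¹ᵁ V).ι k _ rfl C).symm
        exact (isZero_rd_iff _ C).2 fun i y hy hy' => (isZero_rd_iff j C).1 hC i hy (by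
          obtain ⟨z, rfl⟩ := hy'
          exact z.2)
      have h2 := RGammaZ.isZero_rd_rpush k V h1
      exact (isZero_rd_iff j _).2 fun i y hy hy' => (isZero_rd_iff V.ι _).1 h2 i hy (by
        rw [Scheme.Opens.range_ι]; exact hy')
    · exact ⟨_, k, inferInstance, by rw [Scheme.Opens.range_ι]; exact hx,
        isIso_map_unit ak C⟩
  have h0 : ∀ (n : ℤ) (z : A ⟶ C⟦n⟧), z = 0 := fun n z => by
    have hz : ∀ z : A⟦-n⟧ ⟶ C, z = 0 := fun z => by
      haveI : IsIso (ak.unit.app C) := ‹_›
      obtain ⟨w, rfl⟩ : ∃ w, z = w ≫ inv (ak.unit.app C) := ⟨z ≫ ak.unit.app C, by simp⟩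
      have : IsZero ((rd k).obj (A⟦-n⟧)) :=
        (Functor.map_isZero (shiftFunctor _ (-n)) hA).of_iso (((rd k).commShiftIso (-n)).app A)
      rw [show w = 0 from (ak.homEquiv _ _).symm.injective (this.eq_of_src _ _), zero_comp]
    apply (shiftFunctor (DCoh.D X) (-n)).map_injective
    rw [← cancel_mono ((shiftFunctorCompIsoId (DCoh.D X) n (-n) (by omega)).hom.app C), Functor.map_zero, zero_comp]
    exact hz _
  have key : (fun x : A ⟶ M => (rd j).map x) =
      (aj.homEquiv A ((rd j).obj M)).symm ∘ fun x => x ≫ aj.unit.app M := funext fun x => by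
    simp [Adjunction.homEquiv_counit]
  rw [key]
  refine (aj.homEquiv _ _).symm.bijective.comp ⟨fun x y hxy => ?_, fun y => ?_⟩
  · refine sub_eq_zero.1 ?_
    obtain ⟨z, hz⟩ := Triangle.coyoneda_exact₂ _ (inv_rot_of_distTriang _ hT) (x - y)
      (show (x - y) ≫ aj.unit.app M = 0 by rw [Preadditive.sub_comp]; exact sub_eq_zero.2 hxy)
    rw [hz, h0 (-1) z]
    exact zero_comp
  · obtain ⟨z, hz⟩ := Triangle.coyoneda_exact₂ _ hT y (by
      have := h0 0 ((y ≫ a) ≫ (shiftFunctorZero (DCoh.D X) ℤ).inv.app C)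
      exact (cancel_mono ((shiftFunctorZero (DCoh.D X) ℤ).inv.app C)).1 (this.trans zero_comp.symm))
    exact ⟨z, hz.symm⟩

variable {Y : Scheme.{u}} [IsNoetherian X] [IsNoetherian Y] {f : X ⟶ Y} [Flat f] [IsSeparated f]
  [LocallyOfFiniteType f] [DCoh.HasLpull (pullback.fst f f)]
  [PreservesFiniteLimits (Scheme.Modules.pushforward (pullback.diagonal f))]
  [PreservesFiniteColimits (Scheme.Modules.pushforward (pullback.diagonal f))]
  (c : DEt.Compactification f) [DCoh.HasRpush c.fbar] {hc : DCoh.RpushPreservesQCoh c.fbar}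
  {a : DCoh.DQCoh Y ⥤ DCoh.DQCoh c.Xbar} (adj : DCoh.RpushQ c.fbar hc ⊣ a)

include adj in
/-- `f^! O` is rigid for flat `f`. -/
theorem isRelDualizing_shriek (O : DCoh.DQCoh Y) (eO : O.obj ≅ DCoh.inD Y (Coh.structureModule Y)) :
    haveI := c.isOpenImmersion
    Dual3.IsRelDualizing f ((rd c.j).obj (a.obj O).obj) := by
  haveI := c.isOpenImmersion
  haveI := c.isProper
  haveI : LocallyOfFinitePresentation f := LocallyOfFinitePresentation.iff_locallyOfFiniteType.2 inferInstance
  obtain ⟨hpc, htd⟩ := relPerfect_shriek (S7172.result f) c (hc := hc) adj O ⟨eO⟩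
  haveI : QuasiCompact f := quasiCompact_of_compactSpace f
  haveI : QuasiSeparated f := (quasiSeparated_iff_quasiSeparatedSpace f).2 inferInstance
  let P := pullback f f
  let Δ : X ⟶ P := pullback.diagonal f
  let p₁ : P ⟶ X := pullback.fst f f
  let p₂ : P ⟶ X := pullback.snd f f
  haveI : IsLocallyNoetherian P := LocallyOfFiniteType.isLocallyNoetherian p₂
  haveI : CompactSpace P := QuasiCompact.compactSpace_of_compactSpace p₂
  haveI : IsNoetherian P := { }
  let W := pullback c.fbar f
  let pr : W ⟶ c.Xbar := pullback.fst c.fbar f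
  let fb : W ⟶ X := pullback.snd c.fbar f
  haveI : IsLocallyNoetherian W := LocallyOfFiniteType.isLocallyNoetherian fb
  haveI : CompactSpace W := QuasiCompact.compactSpace_of_compactSpace fb
  haveI : IsNoetherian W := { }
  let j' : P ⟶ W := pullback.lift (p₁ ≫ c.j) p₂ (by rw [Category.assoc, c.fac, pullback.condition])
  have hj1 : j' ≫ pr = p₁ ≫ c.j := pullback.lift_fst _ _ _
  have hj2 : j' ≫ fb = p₂ := pullback.lift_snd _ _ _
  haveI hj : IsOpenImmersion j' :=
    MorphismProperty.of_isPullback (IsPullback.of_bot (by rw [hj2, c.fac]; exact IsPullback.of_hasPullback f f)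
      hj1.symm (IsPullback.of_hasPullback c.fbar f)) c.isOpenImmersion
  let c' : DEt.Compactification p₂ := ⟨W, j', fb, hj, inferInstance, hj2⟩
  haveI := QCohD.hasRpush c'.fbar
  have hfb : DCoh.RpushPreservesQCoh c'.fbar := fun K hK => QCohD.isQCohD_rpush _ hK
  haveI : (DCoh.RpushQ c'.fbar hfb).IsLeftAdjoint := isLeftAdjoint_rpushQ c'.fbar hfb
  let adj' : DCoh.RpushQ c'.fbar hfb ⊣ (DCoh.RpushQ c'.fbar hfb).rightAdjoint := Adjunction.ofIsLeftAdjoint _
  haveI := hasLpull f
  have hLf : Dual3.LpullPreservesQCoh f := fun _ hK => QCohD.isQCohD_lpull f hK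
  obtain ⟨β⟩ := nonempty_shriekC_baseChange (IsPullback.of_hasPullback f f) c c' adj adj' hLf
  haveI : (DCoh.inD Y (Coh.structureModule Y)).IsGE 0 := inferInstance
  have h0 : O.obj.IsGE 0 := t.isGE_of_iso eO.symm 0
  let O' := (Dual3.LpullQ f hLf).obj O
  haveI := QCohD.hasRpush f
  obtain ⟨e₀⟩ := nonempty_lpull_single f 0
  let eO' : O'.obj ≅ DCoh.inD X (Coh.structureModule X) := (DCoh.Lpull f).mapIso eO ≪≫ e₀
  let M := ((DCoh.RpushQ c'.fbar hfb).rightAdjoint.obj O').obj
  obtain ⟨lo, hlo⟩ := exists_isGE adj' O' 0 (isGE_lpull_flat f _ 0 h0)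
  let L := (DCoh.Lpull p₁).obj ((rd c.j).obj (a.obj O).obj)
  let eL : L ≅ (rd j').obj M := β.app ⟨O, 0, h0⟩
  haveI := isGE_rd' j' M lo hlo
  haveI : L.IsGE lo := t.isGE_of_iso eL.symm lo
  have hL : DCoh.IsQCohD L := fun i => QCohD.isQCoh_iso
    ((DerivedCategory.homologyFunctor _ i).mapIso eL.symm)
    (QCohD.isQCohD_rd j' ((DCoh.RpushQ c'.fbar hfb).rightAdjoint.obj O').property i)
  let one := DCoh.inD X (Coh.structureModule X)
  let τ : (DCoh.Rpush fb).obj M ⟶ one := (adj'.counit.app O').hom ≫ eO'.hom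
  have hτ : ∀ V : DCoh.D W, DCoh.IsQCohD V →
      Function.Bijective fun y : V ⟶ M => (DCoh.Rpush fb).map y ≫ τ := fun V hV => by
    have h := ((Iso.refl ((DCoh.Rpush fb).obj V)).homCongr eO').bijective.comp (universal_trace adj' O' V hV)
    convert h using 1
    funext y
    simp only [Function.comp_apply, Iso.homCongr_apply, Iso.refl_inv, Category.id_comp, τ, Category.assoc]
    rfl
  let D := Δ ≫ j'
  have hD : D ≫ fb = 𝟙 X := by rw [Category.assoc, hj2]; exact pullback.diagonal_snd f
  haveI : IsClosedImmersion D := by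
    haveI : IsClosedImmersion (D ≫ fb) := by rw [hD]; infer_instance
    exact IsClosedImmersion.of_comp D fb
  haveI := (Scheme.Modules.pullbackPushforwardAdjunction D).isRightAdjoint
  haveI : PreservesColimitsOfSize.{u, u} (Scheme.Modules.pushforward D) :=
    H17.PushColim.preservesColimits_pushforward_of_isClosedEmbedding D D.isClosedEmbedding
  haveI : PreservesFiniteColimits (Scheme.Modules.pushforward D) :=
    PreservesColimitsOfSize.preservesFiniteColimits _
  obtain ⟨p⟩ := nonempty_pushD_section D fb hD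
  haveI := QCohD.hasRpush D
  haveI : QuasiCompact j' := inferInstance
  haveI := QCohD.hasRpush j'
  haveI := QCohD.hasRpush Δ
  obtain ⟨κ⟩ := KFlat.Stalk.nonempty_rpushCompIso Δ j'
  haveI := Thomason.isIso_restrictRpushAdj_counit j'
  let ι : Dual3.pushD D ⋙ rd j' ≅ Dual3.pushD Δ :=
    isoWhiskerRight ((rpushIsoPushD D).symm ≪≫ κ.symm) _ ≪≫ Functor.associator _ _ _ ≪≫
      isoWhiskerLeft _ (asIso (Thomason.restrictRpushAdj j').counit) ≪≫ Functor.rightUnitor _ ≪≫ rpushIsoPushD Δ
  have hpush : ∀ V, DCoh.IsQCohD V → DCoh.IsQCohD ((Dual3.pushD D).obj V) := fun V hV i =>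
    QCohD.isQCoh_iso ((DerivedCategory.homologyFunctor _ i).mapIso ((rpushIsoPushD D).app V))
      (QCohD.isQCohD_rpush D hV i)
  let U₂ : W.Opens := ⟨(Set.range D.base)ᶜ, D.isClosedEmbedding.isClosed_range.isOpen_compl⟩
  have hU₂ : ∀ V, IsZero ((rd U₂.ι).obj ((Dual3.pushD D).obj V)) := fun V => by
    refine IsZero.of_iso (RGammaZ.isZero_rd_rpush D U₂ (isZero_rd_of_range_empty _ ?_ V))
      ((rd U₂.ι).mapIso ((rpushIsoPushD D).app V).symm)
    rw [Scheme.Opens.range_ι]
    exact Set.eq_empty_iff_forall_notMem.2 fun x hx => hx ⟨x, rfl⟩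
  have hcov : ∀ w : W, w ∈ Set.range j'.base ∨ w ∈ U₂ := fun w => by
    by_cases hw : w ∈ Set.range D.base
    · obtain ⟨x, rfl⟩ := hw
      exact Or.inl ⟨Δ.base x, rfl⟩
    · exact Or.inr hw
  have hone : DCoh.IsQCohD one := Dual.isQCohD_of_isPerfect (PnD.isPerfect_one X)
  obtain ⟨ξ₀, hξ₀⟩ := (hτ _ (hpush _ hone)).2 (p.hom.app one)
  have hQ₀ : ∀ V : DCoh.D X, DCoh.IsQCohD V →
      Function.Bijective fun x : V ⟶ one => (Dual3.pushD D).map x ≫ ξ₀ := fun V hV => by
    refine (Function.Bijective.of_comp_iff' (hτ _ (hpush V hV)) _).1 ?_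
    have h := ((p.app V).symm.homCongr (Iso.refl one)).bijective
    convert h using 1
    funext x
    simp only [Function.comp_apply, Functor.map_comp, Category.assoc] at hξ₀ ⊢
    rw [hξ₀]
    have hn := p.hom.naturality x
    simp only [Functor.comp_map, Functor.id_map] at hn
    rw [hn]
    simp
  refine ⟨ι.inv.app one ≫ (rd j').map ξ₀ ≫ eL.inv, hpc, htd, fun N n => ?_⟩
  have hQ : ∀ V : DCoh.D X, DCoh.IsQCohD V → Function.Bijective
      fun x : V ⟶ one => (Dual3.pushD Δ).map x ≫ ι.inv.app one ≫ (rd j').map ξ₀ ≫ eL.inv := fun V hV => by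
    have h := ((ι.app V).homCongr eL.symm).bijective.comp
      ((bijective_rd_map j' U₂ hcov (hU₂ V) M).comp (hQ₀ V hV))
    convert h using 1
    funext x
    have hn := ι.inv.naturality x
    simp only [Functor.comp_map] at hn
    simp only [Function.comp_apply, Iso.homCongr_apply, Iso.app_inv, Iso.symm_hom, Functor.map_comp,
      Category.assoc]
    rw [reassoc_of% hn]
  haveI := S3630.result X P Δ
  exact bijective_shift (Dual3.pushD Δ) _
    (bijective_of_quasiCoherent Δ (pcStr_of_locallyNoetherian Δ) hone hL lo _ hQ) N n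

end Groth.Agent.LeadBrown
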