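import Groth.Agent.H17.ExtRegVanish.Regular
import Groth.Agent.H16Derived.Thomason.Adj
import Groth.Agent.H16Derived.GenAmple
import Mathlib.CategoryTheory.Abelian.Basic

/-!
# Multiplication by global functions on `D(O_X)`
-/

set_option autoImplicit false
set_option linter.style.haveILetI false

universe u

open CategoryTheory CategoryTheory.Limits AlgebraicGeometry

attribute [local instance] HasDerivedCategory.standard

namespace Groth.Agent.LeadBrown

open Groth.Agent.H16Derived.Thomason Groth.Agent.H16Derived.KFlat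
open Groth.Agent.H16Derived.KFlat.Stalk (rpushUnit isIso_rpushUnit rd)
open Groth.Agent.H17.ExtRegVanish

variable {X Y : Scheme.{u}}

/-- Multiplication by `r` on complexes. -/
noncomputable def muC (r : Γ(X, ⊤)) (C : CochainComplex X.Modules ℤ) : C ⟶ C where
  f i := mulEnd r (C.X i)
  comm' i j _ := (mulEnd_natural r (C.d i j)).symm

/-- Multiplication by `r`, before localization. -/
noncomputable def muQ (r : Γ(X, ⊤)) :
    (DerivedCategory.Q : CochainComplex X.Modules ℤ ⥤ DCoh.D X) ⟶ DerivedCategory.Q where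
  app C := DerivedCategory.Q.map (muC r C)
  naturality C C' f := by
    refine ((DerivedCategory.Q).map_comp _ _).symm.trans
      ((congrArg _ ?_).trans ((DerivedCategory.Q).map_comp _ _))
    exact HomologicalComplex.Hom.ext (funext fun i => mulEnd_natural r (f.f i))

/-- Multiplication by `r` on the derived category. -/
noncomputable def mu (r : Γ(X, ⊤)) : 𝟭 (DCoh.D X) ⟶ 𝟭 (DCoh.D X) :=
  letI : Localization.Lifting (DerivedCategory.Q (C := X.Modules))
      (HomologicalComplex.quasiIso X.Modules (ComplexShape.up ℤ))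
      (DerivedCategory.Q (C := X.Modules)) (𝟭 (DCoh.D X)) := ⟨Functor.rightUnitor _⟩
  Localization.liftNatTrans DerivedCategory.Q (HomologicalComplex.quasiIso X.Modules (ComplexShape.up ℤ))
    DerivedCategory.Q DerivedCategory.Q _ _ (muQ r)

theorem mu_Q (r : Γ(X, ⊤)) (C : CochainComplex X.Modules ℤ) :
    (mu r).app (DerivedCategory.Q.obj C) = DerivedCategory.Q.map (muC r C) := by
  rw [mu, Localization.liftNatTrans_app]
  exact (Category.id_comp _).trans (Category.comp_id _)

theorem mu_naturality (r : Γ(X, ⊤)) {E F : DCoh.D X} (φ : E ⟶ F) :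
    φ ≫ (mu r).app F = (mu r).app E ≫ φ :=
  (mu r).naturality φ

theorem restrict_mulEnd {U : Scheme.{u}} (j : U ⟶ X) [IsOpenImmersion j] (r : Γ(X, ⊤)) (M : X.Modules) :
    (Scheme.Modules.restrictFunctor j).map (mulEnd r M) =
      mulEnd (j.appTop r) ((Scheme.Modules.restrictFunctor j).obj M) := by
  refine Scheme.Modules.hom_ext _ _ fun W => ?_
  ext m
  show res (j ''ᵁ W) r • (show Γ(M, j ''ᵁ W) from m) =
    (j.appIso W).inv (res W (j.appTop r)) • (show Γ(M, j ''ᵁ W) from m)
  refine congrArg (· • (show Γ(M, j ''ᵁ W) from m)) ?_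
  refine ((ConcreteCategory.congr_hom (j.appIso W).hom_inv_id (res (j ''ᵁ W) r)).symm.trans ?_)
  refine congrArg (j.appIso W).inv.hom ?_
  rw [Scheme.Hom.appIso_hom']
  have h1 := ConcreteCategory.congr_hom (j.map_appLE (j.preimage_image_eq W).ge (homOfLE (le_top : j ''ᵁ W ≤ ⊤)).op) r
  exact h1

/-- Restriction commutes with multiplication. -/
theorem rd_mu {U : Scheme.{u}} (j : U ⟶ X) [IsOpenImmersion j] (r : Γ(X, ⊤)) (E : DCoh.D X) :
    (rd j).map ((mu r).app E) = (mu (j.appTop r)).app ((rd j).obj E) := by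
  obtain ⟨C, ⟨e⟩⟩ : ∃ C : CochainComplex X.Modules ℤ, Nonempty (DerivedCategory.Q.obj C ≅ E) :=
    ⟨_, ⟨DerivedCategory.Q.objObjPreimageIso E⟩⟩
  have key : (rd j).map ((mu r).app (DerivedCategory.Q.obj C)) =
      (mu (j.appTop r)).app ((rd j).obj (DerivedCategory.Q.obj C)) := by
    let fac := (Scheme.Modules.restrictFunctor j).mapDerivedCategoryFactors
    rw [mu_Q, ← cancel_mono (fac.hom.app C)]
    refine (fac.hom.naturality (muC r C)).trans ?_
    refine Eq.trans ?_ (mu_naturality (j.appTop r) (fac.hom.app C))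
    refine congrArg (fac.hom.app C ≫ ·) (Eq.trans ?_ (mu_Q _ _).symm)
    exact congrArg DerivedCategory.Q.map
      (HomologicalComplex.Hom.ext (funext fun i => restrict_mulEnd j r (C.X i)))
  rw [← cancel_epi ((rd j).map e.hom), ← Functor.map_comp, mu_naturality, Functor.map_comp, key]
  exact (mu_naturality _ _).symm

/-- Direct image commutes with multiplication. -/
theorem push_mulEnd (f : X ⟶ Y) (r : Γ(Y, ⊤)) (M : X.Modules) :
    (Scheme.Modules.pushforward f).map (mulEnd (f.appTop r) M) =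
      mulEnd r ((Scheme.Modules.pushforward f).obj M) := by
  refine Scheme.Modules.hom_ext _ _ fun W => ?_
  ext m
  show res (f ⁻¹ᵁ W) (f.appTop r) • (show Γ(M, f ⁻¹ᵁ W) from m) =
    f.app W (res W r) • (show Γ(M, f ⁻¹ᵁ W) from m)
  refine congrArg (· • (show Γ(M, f ⁻¹ᵁ W) from m)) ?_
  exact (ConcreteCategory.congr_hom (f.naturality (homOfLE (le_top : W ≤ ⊤)).op) r).symm

/-- `Rf_*` commutes with multiplication. -/
theorem rpush_mu (f : X ⟶ Y) [DCoh.HasRpush f] (r : Γ(Y, ⊤)) (E : DCoh.D X) :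
    (DCoh.Rpush f).map ((mu (f.appTop r)).app E) = (mu r).app ((DCoh.Rpush f).obj E) := by
  obtain ⟨I, hI, -, ⟨e⟩⟩ := Groth.Agent.H16Derived.MVPush.exists_rep E
  haveI := hI
  have key : (DCoh.Rpush f).map ((mu (f.appTop r)).app (DerivedCategory.Q.obj I)) =
      (mu r).app ((DCoh.Rpush f).obj (DerivedCategory.Q.obj I)) := by
    haveI := isIso_rpushUnit f I
    let K := HomotopyCategory.quotient X.Modules (ComplexShape.up ℤ)
    let v := (rpushUnit f).app (K.obj I)
    haveI : IsIso v := inferInstanceAs (IsIso ((rpushUnit f).app (K.obj I)))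
    rw [mu_Q]
    refine (cancel_epi v).1 ?_
    refine Eq.trans ((rpushUnit f).naturality (K.map (muC (f.appTop r) I))).symm ?_
    refine Eq.trans ?_ (mu_naturality r v).symm
    refine congrArg (· ≫ v) (Eq.trans ?_ (mu_Q r _).symm)
    exact congrArg DerivedCategory.Q.map
      (HomologicalComplex.Hom.ext (funext fun i => push_mulEnd f r (I.X i)))
  rw [← cancel_epi ((DCoh.Rpush f).map e.hom), ← Functor.map_comp, mu_naturality, Functor.map_comp, key]
  exact (mu_naturality _ _).symm

theorem mulEnd_comp (a b : Γ(X, ⊤)) (M : X.Modules) : mulEnd a M ≫ mulEnd b M = mulEnd (b * a) M := by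
  refine Scheme.Modules.hom_ext _ _ fun W => ?_
  ext m
  show res W b • (res W a • m) = res W (b * a) • m
  rw [smul_smul, res, res, res, map_mul]

theorem mulEnd_one (M : X.Modules) : mulEnd 1 M = 𝟙 M := by
  refine Scheme.Modules.hom_ext _ _ fun W => ?_
  ext m
  show res W 1 • m = m
  rw [res, map_one, one_smul]

/-- Units act invertibly. -/
theorem isIso_mu {r : Γ(X, ⊤)} (hr : IsUnit r) (E : DCoh.D X) : IsIso ((mu r).app E) := by
  obtain ⟨C, ⟨e⟩⟩ : ∃ C : CochainComplex X.Modules ℤ, Nonempty (DerivedCategory.Q.obj C ≅ E) :=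
    ⟨_, ⟨DerivedCategory.Q.objObjPreimageIso E⟩⟩
  refine (NatTrans.isIso_app_iff_of_iso (mu r) e).1 ?_
  rw [mu_Q]
  obtain ⟨u, rfl⟩ := hr
  haveI : ∀ n, IsIso ((muC (u : Γ(X, ⊤)) C).f n) := fun n =>
    ⟨mulEnd ((u⁻¹ : (Γ(X, ⊤))ˣ) : Γ(X, ⊤)) (C.X n),
      (mulEnd_comp _ _ _).trans (by rw [Units.inv_mul, mulEnd_one]),
      (mulEnd_comp _ _ _).trans (by rw [Units.mul_inv, mulEnd_one])⟩
  haveI : IsIso (muC (u : Γ(X, ⊤)) C) := HomologicalComplex.Hom.isIso_of_components _
  infer_instance

/-- A function is invertible on its basic open. -/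
theorem isUnit_appTop_basicOpen (r : Γ(X, ⊤)) : IsUnit ((X.basicOpen r).ι.appTop r) := by
  haveI h : IsUnit (X.presheaf.map (homOfLE (X.basicOpen_le r)).op r) :=
    RingedSpace.isUnit_res_basicOpen _ r
  rw [Scheme.Opens.ι_appTop]
  have h2 := h.map ((X.presheaf.map (eqToHom (Scheme.Opens.ι_image_top (X.basicOpen r))).op).hom)
  rw [← CommRingCat.comp_apply, ← Functor.map_comp] at h2
  exact h2

/-- Multiplication on cohomology sheaves. -/
theorem hd_mu (r : Γ(X, ⊤)) (E : DCoh.D X) (m : ℤ) :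
    (DerivedCategory.homologyFunctor X.Modules m).map ((mu r).app E) = mulEnd r (DCoh.HD E m) := by
  obtain ⟨C, ⟨e⟩⟩ : ∃ C : CochainComplex X.Modules ℤ, Nonempty (DerivedCategory.Q.obj C ≅ E) :=
    ⟨_, ⟨DerivedCategory.Q.objObjPreimageIso E⟩⟩
  let H := DerivedCategory.homologyFunctor X.Modules m
  have key : H.map ((mu r).app (DerivedCategory.Q.obj C)) = mulEnd r (H.obj (DerivedCategory.Q.obj C)) := by
    let φ := DerivedCategory.homologyFunctorFactors X.Modules m
    rw [mu_Q, ← cancel_mono (φ.hom.app C)]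
    refine (φ.hom.naturality (muC r C)).trans ?_
    refine Eq.trans ?_ (mulEnd_natural r (φ.hom.app C))
    refine congrArg (φ.hom.app C ≫ ·) ?_
    refine Eq.symm ((NatTrans.app_homology (mulNat r) (C.sc m)).trans ?_)
    have hi := Groth.Agent.H16Derived.GenAmple.mapHomologyIso_id_inv (C.sc m)
    have hh : ((C.sc m).mapHomologyIso (𝟭 X.Modules)).hom = 𝟙 _ := by
      have h2 := ((C.sc m).mapHomologyIso (𝟭 X.Modules)).hom_inv_id
      rw [hi] at h2
      exact (Category.comp_id _).symm.trans h2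
    refine ((congrArg (· ≫ _) hi).trans (Category.id_comp _)).trans ?_
    exact ((congrArg (_ ≫ ·) hh).trans (Category.comp_id _)).trans rfl
  rw [← cancel_epi (H.map e.hom), ← Functor.map_comp, mu_naturality, Functor.map_comp, key]
  exact (mulEnd_natural r _).symm

end Groth.Agent.LeadBrown
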