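import Groth.Agent.LeadBrown.LocalModel
import Groth.Agent.LeadBrown.FiniteDual
import Groth.Agent.LeadBrown.ShriekBC
import Groth.Agent.LeadBrown.AdjointLE
import Groth.Agent.H16Derived.Dual.BiDual
import Groth.Agent.H8Props.PushClosedBasic
import Groth.Agent.H8Props.RpushAffine

/-!
# When is `O ⟶ RHom(ω, ω)` invertible
-/

set_option autoImplicit false
set_option linter.style.haveILetI false
set_option linter.unusedSectionVars false

universe u

open CategoryTheory CategoryTheory.Limits AlgebraicGeometry CategoryTheory.Pretriangulated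

attribute [local instance] HasDerivedCategory.standard

namespace Groth.Agent.LeadBrown

open Groth.Agent.H16Derived Groth.Agent.H16Derived.QCohD
open Groth.Agent.H16Derived.KFlat.Stalk (rd hasLpull)
open Groth.Agent.H16Derived.Dual (T R ro one σ θIso rightUnit oneIso evaluationIso)
open DerivedCategory.TStructure (t)

variable {X : Scheme.{u}}

/-- An adjoint of an isomorphism into an object isomorphic to a unit with commutative endomorphisms is invertible. -/
theorem isIso_homEquiv {C D : Type*} [Category C] [Category D] {F : C ⥤ D} {G : D ⥤ C} (adj : F ⊣ G)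
    {o : C} (hcomm : ∀ p q : o ⟶ o, p ≫ q = q ≫ p) {L : D} (υ : F.obj o ≅ L) (u : o ≅ G.obj L) :
    IsIso ((adj.homEquiv o L) υ.hom) := by
  let η := (adj.homEquiv o L) υ.hom
  let e : L ⟶ L := υ.inv ≫ (adj.homEquiv o L).symm u.hom
  have h1 : η ≫ G.map e = u.hom := by
    rw [← adj.homEquiv_naturality_right, Iso.hom_inv_id_assoc, Equiv.apply_symm_apply]
  let r : o ⟶ o := η ≫ u.inv
  let s : o ⟶ o := u.hom ≫ G.map e ≫ u.inv
  have h2 : r ≫ s = 𝟙 o := by
    simp only [r, s, Category.assoc, Iso.inv_hom_id_assoc]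
    rw [← Category.assoc η, h1, Iso.hom_inv_id]
  haveI : IsIso r := ⟨s, h2, (hcomm s r).trans h2⟩
  have h3 : η = r ≫ u.hom := by simp [r]
  show IsIso η
  rw [h3]
  infer_instance

theorem one_end_comm (p q : one X ⟶ one X) : p ≫ q = q ≫ p := by
  have h := PnD.inD_end_comm (oneIso.hom ≫ p ≫ oneIso.inv) (oneIso.hom ≫ q ≫ oneIso.inv)
  simp only [Category.assoc, Iso.inv_hom_id_assoc] at h
  have h' := congrArg (fun z => oneIso.inv ≫ z ≫ oneIso.hom) h
  simpa using h'

/-- The unit maps restrict to unit maps. -/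
theorem lpull_unit_wR {X' : Scheme.{u}} (g : X' ⟶ X) [DCoh.HasLpull g] [DCoh.HasRpush g] (k L G : DCoh.D X)
    (υ : ((T X).obj k).obj G ⟶ L) :
    (DCoh.Lpull g).map (((adjS k).homEquiv G L) υ) ≫ wR g k L =
      ((adjS _).homEquiv _ _) ((cT g k G).inv ≫ (DCoh.Lpull g).map υ) := by
  apply ((adjS _).homEquiv _ _).symm.injective
  rw [Equiv.symm_apply_apply, adjS_symm_wR]
  have hr := cT_naturality_right g k (((adjS k).homEquiv G L) υ)
  rw [← cancel_epi (cT g k G).hom, ← reassoc_of% hr, Iso.hom_inv_id_assoc, ← Functor.map_comp, ← adjS_symm_eq,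
    Equiv.symm_apply_apply, Iso.hom_inv_id_assoc]

/-- A map invertible on an open cover is invertible. -/
theorem isIso_of_isIso_rd_cover {E E' : DCoh.D X} (φ : E ⟶ E')
    (h : ∀ x : X, ∃ (U : Scheme.{u}) (j : U ⟶ X) (_ : IsOpenImmersion j), x ∈ Set.range j.base ∧ IsIso ((rd j).map φ)) :
    IsIso φ := by
  obtain ⟨C, a, b, hT⟩ := distinguished_cocone_triangle φ
  refine (Triangle.isZero₃_iff_isIso₁ _ hT).1 (Thomason.isZero_of_suppIn_empty fun i y hy => ?_)
  obtain ⟨U, j, hj, hy', hiso⟩ := h y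
  exact ((isZero_rd_iff j C).1 ((Triangle.isZero₃_iff_isIso₁ _ ((rd j).map_distinguished _ hT)).2 hiso) i hy) hy'

/-- `O ⟶ RHom(k, L)` is invertible when `RHom(k, L)` is locally trivial. -/
theorem isIso_unit [IsNoetherian X] {k L : DCoh.D X} (hk : ∀ m : ℤ, DCoh.IsPseudoCoherentD m k) (lo : ℤ)
    [L.IsGE lo] (υ : ((T X).obj k).obj (one X) ≅ L)
    (h : ∀ x : X, ∃ (U : Scheme.{u}) (j : U ⟶ X) (_ : IsOpenImmersion j), x ∈ Set.range j.base ∧
      Nonempty (one U ≅ (R ((rd j).obj k)).obj ((rd j).obj L))) :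
    IsIso (((adjS k).homEquiv (one X) L) υ.hom) := by
  refine isIso_of_isIso_rd_cover _ fun x => ?_
  obtain ⟨U, j, hj, hx, ⟨u⟩⟩ := h x
  refine ⟨U, j, hj, hx, ?_⟩
  haveI := hasLpull j
  haveI : QuasiCompact j := inferInstance
  haveI := QCohD.hasRpush j
  let ρ := rdIsoLpull j
  refine (NatIso.isIso_map_iff ρ _).2 ?_
  haveI := isIso_wR_pseudoCoherent j 0 (fun M a hM => by rw [sub_zero]; exact isGE_lpull_flat j M a hM) hk L lo
  obtain ⟨e₁⟩ := nonempty_lpull_single j 0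
  let eo : (DCoh.Lpull j).obj (one X) ≅ one U := (DCoh.Lpull j).mapIso oneIso.symm ≪≫ e₁ ≪≫ oneIso
  have hcomm : ∀ p q : (DCoh.Lpull j).obj (one X) ⟶ (DCoh.Lpull j).obj (one X), p ≫ q = q ≫ p := fun p q => by
    have h := one_end_comm (eo.inv ≫ p ≫ eo.hom) (eo.inv ≫ q ≫ eo.hom)
    simp only [Category.assoc, Iso.hom_inv_id_assoc] at h
    have h' := congrArg (fun z => eo.hom ≫ z ≫ eo.inv) h
    simpa using h'
  haveI := isIso_homEquiv (adjS ((DCoh.Lpull j).obj k)) hcomm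
    ((cT j k (one X)).symm ≪≫ (DCoh.Lpull j).mapIso υ)
    (eo ≪≫ u ≪≫ (Dual.RIso (ρ.app k)).app _ ≪≫ (R _).mapIso (ρ.app L))
  have hh := lpull_unit_wR j k L (one X) υ.hom
  haveI : IsIso ((DCoh.Lpull j).map (((adjS k).homEquiv (one X) L) υ.hom) ≫ wR j k L) := by
    rw [hh]
    exact ‹IsIso (((adjS ((DCoh.Lpull j).obj k)).homEquiv _ _) ((cT j k (one X)).symm ≪≫ (DCoh.Lpull j).mapIso υ).hom)›
  exact IsIso.of_isIso_comp_right _ (wR j k L)

/-- Locally trivial `RHom(ω, ω)` makes every adjoint of an identification `O ⊗ ω ≅ ω` invertible. -/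
theorem isIso_RSheafHom_unit [IsNoetherian X] (E : CochainComplex X.Modules ℤ) [DCoh.HasLTensorCx E]
    [DCoh.HasRSheafHom E] (hk : ∀ m : ℤ, DCoh.IsPseudoCoherentD m (DCoh.toD X E)) (lo : ℤ)
    (hlo : (DCoh.toD X E).IsGE lo)
    (h : ∀ x : X, ∃ (U : Scheme.{u}) (j : U ⟶ X) (_ : IsOpenImmersion j), x ∈ Set.range j.base ∧
      Nonempty (one U ≅ (R ((rd j).obj (DCoh.toD X E))).obj ((rd j).obj (DCoh.toD X E))))
    (υ : (DCoh.LTensorCx E).obj (DCoh.inD X (Coh.structureModule X)) ≅ DCoh.toD X E) :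
    IsIso (((DCoh.RSheafHomAdj E).homEquiv (DCoh.inD X (Coh.structureModule X)) (DCoh.toD X E)) υ.hom) := by
  haveI := hlo
  let ω := DCoh.toD X E
  let ρ : ((T X).obj ω).obj (one X) ≅ ω := (rightUnit X).app ω
  haveI := isIso_unit hk lo ρ h
  let u : DCoh.inD X (Coh.structureModule X) ≅ (DCoh.RSheafHom E).obj ω :=
    oneIso ≪≫ asIso (((adjS ω).homEquiv (one X) ω) ρ.hom) ≪≫
      ((Dual.rsheafHomIso E).app ω).symm
  exact isIso_homEquiv _ PnD.inD_end_comm υ u

/-- Derived tensor products of perfect objects are perfect. -/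
theorem isPerfect_TObj {K L : DCoh.D X} (hK : DCoh.IsPerfect K) (hL : DCoh.IsPerfect L) :
    DCoh.IsPerfect (((T X).obj K).obj L) := by
  obtain ⟨P, hP, ⟨e⟩⟩ := KFlat.Stalk.exists_kflat_rep L
  haveI := KFlat.Stalk.hasLTensorCx P
  exact KFlat.Stalk.isPerfect_of_iso
    (((Dual.ltensorCxIsoT P).app K).symm ≪≫ ((T X).obj K).mapIso e)
    (KFlat.Stalk.isPerfect_ltensorCx P ((KFlat.Stalk.isKFlat_iff' P).2 hP) (KFlat.Stalk.isPerfect_of_iso e.symm hL) hK)

/-- A quasi-coherent object with the direct image of `O` along a closed immersion is `O`. -/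
theorem nonempty_iso_one_of_rpush {U W : Scheme.{u}} (i : U ⟶ W) [IsClosedImmersion i] [DCoh.HasRpush i]
    {E : DCoh.D U} (e : (DCoh.Rpush i).obj E ≅ (DCoh.Rpush i).obj (one U)) :
    Nonempty (one U ≅ E) := by
  haveI : PreservesFiniteLimits (Scheme.Modules.pushforward i) := inferInstance
  obtain ⟨a⟩ := H8Props.RpushAffine.nonempty_rpush_closed i E
  obtain ⟨b⟩ := H8Props.RpushAffine.nonempty_rpush_closed i (one U)
  let F := Scheme.Modules.pullback i
  let c : ∀ M : U.Modules, F.obj ((Scheme.Modules.pushforward i).obj M) ≅ M := fun M =>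
    haveI := ProjFormula.isIso_counit_of_isClosedImmersion i M
    asIso ((Scheme.Modules.pullbackPushforwardAdjunction i).counit.app M)
  let H : ∀ m : ℤ, DCoh.HD E m ≅ DCoh.HD (one U) m := fun m =>
    (c _).symm ≪≫ F.mapIso ((H8Props.PushPC.hdPushD i E m).symm ≪≫
      (DerivedCategory.homologyFunctor W.Modules m).mapIso (a.symm ≪≫ e ≪≫ b) ≪≫
        H8Props.PushPC.hdPushD i (one U) m) ≪≫ c _
  let s : (DerivedCategory.singleFunctor U.Modules 0).obj (Coh.structureModule U) ≅ one U := oneIso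
  haveI : t.IsGE (one U) 0 := t.isGE_of_iso s 0
  haveI : t.IsLE (one U) 0 := t.isLE_of_iso s 0
  haveI : E.IsGE 0 := (DerivedCategory.isGE_iff E 0).2 fun m hm =>
    (DerivedCategory.isZero_of_isGE (one U) 0 m hm).of_iso (H m)
  haveI : E.IsLE 0 := (DerivedCategory.isLE_iff E 0).2 fun m hm =>
    (DerivedCategory.isZero_of_isLE (one U) 0 m hm).of_iso (H m)
  obtain ⟨N, ⟨eN⟩⟩ := DerivedCategory.exists_iso_singleFunctor_obj_of_isGE_of_isLE E 0
  let sF := DerivedCategory.singleFunctorCompHomologyFunctorIso U.Modules 0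
  exact ⟨s.symm ≪≫ (DerivedCategory.singleFunctor U.Modules 0).mapIso ((sF.app _).symm ≪≫
    (DerivedCategory.homologyFunctor U.Modules 0).mapIso s ≪≫ (H 0).symm ≪≫
    (DerivedCategory.homologyFunctor U.Modules 0).mapIso eN ≪≫ sF.app N) ≪≫ eN.symm⟩

/-- `RHom(one[n], one[n]) ≅ one`. -/
theorem nonempty_R_shift_one (n : ℤ) :
    Nonempty (one X ≅ (R ((DCoh.inD X (Coh.structureModule X))⟦n⟧)).obj ((DCoh.inD X (Coh.structureModule X))⟦n⟧)) := by
  let e : (DCoh.inD X (Coh.structureModule X))⟦n⟧ ≅ Dual.o X n :=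
    (shiftFunctor (DCoh.D X) n).mapIso oneIso ≪≫ ((DerivedCategory.Q.commShiftIso n).app (Dual.S₀ X)).symm
  haveI : IsIso ((Dual.adjR (Dual.o X n)).unit.app (one X)) := inferInstance
  exact ⟨asIso ((Dual.adjR (Dual.o X n)).unit.app (one X)) ≪≫
    (R (Dual.o X n)).mapIso (σ (one X) (Dual.o X n) ≪≫ (rightUnit X).app (Dual.o X n) ≪≫ e.symm) ≪≫
    (Dual.RIso e.symm).app _⟩

/-- In a chart `ω` has trivial `RHom(ω, ω)`. -/
theorem nonempty_one_iso_R_chart {U W : Scheme.{u}} [IsAffine W] [IsNoetherian W] (i : U ⟶ W)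
    [IsClosedImmersion i] [DCoh.HasRpush i] {hi : DCoh.RpushPreservesQCoh i}
    {b : DCoh.DQCoh W ⥤ DCoh.DQCoh U} (adj : DCoh.RpushQ i hi ⊣ b)
    (hK : DCoh.IsPerfect ((DCoh.Rpush i).obj (one U))) (M : DCoh.DQCoh W) (n : ℤ)
    (eM : M.obj ≅ (DCoh.inD W (Coh.structureModule W))⟦n⟧) :
    Nonempty (one U ≅ (R (b.obj M).obj).obj (b.obj M).obj) := by
  haveI : CompactSpace U := QuasiCompact.compactSpace_of_compactSpace i
  haveI : QuasiSeparatedSpace U := quasiSeparatedSpace_of_quasiSeparated i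
  haveI : IsLocallyNoetherian U := LocallyOfFiniteType.isLocallyNoetherian i
  haveI : IsNoetherian U := { }
  haveI := hasLpull i
  let K := (DCoh.Rpush i).obj (one U)
  have hM : DCoh.IsPerfect M.obj :=
    KFlat.Stalk.isPerfect_of_iso eM.symm (KFlat.Stalk.isPerfect_shift (PnD.isPerfect_one W) n)
  haveI : ((DCoh.inD W (Coh.structureModule W))⟦n⟧).IsGE (-n) := t.isGE_shift _ 0 n (-n) (by omega)
  haveI hMge : M.obj.IsGE (-n) := t.isGE_of_iso eM.symm (-n)
  haveI := isIso_dualTrans i adj M (isQCohD_R_perfect hK M.property)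
  let d : (DCoh.Rpush i).obj (b.obj M).obj ≅ (R K).obj M.obj := asIso ((dualTrans i adj).app M)
  have hd : DCoh.IsPerfect ((DCoh.Rpush i).obj (b.obj M).obj) :=
    KFlat.Stalk.isPerfect_of_iso (θIso hK M.obj ≪≫ d.symm) (isPerfect_TObj hM (Dual.isPerfect_ro hK))
  obtain ⟨lo, hlo⟩ := exists_isGE adj M (-n) hMge
  have hcoh : DCoh.IsCohD (b.obj M).obj := isCohD_rightAdjoint i adj M (-n) hMge
    (KFlat.Stalk.isCohD_and_bounded_of_isPerfect hM).1
  obtain ⟨-, -, hi', -, hb⟩ := KFlat.Stalk.isCohD_and_bounded_of_isPerfect hd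
  haveI : (b.obj M).obj.IsLE hi' := isLE_of_rpush_affine i (b.obj M).property hi' hb
  have hpc : ∀ m : ℤ, DCoh.IsPseudoCoherentD m (b.obj M).obj := fun m => Dual.isPseudoCoherentD_of_isCohD hi' hcoh m
  haveI := hlo
  haveI : DerivedCategory.IsGE (b.obj M).obj lo := hlo
  haveI := isIso_alphaR i (b.obj M).property (adj.counit.app M).hom (universal_trace adj M)
    (hi _ (Dual.isQCohD_R hpc (L := (b.obj M).obj) (b.obj M).property lo)) (isQCohD_R_perfect hd M.property)
  obtain ⟨v⟩ := nonempty_R_shift_one (X := W) n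
  exact nonempty_iso_one_of_rpush i
    (asIso (alphaR i (b.obj M).obj (adj.counit.app M).hom) ≪≫ (Dual.RIso d).app M.obj ≪≫
      (evaluationIso hK M.obj M.obj).symm ≪≫
      ((T W).mapIso ((Dual.RIso eM).app _ ≪≫ (R _).mapIso eM ≪≫ v.symm)).app K ≪≫
      σ (one W) K ≪≫ (rightUnit W).app K)

end Groth.Agent.LeadBrown
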