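import Groth.Agent.LeadBrown.RegChartCodim
import Groth.Agent.LeadBrown.ClosedHomO2
import Groth.Agent.H15Site.RDerPlus
import Groth.Agent.H10Inj.SheafExt.ChangeRings
import Groth.Agent.H17.FLI.Main
import Groth.Agent.H17.EdgeIso.Main
import Groth.Agent.H28Int.Dual
import Groth.Agent.S3630

/-!
# `Δ^!` of a quasi-coherent module for a regular immersion
-/

set_option autoImplicit false
set_option linter.style.haveILetI false
set_option linter.unusedSectionVars false
set_option backward.isDefEq.respectTransparency false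
set_option synthInstance.maxHeartbeats 400000
set_option maxHeartbeats 1000000

universe u

open CategoryTheory CategoryTheory.Limits AlgebraicGeometry

attribute [local instance] HasDerivedCategory.standard

namespace Groth.Agent.LeadBrown

open Groth.Agent.H16Derived Groth.Agent.H10Inj.SheafExt

/-- `𝓗om(O, -)` is the identity. -/
noncomputable def homFunctorUnitIso (X : Scheme.{u}) :
    homFunctor (Coh.structureModule X) ≅ 𝟭 X.Modules :=
  ((homAdj (Coh.structureModule X)).ofNatIsoLeft (H28Int.tensorLeftUnitIso (X := X))).rightAdjointUniq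
    Adjunction.id

variable {X P : Scheme.{u}} [IsNoetherian P] (Δ : X ⟶ P) [IsClosedImmersion Δ] {n : ℕ}

/-- `i^! = 𝓗om(O_X, -)`. -/
noncomputable def changeUnitIso [Dual3.HasHomO Δ] :
    changeFunctor Δ (Coh.structureModule X) ≅ Dual3.homO Δ :=
  Functor.isoWhiskerLeft (shriek Δ) (homFunctorUnitIso X) ≪≫ Functor.rightUnitor _ ≪≫
    (shriekAdj Δ).rightAdjointUniq (Dual3.homOAdj Δ)

variable [DCoh.HasRpush Δ] {hΔ : DCoh.RpushPreservesQCoh Δ} {b : DCoh.DQCoh P ⥤ DCoh.DQCoh X}

/-- The dualizing module of a regular immersion with values in `F`. -/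
theorem nonempty_homSh_of_rightAdjoint (adjb : DCoh.RpushQ Δ hΔ ⊣ b)
    (hi : RegImm.IsRegularImmersionOfCodim .regular n Δ) (F : P.Modules) (M : X.Modules) (Fq : DCoh.DQCoh P)
    (eF : Fq.obj ≅ (DCoh.inD P F)⟦(n : ℤ)⟧) (e : (b.obj Fq).obj ≅ DCoh.inD X M) (L : X.Modules)
    (hL : ExtPow.IsExtPow n (Omega.conormal Δ) L) :
    Nonempty (RefHull.homSh L ((Scheme.Modules.pullback Δ).obj F) ≅ M) := by
  haveI : Dual3.HasHomO Δ := S3630.result X P Δ
  haveI := KFlat.Stalk.isGrothendieckAbelian_modules (X := P)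
  haveI := ExactRightAdj.hasPointwise (F := Dual3.homO Δ)
  haveI : (ProjFormula.push Δ).PreservesHomology := ProjFormula.preservesHomology_push Δ
  haveI : PreservesFiniteColimits (Scheme.Modules.pushforward Δ) :=
    (ProjFormula.push Δ).preservesFiniteColimits_of_preservesHomology
  haveI : PreservesFiniteLimits (Scheme.Modules.pushforward Δ) :=
    (ProjFormula.push Δ).preservesFiniteLimits_of_preservesHomology
  haveI : CompactSpace X := QuasiCompact.compactSpace_of_compactSpace Δ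
  haveI : QuasiSeparatedSpace X := quasiSeparatedSpace_of_quasiSeparated Δ
  let G := ExactRightAdj.RF (Dual3.homO Δ)
  let adjG : Dual3.pushD Δ ⊣ G := ExactRightAdj.adjD (Dual3.homOAdj Δ)
  haveI hge : DerivedCategory.IsGE Fq.obj (-(n : ℤ)) :=
    haveI : (DCoh.inD P F).IsGE 0 := inferInstance
    haveI : ((DCoh.inD P F)⟦(n : ℤ)⟧).IsGE (-(n : ℤ)) :=
      DerivedCategory.TStructure.t.isGE_shift (DCoh.inD P F) 0 (n : ℤ) (-(n : ℤ)) (by omega)
    DerivedCategory.TStructure.t.isGE_of_iso eF.symm _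
  obtain ⟨ι⟩ := nonempty_rightAdjointQ_iso Δ adjG (pcStr_of_locallyNoetherian Δ) adjb
  letI := adjG.rightAdjointCommShift ℤ
  let eG : (G.obj (DCoh.inD P F))⟦(n : ℤ)⟧ ≅ DCoh.inD X M :=
    ((G.commShiftIso (n : ℤ)).app _).symm ≪≫ G.mapIso eF.symm ≪≫
      (ι.app (⟨Fq, ⟨-(n : ℤ), hge⟩⟩ : (Dual3.IsBddBelowQ P).FullSubcategory)).symm ≪≫ e
  obtain ⟨h₀⟩ := H15Site.RDerPlus.nonempty_homology_single_iso (Dual3.homO Δ) F n
  let eM : ((Dual3.homO Δ).rightDerived n).obj F ≅ M :=
    h₀.symm ≪≫ (((DerivedCategory.homologyFunctor X.Modules 0).shiftIso (n : ℤ) 0 (n : ℤ) (by omega)).app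
      (G.obj (DCoh.inD P F))).symm ≪≫ (DerivedCategory.homologyFunctor X.Modules 0).mapIso eG ≪≫
      (DerivedCategory.singleFunctorCompHomologyFunctorIso X.Modules 0).app M
  haveI := H17.EdgeIso.hasSheafHom L
  haveI := H17.EdgeIso.hasSheafHom (H17.FLI.O' Δ)
  haveI : HasInjectiveResolutions (ModSite.Mod P.sheaf) := (inferInstance : HasInjectiveResolutions P.Modules)
  obtain ⟨eFLI⟩ := H17.FLI.nonempty_extSh_iso Δ hi F hL
  obtain ⟨ec⟩ := nonempty_rightDerived_change Δ (Coh.structureModule X) F n _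
    (eFLI.symm ≪≫ extShIso (H17.FLI.O' Δ) n F)
  exact ⟨((modSiteHomIso L).app _).symm ≪≫ ec.symm ≪≫
    (H02CA.ModLocalise.rdMapIso (changeUnitIso Δ) n).app F ≪≫ eM⟩

end Groth.Agent.LeadBrown
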