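import Groth.Agent.LeadBrown.ShriekDiag
import Groth.Agent.LeadBrown.ShriekBC
import Groth.Agent.LeadBrown.Rigidity
import Groth.Agent.H17.FLI.AdjunctionGen
import Groth.Agent.H17.FLI.TopForms
import Groth.Agent.H17.DiagTensor.Derived
import Groth.Agent.H16Derived.KFlat.PerfConcD
import Groth.Agent.H16Derived.KFlat.PerfNoeth
import Groth.Agent.H23Para.Restrict
import Groth.Agent.H8Props.AlgSpLci.Lci

/-!
# `f^!O ≅ Ω^n[n]` for smooth morphisms
-/

set_option autoImplicit false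
set_option linter.style.haveILetI false
set_option linter.unusedSectionVars false
set_option backward.isDefEq.respectTransparency false
set_option synthInstance.maxHeartbeats 400000
set_option maxHeartbeats 2000000

universe u

open CategoryTheory CategoryTheory.Limits AlgebraicGeometry

attribute [local instance] HasDerivedCategory.standard

namespace Groth.Agent.LeadBrown

open Groth.Agent.H16Derived Groth.Agent.H10Inj.SheafExt
open Groth.Agent.H16Derived.KFlat.Stalk (rd rdComp hasLpull lpullCommShift lpullRpushAdj)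

theorem isLCIMor_of_smooth {X Y : Scheme.{u}} (f : X ⟶ Y) [Smooth f] : Dual3.IsLCIMor f := fun x => by
  obtain ⟨V, hV, hxV, -⟩ := exists_isAffineOpen_mem_and_subset (x := f x) (U := (⊤ : Y.Opens)) trivial
  obtain ⟨U, hU, hxU, hUV⟩ := exists_isAffineOpen_mem_and_subset (x := x) (U := f ⁻¹ᵁ V) hxV
  exact ⟨⟨U, hU⟩, ⟨V, hV⟩, hUV, hxU,
    (H8Props.KoszImm.isKoszulAt_chart_iff f hU hV hUV).1 fun y _ => H8Props.AlgSpLci.isKoszulAt_of_smooth f y⟩

/-- An invertible module is trivial as soon as its homomorphisms out of another are. -/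
theorem nonempty_iso_of_homSh_iso {X : Scheme.{u}} {L ω : X.Modules} (hL : PicF.IsInvertible L)
    (e : RefHull.homSh L ω ≅ Coh.structureModule X) : Nonempty (ω ≅ L) := by
  obtain ⟨L', -, ⟨e'⟩⟩ := H11Sym.exists_inverse hL
  haveI : ((DCoh.tensorBi (X := X)).obj L).IsEquivalence :=
    H15Site.Invertible.isEquivalence_of_iso_unit (O := X.sheaf) (L := L) (N := L')
      (H11Ample.tensorCommIso L L' ≪≫ e')
  haveI : IsIso (homAdj L).counit := inferInstance
  exact ⟨((asIso (homAdj L).counit).app ω).symm ≪≫ ((DCoh.tensorBi (X := X)).obj L).mapIso e ≪≫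
    H11Ample.tensorCommIso L (Coh.structureModule X) ≪≫ (H28Int.tensorLeftUnitIso (X := X)).app L⟩

variable {X S : Scheme.{u}} [IsNoetherian X] [IsNoetherian S] {n : ℕ} {f : X ⟶ S} [Dual3.IsSepFT f]

/-- The diagonal trick: `Δ^! fst^* f^!O ≅ O`. -/
theorem exists_diagonal_trick [Flat f] (c : DEt.Compactification f) [DCoh.HasRpush c.fbar]
    {hc : DCoh.RpushPreservesQCoh c.fbar} {a : DCoh.DQCoh S ⥤ DCoh.DQCoh c.Xbar}
    (adj : DCoh.RpushQ c.fbar hc ⊣ a) (O : DCoh.DQCoh S) (eO : O.obj ≅ oX S)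
    [DCoh.HasLpull (pullback.fst f f)] [DCoh.HasRpush (pullback.diagonal f)]
    (hΔ : DCoh.RpushPreservesQCoh (pullback.diagonal f)) (b : DCoh.DQCoh (pullback f f) ⥤ DCoh.DQCoh X)
    (adjb : DCoh.RpushQ (pullback.diagonal f) hΔ ⊣ b) :
    ∃ (F : DCoh.DQCoh (pullback f f)) (m : ℤ), F.obj.IsGE m ∧
      Nonempty (F.obj ≅ (DCoh.Lpull (pullback.fst f f)).obj
        (haveI := c.isOpenImmersion; (rd c.j).obj (a.obj O).obj)) ∧
      Nonempty ((b.obj F).obj ≅ oX X) := by
  haveI := c.isOpenImmersion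
  haveI := c.isProper
  haveI : CompactSpace c.Xbar := QuasiCompact.compactSpace_of_compactSpace c.fbar
  haveI : QuasiSeparatedSpace c.Xbar := quasiSeparatedSpace_of_quasiSeparated c.fbar
  let PP := pullback f f
  let Z := pullback c.fbar f
  let pr : Z ⟶ c.Xbar := pullback.fst c.fbar f
  let fb : Z ⟶ X := pullback.snd c.fbar f
  have hZ : IsPullback pr fb c.fbar f := IsPullback.of_hasPullback _ _
  haveI : CompactSpace Z := QuasiCompact.compactSpace_of_compactSpace fb
  haveI : QuasiSeparatedSpace Z := quasiSeparatedSpace_of_quasiSeparated fb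
  haveI : IsLocallyNoetherian Z := LocallyOfFiniteType.isLocallyNoetherian fb
  haveI : IsNoetherian Z := { }
  haveI : CompactSpace PP := QuasiCompact.compactSpace_of_compactSpace (pullback.snd f f)
  haveI : QuasiSeparatedSpace PP := quasiSeparatedSpace_of_quasiSeparated (pullback.snd f f)
  haveI : IsLocallyNoetherian PP := LocallyOfFiniteType.isLocallyNoetherian (pullback.snd f f)
  let j' : PP ⟶ Z := pullback.lift (pullback.fst f f ≫ c.j) (pullback.snd f f)
    (by rw [Category.assoc, c.fac, pullback.condition])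
  have hj1 : j' ≫ pr = pullback.fst f f ≫ c.j := pullback.lift_fst _ _ _
  have hj2 : j' ≫ fb = pullback.snd f f := pullback.lift_snd _ _ _
  have hjsq : IsPullback (pullback.fst f f) j' c.j pr := IsPullback.of_bot
    (by rw [hj2, c.fac]; exact IsPullback.of_hasPullback f f) hj1.symm hZ
  haveI : IsOpenImmersion j' := MorphismProperty.of_isPullback hjsq c.isOpenImmersion
  haveI : QuasiCompact pr := quasiCompact_of_compactSpace pr
  haveI : QuasiCompact c.j := quasiCompact_of_compactSpace c.j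
  haveI : QuasiCompact j' := quasiCompact_of_compactSpace j'
  haveI : QuasiCompact f := Dual3.IsSepFT.quasiCompact
  haveI : QuasiSeparated pr := (quasiSeparated_iff_quasiSeparatedSpace pr).2 inferInstance
  haveI := QCohD.hasRpush fb
  haveI := QCohD.hasRpush f
  haveI := QCohD.hasRpush pr
  haveI := QCohD.hasRpush c.j
  haveI := QCohD.hasRpush j'
  haveI := hasLpull f
  haveI := hasLpull pr
  have hfb : DCoh.RpushPreservesQCoh fb := fun K hK => QCohD.isQCohD_rpush fb hK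
  have hpr : DCoh.RpushPreservesQCoh pr := fun K hK => QCohD.isQCohD_rpush pr hK
  have hff : DCoh.RpushPreservesQCoh f := fun K hK => QCohD.isQCohD_rpush f hK
  have hLf : Dual3.LpullPreservesQCoh f := fun K hK => QCohD.isQCohD_lpull f hK
  have hLpr : Dual3.LpullPreservesQCoh pr := fun K hK => QCohD.isQCohD_lpull pr hK
  haveI := isLeftAdjoint_rpushQ fb hfb
  let aZ := (DCoh.RpushQ fb hfb).rightAdjoint
  have adjZ : DCoh.RpushQ fb hfb ⊣ aZ := Adjunction.ofIsLeftAdjoint _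
  obtain ⟨β⟩ := nonempty_bc_bdd (f := c.fbar) (f' := fb) hZ adj adjZ (adjQ f hLf hff) (adjQ pr hLpr hpr)
  haveI hOge : O.obj.IsGE 0 := DerivedCategory.TStructure.t.isGE_of_iso eO.symm 0
  let e₁ : (DCoh.Lpull pr).obj (a.obj O).obj ≅ (aZ.obj ((Dual3.LpullQ f hLf).obj O)).obj :=
    (ObjectProperty.ι DCoh.IsQCohD).mapIso
      (β.app (⟨O, ⟨0, hOge⟩⟩ : (Dual3.IsBddBelowQ S).FullSubcategory))
  obtain ⟨σ⟩ := nonempty_rd_lpull_sq c.j j' (pullback.fst f f) pr hj1.symm
  let OX := (Dual3.LpullQ f hLf).obj O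
  obtain ⟨eX₀⟩ := H17.DiagTensor.nonempty_lpull_inD f (Coh.structureModule S)
  let eX : OX.obj ≅ oX X := (DCoh.Lpull f).mapIso eO ≪≫ eX₀ ≪≫
    (DerivedCategory.singleFunctor X.Modules 0).mapIso (KFlat.Stalk.structurePullbackIso f)
  haveI hXge : OX.obj.IsGE 0 := DerivedCategory.TStructure.t.isGE_of_iso eX.symm 0
  obtain ⟨m, hm⟩ := exists_isGE adjZ OX 0 hXge
  -- the section
  let s : X ⟶ Z := pullback.lift c.j (𝟙 X) (by rw [c.fac, Category.id_comp])
  have hs : s ≫ fb = 𝟙 X := pullback.lift_snd _ _ _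
  haveI : IsClosedImmersion (s ≫ fb) := hs.symm ▸ inferInstance
  haveI : IsClosedImmersion s := IsClosedImmersion.of_comp s fb
  have hw : 𝟙 X ≫ s = pullback.diagonal f ≫ j' := by
    rw [Category.id_comp]
    refine pullback.hom_ext ?_ ?_
    · rw [pullback.lift_fst, Category.assoc, hj1, pullback.diagonal_fst_assoc]
    · rw [pullback.lift_snd, Category.assoc, hj2, pullback.diagonal_snd]
  have hrange : Set.range (𝟙 X : X ⟶ X).base = s.base ⁻¹' Set.range j'.base := by
    refine Set.eq_univ_of_forall (fun x => ?_) |>.symm |> fun h => (Set.range_id.trans h :)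
    exact ⟨(pullback.diagonal f).base x,
      (Scheme.Hom.comp_apply (pullback.diagonal f) j' x).symm.trans (by rw [← hw, Category.id_comp])⟩
  haveI := QCohD.hasRpush s
  haveI := QCohD.hasRpush (𝟙 X)
  haveI : DCoh.HasRpush (s ≫ fb) := hs.symm ▸ QCohD.hasRpush (𝟙 X)
  have hps : DCoh.RpushPreservesQCoh s := fun K hK => QCohD.isQCohD_rpush s hK
  obtain ⟨ec⟩ := nonempty_rpush_congr hs
  have hps' : DCoh.RpushPreservesQCoh (s ≫ fb) := fun K hK =>
    (DCoh.IsQCohD (X := X)).prop_of_iso ((ec ≪≫ rpushIdNat X).app K).symm hK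
  let eid : 𝟭 (DCoh.DQCoh X) ≅ DCoh.RpushQ (s ≫ fb) hps' :=
    NatIso.ofComponents (fun K => (ObjectProperty.ι _).preimageIso ((ec ≪≫ rpushIdNat X).app K.obj).symm)
      (fun {K K'} k => (ObjectProperty.ι _).map_injective (by
        simp only [Functor.map_comp, Functor.preimageIso_hom, Functor.map_preimage]
        exact ((ec ≪≫ rpushIdNat X).inv.naturality k.hom)))
  haveI := isLeftAdjoint_rpushQ s hps
  let as_ := (DCoh.RpushQ s hps).rightAdjoint
  have adjs : DCoh.RpushQ s hps ⊣ as_ := Adjunction.ofIsLeftAdjoint _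
  obtain ⟨eid'⟩ := nonempty_rightAdjoint_comp s fb hps hfb hps' adjs adjZ (Adjunction.id.ofNatIsoLeft eid)
  obtain ⟨θ, -, hθ⟩ := exists_bc adjs j' (𝟙 X) adjb hw hrange
    (fun L => ⟨(rd j').obj L.obj, QCohD.isQCohD_rd j' L.property⟩) fun L => rfl
  haveI := hθ (aZ.obj OX) m hm
  refine ⟨⟨(rd j').obj (aZ.obj OX).obj, QCohD.isQCohD_rd j' (aZ.obj OX).property⟩, m, ?_, ⟨?_⟩, ⟨?_⟩⟩
  · haveI := hm
    exact (DerivedCategory.isGE_iff _ m).2 fun k hk =>
      ((Scheme.Modules.restrictFunctor j').map_isZero ((DerivedCategory.isGE_iff (aZ.obj OX).obj m).1 hm k hk)).of_iso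
        (KFlat.Stalk.homologyRdIso j' _ k)
  · exact (rd j').mapIso e₁.symm ≪≫ (σ.app _).symm
  · exact (asIso (θ (aZ.obj OX))).symm ≪≫ (rdIdNat X).app _ ≪≫
      (ObjectProperty.ι DCoh.IsQCohD).mapIso (eid'.app OX).symm ≪≫ eX

/-- **`f^!O ≅ Ω^n[n]` for a smooth morphism.** -/
theorem nonempty_shriek_smooth [SmoothOfRelativeDimension n f] (c : DEt.Compactification f) [DCoh.HasRpush c.fbar]
    {hc : DCoh.RpushPreservesQCoh c.fbar} {a : DCoh.DQCoh S ⥤ DCoh.DQCoh c.Xbar}
    (adj : DCoh.RpushQ c.fbar hc ⊣ a) (O : DCoh.DQCoh S) (eO : O.obj ≅ oX S) (L : X.Modules)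
    (hL : ExtPow.IsExtPow n (Omega.sheaf f) L) :
    Nonempty ((haveI := c.isOpenImmersion; (rd c.j).obj (a.obj O).obj) ≅ (DCoh.inD X L)⟦(n : ℤ)⟧) := by
  haveI := c.isOpenImmersion
  haveI : Smooth f := SmoothOfRelativeDimension.smooth n f
  haveI : QuasiCompact f := Dual3.IsSepFT.quasiCompact
  haveI : IsSeparated f := Dual3.IsSepFT.isSeparated
  let p := pullback.fst f f
  let Δ := pullback.diagonal f
  haveI : CompactSpace ↥(pullback f f) := QuasiCompact.compactSpace_of_compactSpace (pullback.snd f f)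
  haveI : IsLocallyNoetherian (pullback f f) := LocallyOfFiniteType.isLocallyNoetherian (pullback.snd f f)
  haveI : IsNoetherian (pullback f f) := { }
  haveI : SmoothOfRelativeDimension n (pullback.snd f f) :=
    (smoothOfRelativeDimension_isStableUnderBaseChange n).of_isPullback (IsPullback.of_hasPullback f f) ‹_›
  haveI : SmoothOfRelativeDimension 0 (𝟙 X) := inferInstance
  obtain ⟨hreg, hrk, -⟩ := H17.FLI.regImm_of_smooth_gen (pullback.snd f f) (𝟙 X) Δ (pullback.diagonal_snd f) n 0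
  rw [Nat.sub_zero] at hreg hrk
  haveI := hasLpull p
  haveI := QCohD.hasRpush Δ
  have hΔ : DCoh.RpushPreservesQCoh Δ := fun K hK => QCohD.isQCohD_rpush Δ hK
  haveI := isLeftAdjoint_rpushQ Δ hΔ
  have adjb := Adjunction.ofIsLeftAdjoint (DCoh.RpushQ Δ hΔ)
  obtain ⟨F, lo, hlo, ⟨eF⟩, ⟨eb⟩⟩ := exists_diagonal_trick c adj O eO hΔ _ adjb
  let A := (rd c.j).obj (a.obj O).obj
  -- everywhere in degree `-n`
  have hloc : ∀ x : X, ∃ U : X.Opens, x ∈ U ∧
      Nonempty ((rd U.ι).obj A ≅ (oX (U : Scheme.{u}))⟦(n : ℤ)⟧) := by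
    intro x
    obtain ⟨U, m, hxU, ⟨eA⟩⟩ := isInvertibleD_shriek (isLCIMor_of_smooth f) c adj O eO x
    suffices h : m = n from ⟨U, hxU, ⟨h ▸ eA⟩⟩
    let W := p ⁻¹ᵁ U
    let q : (W : Scheme.{u}) ⟶ U := p ∣_ U
    haveI := QCohD.hasRpush U.ι
    haveI := QCohD.hasRpush W.ι
    haveI := hasLpull q
    haveI : Flat q := MorphismProperty.of_isPullback (isPullback_morphismRestrict p U).flip (inferInstance : Flat p)
    obtain ⟨σ⟩ := nonempty_rd_lpull_sq U.ι W.ι q p (morphismRestrict_ι p U)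
    obtain ⟨eq₀⟩ := H17.DiagTensor.nonempty_lpull_inD q (Coh.structureModule (U : Scheme.{u}))
    letI := lpullCommShift q
    refine eq_codim_of_rightAdjoint Δ adjb hreg F lo hlo eb W m
      ((rd W.ι).mapIso eF ≪≫ (σ.app A).symm ≪≫ (DCoh.Lpull q).mapIso eA ≪≫
        ((DCoh.Lpull q).commShiftIso m).app _ ≪≫ (shiftFunctor _ m).mapIso (eq₀ ≪≫
          (DerivedCategory.singleFunctor _ 0).mapIso (KFlat.Stalk.structurePullbackIso q))) x ?_
    show (Δ ≫ p) x ∈ U
    rw [pullback.diagonal_fst]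
    exact hxU
  choose U hxU eU using hloc
  let eS : ∀ (Y : Scheme.{u}) (M : Y.Modules),
      (DCoh.inD Y M)⟦(n : ℤ)⟧ ≅ (DerivedCategory.singleFunctor Y.Modules (-(n : ℤ))).obj M := fun Y M =>
    ((DerivedCategory.singleFunctors Y.Modules).shiftIso (n : ℤ) (-(n : ℤ)) 0 (by omega)).app M
  have hz : ∀ k : ℤ, k ≠ -(n : ℤ) → IsZero (DCoh.HD A k) := fun k hk =>
    KFlat.Stalk.isZero_of_isZero_restrict fun x => ⟨U x, hxU x,
      (KFlat.Stalk.isZero_hdSingle (Coh.structureModule (U x : Scheme.{u})) (-(n : ℤ)) k hk).of_iso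
        ((KFlat.Stalk.homologyRdIso (U x).ι A k).symm ≪≫
          (DerivedCategory.homologyFunctor _ k).mapIso ((eU x).some ≪≫ eS _ _))⟩
  haveI : A.IsGE (-(n : ℤ)) := (DerivedCategory.isGE_iff A _).2 fun k hk => hz k (by omega)
  haveI : A.IsLE (-(n : ℤ)) := (DerivedCategory.isLE_iff A _).2 fun k hk => hz k (by omega)
  obtain ⟨ω, ⟨eω⟩⟩ := DerivedCategory.exists_iso_singleFunctor_obj_of_isGE_of_isLE A (-(n : ℤ))
  have hω : PicF.IsInvertible ω := fun x => ⟨U x, hxU x,
    ⟨(DerivedCategory.singleFunctor _ (-(n : ℤ))).preimageIso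
      ((((Scheme.Modules.restrictFunctor (U x).ι).mapDerivedCategorySingleFunctor (-(n : ℤ))).app ω).symm ≪≫
        (rd (U x).ι).mapIso eω.symm ≪≫ (eU x).some ≪≫ eS _ _)⟩⟩
  let eF' : F.obj ≅ (DCoh.inD _ ((Scheme.Modules.pullback p).obj ω))⟦(n : ℤ)⟧ :=
    eF ≪≫ (DCoh.Lpull p).mapIso eω ≪≫
      KFlat.Stalk.lpullSingleIso p (H23Para.isFinLocFree_of_isInvertible hω) _ ≪≫ (eS _ _).symm
  obtain ⟨eh⟩ := nonempty_homSh_of_rightAdjoint Δ adjb hreg _ (Coh.structureModule X) F eF' eb L hL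
  let ec : (Scheme.Modules.pullback Δ).obj ((Scheme.Modules.pullback p).obj ω) ≅ ω :=
    (Scheme.Modules.pullbackComp Δ p).app ω ≪≫
      (Scheme.Modules.pullbackCongr (pullback.diagonal_fst f)).app ω ≪≫ (Scheme.Modules.pullbackId X).app ω
  have hLinv : PicF.IsInvertible L := H17.FLI.isInvertible_of_rank_one (H17.FLI.isInvertible_extPow hrk hL)
  obtain ⟨eωL⟩ := nonempty_iso_of_homSh_iso hLinv ((homFunctor L).mapIso ec.symm ≪≫ eh)
  exact ⟨eω ≪≫ (DerivedCategory.singleFunctor _ _).mapIso eωL ≪≫ (eS X L).symm⟩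

end Groth.Agent.LeadBrown
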