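import Groth.Agent.LeadBrown.BCAdjoint
import Groth.Agent.LeadBrown.Adjoint
import Groth.Agent.H16Derived.QCohD.CompactChar
import Groth.Agent.H16Derived.BB.Compact

/-!
# The right adjoint commutes with sums after base change
-/

set_option autoImplicit false
set_option linter.style.haveILetI false
set_option linter.unusedSectionVars false

universe u

open CategoryTheory CategoryTheory.Limits AlgebraicGeometry CategoryTheory.Pretriangulated

attribute [local instance] HasDerivedCategory.standard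

namespace Groth.Agent.LeadBrown

open Groth.Agent.H16Derived Groth.Agent.H16Derived.QCohD Groth.Agent.H16Derived.BaseChange
open Groth.Agent.H16Derived.KFlat.Stalk (lpullRpushAdj hasLpull lpullCommShift rpushCommShift rpush_isTriangulated
  isPerfect_lpull isPerfect_of_iso)
open Groth.Agent.H16Derived.ProjFormula (ptri_TObj)
open Groth.Agent.H16Derived.Dual (T R ro isQCohD_of_isPerfect)
attribute [local instance] Groth.Agent.H16Derived.Thomason.hasCoproducts_D Groth.Agent.H16Derived.Thomason.small_hom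

variable {X Y X' Y' : Scheme.{u}}

/-- `RHom(k, -) ≅ - ⊗ k^∨` for perfect `k`. -/
noncomputable def rIso {k : DCoh.D X} (hk : DCoh.IsPerfect k) : (T X).flip.obj (ro k) ≅ R k :=
  NatIso.ofComponents (fun m => Dual.θIso hk m) fun x => BB.θ_naturality k x

theorem preservesCoproducts_R {k : DCoh.D X} (hk : DCoh.IsPerfect k) (J : Type u) :
    PreservesColimitsOfShape (Discrete J) ((DCoh.IsQCohD (X := X)).ι ⋙ R k) := by
  haveI := preservesCoproducts_qι (X := X) J
  haveI : ((T X).flip.obj (ro k)).IsLeftAdjoint := Dual.isLeftAdjoint_TFlip _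
  haveI := preservesCoproducts_of_isLeftAdjoint ((T X).flip.obj (ro k)) J
  haveI : PreservesColimitsOfShape (Discrete J) (R k) := preservesColimitsOfShape_of_natIso (rIso hk)
  infer_instance

theorem alphaR_naturality (f : X ⟶ Y) [DCoh.HasRpush f] [DCoh.HasLpull f] (Q : DCoh.D X) {L L₂ : DCoh.D X}
    {K K₂ : DCoh.D Y} (t : (DCoh.Rpush f).obj L ⟶ K) (t₂ : (DCoh.Rpush f).obj L₂ ⟶ K₂) (l : L ⟶ L₂)
    (k : K ⟶ K₂) (h : (DCoh.Rpush f).map l ≫ t₂ = t ≫ k) :
    (DCoh.Rpush f).map ((R Q).map l) ≫ alphaR f Q t₂ =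
      alphaR f Q t ≫ (R ((DCoh.Rpush f).obj Q)).map k := by
  apply ((adjS _).homEquiv _ _).symm.injective
  rw [Adjunction.homEquiv_naturality_left_symm, adjS_symm_map, alphaR, alphaR, Equiv.symm_apply_apply,
    Equiv.symm_apply_apply, reassoc_of% lax_naturality_right f Q ((R Q).map l), Category.assoc, Category.assoc]
  refine congrArg (lax f Q _ ≫ ·) ?_
  rw [← Functor.map_comp_assoc, ← h, ← Functor.map_comp_assoc]
  exact congrArg (fun z => (DCoh.Rpush f).map z ≫ t₂) ((adjS Q).counit_naturality l)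

variable [CompactSpace X] [QuasiSeparatedSpace X] [CompactSpace Y] [QuasiSeparatedSpace Y]
  {f : X ⟶ Y} [DCoh.HasRpush f] {hf : DCoh.RpushPreservesQCoh f} {a : DCoh.DQCoh Y ⥤ DCoh.DQCoh X}

/-- If `a` commutes with sums then `Rf_*` preserves perfect objects. -/
theorem isPerfect_rpush_of_sums (adj : DCoh.RpushQ f hf ⊣ a)
    (hsum : ∀ {ι : Type u} (K : ι → DCoh.DQCoh Y) [HasCoproduct K] [HasCoproduct fun i => a.obj (K i)],
      IsIso (Sigma.desc (fun i => a.map (Sigma.ι K i))))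
    {Q : DCoh.D X} (hQ : DCoh.IsPerfect Q) : DCoh.IsPerfect ((DCoh.Rpush f).obj Q) := by
  classical
  have hQq : DCoh.IsQCohD Q := isQCohD_of_isPerfect hQ
  refine QCohD.isPerfect_of_holds (hf Q hQq) fun κ V _ hV α => ?_
  let K : κ → DCoh.DQCoh Y := fun i => ⟨V i, hV i⟩
  obtain ⟨c, ⟨hc⟩, -⟩ := exists_isColimit_cofan K
  haveI : HasCoproduct K := ⟨⟨⟨c, hc⟩⟩⟩
  obtain ⟨c₂, ⟨hc₂⟩, -⟩ := exists_isColimit_cofan fun i => a.obj (K i)
  haveI : HasCoproduct fun i => a.obj (K i) := ⟨⟨⟨c₂, hc₂⟩⟩⟩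
  haveI := hsum K
  let ψ := Sigma.desc fun i => a.map (Sigma.ι K i)
  haveI := preservesCoproducts_qι (X := Y) κ
  haveI := preservesCoproducts_qι (X := X) κ
  let eY : (∐ K : DCoh.DQCoh Y).obj ≅ ∐ V := PreservesCoproduct.iso (DCoh.IsQCohD (X := Y)).ι K
  let eX : (∐ fun i => a.obj (K i) : DCoh.DQCoh X).obj ≅ ∐ fun i => (a.obj (K i)).obj :=
    PreservesCoproduct.iso (DCoh.IsQCohD (X := X)).ι _
  let α' : (DCoh.RpushQ f hf).obj ⟨Q, hQq⟩ ⟶ ∐ K := ObjectProperty.homMk (α ≫ eY.inv)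
  let x : (⟨Q, hQq⟩ : DCoh.DQCoh X) ⟶ ∐ fun i => a.obj (K i) := adj.homEquiv _ _ α' ≫ inv ψ
  obtain ⟨s, hs⟩ := Thomason.holds_of_isPerfect (P := fun L => DCoh.IsQCohD L) (fun _ h => h) hQ κ
    (fun i => (a.obj (K i)).obj) (fun i => (a.obj (K i)).property) (x.hom ≫ eX.hom)
  have h1 := Thomason.eq_sum_ι _ _ s hs
  let xi : ∀ i, (⟨Q, hQq⟩ : DCoh.DQCoh X) ⟶ a.obj (K i) := fun i =>
    ObjectProperty.homMk ((x.hom ≫ eX.hom) ≫ QCohD.FinSupp.proj _ i)
  let yi : ∀ i, (DCoh.Rpush f).obj Q ⟶ V i := fun i => ((adj.homEquiv _ _).symm (xi i)).hom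
  have hY : ∀ i, (Sigma.ι K i).hom ≫ eY.hom = Sigma.ι V i := fun i => by
    rw [← cancel_mono eY.inv, Category.assoc, Iso.hom_inv_id, Category.comp_id]
    exact (ι_comp_sigmaComparison (DCoh.IsQCohD (X := Y)).ι K i).symm
  have hX : ∀ i, Sigma.ι (fun i => (a.obj (K i)).obj) i ≫ eX.inv = (Sigma.ι (fun i => a.obj (K i)) i).hom := fun i =>
    ι_comp_sigmaComparison (DCoh.IsQCohD (X := X)).ι _ i
  have h2 : x = ∑ i ∈ s, xi i ≫ Sigma.ι (fun i => a.obj (K i)) i := by
    apply (DCoh.IsQCohD (X := X)).ι.map_injective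
    rw [Functor.map_sum]
    show x.hom = ∑ i ∈ s, ((x.hom ≫ eX.hom) ≫ _) ≫ _
    simp only [← hX, ← Category.assoc, ← Preadditive.sum_comp]
    refine ((cancel_mono eX.hom).1 ?_)
    simp only [Category.assoc, Iso.inv_hom_id, Category.comp_id]
    simpa only [Category.assoc] using h1
  have h3 : α' = ∑ i ∈ s, (adj.homEquiv _ _).symm (xi i) ≫ Sigma.ι K i := by
    apply (adj.homEquiv _ _).injective
    have h4 : adj.homEquiv _ _ α' = x ≫ ψ := by simp [x]
    rw [h4, h2, Preadditive.sum_comp]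
    haveI : (DCoh.RpushQ f hf).Additive := by
      haveI := hasLpull f
      letI := rpushCommShift f
      haveI := rpush_isTriangulated f
      infer_instance
    haveI := adj.right_adjoint_additive
    show _ = adj.homAddEquiv _ _ _
    rw [map_sum]
    refine Finset.sum_congr rfl fun i _ => ?_
    rw [Category.assoc, Sigma.ι_desc, Adjunction.homAddEquiv_apply, Adjunction.homEquiv_naturality_right,
      Equiv.apply_symm_apply]
  refine ⟨s, ?_⟩
  have h5 : α = ∑ i ∈ s, yi i ≫ Sigma.ι V i := by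
    have h6 := congrArg (fun z : (DCoh.RpushQ f hf).obj ⟨Q, hQq⟩ ⟶ ∐ K =>
      (DCoh.IsQCohD (X := Y)).ι.map z ≫ eY.hom) h3
    simp only [Functor.map_sum, Preadditive.sum_comp, Functor.map_comp, Category.assoc] at h6
    change (α ≫ eY.inv) ≫ eY.hom = _ at h6
    rw [Category.assoc, Iso.inv_hom_id, Category.comp_id] at h6
    refine h6.trans (Finset.sum_congr rfl fun i _ => ?_)
    exact congrArg (yi i ≫ ·) (hY i)
  rw [h5, Preadditive.sum_comp]
  refine Finset.sum_congr rfl fun i hi => ?_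
  rw [Category.assoc]
  refine congrArg (yi i ≫ ·) ?_
  rw [QCohD.FinSupp.idem, Preadditive.comp_sum, Finset.sum_eq_single i]
  · simp [QCohD.FinSupp.proj]
  · intro j _ hj
    simp [QCohD.FinSupp.proj, Ne.symm hj]
  · exact fun h => (h hi).elim

omit [DCoh.HasRpush f] in
/-- Maps with invertible `Rf'_* RHom(Lg'^*Q, -)` are invertible. -/
theorem isIso_of_isIso_rpush_R [CompactSpace X'] [QuasiSeparatedSpace X'] [CompactSpace Y'] [QuasiSeparatedSpace Y']
    {g : Y' ⟶ Y} {f' : X' ⟶ Y'} {g' : X' ⟶ X} (h : IsPullback g' f' f g) [DCoh.HasRpush f'] [DCoh.HasLpull f']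
    [DCoh.HasLpull g'] {M N : DCoh.D X'} (hM : DCoh.IsQCohD M) (hN : DCoh.IsQCohD N) (β : M ⟶ N)
    (hβ : ∀ Q : DCoh.D X, DCoh.IsPerfect Q →
      IsIso ((DCoh.Rpush f').map ((R ((DCoh.Lpull g').obj Q)).map β))) : IsIso β := by
  have key : ∀ Q : DCoh.D X, DCoh.IsPerfect Q → ∀ G : DCoh.D Y', Function.Bijective
      fun x : ((T X').obj ((DCoh.Lpull g').obj Q)).obj ((DCoh.Lpull f').obj G) ⟶ M => x ≫ β := fun Q hQ G => by
    let Q' := (DCoh.Lpull g').obj Q
    haveI := hβ Q hQ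
    let e₀ : ∀ M, (((T X').obj Q').obj ((DCoh.Lpull f').obj G) ⟶ M) ≃
        (G ⟶ (DCoh.Rpush f').obj ((R Q').obj M)) :=
      fun M => ((adjS Q').homEquiv _ M).trans ((lpullRpushAdj f').homEquiv _ _)
    have e : (fun x : ((T X').obj Q').obj ((DCoh.Lpull f').obj G) ⟶ M => x ≫ β) =
        (e₀ N).symm ∘ (fun y => y ≫ (DCoh.Rpush f').map ((R Q').map β)) ∘ e₀ M := by
      funext x
      apply (e₀ N).injective
      simp only [Function.comp_apply, Equiv.apply_symm_apply]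
      simp only [e₀, Equiv.trans_apply, Adjunction.homEquiv_naturality_right]
    rw [e]
    exact (e₀ N).symm.bijective.comp (Function.Bijective.comp
      ((Iso.refl G).homCongr (asIso ((DCoh.Rpush f').map ((R Q').map β))) |>.bijective |> fun hb => by
        convert hb using 1
        funext y
        simp) (e₀ M).bijective)
  obtain ⟨C, p, δ, hT⟩ := distinguished_cocone_triangle β
  refine (Triangle.isZero₃_iff_isIso₁ _ hT).1 ?_
  refine isZero_of_hom_perfect h (QCohD.AffineUnit.isQCohD_obj₃ hT hM hN) fun Q hQ G y => ?_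
  let Q' := (DCoh.Lpull g').obj Q
  letI := lpullCommShift f'
  obtain ⟨s₀⟩ := PTri.nonempty_shift_iso (ptri_TObj Q') ((DCoh.Lpull f').obj (G⟦(-1 : ℤ)⟧))
  let s : (((T X').obj Q').obj ((DCoh.Lpull f').obj (G⟦(-1 : ℤ)⟧)))⟦(1 : ℤ)⟧ ≅
      ((T X').obj Q').obj ((DCoh.Lpull f').obj G) :=
    s₀ ≪≫ ((T X').obj Q').mapIso ((((DCoh.Lpull f').commShiftIso (1 : ℤ)).app _).symm ≪≫
      (DCoh.Lpull f').mapIso ((shiftFunctorCompIsoId (DCoh.D Y') (-1 : ℤ) 1 (by omega)).app G))
  have h1 : (y ≫ δ) ≫ β⟦(1 : ℤ)⟧' = 0 :=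
    (Category.assoc _ _ _).trans ((congrArg (y ≫ ·) (comp_distTriang_mor_zero₃₁ _ hT)).trans comp_zero)
  have h2 : y ≫ δ = 0 := by
    obtain ⟨z, hz⟩ := (shiftFunctor (DCoh.D X') (1 : ℤ)).map_surjective (s.hom ≫ y ≫ δ)
    have h3 : z ≫ β = 0 := (shiftFunctor (DCoh.D X') (1 : ℤ)).map_injective (by
      rw [Functor.map_comp, hz, Category.assoc, h1, comp_zero, Functor.map_zero])
    have h4 : z = 0 := (key Q hQ _).1 (by simpa using h3)
    rw [h4, Functor.map_zero] at hz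
    exact (cancel_epi s.hom).1 (hz.symm.trans comp_zero.symm)
  obtain ⟨z, hz⟩ := Triangle.coyoneda_exact₃ _ hT y h2
  obtain ⟨x, hx⟩ := (key Q hQ G).2 z
  rw [hz, ← hx]
  exact (Category.assoc _ _ _).trans ((congrArg (x ≫ ·) (comp_distTriang_mor_zero₁₂ _ hT)).trans comp_zero)

/-- After base change the right adjoint still commutes with sums. -/
theorem isIso_sigma_baseChange [CompactSpace X'] [QuasiSeparatedSpace X'] [CompactSpace Y'] [QuasiSeparatedSpace Y']
    {g : Y' ⟶ Y} {f' : X' ⟶ Y'} {g' : X' ⟶ X} (h : IsPullback g' f' f g) (hTI : TI f g)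
    [DCoh.HasRpush f'] [DCoh.HasRpush g] [DCoh.HasRpush g'] [DCoh.HasLpull g] [DCoh.HasLpull g']
    {hf' : DCoh.RpushPreservesQCoh f'} {a' : DCoh.DQCoh Y' ⥤ DCoh.DQCoh X'}
    (adj' : DCoh.RpushQ f' hf' ⊣ a')
    (hperf : ∀ Q : DCoh.D X, DCoh.IsPerfect Q → DCoh.IsPerfect ((DCoh.Rpush f).obj Q))
    {ι : Type u} (K' : ι → DCoh.DQCoh Y') [HasCoproduct K'] [HasCoproduct fun i => a'.obj (K' i)] :
    IsIso (Sigma.desc (fun i => a'.map (Sigma.ι K' i))) := by
  haveI : QuasiCompact f := (quasiCompact_iff_compactSpace f).2 inferInstance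
  haveI : QuasiSeparated f := (quasiSeparated_iff_quasiSeparatedSpace f).2 inferInstance
  haveI : QuasiCompact f' := (quasiCompact_iff_compactSpace f').2 inferInstance
  haveI : QuasiSeparated f' := (quasiSeparated_iff_quasiSeparatedSpace f').2 inferInstance
  haveI := hasLpull f
  haveI := hasLpull f'
  let γ := Sigma.desc (fun i => a'.map (Sigma.ι K' i))
  suffices IsIso ((DCoh.IsQCohD (X := X')).ι.map γ) from isIso_of_fully_faithful (DCoh.IsQCohD (X := X')).ι γ
  refine isIso_of_isIso_rpush_R h (∐ fun i => a'.obj (K' i) : DCoh.DQCoh X').property (a'.obj _).property _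
    fun Q hQ => ?_
  let Q' := (DCoh.Lpull g').obj Q
  have hQ' : DCoh.IsPerfect Q' := isPerfect_lpull g' hQ
  obtain ⟨χ⟩ := nonempty_sq h.w (isLp_self f) (isLp_self f') (isLp_self g) (isLp_self g')
  haveI : IsIso (bcD χ Q) :=
    bc_main h hTI _ _ _ _ _ _ _ _ (isLp_self f) (isLp_self f') (isLp_self g) (isLp_self g') χ Q
      (isQCohD_of_isPerfect hQ)
  have hRQ' : DCoh.IsPerfect ((DCoh.Rpush f').obj Q') :=
    isPerfect_of_iso (asIso (bcD χ Q)) (isPerfect_lpull g (hperf Q hQ))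
  let F : DCoh.DQCoh X' ⥤ DCoh.D Y' := ((DCoh.IsQCohD (X := X')).ι ⋙ R Q') ⋙ DCoh.Rpush f'
  let G : DCoh.DQCoh Y' ⥤ DCoh.D Y' := (DCoh.IsQCohD (X := Y')).ι ⋙ R ((DCoh.Rpush f').obj Q')
  haveI := preservesCoproducts_R hQ' ι
  haveI : PreservesColimitsOfShape (Discrete ι) F :=
    preservesCoproducts_rpush f' ((DCoh.IsQCohD (X := X')).ι ⋙ R Q')
      (fun M => isQCohD_R_perfect hQ' M.property) ι
  haveI : PreservesColimitsOfShape (Discrete ι) G := preservesCoproducts_R hRQ' ι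
  haveI hα : ∀ K : DCoh.DQCoh Y', IsIso (alphaR f' Q' (adj'.counit.app K).hom) := fun K =>
    isIso_alphaR f' (isQCohD_of_isPerfect hQ') _ (universal_trace adj' K)
      (isQCohD_rpush f' (isQCohD_R_perfect hQ' (a'.obj K).property)) (isQCohD_R_perfect hRQ' K.property)
  let Φ : a' ⋙ F ≅ G := NatIso.ofComponents (fun K => @asIso _ _ _ _ _ (hα K)) fun {K K₂} k =>
    alphaR_naturality f' Q' (adj'.counit.app K).hom (adj'.counit.app K₂).hom (a'.map k).hom k.hom
      (congrArg (fun t => t.hom) (adj'.counit.naturality k))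
  haveI : PreservesColimitsOfShape (Discrete ι) (a' ⋙ F) := preservesColimitsOfShape_of_natIso Φ.symm
  let c₁ := isColimitOfPreserves F (coproductIsCoproduct fun i => a'.obj (K' i))
  let c₂ := isColimitOfPreserves (a' ⋙ F) (coproductIsCoproduct K')
  let η : (Discrete.functor fun i => a'.obj (K' i)) ⋙ F ≅ Discrete.functor K' ⋙ a' ⋙ F :=
    Discrete.natIso fun _ => Iso.refl _
  have e : F.map γ = (IsColimit.coconePointsIsoOfNatIso c₁ c₂ η).hom := c₁.hom_ext fun ⟨i⟩ => by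
    rw [IsColimit.comp_coconePointsIsoOfNatIso_hom]
    refine (F.map_comp _ _).symm.trans ((congrArg F.map (Sigma.ι_desc _ _)).trans ?_)
    exact (Category.id_comp _).symm
  show IsIso (F.map γ)
  rw [e]
  infer_instance

end Groth.Agent.LeadBrown
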