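import Groth.Agent.LeadBrown.Scalar
import Groth.Agent.H16Derived.QCohD.CompactFree
import Groth.Agent.H10Coh.Local

/-!
# `1 - shift ∘ φ` for a locally nilpotent endomorphism
-/

set_option autoImplicit false
set_option linter.style.haveILetI false

universe u

open CategoryTheory CategoryTheory.Limits AlgebraicGeometry

attribute [local instance] HasDerivedCategory.standard

namespace Groth.Agent.LeadBrown

open Groth.Agent.H16Derived Groth.Agent.H10Coh
open Groth.Agent.H17.ExtRegVanish (mulEnd mulEnd_natural)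

variable {C : Type*} [Category C] [Preadditive C]

/-- `1 - shift ∘ φ` on a countable sum of copies. -/
noncomputable def sigmaEnd {M : C} [HasCoproduct fun _ : ULift.{u} ℕ => M] (φ : M ⟶ M) :
    (∐ fun _ : ULift.{u} ℕ => M) ⟶ ∐ fun _ : ULift.{u} ℕ => M :=
  𝟙 _ - Sigma.desc fun n => φ ≫ Sigma.ι (fun _ : ULift.{u} ℕ => M) ⟨n.down + 1⟩

theorem ι_sigmaEnd {M : C} [HasCoproduct fun _ : ULift.{u} ℕ => M] (φ : M ⟶ M) (n : ULift.{u} ℕ) :
    Sigma.ι (fun _ : ULift.{u} ℕ => M) n ≫ sigmaEnd φ =
      Sigma.ι (fun _ : ULift.{u} ℕ => M) n - φ ≫ Sigma.ι (fun _ : ULift.{u} ℕ => M) ⟨n.down + 1⟩ := by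
  rw [sigmaEnd, Preadditive.comp_sub, Category.comp_id, Sigma.ι_desc]

/-- An additive functor commutes with `sigmaEnd`. -/
theorem map_sigmaEnd {C' : Type*} [Category C'] [Preadditive C'] (F : C ⥤ C') [F.Additive] {M : C}
    [HasCoproduct fun _ : ULift.{u} ℕ => M] [HasCoproduct fun _ : ULift.{u} ℕ => F.obj M] (φ : M ⟶ M) :
    sigmaComparison F (fun _ : ULift.{u} ℕ => M) ≫ F.map (sigmaEnd φ) =
      sigmaEnd (F.map φ) ≫ sigmaComparison F (fun _ : ULift.{u} ℕ => M) := by
  refine Sigma.hom_ext _ _ fun n => ?_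
  rw [ι_comp_sigmaComparison_assoc, ← F.map_comp, ι_sigmaEnd, F.map_sub, F.map_comp, ← Category.assoc,
    ι_sigmaEnd, Preadditive.sub_comp, ι_comp_sigmaComparison, Category.assoc, ι_comp_sigmaComparison]

/-- The telescope of an invertible endomorphism is not zero. -/
theorem isZero_of_isIso_sigmaEnd {M : C} [HasCoproduct fun _ : ULift.{u} ℕ => M] (φ : M ⟶ M) [IsIso φ]
    (h : IsIso (sigmaEnd.{u} φ)) : IsZero M := by
  haveI := h
  let ψ : CategoryTheory.End M := inv φ
  let p : (∐ fun _ : ULift.{u} ℕ => M) ⟶ M := Sigma.desc fun n => (show CategoryTheory.End M from ψ ^ n.down)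
  have hp : sigmaEnd φ ≫ p = 0 := by
    refine Sigma.hom_ext _ _ fun n => ?_
    rw [← Category.assoc, ι_sigmaEnd, Preadditive.sub_comp, Category.assoc, comp_zero]
    simp only [p, Sigma.ι_desc, pow_succ, End.mul_def]
    rw [IsIso.hom_inv_id_assoc, sub_self]
  have h0 : p = 0 := by
    rw [← cancel_epi (sigmaEnd φ), hp, comp_zero]
  refine (IsZero.iff_id_eq_zero M).2 ?_
  have h1 : Sigma.ι (fun _ : ULift.{u} ℕ => M) ⟨0⟩ ≫ p = (show CategoryTheory.End M from ψ ^ (0 : ℕ)) :=
    Sigma.ι_desc _ _
  rw [h0, comp_zero, pow_zero] at h1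
  exact h1.symm

section Sheaf

variable {X : Scheme.{u}}

/-- Locally nilpotent on stalks. -/
def LocNilp {M : X.Modules} (φ : M ⟶ M) : Prop :=
  ∀ (x : X) (m : (DerSch.stalkFunctor X x).obj M),
    ∃ N : ℕ, ((((DerSch.stalkFunctor X x).map φ).hom : Module.End (X.presheaf.stalk x) _) ^ N) m = 0

theorem isIso_sigmaEnd_modules {M : X.Modules} (φ : M ⟶ M) (hφ : LocNilp φ) :
    IsIso (sigmaEnd.{u} φ) := by
  classical
  refine KFlat.Stalk.isIso_of_stalk _ fun x => ?_
  let F := DerSch.stalkFunctor X x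
  let K : ULift.{u} ℕ → X.Modules := fun _ => M
  rw [ConcreteCategory.isIso_iff_bijective]
  let T := (F.map φ).hom
  let σ := (F.map (sigmaEnd.{u} φ)).hom
  let i : ∀ n, F.obj M →ₗ[X.presheaf.stalk x] F.obj (∐ K) := fun n => (F.map (Sigma.ι K n)).hom
  let q : ∀ n, F.obj (∐ K) →ₗ[X.presheaf.stalk x] F.obj M := fun n => (F.map (QCohD.FinSupp.proj K n)).hom
  have hσi : ∀ n m, σ (i n m) = i n m - i ⟨n.down + 1⟩ (T m) := fun n m => by
    have h := congrArg (fun t => (F.map t).hom m) (ι_sigmaEnd φ n)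
    simp only [Functor.map_comp, Functor.map_sub] at h
    exact h
  have hqi : ∀ n k m, q k (i n m) = if n = k then m else 0 := fun n k m => by
    show ((F.map (Sigma.ι K n)) ≫ (F.map (QCohD.FinSupp.proj K k))).hom m = _
    rw [← Functor.map_comp, QCohD.FinSupp.proj, Sigma.ι_desc]
    split_ifs with h
    · subst h; rw [eqToHom_refl, CategoryTheory.Functor.map_id]; rfl
    · rw [Functor.map_zero]; rfl
  have hdec : ∀ z, ∃ s : Finset (ULift.{u} ℕ), z = ∑ n ∈ s, i n (q n z) := fun z => by
    obtain ⟨s, hs⟩ := QCohD.exists_finset_stalk K x z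
    refine ⟨s, hs.symm.trans ?_⟩
    rw [QCohD.FinSupp.idem, Functor.map_sum]
    simp only [Functor.map_comp, ModuleCat.hom_sum, LinearMap.coe_sum, Finset.sum_apply,
      ModuleCat.hom_comp, LinearMap.comp_apply]
    rfl
  constructor
  · intro z z' hzz
    rw [← sub_eq_zero]
    set w := z - z'
    have hw : σ w = 0 := by rw [map_sub]; exact sub_eq_zero.2 hzz
    obtain ⟨s, hs⟩ := hdec w
    have hrec : ∀ k : ULift.{u} ℕ, q k (σ w) = q k w - if k.down = 0 then 0 else T (q ⟨k.down - 1⟩ w) := by
      intro k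
      conv_lhs => rw [hs]
      simp only [map_sum, hσi, map_sub, hqi, Finset.sum_sub_distrib]
      have h1 : ∀ l, q l w = ∑ n ∈ s, if n = l then q n w else 0 := fun l => by
        conv_lhs => rw [hs]
        simp only [map_sum, hqi]
      rw [h1 k]
      congr 1
      rcases Nat.eq_zero_or_pos k.down with h0 | h0
      · rw [if_pos h0]
        refine Finset.sum_eq_zero fun n _ => if_neg fun hn => ?_
        rw [← hn] at h0
        exact Nat.succ_ne_zero _ h0
      · rw [if_neg h0.ne', h1, map_sum]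
        refine Finset.sum_congr rfl fun n _ => ?_
        by_cases hn : n = ⟨k.down - 1⟩
        · subst hn
          rw [if_pos rfl, if_pos (ULift.ext _ _ (Nat.sub_add_cancel h0))]
        · rw [if_neg hn, map_zero, if_neg fun h => hn (ULift.ext _ _ ?_)]
          show n.down = k.down - 1
          rw [← h, Nat.add_sub_cancel]
    have hall : ∀ (j : ℕ) (k : ULift.{u} ℕ), k.down = j → q k w = 0 := by
      intro j
      induction j with
      | zero =>
        intro k hk
        have := hrec k
        rw [hw, map_zero, if_pos hk, sub_zero] at this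
        exact this.symm
      | succ j ih =>
        intro k hk
        have := hrec k
        rw [hw, map_zero, if_neg (by omega), ih ⟨k.down - 1⟩ (by simp only; omega), map_zero, sub_zero] at this
        exact this.symm
    rw [hs]
    exact Finset.sum_eq_zero fun n _ => by rw [hall _ n rfl, map_zero]
  · intro z
    have hone : ∀ (N : ℕ) (n : ULift.{u} ℕ) (m : F.obj M),
        ((T : Module.End (X.presheaf.stalk x) _) ^ N) m = 0 → ∃ y, σ y = i n m := by
      intro N
      induction N with
      | zero =>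
        intro n m hm
        simp only [pow_zero, Module.End.one_apply] at hm
        exact ⟨0, by rw [hm, map_zero, map_zero]⟩
      | succ N ih =>
        intro n m hm
        rw [pow_succ, Module.End.mul_apply] at hm
        obtain ⟨y, hy⟩ := ih ⟨n.down + 1⟩ (T m) hm
        exact ⟨i n m + y, by rw [map_add, hσi, hy, sub_add_cancel]⟩
    obtain ⟨s, hs⟩ := hdec z
    choose y hy using fun n => hone _ n (q n z) (hφ x (q n z)).choose_spec
    exact ⟨∑ n ∈ s, y n, ((map_sum σ _ _).trans (Finset.sum_congr rfl fun n _ => hy n)).trans hs.symm⟩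

end Sheaf

/-- On an affine scheme, `1 - shift ∘ s` is invertible on a complex vanishing where `s` is invertible. -/
theorem isIso_sigmaEnd_mu {X : Scheme.{u}} (r : Γ(X, ⊤)) (G : DCoh.D X)
    [HasCoproduct fun _ : ULift.{u} ℕ => G]
    (hG : ∀ m : ℤ, LocNilp (mulEnd r (DCoh.HD G m))) : IsIso (sigmaEnd.{u} (M := G) ((mu r).app G)) := by
  rw [DerivedCategory.isIso_iff]
  intro m
  let H := DerivedCategory.homologyFunctor X.Modules m
  haveI := QCohD.preservesColimit_homology (fun _ : ULift.{u} ℕ => G) m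
  haveI : IsIso (sigmaComparison H fun _ : ULift.{u} ℕ => G) := inferInstance
  have h := map_sigmaEnd.{u} H (M := G) ((mu r).app G)
  haveI : IsIso (sigmaEnd.{u} (M := H.obj G) (H.map ((mu r).app G))) := by
    rw [show H.map ((mu r).app G) = _ from hd_mu r G m]
    exact isIso_sigmaEnd_modules _ (hG m)
  haveI : IsIso (sigmaComparison H (fun _ : ULift.{u} ℕ => G) ≫ H.map (sigmaEnd.{u} (M := G) ((mu r).app G))) := by
    rw [h]; infer_instance
  exact IsIso.of_isIso_comp_left (sigmaComparison H fun _ : ULift.{u} ℕ => G) _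

end Groth.Agent.LeadBrown

namespace Groth.Agent.LeadBrown

open Groth.Agent.H16Derived Groth.Agent.H10Coh
open Groth.Agent.H17.ExtRegVanish (mulEnd mulEnd_app stalkLin_mulEnd)

/-- A function acts locally nilpotently on a quasi-coherent module vanishing where it is invertible. -/
theorem locNilp_mulEnd {X : Scheme.{u}} (r : Γ(X, ⊤)) (M : X.Modules) (hM : Coh.IsQCoh M)
    (h : Disjoint (CohB1.support M) (X.basicOpen r : Set X)) : LocNilp (mulEnd r M) := by
  haveI : M.IsQuasicoherent := hM
  intro x m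
  obtain ⟨U, hxU, a, rfl⟩ := M.presheaf.exists_germ_eq (x := x) m
  obtain ⟨_, ⟨V, hV : IsAffineOpen V, rfl⟩, hxV, hVU⟩ :=
    X.isBasis_affineOpens.exists_subset_of_mem_open hxU U.isOpen
  let f : Γ(X, V) := H17.ExtRegVanish.res V r
  let b : Γ(M, V) := M.presheaf.map (homOfLE hVU).op a
  have hb : M.presheaf.map (homOfLE (X.basicOpen_le f)).op b = 0 := by
    refine TopCat.Presheaf.section_ext (sheafOf M) _ _ _ fun y hy => ?_
    haveI : Subsingleton (M.presheaf.stalk y) := not_not.1 fun hne => Set.disjoint_left.1 h hne (by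
      have h2 : y ∈ X.basicOpen (H17.ExtRegVanish.res V r) := hy
      rw [Scheme.basicOpen_res] at h2
      exact h2.2)
    exact Subsingleton.elim (α := M.presheaf.stalk y) _ _
  obtain ⟨N, hN⟩ := exists_pow_smul_eq_zero_of_isCompact M hV.isCompact f b hb
  refine ⟨N, ?_⟩
  have hpow : ∀ (k : ℕ) (c : Γ(M, V)),
      ((((DerSch.stalkFunctor X x).map (mulEnd r M)).hom : Module.End (X.presheaf.stalk x) _) ^ k)
        (M.presheaf.germ V x hxV c) = M.presheaf.germ V x hxV (f ^ k • c) := by
    intro k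
    induction k with
    | zero =>
      intro c
      rw [pow_zero, pow_zero, one_smul]
      rfl
    | succ k ih =>
      intro c
      refine (LinearMap.congr_fun (pow_succ (M := Module.End (X.presheaf.stalk x) ((DerSch.stalkFunctor X x).obj M))
        ((DerSch.stalkFunctor X x).map (mulEnd r M)).hom k) _).trans ?_
      refine (congrArg _ ((H06Mod.stalkLin_germ (mulEnd r M) x V hxV c).trans
        (congrArg _ (mulEnd_app r M V c)))).trans ((ih _).trans ?_)
      rw [smul_smul, ← pow_succ]
  have ha : M.presheaf.germ U x hxU a = M.presheaf.germ V x hxV b :=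
    (TopCat.Presheaf.germ_res_apply M.presheaf (homOfLE hVU) x hxV a).symm
  refine (congrArg _ ha).trans ((hpow N b).trans ?_)
  rw [hN, map_zero]
  rfl

end Groth.Agent.LeadBrown
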