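import Groth.Agent.LeadBrown.Adjoint
import Groth.Agent.LeadBrown.Tele
import Groth.Agent.H16Derived.Thomason.Lift
import Groth.Agent.H16Derived.MVTri.Basic

/-!
# Supports and the right adjoint of `Rf_*`
-/

set_option autoImplicit false
set_option linter.style.haveILetI false
set_option linter.unusedSectionVars false

universe u

open CategoryTheory CategoryTheory.Limits AlgebraicGeometry CategoryTheory.Pretriangulated

attribute [local instance] HasDerivedCategory.standard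

namespace Groth.Agent.LeadBrown

open Groth.Agent.H16Derived Groth.Agent.H16Derived.Thomason Groth.Agent.H16Derived.KFlat
open Groth.Agent.H16Derived.KFlat.Stalk (rd rpushCommShift rpush_isTriangulated nonempty_rpushCompIso
  nonempty_restrictD_rpush_iso hasLpull)
open Groth.Agent.H17.ExtRegVanish (mulEnd)
attribute [local instance] hasCoproducts_D small_hom

/-- `a` commutes with countable sums of copies of `K`. -/
def CopCopies {X Y : Scheme.{u}} (a : DCoh.DQCoh Y ⥤ DCoh.DQCoh X) (K : DCoh.DQCoh Y) : Prop :=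
  ∀ (S : DCoh.DQCoh Y) (ι : ULift.{u} ℕ → (K ⟶ S)),
    IsIso (Sigma.desc fun n => (ι n).hom) → IsIso (Sigma.desc fun n => (a.map (ι n)).hom)

variable {X Y : Scheme.{u}} {f : X ⟶ Y} [DCoh.HasRpush f] {hf : DCoh.RpushPreservesQCoh f}
  {a : DCoh.DQCoh Y ⥤ DCoh.DQCoh X} (adj : DCoh.RpushQ f hf ⊣ a)

include adj in
theorem map_hom_add {K K' : DCoh.DQCoh Y} (u v w : K ⟶ K') (h : w.hom = u.hom + v.hom) :
    (a.map w).hom = (a.map u).hom + (a.map v).hom := by
  haveI := hasLpull f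
  letI := rpushCommShift f
  haveI := rpush_isTriangulated f
  have hA : DCoh.IsQCohD (a.obj K).obj := (a.obj K).property
  apply (homEquivD adj (a.obj K).obj hA K').injective
  rw [homEquivD_add, ← Category.id_comp (a.map w).hom, ← Category.id_comp (a.map u).hom,
    ← Category.id_comp (a.map v).hom, homEquivD_map, homEquivD_map, homEquivD_map, h,
    Preadditive.comp_add]

include adj in
/-- Support of `a` is closed under extensions. -/
theorem suppIn_map_obj₂ {T : Set X} (hT : IsClosed T) {Q₁ Q R : DCoh.DQCoh Y} (u : Q₁ ⟶ Q) (v : Q ⟶ R)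
    (d : R.obj ⟶ Q₁.obj⟦(1 : ℤ)⟧) (hd : Triangle.mk u.hom v.hom d ∈ distTriang (DCoh.D Y))
    (h₁ : SuppIn T (a.obj Q₁).obj) (h₃ : SuppIn T (a.obj R).obj) : SuppIn T (a.obj Q).obj := by
  haveI := hasLpull f
  letI := rpushCommShift f
  haveI := rpush_isTriangulated f
  obtain ⟨F, i, e, hF⟩ := distinguished_cocone_triangle₁ (a.map v).hom
  have hFq : DCoh.IsQCohD F := QCohD.AffineUnit.isQCohD_obj₃ (inv_rot_of_distTriang _ (inv_rot_of_distTriang _ hF))
    (QCohD.HomVanish.isQCohD_shift (a.obj Q).property (-1)) (QCohD.HomVanish.isQCohD_shift (a.obj R).property (-1))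
  let φ := homEquivD adj F hFq Q i
  have hz : φ ≫ v.hom = 0 := by
    rw [← homEquivD_map adj hFq v i]
    have h0 : i ≫ (a.map v).hom = 0 := comp_distTriang_mor_zero₁₂ _ hF
    rw [h0]
    simpa using homEquivD_add adj hFq R 0 0
  obtain ⟨ψ, hψ⟩ := Triangle.coyoneda_exact₂ _ hd φ hz
  have hi : i = (homEquivD adj F hFq Q₁).symm ψ ≫ (a.map u).hom := by
    apply (homEquivD adj F hFq Q).injective
    rw [homEquivD_map]
    exact hψ.trans (congrArg (· ≫ u.hom) ((homEquivD adj F hFq Q₁).apply_symm_apply ψ).symm)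
  refine (suppIn_iff hT _).2 ?_
  have hF' := (rd (oc T hT).ι).map_distinguished _ hF
  haveI h3 : IsIso ((rd (oc T hT).ι).map i) :=
    (Triangle.isZero₃_iff_isIso₁ _ hF').1 ((suppIn_iff hT _).1 h₃)
  have h0 : (rd (oc T hT).ι).map i = 0 := by
    rw [hi, Functor.map_comp, ((suppIn_iff hT _).1 h₁).eq_of_tgt ((rd (oc T hT).ι).map _) 0, zero_comp]
  rw [IsZero.iff_id_eq_zero, ← cancel_epi ((rd (oc T hT).ι).map i), h0, zero_comp, zero_comp]

section Affine

variable [QuasiSeparatedSpace Y] [QuasiCompact f] [QuasiSeparated f] [CompactSpace X] [QuasiSeparatedSpace X]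
  (U : Y.Opens) [QuasiCompact U.ι] [DCoh.HasRpush U.ι]
  (G : DCoh.D (U : Scheme.{u})) (Q : DCoh.DQCoh Y)

include adj in
theorem suppIn_obj_of_eq_rpush (eQ : Q.obj = (DCoh.Rpush U.ι).obj G) (hG : DCoh.IsQCohD G) (hU : IsAffineOpen U) (hcop : CopCopies a Q)
    {T : Set Y} (hT : IsClosed T) (hQ : SuppIn (U.ι.base ⁻¹' T) G) :
    SuppIn (f.base ⁻¹' T) (a.obj Q).obj := by
  classical
  haveI := hasLpull f
  letI := rpushCommShift f
  haveI := rpush_isTriangulated f
  obtain ⟨Qo, hQp⟩ := Q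
  subst eQ
  let Q : DCoh.DQCoh Y := ⟨(DCoh.Rpush U.ι).obj G, hQp⟩
  let U' : X.Opens := f ⁻¹ᵁ U
  let fU := f ∣_ U
  haveI := QCohD.hasRpush U'.ι
  haveI := QCohD.hasRpush fU
  haveI := QCohD.hasRpush (U'.ι ≫ f)
  haveI := hasLpull U.ι
  letI := rpushCommShift U.ι
  haveI := rpush_isTriangulated U.ι
  haveI : QuasiCompact U'.ι := Thomason.quasiCompact_ι U'
    (QuasiCompact.isCompact_preimage (f := f) _ U.isOpen hU.isCompact)
  haveI : QuasiSeparatedSpace (U' : Scheme.{u}) := qss_opens U'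
  haveI : CompactSpace (U' : Scheme.{u}) :=
    isCompact_iff_compactSpace.1 (QuasiCompact.isCompact_preimage (f := f) _ U.isOpen hU.isCompact)
  let adjY := restrictRpushAdj U.ι
  let adjX := restrictRpushAdj U'.ι
  haveI := isIso_restrictRpushAdj_counit U.ι
  haveI := isIso_restrictRpushAdj_counit U'.ι
  let A := (a.obj Q).obj
  have hA : DCoh.IsQCohD A := (a.obj Q).property
  let B := (rd U'.ι).obj A
  -- `A` is the direct image of its restriction
  let η := adjX.unit.app A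
  haveI hη : IsIso η := by
    obtain ⟨Z, i, δ, hZ, hZ0⟩ := MVTri.exists_fibre adjX A
    have hZq : DCoh.IsQCohD Z := QCohD.AffineUnit.isQCohD_obj₃ (inv_rot_of_distTriang _ (inv_rot_of_distTriang _ hZ))
      (QCohD.HomVanish.isQCohD_shift hA (-1))
      (QCohD.HomVanish.isQCohD_shift (QCohD.isQCohD_rpush U'.ι (QCohD.isQCohD_rd _ hA)) (-1))
    have hi : i = 0 := by
      apply (homEquivD adj Z hZq Q).injective
      have hz : IsZero ((rd U.ι).obj ((DCoh.Rpush f).obj Z)) := by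
        haveI := QCohD.hasRpush fU
        obtain ⟨e⟩ := nonempty_restrictD_rpush_iso f U
        letI := rpushCommShift fU
        haveI := rpush_isTriangulated fU
        exact IsZero.of_iso (Functor.map_isZero (DCoh.Rpush fU) hZ0) (e.app Z)
      rw [MVTri.hom_to_rightAdjoint_eq_zero adjY hz (homEquivD adj Z hZq Q i),
        MVTri.hom_to_rightAdjoint_eq_zero adjY hz (homEquivD adj Z hZq Q 0)]
    have hi' : i⟦(1 : ℤ)⟧' = 0 := by rw [hi]; exact Functor.map_zero _ _ _
    obtain ⟨s, hs⟩ := Triangle.coyoneda_exact₁ _ hZ (𝟙 (Z⟦(1 : ℤ)⟧))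
      (by show 𝟙 _ ≫ i⟦(1 : ℤ)⟧' = 0; rw [hi', comp_zero])
    have hs0 : s = 0 := MVTri.hom_to_rightAdjoint_eq_zero adjX (MVTri.isZero_map_shift hZ0 1) s
    refine (Triangle.isZero₁_iff_isIso₂ _ hZ).1 ?_
    have h1 : IsZero (Z⟦(1 : ℤ)⟧) := (IsZero.iff_id_eq_zero _).2 (by
      refine hs.trans ?_
      rw [hs0, zero_comp]
      rfl)
    exact (Functor.map_isZero (shiftFunctor _ (-1 : ℤ)) h1).of_iso
      ((shiftFunctorCompIsoId (DCoh.D X) (1 : ℤ) (-1) (by omega)).app Z).symm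
  -- the comparison of the two composites
  obtain ⟨κ⟩ := nonempty_rpushCompIso U'.ι f
  haveI : DCoh.HasRpush (fU ≫ U.ι) := QCohD.hasRpush _
  obtain ⟨κ'⟩ := nonempty_rpushCompIso fU U.ι
  obtain ⟨ν⟩ : Nonempty (DCoh.Rpush U'.ι ⋙ DCoh.Rpush f ≅ DCoh.Rpush fU ⋙ DCoh.Rpush U.ι) := by
    have h : fU ≫ U.ι = U'.ι ≫ f := morphismRestrict_ι f U
    have h' : Nonempty (DCoh.Rpush (U'.ι ≫ f) ≅ DCoh.Rpush (fU ≫ U.ι)) := by
      simp only [h]; exact ⟨Iso.refl _⟩
    exact ⟨κ ≪≫ h'.some ≪≫ κ'.symm⟩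
  refine (SuppIn.of_iso (asIso η).symm (suppIn_rpush U' (hT.preimage f.continuous) ?_))
  intro m x hx
  by_contra hxT
  obtain ⟨r, hr, hxr⟩ : ∃ r : Γ((U : Scheme.{u}), ⊤),
      ((U : Scheme.{u}).basicOpen r : Set (U : Scheme.{u})) ⊆ (U.ι.base ⁻¹' T)ᶜ ∧
      fU.base x ∈ (U : Scheme.{u}).basicOpen r := by
    haveI : IsAffine (U : Scheme.{u}) := hU
    have hm : fU.base x ∈ (U.ι.base ⁻¹' T)ᶜ := fun h => hxT (by
      have e : U.ι.base (fU.base x) = f.base (U'.ι.base x) :=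
        congrArg (fun φ => φ.base x) (morphismRestrict_ι f U)
      show f.base (U'.ι.base x) ∈ T
      rw [← e]; exact h)
    obtain ⟨r, hr1, hr2⟩ := (isAffineOpen_top (U : Scheme.{u})).exists_basicOpen_le
      (V := ⟨_, (hT.preimage U.ι.continuous).isOpen_compl⟩) ⟨fU.base x, hm⟩ trivial
    exact ⟨r, hr1, hr2⟩
  -- multiplication by `r` on the two sides
  let r' : Γ((U' : Scheme.{u}), ⊤) := fU.appTop r
  let mY : Q.obj ⟶ Q.obj := (DCoh.Rpush U.ι).map ((mu r).app G)
  let mQ : Q ⟶ Q := ObjectProperty.homMk mY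
  let τ : A ⟶ A := (a.map mQ).hom
  let t : A ⟶ A := η ≫ (DCoh.Rpush U'.ι).map ((mu r').app B) ≫ inv η
  have ht : τ = t := by
    apply (homEquivD adj A hA Q).injective
    let e := homEquivD adj A hA Q (𝟙 A)
    rw [show τ = 𝟙 A ≫ (a.map mQ).hom from (Category.id_comp _).symm, homEquivD_map,
      ← Category.comp_id t, homEquivD_comp adj hA hA t Q (𝟙 A)]
    let Rf := DCoh.Rpush f
    let w : (DCoh.Rpush U.ι).obj ((DCoh.Rpush fU).obj B) ⟶ (DCoh.Rpush U.ι).obj G :=
      ν.inv.app B ≫ Rf.map (inv η) ≫ e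
    let v := adjY.fullyFaithfulROfIsIsoCounit.preimage w
    have hv : (DCoh.Rpush U.ι).map v = w := adjY.fullyFaithfulROfIsIsoCounit.map_preimage w
    have he : e = Rf.map η ≫ ν.hom.app B ≫ (DCoh.Rpush U.ι).map v := by
      rw [hv]
      simp only [w]
      erw [Iso.hom_inv_id_app_assoc]
      rw [← Functor.map_comp_assoc, IsIso.hom_inv_id, CategoryTheory.Functor.map_id, Category.id_comp]
    have hn : Rf.map ((DCoh.Rpush U'.ι).map ((mu r').app B)) ≫ ν.hom.app B =
        ν.hom.app B ≫ (DCoh.Rpush U.ι).map ((mu r).app ((DCoh.Rpush fU).obj B)) :=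
      (ν.hom.naturality ((mu r').app B)).trans (congrArg (ν.hom.app B ≫ ·)
        (congrArg (DCoh.Rpush U.ι).map (rpush_mu fU r B)))
    show e ≫ mY = Rf.map t ≫ e
    rw [he]
    simp only [t, mY, Functor.map_comp, Category.assoc]
    erw [← Functor.map_comp_assoc Rf (inv η) η, IsIso.inv_hom_id, CategoryTheory.Functor.map_id,
      Category.id_comp, reassoc_of% hn, ← Functor.map_comp, ← Functor.map_comp, mu_naturality]
  -- the telescope on `Y`
  let S : DCoh.DQCoh Y := ⟨∐ fun _ : ULift.{u} ℕ => Q.obj, S1040.result Y _ fun _ => Q.property⟩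
  let ι : ULift.{u} ℕ → (Q ⟶ S) := fun n => ObjectProperty.homMk (Sigma.ι (fun _ : ULift.{u} ℕ => Q.obj) n)
  let σ : S ⟶ S := ObjectProperty.homMk (sigmaEnd.{u} (M := Q.obj) mY)
  haveI hσ : IsIso (sigmaEnd.{u} (M := Q.obj) mY) := by
    haveI : IsIso (sigmaEnd.{u} (M := G) ((mu r).app G)) := isIso_sigmaEnd_mu r G fun m =>
      locNilp_mulEnd r _ (hG m) (Set.disjoint_left.2 fun y hy hy' => hr hy' (hQ m hy))
    haveI : IsIso (sigmaComparison (DCoh.Rpush U.ι) fun _ : ULift.{u} ℕ => G) :=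
      QCohD.isIso_rpush_sigma U.ι _ fun _ => hG
    have h := map_sigmaEnd.{u} (DCoh.Rpush U.ι) (M := G) ((mu r).app G)
    haveI : IsIso (sigmaEnd.{u} (M := Q.obj) mY ≫ sigmaComparison (DCoh.Rpush U.ι) fun _ : ULift.{u} ℕ => G) := by
      rw [← h]; infer_instance
    exact IsIso.of_isIso_comp_right _ (sigmaComparison (DCoh.Rpush U.ι) fun _ : ULift.{u} ℕ => G)
  -- transported to `X`
  let c : (∐ fun _ : ULift.{u} ℕ => A) ⟶ (a.obj S).obj := Sigma.desc fun n => (a.map (ι n)).hom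
  haveI hc : IsIso c := hcop S ι (by
    have : (Sigma.desc fun n => (ι n).hom) = 𝟙 S.obj := Sigma.hom_ext _ _ fun n => by
      rw [Sigma.ι_desc, Category.comp_id]; rfl
    rw [this]; infer_instance)
  haveI : IsIso (sigmaEnd.{u} (M := A) τ) := by
    haveI : IsIso σ.hom := hσ
    haveI : IsIso σ := ⟨ObjectProperty.homMk (inv σ.hom), ObjectProperty.hom_ext _ (IsIso.hom_inv_id σ.hom),
      ObjectProperty.hom_ext _ (IsIso.inv_hom_id σ.hom)⟩
    haveI : IsIso (a.map σ).hom := ⟨(a.map (inv σ)).hom,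
      (congrArg (fun z => z.hom) ((a.map_comp σ (inv σ)).symm.trans (by rw [IsIso.hom_inv_id, a.map_id]; rfl))),
      (congrArg (fun z => z.hom) ((a.map_comp (inv σ) σ).symm.trans (by rw [IsIso.inv_hom_id, a.map_id]; rfl)))⟩
    have h : sigmaEnd.{u} (M := A) τ ≫ c = c ≫ (a.map σ).hom := Sigma.hom_ext _ _ fun n => by
      rw [← Category.assoc, ι_sigmaEnd, Preadditive.sub_comp, Category.assoc, Sigma.ι_desc, Sigma.ι_desc,
        ← Category.assoc, Sigma.ι_desc]
      rw [sub_eq_iff_eq_add]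
      refine Eq.trans ?_ (congrArg₂ (· + ·) (congrArg (fun z => z.hom) (a.map_comp (ι n) σ))
        (congrArg (fun z => z.hom) (a.map_comp mQ (ι ⟨n.down + 1⟩))))
      refine map_hom_add adj (ι n ≫ σ) (mQ ≫ ι ⟨n.down + 1⟩) (ι n) ?_
      show Sigma.ι (fun _ : ULift.{u} ℕ => Q.obj) n =
        Sigma.ι (fun _ : ULift.{u} ℕ => Q.obj) n ≫ sigmaEnd.{u} (M := Q.obj) mY +
          mY ≫ Sigma.ι (fun _ : ULift.{u} ℕ => Q.obj) ⟨n.down + 1⟩
      rw [ι_sigmaEnd, sub_add_cancel]
    haveI : IsIso (sigmaEnd.{u} (M := A) τ ≫ c) := by rw [h]; infer_instance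
    exact IsIso.of_isIso_comp_right _ c
  -- restricted to the open where `r` is invertible
  let D' := (U' : Scheme.{u}).basicOpen r'
  let L := rd U'.ι ⋙ rd D'.ι
  haveI := rd_isLeftAdjoint U'.ι
  haveI := rd_isLeftAdjoint D'.ι
  haveI : IsIso (sigmaEnd.{u} (M := L.obj A) (L.map τ)) := by
    have h := map_sigmaEnd.{u} L (M := A) τ
    haveI : IsIso (sigmaComparison L fun _ : ULift.{u} ℕ => A) := inferInstance
    haveI : IsIso (sigmaEnd.{u} (M := L.obj A) (L.map τ) ≫ sigmaComparison L fun _ : ULift.{u} ℕ => A) := by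
      rw [← h]; infer_instance
    exact IsIso.of_isIso_comp_right _ (sigmaComparison L fun _ : ULift.{u} ℕ => A)
  haveI : IsIso (L.map τ) := by
    haveI hη' : IsIso ((rd U'.ι).map η) := inferInstance
    haveI : IsIso ((rd D'.ι).map ((mu r').app B)) := by
      rw [rd_mu]
      exact isIso_mu (Groth.Agent.LeadBrown.isUnit_appTop_basicOpen r') _
    have h : (rd U'.ι).map ((DCoh.Rpush U'.ι).map ((mu r').app B)) =
        adjX.counit.app B ≫ (mu r').app B ≫ inv (adjX.counit.app B) := by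
      rw [← Category.assoc, ← IsIso.comp_inv_eq, IsIso.inv_inv]
      exact adjX.counit.naturality ((mu r').app B)
    rw [ht]
    show IsIso ((rd D'.ι).map ((rd U'.ι).map t))
    simp only [t, Functor.map_comp, h]
    infer_instance
  have hz : IsZero ((rd D'.ι).obj B) := isZero_of_isIso_sigmaEnd (M := L.obj A) (L.map τ) inferInstance
  have hx' : x ∈ D' := by
    show x ∈ (U' : Scheme.{u}).basicOpen (fU.appTop r)
    rw [← Scheme.preimage_basicOpen_top]
    exact hxr
  exact (suppIn_compl_iff D' B).2 hz m hx hx'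

end Affine

section Main

variable [QuasiSeparatedSpace Y] [CompactSpace Y] [QuasiCompact f] [QuasiSeparated f]

include adj in
/-- `a` respects supports. -/
theorem suppIn_obj (P : DCoh.DQCoh Y → Prop) (hcop : ∀ Q, P Q → CopCopies a Q)
    (hrpush : ∀ (U : Y.Opens) (R Q : DCoh.DQCoh Y), IsAffineOpen U → P Q → ∀ [DCoh.HasRpush U.ι],
      R.obj = (DCoh.Rpush U.ι).obj ((rd U.ι).obj Q.obj) → P R)
    (hfib : ∀ (Q₁ Q R : DCoh.DQCoh Y) (u : Q₁ ⟶ Q) (v : Q ⟶ R) (d : R.obj ⟶ Q₁.obj⟦(1 : ℤ)⟧),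
      Triangle.mk u.hom v.hom d ∈ distTriang (DCoh.D Y) → P Q → P R → P Q₁)
    (Q : DCoh.DQCoh Y) (hQ : P Q) {T : Set Y} (hT : IsClosed T) (hQT : SuppIn T Q.obj) :
    SuppIn (f.base ⁻¹' T) (a.obj Q).obj := by
  haveI : CompactSpace X := QuasiCompact.compactSpace_of_compactSpace f
  haveI : QuasiSeparatedSpace X := quasiSeparatedSpace_of_quasiSeparated f
  suffices main : ∀ (l : List Y.Opens), (∀ U ∈ l, IsAffineOpen U) → ∀ (Z : Set Y), IsClosed Z → Z ⊆ T →
      (∀ z ∈ Z, ∃ U ∈ l, z ∈ U) → ∀ Q : DCoh.DQCoh Y, P Q → SuppIn Z Q.obj →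
      SuppIn (f.base ⁻¹' T) (a.obj Q).obj by
    obtain ⟨s, hs, hsup⟩ := (isCompact_and_isOpen_iff_finite_and_eq_biUnion_affineOpens (U := (Set.univ : Set Y))).1
      ⟨isCompact_univ, isOpen_univ⟩
    refine main (hs.toFinset.toList.map (·.1)) ?_ T hT subset_rfl ?_ Q hQ hQT
    · intro U hU
      obtain ⟨V, -, rfl⟩ := List.mem_map.1 hU
      exact V.2
    · intro z _
      obtain ⟨V, hV, hzV⟩ := Set.mem_iUnion₂.1 (hsup ▸ Set.mem_univ z)
      exact ⟨V.1, List.mem_map.2 ⟨V, by simpa using hV, rfl⟩, hzV⟩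
  intro l
  induction l with
  | nil =>
    intro _ Z _ _ hZl Q _ hQZ
    refine suppIn_of_isZero ((IsZero.iff_id_eq_zero _).2 ?_)
    apply (homEquivD adj (a.obj Q).obj (a.obj Q).property Q).injective
    exact (isZero_of_suppIn_empty (hQZ.mono fun z hz => by simpa using hZl z hz)).eq_of_tgt _ _
  | cons U l ih =>
    intro hl Z hZ hZT hZl Q hQ hQZ
    have hU : IsAffineOpen U := hl U List.mem_cons_self
    haveI := QCohD.hasRpush U.ι
    haveI := Thomason.quasiCompact_ι U hU.isCompact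
    let η := (restrictRpushAdj U.ι).unit.app Q.obj
    let R : DCoh.DQCoh Y := ⟨(DCoh.Rpush U.ι).obj ((rd U.ι).obj Q.obj),
      QCohD.isQCohD_rpush U.ι (QCohD.isQCohD_rd _ Q.property)⟩
    have hR : SuppIn Z R.obj := suppIn_rpush U hZ (suppIn_rd U hQZ)
    obtain ⟨C, i, d, hd⟩ := distinguished_cocone_triangle₁ η
    let Q₁ : DCoh.DQCoh Y := ⟨C, QCohD.AffineUnit.isQCohD_obj₃
      (inv_rot_of_distTriang _ (inv_rot_of_distTriang _ hd))
      (QCohD.HomVanish.isQCohD_shift Q.property (-1)) (QCohD.HomVanish.isQCohD_shift R.property (-1))⟩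
    have hP₁ : P Q₁ := hfib Q₁ Q R (ObjectProperty.homMk i) (ObjectProperty.homMk η) d hd hQ
      (hrpush U R Q hU hQ rfl)
    refine suppIn_map_obj₂ adj (hT.preimage f.continuous) (Q₁ := Q₁) (R := R)
      (ObjectProperty.homMk i) (ObjectProperty.homMk η) d hd ?_ ?_
    · refine ih (fun V hV => hl V (List.mem_cons_of_mem _ hV)) (Z ∩ (U : Set Y)ᶜ)
        (hZ.inter U.isOpen.isClosed_compl) (Set.inter_subset_left.trans hZT) ?_ Q₁ hP₁ fun m =>
        Set.subset_inter (suppIn_obj₁ hZ hd hQZ hR m) ?_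
      · intro z hz
        obtain ⟨V, hV, hzV⟩ := hZl z hz.1
        rcases List.mem_cons.1 hV with rfl | hV
        · exact absurd hzV hz.2
        · exact ⟨V, hV, hzV⟩
      · refine (suppIn_compl_iff U C).2 ?_ m
        exact (Triangle.isZero₁_iff_isIso₂ _ ((rd U.ι).map_distinguished _ hd)).2 (isIso_rd_map_unit U.ι Q.obj)
    · refine suppIn_obj_of_eq_rpush adj U _ R rfl (QCohD.isQCohD_rd _ Q.property) hU
        (hcop R (hrpush U R Q hU hQ rfl)) hT ?_
      exact suppIn_rd U (hQZ.mono hZT)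

include adj in
/-- `a` commutes with sums of copies when `Rf_*` preserves perfect objects. -/
theorem copCopies_of_perfect
    (hperf : ∀ E : DCoh.D X, DCoh.IsPerfect E → DCoh.IsPerfect ((DCoh.Rpush f).obj E))
    (Q : DCoh.DQCoh Y) : CopCopies a Q :=
  haveI : CompactSpace X := QuasiCompact.compactSpace_of_compactSpace f
  haveI : QuasiSeparatedSpace X := quasiSeparatedSpace_of_quasiSeparated f
  fun S ι h => isIso_sigma_map adj hperf (fun _ => Q) S ι h

/-- Vanishing on an open in terms of supports. -/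
theorem suppIn_compl_of_restrict {Z : Scheme.{u}} (V : Z.Opens) (E : DCoh.D Z)
    (h : ∀ i : ℤ, IsZero ((DCoh.HD E i).restrict V.ι)) : SuppIn ((V : Set Z)ᶜ) E := fun i x hx hxV => by
  have h1 := (MVPush.mem_support_restrict V (DCoh.HD E i) ⟨x, hxV⟩).2 hx
  rw [support_eq_empty_of_isZero (h i)] at h1
  exact h1

/-- Supports in terms of vanishing on an open. -/
theorem isZero_restrict_of_suppIn {Z : Scheme.{u}} (V : Z.Opens) (E : DCoh.D Z)
    (h : SuppIn ((V : Set Z)ᶜ) E) (i : ℤ) : IsZero ((DCoh.HD E i).restrict V.ι) :=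
  H17.FPExt.isZero_of_stalk _ fun x => by
    by_contra hx
    exact h i ((MVPush.mem_support_restrict V (DCoh.HD E i) x).1 hx) x.2

end Main

end Groth.Agent.LeadBrown
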